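import Groth.Agent.L20.RG.Key
import Groth.Agent.L20.FlatAtBaseChange
import Mathlib.RingTheory.Flat.Localization
import Mathlib.LinearAlgebra.TensorProduct.Pi

/-!
# One step, globally over the base
-/

set_option autoImplicit false
set_option linter.style.haveILetI false
universe u

open TensorProduct

noncomputable section

namespace Groth.L20.RG

section BaseChange

variable {D G : Type u} [CommRing D] [AddCommGroup G] [Module D G] {r : ℕ}

/-- `α` is bijective after base change to `E`. -/
theorem bijective_baseChange_iff (α : (Fin r → D) →ₗ[D] G) (B C : Type u) [CommRing B] [CommRing C] [Algebra D B]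
    [Algebra D C] [Algebra B C] [IsScalarTower D B C] :
    Function.Bijective ((α.baseChange B).baseChange C) ↔ Function.Bijective (α.baseChange C) := by
  let eG := AlgebraTensorModule.cancelBaseChange D B C C G
  let eP := AlgebraTensorModule.cancelBaseChange D B C C (Fin r → D)
  have : (α.baseChange C) ∘ₗ eP.toLinearMap = eG.toLinearMap ∘ₗ (α.baseChange B).baseChange C := by
    ext v
    simp [eP, eG]
  have h2 : ⇑(α.baseChange C) ∘ eP = eG ∘ ((α.baseChange B).baseChange C) := congrArg DFunLike.coe this
  rw [← Function.Bijective.of_comp_iff' eG.bijective, ← h2, Function.Bijective.of_comp_iff _ eP.bijective]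

theorem bijective_baseChange_of_bijective (α : (Fin r → D) →ₗ[D] G) (B C : Type u) [CommRing B] [CommRing C]
    [Algebra D B] [Algebra D C] [Algebra B C] [IsScalarTower D B C] (h : Function.Bijective (α.baseChange B)) :
    Function.Bijective (α.baseChange C) :=
  (bijective_baseChange_iff α B C).mp
    (((LinearEquiv.ofBijective (α.baseChange B) h).baseChange B C _ _).bijective)

/-- The base change of `α` as a map out of a free module. -/
def baseChangeFree (α : (Fin r → D) →ₗ[D] G) (D' : Type u) [CommRing D'] [Algebra D D'] :
    (Fin r → D') →ₗ[D'] D' ⊗[D] G :=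
  α.baseChange D' ∘ₗ (TensorProduct.piScalarRight D D' D' (Fin r)).symm.toLinearMap

theorem bijective_baseChangeFree (α : (Fin r → D) →ₗ[D] G) (D' C : Type u) [CommRing D'] [Algebra D D']
    [CommRing C] [Algebra D C] [Algebra D' C] [IsScalarTower D D' C] (h : Function.Bijective (α.baseChange C)) :
    Function.Bijective ((baseChangeFree α D').baseChange C) := by
  rw [baseChangeFree, LinearMap.baseChange_comp]
  exact ((bijective_baseChange_iff α D' C).mpr h).comp
    ((TensorProduct.piScalarRight D D' D' (Fin r)).symm.baseChange D' C _ _).bijective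

theorem range_baseChangeFree (α : (Fin r → D) →ₗ[D] G) (D' : Type u) [CommRing D'] [Algebra D D'] :
    LinearMap.range (baseChangeFree α D') = LinearMap.range (α.baseChange D') :=
  LinearMap.range_comp_of_range_eq_top _ (LinearEquiv.range _)

end BaseChange

variable {A D G : Type u} [CommRing A] [CommRing D] [Algebra A D] [AddCommGroup G] [Module D G] [Module A G]
  [IsScalarTower A D G] {r : ℕ} (α : (Fin r → D) →ₗ[D] G)

/-- There is a fibrewise dense basic open over which `α` is bijective. -/
def GenIso (A : Type u) [CommRing A] [Algebra A D] (α : (Fin r → D) →ₗ[D] G) : Prop :=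
  ∃ t : D, (∀ (K : Type u) [Field K] [Algebra A K], (1 : K) ⊗ₜ[A] t ≠ 0) ∧
    Function.Bijective (α.baseChange (Localization.Away t))

attribute [local instance] Algebra.TensorProduct.rightAlgebra

theorem GenIso.baseChange {α : (Fin r → D) →ₗ[D] G} (h : GenIso A α) (A' : Type u) [CommRing A'] [Algebra A A'] :
    GenIso A' (baseChangeFree α (A' ⊗[A] D)) := by
  obtain ⟨t, ht, hbij⟩ := h
  let D' := A' ⊗[A] D
  let t' : D' := (1 : A') ⊗ₜ t
  refine ⟨t', fun K _ _ h0 => ?_, ?_⟩
  · letI : Algebra A K := ((algebraMap A' K).comp (algebraMap A A')).toAlgebra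
    haveI : IsScalarTower A A' K := IsScalarTower.of_algebraMap_eq' rfl
    have h1 := congrArg (Algebra.TensorProduct.cancelBaseChange A A' K K D) h0
    rw [map_zero, Algebra.TensorProduct.cancelBaseChange_tmul, one_smul] at h1
    exact ht K h1
  · letI : Algebra (Localization.Away t) (Localization.Away t') := (IsLocalization.Away.lift t
      (g := algebraMap D (Localization.Away t')) (by
        rw [IsScalarTower.algebraMap_apply D D' (Localization.Away t')]
        exact IsLocalization.Away.algebraMap_isUnit t')).toAlgebra
    haveI : IsScalarTower D (Localization.Away t) (Localization.Away t') :=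
      IsScalarTower.of_algebraMap_eq fun x => (IsLocalization.Away.lift_eq t _ x).symm
    exact bijective_baseChangeFree α D' _ (bijective_baseChange_of_bijective α (Localization.Away t) _ hbij)

open IsLocalRing in
theorem GenIso.bijective_residueField [IsLocalRing A] {α : (Fin r → D) →ₗ[D] G} (h : GenIso A α)
    (ξ : Ideal D) [ξ.IsPrime] (hξ : ξ = (maximalIdeal A).map (algebraMap A D)) :
    Function.Bijective (α.baseChange ξ.ResidueField) := by
  obtain ⟨t, ht, hbij⟩ := h
  have htξ : t ∉ ξ := by
    subst hξ
    letI := Ideal.Quotient.field (maximalIdeal A)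
    intro hmem
    refine ht (A ⧸ maximalIdeal A) ((TensorProduct.quotTensorEquivQuotSMul D (maximalIdeal A)).injective ?_)
    rw [map_zero, ← map_one (Ideal.Quotient.mk (maximalIdeal A)), TensorProduct.quotTensorEquivQuotSMul_mk_tmul,
      one_smul, Submodule.Quotient.mk_eq_zero, Ideal.smul_top_eq_map]
    exact hmem
  letI : Algebra (Localization.Away t) ξ.ResidueField := (IsLocalization.Away.lift t
    (g := algebraMap D ξ.ResidueField)
    (isUnit_iff_ne_zero.mpr fun h0 => htξ (Ideal.algebraMap_residueField_eq_zero.mp h0))).toAlgebra
  haveI : IsScalarTower D (Localization.Away t) ξ.ResidueField :=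
    IsScalarTower.of_algebraMap_eq fun x => (IsLocalization.Away.lift_eq t _ x).symm
  exact bijective_baseChange_of_bijective α _ _ hbij

/-- One step over a local base, free source. -/
theorem step_local [IsLocalRing A] [Algebra.Smooth A D] [Module.Finite D G] [Module.Flat A G] (h : DomFib A D)
    (hgen : GenIso A α) : Function.Injective α ∧ Module.Flat A (G ⧸ LinearMap.range α) := by
  let ξ := (IsLocalRing.maximalIdeal A).map (algebraMap A D)
  haveI : ξ.IsPrime := isPrime_map_maximalIdeal h
  have hu := univInj_of_flatAt α h rfl (hgen.bijective_residueField ξ rfl)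
    (FibreCrit.flat_localizedModule_of_flat ξ.primeCompl)
  refine ⟨Groth.L20.injective_of_lTensor_self (α.restrictScalars A) (hu A), ?_⟩
  have h1 : Module.Flat A (G ⧸ LinearMap.range (α.restrictScalars A)) :=
    flat_quotient_range_of_lTensor_injective (α.restrictScalars A) fun I => hu (A ⧸ I)
  let e : (G ⧸ LinearMap.range α) ≃ₗ[A] (G ⧸ LinearMap.range (α.restrictScalars A)) :=
    (Submodule.Quotient.restrictScalarsEquiv A (LinearMap.range α)).symm
  exact @Module.Flat.of_linearEquiv A _ _ _ _ _ _ _ h1 e

omit [Module A G] [IsScalarTower A D G] [Algebra A D] in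
/-- From the free source back to the base change. -/
theorem of_baseChangeFree (A' D' : Type u) [CommRing A'] [CommRing D'] [Algebra D D'] [Algebra A' D']
    (h : Function.Injective (baseChangeFree α D') ∧
      Module.Flat A' ((D' ⊗[D] G) ⧸ LinearMap.range (baseChangeFree α D'))) :
    Function.Injective (α.baseChange D') ∧ Module.Flat A' (D' ⊗[D] (G ⧸ LinearMap.range α)) := by
  obtain ⟨hinj, hflat⟩ := h
  refine ⟨fun x y hxy => (TensorProduct.piScalarRight D D' D' (Fin r)).injective
    (hinj (by simpa only [baseChangeFree, LinearMap.comp_apply, LinearEquiv.coe_coe, LinearEquiv.symm_apply_apply] using hxy)), ?_⟩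
  let g := (LinearMap.range α).mkQ.baseChange D'
  have hex : Function.Exact (α.baseChange D') g :=
    lTensor_exact D' α.exact_map_mkQ_range (Submodule.mkQ_surjective _)
  have hsurj : Function.Surjective g := LinearMap.lTensor_surjective D' (Submodule.mkQ_surjective _)
  have hker : LinearMap.range (baseChangeFree α D') = LinearMap.ker g := by
    rw [range_baseChangeFree]; exact (LinearMap.exact_iff.mp hex).symm
  haveI := hflat
  exact Module.Flat.of_linearEquiv
    (((Submodule.quotEquivOfEq _ _ hker).trans (g.quotKerEquivOfSurjective hsurj)).restrictScalars A').symm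

omit [IsScalarTower A D G] [Module A G] [Module D G] [AddCommGroup G] in
/-- Extending scalars along a pushout is base change of the base. -/
theorem isBaseChange_mk_of_isPushout (A' D' X : Type u) [CommRing A'] [CommRing D'] [Algebra A A'] [Algebra A' D']
    [Algebra D D'] [Algebra A D'] [IsScalarTower A A' D'] [IsScalarTower A D D'] [Algebra.IsPushout A D A' D']
    [AddCommGroup X] [Module D X] [Module A X] [IsScalarTower A D X] :
    IsBaseChange A' ((TensorProduct.mk D D' X 1).restrictScalars A) :=
  Groth.L20.isBaseChange_restrictScalars (R := A) (S := D) (R' := A') (S' := D') (TensorProduct.isBaseChange D X D')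

variable [Algebra.Smooth A D] [Module.Finite D G] [Module.Flat A G]

omit [Algebra.Smooth A D] in
/-- The step over a local pushout. -/
theorem step_pushout (A' D' : Type u) [CommRing A'] [CommRing D'] [Algebra A A'] [Algebra A' D'] [Algebra D D']
    [Algebra A D'] [IsScalarTower A A' D'] [IsScalarTower A D D'] [Algebra.IsPushout A D A' D'] [IsLocalRing A']
    [Algebra.Smooth A' D'] (h' : DomFib A' D') (hg' : GenIso A' (baseChangeFree α D')) :
    Function.Injective (α.baseChange D') ∧ Module.Flat A' (D' ⊗[D] (G ⧸ LinearMap.range α)) := by
  haveI : Module.Flat A' (D' ⊗[D] G) :=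
    Module.Flat.of_linearEquiv (isBaseChange_mk_of_isPushout (A := A) (D := D) A' D' G).equiv.symm
  exact of_baseChangeFree α A' D' (step_local (baseChangeFree α D') h' hg')

/-- Localised at a prime of the base, the step is injective with flat cokernel. -/
theorem step_atPrime (h : DomFib A D) (hgen : GenIso A α) (P : Ideal A) [P.IsPrime] :
    Function.Injective (α.baseChange (Localization.AtPrime P ⊗[A] D)) ∧
      Module.Flat (Localization.AtPrime P)
        ((Localization.AtPrime P ⊗[A] D) ⊗[D] (G ⧸ LinearMap.range α)) :=
  haveI : Algebra.IsPushout A D (Localization.AtPrime P) (Localization.AtPrime P ⊗[A] D) :=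
    Algebra.IsPushout.symm inferInstance
  step_pushout (A := A) α _ _ (h.baseChange _) (hgen.baseChange _)

set_option maxHeartbeats 1000000 in
/-- **One step over any base**: generically bijective maps into flat modules are injective with flat cokernel. -/
theorem injective_and_flat_of_genIso (h : DomFib A D) (hgen : GenIso A α) :
    Function.Injective α ∧ Module.Flat A (G ⧸ LinearMap.range α) := by
  constructor
  · refine (injective_iff_map_eq_zero _).mpr fun v hv => ?_
    by_contra hne
    let a : Ideal A := LinearMap.ker (LinearMap.toSpanSingleton A (Fin r → D) v)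
    obtain ⟨P, hP, hle⟩ := a.exists_le_maximal fun htop => hne (by
      have : (1 : A) ∈ a := htop ▸ trivial
      simpa [a] using this)
    haveI := hP
    let A' := Localization.AtPrime P
    let D' := A' ⊗[A] D
    haveI : Algebra.IsPushout A D A' D' := Algebra.IsPushout.symm inferInstance
    have hb := isBaseChange_mk_of_isPushout (A := A) (D := D) A' D' (Fin r → D)
    haveI := (isLocalizedModule_iff_isBaseChange P.primeCompl A' _).mpr hb
    have h1 : (1 : D') ⊗ₜ[D] v = 0 := (step_atPrime α h hgen P).1 (by
      rw [map_zero, LinearMap.baseChange_tmul, hv, TensorProduct.tmul_zero])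
    obtain ⟨t, ht⟩ := (IsLocalizedModule.eq_zero_iff P.primeCompl ((TensorProduct.mk D D' (Fin r → D) 1).restrictScalars A)).mp h1
    exact t.2 (hle (by simpa [a, Submonoid.smul_def] using ht))
  · refine Module.flat_of_localized_maximal _ fun P _ => ?_
    let A' := Localization.AtPrime P
    let D' := A' ⊗[A] D
    haveI := (step_atPrime α h hgen P).2
    haveI : Module.Flat A (D' ⊗[D] (G ⧸ LinearMap.range α)) := Module.Flat.trans A A' _
    haveI : Algebra.IsPushout A D A' D' := Algebra.IsPushout.symm inferInstance
    have hb := isBaseChange_mk_of_isPushout (A := A) (D := D) A' D' (G ⧸ LinearMap.range α)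
    haveI := (isLocalizedModule_iff_isBaseChange P.primeCompl A' _).mpr hb
    exact Module.Flat.of_linearEquiv (IsLocalizedModule.iso P.primeCompl
      ((TensorProduct.mk D D' (G ⧸ LinearMap.range α) 1).restrictScalars A))

end Groth.L20.RG
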