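import Groth.Agent.L20.RG.Weak
import Groth.Agent.L20.RG.Global

/-!
# Dévissages as inductive data, and their change of rings
-/

set_option autoImplicit false
set_option linter.style.haveILetI false
set_option backward.isDefEq.respectTransparency.types false
universe u

open TensorProduct

noncomputable section

namespace Groth.L20.RG

/-- One step of a dévissage of `N` at `q`; the smooth algebra may have empty fibres. -/
structure Step (R : Type u) [CommRing R] (p : Ideal R) [p.IsPrime] (S : Type u) [CommRing S] [Algebra R S]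
    (N : Type u) [AddCommGroup N] [Module S N] (q : Ideal S) : Type (u + 1) where
  /-- the ring of the closed subscheme -/
  A : Type u
  /-- the smooth algebra -/
  B : Type u
  /-- the module -/
  M : Type u
  [cA : CommRing A] [cB : CommRing B]
  [aRA : Algebra R A] [aRB : Algebra R B] [aBA : Algebra B A] [tRBA : IsScalarTower R B A]
  [aSA : Algebra S A] [tRSA : IsScalarTower R S A]
  [gM : AddCommGroup M] [mAM : Module A M] [mBM : Module B M] [tBAM : IsScalarTower B A M]
  [mSM : Module S M] [tSAM : IsScalarTower S A M]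
  /-- relative dimension -/
  d : ℕ
  /-- rank -/
  r : ℕ
  /-- the map from a free module -/
  α : (Fin r → B) →ₗ[B] M
  /-- the point of the smooth algebra -/
  y : Ideal B
  /-- the point of the closed subscheme -/
  z : Ideal A
  [hy : y.IsPrime] [hz : z.IsPrime] [yOver : y.LiesOver p] [zOver : z.LiesOver y]
  r_pos : 0 < r
  surj : Function.Surjective (algebraMap S A)
  fp : Algebra.FinitePresentation S A
  finBA : Module.Finite B A
  finM : Module.Finite A M
  /-- the identification -/
  iso : N ≃ₗ[S] M
  relDim : FlatCA.SmoothRelDim d R B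
  nz : NZFib R B
  pure : FlatCA.PurelyTranscendental p y
  uniq : ∀ (z₁ : Ideal A) [z₁.IsPrime], z₁.LiesOver y → z₁ = z
  zq : z.comap (algebraMap S A) = q
  bij : ∀ (K : Type u) [Field K] [Algebra B K], RingHom.ker (algebraMap B K) = p.map (algebraMap R B) →
    Function.Bijective (α.baseChange K)

attribute [instance] Step.cA Step.cB Step.aRA Step.aRB Step.aBA Step.tRBA Step.aSA Step.tRSA Step.gM Step.mAM
  Step.mBM Step.tBAM Step.mSM Step.tSAM Step.hy Step.hz Step.yOver Step.zOver

/-- A dévissage at a point, by induction on the steps. -/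
inductive Dev (R : Type u) [CommRing R] (p : Ideal R) [p.IsPrime] :
    ∀ (S : Type u) [CommRing S] [Algebra R S] (N : Type u) [AddCommGroup N] [Module S N], Ideal S → Prop
  | last {S : Type u} [CommRing S] [Algebra R S] {N : Type u} [AddCommGroup N] [Module S N] {q : Ideal S}
      (st : Step R p S N q) (h : Function.Surjective st.α) : Dev R p S N q
  | cons {S : Type u} [CommRing S] [Algebra R S] {N : Type u} [AddCommGroup N] [Module S N] {q : Ideal S}
      (st : Step R p S N q) (h : Dev R p st.B (st.M ⧸ LinearMap.range st.α) st.y) : Dev R p S N q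

section BaseChange

variable {B M : Type u} [CommRing B] [AddCommGroup M] [Module B M] {r : ℕ} (α : (Fin r → B) →ₗ[B] M)
  {B' M' : Type u} [CommRing B'] [Algebra B B'] [AddCommGroup M'] [Module B' M'] [Module B M'] [IsScalarTower B B' M']
  {g : M →ₗ[B] M'} (hg : IsBaseChange B' g)

/-- The base change of a map from a free module. -/
def mapFree : (Fin r → B') →ₗ[B'] M' :=
  hg.equiv.toLinearMap ∘ₗ baseChangeFree α B'

theorem bijective_mapFree_baseChange (K : Type u) [CommRing K] [Algebra B K] [Algebra B' K] [IsScalarTower B B' K]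
    (h : Function.Bijective (α.baseChange K)) : Function.Bijective ((mapFree α hg).baseChange K) := by
  rw [mapFree, LinearMap.baseChange_comp]
  exact (hg.equiv.baseChange B' K _ _).bijective.comp (bijective_baseChangeFree α B' K h)

theorem range_mapFree : LinearMap.range (mapFree α hg) =
    (LinearMap.range (α.baseChange B')).map hg.equiv.toLinearMap := by
  rw [mapFree, LinearMap.range_comp, range_baseChangeFree]

theorem surjective_mapFree (h : Function.Surjective α) : Function.Surjective (mapFree α hg) := by
  rw [← LinearMap.range_eq_top, range_mapFree, LinearMap.range_eq_top.mpr (show Function.Surjective (α.baseChange B') from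
    LinearMap.lTensor_surjective B' h), Submodule.map_top, LinearEquiv.range]

theorem range_le_comap_mapFree :
    LinearMap.range α ≤ Submodule.comap g ((LinearMap.range (mapFree α hg)).restrictScalars B) := by
  rintro _ ⟨x, rfl⟩
  rw [Submodule.mem_comap, Submodule.restrictScalars_mem, range_mapFree]
  exact ⟨(1 : B') ⊗ₜ α x, ⟨(1 : B') ⊗ₜ x, LinearMap.baseChange_tmul (f := α) 1 x⟩,
    (hg.equiv_tmul 1 (α x)).trans (one_smul _ _)⟩

/-- The induced map on cokernels. -/
def cokerMap : (M ⧸ LinearMap.range α) →ₗ[B] M' ⧸ LinearMap.range (mapFree α hg) :=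
  Submodule.liftQ (LinearMap.range α) (((LinearMap.range (mapFree α hg)).mkQ.restrictScalars B) ∘ₗ g) fun x hx => by
    rw [LinearMap.mem_ker, LinearMap.comp_apply, LinearMap.restrictScalars_apply, Submodule.mkQ_apply,
      Submodule.Quotient.mk_eq_zero]
    exact range_le_comap_mapFree α hg hx

/-- Cokernels commute with base change. -/
theorem isBaseChange_cokerMap : IsBaseChange B' (cokerMap α hg) := by
  let G := (LinearMap.range α).mkQ.baseChange B'
  have hex : Function.Exact (α.baseChange B') G :=
    lTensor_exact B' α.exact_map_mkQ_range (Submodule.mkQ_surjective _)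
  have hsurj : Function.Surjective G := LinearMap.lTensor_surjective B' (Submodule.mkQ_surjective _)
  have hker : LinearMap.range (α.baseChange B') = LinearMap.ker G := (LinearMap.exact_iff.mp hex).symm
  let e₁ : B' ⊗[B] (M ⧸ LinearMap.range α) ≃ₗ[B'] (B' ⊗[B] M) ⧸ LinearMap.range (α.baseChange B') :=
    ((Submodule.quotEquivOfEq _ _ hker).trans (G.quotKerEquivOfSurjective hsurj)).symm
  let e₂ : ((B' ⊗[B] M) ⧸ LinearMap.range (α.baseChange B')) ≃ₗ[B'] M' ⧸ LinearMap.range (mapFree α hg) :=
    Submodule.Quotient.equiv _ _ hg.equiv (range_mapFree α hg).symm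
  refine IsBaseChange.of_equiv (e₁.trans e₂) fun x => ?_
  obtain ⟨m, rfl⟩ := Submodule.mkQ_surjective _ x
  have h1 : e₁ ((1 : B') ⊗ₜ (LinearMap.range α).mkQ m) = Submodule.Quotient.mk ((1 : B') ⊗ₜ m) := by
    rw [LinearEquiv.symm_apply_eq]
    exact (LinearMap.baseChange_tmul (f := (LinearMap.range α).mkQ) (1 : B') m).symm
  rw [LinearEquiv.trans_apply, h1]
  show Submodule.Quotient.mk (hg.equiv ((1 : B') ⊗ₜ m)) = Submodule.Quotient.mk (g m)
  rw [hg.equiv_tmul, one_smul]

end BaseChange

section Point

attribute [local instance] Algebra.TensorProduct.rightAlgebra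

/-- The unique point of a pushout over a point with trivial residue field extension. -/
theorem exists_point_of_isPushout {B A B' A' : Type u} [CommRing B] [CommRing A] [CommRing B'] [CommRing A']
    [Algebra B A] [Algebra B B'] [Algebra B' A'] [Algebra A A'] [Algebra B A'] [IsScalarTower B A A']
    [IsScalarTower B B' A'] [Algebra.IsPushout B B' A A'] (y : Ideal B) [y.IsPrime] (z : Ideal A) [z.IsPrime]
    [z.LiesOver y] (y' : Ideal B') [y'.IsPrime] (hy : TrivRes B y y') :
    ∃ (Q : Ideal A') (_ : Q.IsPrime), Q.LiesOver y' ∧ Q.LiesOver z ∧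
      ∀ (Q' : Ideal A') [Q'.IsPrime], Q'.LiesOver y' → Q'.LiesOver z → Q' = Q := by
  let e : B' ⊗[B] A ≃ₐ[B'] A' := Algebra.IsPushout.equiv B B' A A'
  obtain ⟨Q, hQ, h1, ⟨h2, -⟩, h3⟩ := exists_point_pushout y z y' hy
  have heA : ∀ a, e.symm (algebraMap A A' a) = (1 : B') ⊗ₜ a := fun a => by
    exact Algebra.IsPushout.equiv_symm_algebraMap_right B B' A A' a
  refine ⟨Q.comap e.symm, inferInstance, ⟨?_⟩, ⟨?_⟩, fun Q' _ h1' h2' => ?_⟩
  · refine h1.over.trans (Ideal.ext fun b => ?_)
    rw [Ideal.mem_comap, Ideal.mem_comap, Ideal.mem_comap, e.symm.commutes]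
  · refine h2.over.trans (Ideal.ext fun a => ?_)
    rw [Ideal.mem_comap, Ideal.mem_comap, Ideal.mem_comap, heA]
    exact Iff.rfl
  · have := h3 (Q'.comap e) ⟨h1'.over.trans (Ideal.ext fun b => by
      rw [Ideal.mem_comap, Ideal.mem_comap, Ideal.mem_comap, e.commutes])⟩ ⟨h2'.over.trans (Ideal.ext fun a => by
      rw [Ideal.mem_comap, Ideal.mem_comap, Ideal.mem_comap, Algebra.TensorProduct.right_algebraMap_apply]
      show algebraMap A A' a ∈ Q' ↔ e ((1 : B') ⊗ₜ a) ∈ Q'
      rw [← heA, e.apply_symm_apply])⟩
    rw [← this]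
    exact Ideal.ext fun x => by rw [Ideal.mem_comap, Ideal.mem_comap, e.apply_symm_apply]

end Point

section Map

variable {R : Type u} [CommRing R] {p : Ideal R} [p.IsPrime] {S : Type u} [CommRing S] [Algebra R S]
  {N : Type u} [AddCommGroup N] [Module S N] {q : Ideal S} (st : Step R p S N q)
  {R' : Type u} [CommRing R'] [Algebra R R'] {p' : Ideal R'} [p'.IsPrime]
  {S' : Type u} [CommRing S'] [Algebra R' S'] [Algebra S S']
  {B' A' : Type u} [CommRing B'] [CommRing A'] [Algebra R B'] [Algebra R' B'] [IsScalarTower R R' B']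
  [Algebra st.B B'] [IsScalarTower R st.B B'] [Algebra R' A'] [Algebra B' A'] [IsScalarTower R' B' A']
  [Algebra S' A'] [IsScalarTower R' S' A'] [Algebra st.A A'] [Algebra st.B A'] [IsScalarTower st.B st.A A']
  [IsScalarTower st.B B' A'] [Algebra S A'] [IsScalarTower S S' A'] [IsScalarTower S st.A A']
  [Algebra.IsPushout st.B B' st.A A'] [Algebra.IsPushout S S' st.A A']
  {N' : Type u} [AddCommGroup N'] [Module S' N'] [Module S N'] [IsScalarTower S S' N']

/-- The base change map of the module of a step along the smooth algebras. -/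
theorem Step.isBaseChange_B :
    IsBaseChange B' ((TensorProduct.mk st.A A' st.M 1).restrictScalars st.B) :=
  haveI : Algebra.IsPushout st.B st.A B' A' := Algebra.IsPushout.symm inferInstance
  isBaseChange_mk_of_isPushout (A := st.B) (D := st.A) B' A' st.M

theorem Step.isBaseChange_S :
    IsBaseChange S' ((TensorProduct.mk st.A A' st.M 1).restrictScalars S) :=
  haveI : Algebra.IsPushout S st.A S' A' := Algebra.IsPushout.symm inferInstance
  isBaseChange_mk_of_isPushout (A := S) (D := st.A) S' A' st.M

/-- **Change of rings** for a step. -/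
@[reducible] def Step.map (y' : Ideal B') [y'.IsPrime] [y'.LiesOver p'] (hp : TrivRes R p p') (hy : TrivRes st.B st.y y')
    (z' : Ideal A') [z'.IsPrime] [z'.LiesOver y'] (huniq : ∀ (z₁ : Ideal A') [z₁.IsPrime], z₁.LiesOver y' → z₁ = z')
    (q' : Ideal S') (hq' : z'.comap (algebraMap S' A') = q')
    {d : ℕ} (hd : FlatCA.SmoothRelDim d R' B') (hnz : NZFib R' B')
    (hξ : (p'.map (algebraMap R' B')).comap (algebraMap st.B B') = p.map (algebraMap R st.B))
    {f : N →ₗ[S] N'} (hf : IsBaseChange S' f) : Step R' p' S' N' q' where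
  A := A'
  B := B'
  M := A' ⊗[st.A] st.M
  d := d
  r := st.r
  α := mapFree st.α (st.isBaseChange_B (B' := B') (A' := A'))
  y := y'
  z := z'
  r_pos := st.r_pos
  surj := by
    intro a
    induction a using (Algebra.IsPushout.out : IsBaseChange S' (IsScalarTower.toAlgHom S st.A A').toLinearMap).inductionOn with
    | zero => exact ⟨0, map_zero _⟩
    | tmul a =>
      obtain ⟨s, rfl⟩ := st.surj a
      exact ⟨algebraMap S S' s, by
        show _ = algebraMap st.A A' (algebraMap S st.A s)
        rw [← IsScalarTower.algebraMap_apply, ← IsScalarTower.algebraMap_apply]⟩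
    | smul s a ha =>
      obtain ⟨t, ht⟩ := ha
      exact ⟨s * t, by rw [map_mul, ht, Algebra.smul_def]⟩
    | add a b ha hb =>
      obtain ⟨t, ht⟩ := ha
      obtain ⟨t', ht'⟩ := hb
      exact ⟨t + t', by rw [map_add, ht, ht']⟩
  fp := haveI := st.fp
    Algebra.FinitePresentation.equiv (Algebra.IsPushout.equiv S S' st.A A')
  finBA := haveI := st.finBA
    Module.Finite.equiv (Algebra.IsPushout.equiv st.B B' st.A A').toLinearEquiv
  finM := haveI := st.finM
    inferInstance
  iso := hf.equiv.symm ≪≫ₗ (st.iso.baseChange S S' _ _) ≪≫ₗ (st.isBaseChange_S (S' := S') (A' := A')).equiv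
  relDim := hd
  nz := hnz
  pure := purelyTranscendental_transport hp hy st.pure
  uniq := huniq
  zq := hq'
  bij K _ _ hK := by
    letI : Algebra st.B K := ((algebraMap B' K).comp (algebraMap st.B B')).toAlgebra
    haveI : IsScalarTower st.B B' K := IsScalarTower.of_algebraMap_eq' rfl
    refine bijective_mapFree_baseChange _ _ K (st.bij K ?_)
    rw [IsScalarTower.algebraMap_eq st.B B' K, ← RingHom.comap_ker, hK, hξ]

end Map

end Groth.L20.RG
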