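import Groth.Agent.L20.RG.Charts
import Mathlib.RingTheory.Etale.Pi
import Mathlib.LinearAlgebra.TensorProduct.Pi

/-!
# Covering a whole fibre by charts over one neighbourhood
-/

set_option autoImplicit false
set_option linter.style.haveILetI false
set_option backward.isDefEq.respectTransparency.types false
universe u

open TensorProduct IsLocalRing

noncomputable section

namespace Groth.L20.RG

variable {R S : Type u} [CommRing R] [CommRing S] [Algebra R S]

set_option maxHeartbeats 400000 in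
/-- Finitely many local pieces cover a fibre, over a common neighbourhood. -/
theorem exists_fibre_refinement (p : Ideal R) [p.IsPrime] (T : Type u) (pt : T → PrimeSpectrum S)
    (hpt : ∀ q : PrimeSpectrum S, q.asIdeal.LiesOver p → ∃ t, pt t = q)
    (R₁ S₁ : T → Type u) [∀ t, CommRing (R₁ t)] [∀ t, CommRing (S₁ t)] [∀ t, Algebra R (R₁ t)] [∀ t, Algebra S (S₁ t)]
    [∀ t, Algebra (R₁ t) (S₁ t)] (pR : ∀ t, Ideal (R₁ t)) [∀ t, (pR t).IsPrime] (f : ∀ t, R₁ t)
    (hn : ∀ t, FlatCA.IsEtaleNhd R (R₁ t) p (pR t)) (hf : ∀ t, f t ∉ pR t)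
    (hU : ∀ t, ∃ U : Set (PrimeSpectrum S), IsOpen U ∧ pt t ∈ U ∧
        ∀ q₁ ∈ U, q₁.asIdeal.LiesOver p →
          ∃ Qs : Ideal (S₁ t), Qs.IsPrime ∧ Qs.comap (algebraMap S (S₁ t)) = q₁.asIdeal ∧ Qs.LiesOver (pR t)) :
    ∃ (R' : Type u) (_ : CommRing R') (_ : Algebra R R') (p' : Ideal R') (_ : p'.IsPrime),
      FlatCA.IsEtaleNhd R R' p p' ∧ ∃ (k : ℕ) (j : Fin k → T),
        (∀ i, ∃ (_ : Algebra (R₁ (j i)) R') (_ : IsScalarTower R (R₁ (j i)) R'),
          TrivRes (R₁ (j i)) (pR (j i)) p' ∧ IsUnit (algebraMap (R₁ (j i)) R' (f (j i)))) ∧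
        ∀ q₁ : PrimeSpectrum S, q₁.asIdeal.LiesOver p → ∃ (i : Fin k) (Qs : Ideal (S₁ (j i))),
          Qs.IsPrime ∧ Qs.comap (algebraMap S (S₁ (j i))) = q₁.asIdeal ∧ Qs.LiesOver (pR (j i)) := by
  classical
  choose U hUo hUq hUc using hU
  have hcpt : IsCompact (PrimeSpectrum.comap (algebraMap R S) ⁻¹' {(⟨p, inferInstance⟩ : PrimeSpectrum R)}) := by
    haveI : CompactSpace ↥(PrimeSpectrum.comap (algebraMap R S) ⁻¹' {(⟨p, inferInstance⟩ : PrimeSpectrum R)}) :=
      (PrimeSpectrum.preimageHomeomorphFiber R S ⟨p, inferInstance⟩).symm.compactSpace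
    exact isCompact_iff_compactSpace.mpr inferInstance
  obtain ⟨s, hs⟩ := hcpt.elim_finite_subcover U hUo fun q hq => by
    obtain ⟨t, rfl⟩ := hpt q ⟨(congrArg PrimeSpectrum.asIdeal hq).symm⟩
    exact Set.mem_iUnion.mpr ⟨t, hUq t⟩
  let e := s.equivFin.symm
  obtain ⟨R', _, _, p', _, hR', H⟩ := exists_common p s.card (fun i => R₁ (e i).1) (fun i => pR (e i).1)
    (fun i => hn _) (fun i => f (e i).1) (fun i => hf _)
  refine ⟨R', inferInstance, inferInstance, p', inferInstance, hR', s.card, fun i => (e i).1, H, fun q₁ hq₁ => ?_⟩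
  obtain ⟨t, hts, ht⟩ := Set.mem_iUnion₂.mp (hs (show q₁ ∈ PrimeSpectrum.comap (algebraMap R S) ⁻¹'
    {(⟨p, inferInstance⟩ : PrimeSpectrum R)} from PrimeSpectrum.ext hq₁.over.symm))
  obtain ⟨i, hi⟩ : ∃ i, e i = ⟨t, hts⟩ := ⟨e.symm ⟨t, hts⟩, e.apply_symm_apply _⟩
  have hit : (e i).1 = t := congrArg Subtype.val hi
  exact ⟨i, hUc (e i).1 q₁ (hit ▸ ht) hq₁⟩

section Pi

variable {A SA NA : Type u} [CommRing A] [CommRing SA] [AddCommGroup NA] [Module SA NA] {k : ℕ} (C : Fin k → Type u)
  [∀ i, CommRing (C i)] [∀ i, Algebra SA (C i)]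

/-- The tensor product with a finite product of algebras. -/
def piTensorEquiv : (∀ i, C i) ⊗[SA] NA ≃+ ∀ i, C i ⊗[SA] NA :=
  (TensorProduct.piLeft SA NA C).toAddEquiv

theorem piTensorEquiv_smul (c : ∀ i, C i) (z : (∀ i, C i) ⊗[SA] NA) (i : Fin k) :
    piTensorEquiv C (c • z) i = c i • piTensorEquiv C z i := by
  induction z using TensorProduct.induction_on with
  | zero => simp
  | add a b ha hb => simp only [smul_add, map_add, Pi.add_apply, ha, hb]
  | tmul a n => simp [piTensorEquiv, TensorProduct.smul_tmul']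

attribute [-instance] Pi.module' Pi.smul' in
/-- Finite presentation over a finite product. -/
theorem finitePresentation_pi (h : ∀ i, Module.FinitePresentation (C i) (C i ⊗[SA] NA)) :
    Module.FinitePresentation (∀ i, C i) ((∀ i, C i) ⊗[SA] NA) := by
  classical
  letI : ∀ i, Algebra (∀ i, C i) (C i) := fun i => (Pi.evalRingHom C i).toAlgebra
  haveI : ∀ i, SMulCommClass SA (∀ i, C i) (C i) := fun i => ⟨fun a c x => by
    simp only [Algebra.smul_def]; ring⟩
  haveI : ∀ i, Module.FinitePresentation (∀ i, C i) (C i) := fun i => by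
    haveI : Module.Projective (∀ i, C i) (C i) := by
      refine Module.Projective.of_split
        ({ toFun := Pi.single i, map_add' := fun a b => Pi.single_add i a b,
           map_smul' := fun c a => by
            ext j
            rcases eq_or_ne j i with rfl | hne
            · simp [RingHom.algebraMap_toAlgebra, Algebra.smul_def]
            · simp [hne] } : C i →ₗ[∀ i, C i] ∀ i, C i)
        (Algebra.linearMap (∀ i, C i) (C i)) ?_
      ext a
      simp [RingHom.algebraMap_toAlgebra]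
    haveI : Module.Finite (∀ i, C i) (C i) :=
      Module.Finite.of_surjective (Algebra.linearMap (∀ i, C i) (C i)) fun a => ⟨Pi.single i a, Pi.single_eq_same i a⟩
    exact Module.finitePresentation_of_projective _ _
  haveI : ∀ i, Module.FinitePresentation (∀ i, C i) (C i ⊗[SA] NA) := fun i =>
    haveI := h i
    Module.FinitePresentation.trans (∀ i, C i) (C i ⊗[SA] NA) (C i)
  let e : (∀ i, C i) ⊗[SA] NA ≃ₗ[∀ i, C i] ∀ i, C i ⊗[SA] NA :=
    { piTensorEquiv C with
      map_smul' := fun c z => funext fun i => (piTensorEquiv_smul C c z i).trans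
        (algebraMap_smul (C i) c (piTensorEquiv C z i)) }
  exact Module.FinitePresentation.of_equiv e.symm

/-- Freeness over the base of the tensor product with a finite product. -/
theorem free_pi [∀ i, Algebra A (C i)] [Algebra A SA] [∀ i, IsScalarTower A SA (C i)]
    (h : ∀ i, Module.Free A (C i ⊗[SA] NA)) : Module.Free A ((∀ i, C i) ⊗[SA] NA) := by
  haveI := h
  let e : (∀ i, C i) ⊗[SA] NA ≃ₗ[A] ∀ i, C i ⊗[SA] NA :=
    { piTensorEquiv C with
      map_smul' := fun a z => funext fun i => by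
        show piTensorEquiv C (a • z) i = a • piTensorEquiv C z i
        rw [← algebraMap_smul (∀ i, C i) a z, piTensorEquiv_smul]
        exact algebraMap_smul (C i) a _ }
  exact Module.Free.of_equiv e.symm

end Pi

end Groth.L20.RG
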