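import Groth.Agent.L20.RG.Smooth
import Groth.Agent.L01.CountFlatML
import Groth.Agent.L01.ProjDescent
import Groth.Agent.S6346
import Mathlib.Data.Finsupp.Encodable

/-!
# Smooth algebras with geometrically integral fibres are projective
-/

set_option autoImplicit false
set_option linter.style.haveILetI false
universe u

open TensorProduct

noncomputable section

namespace Groth.L20.RG

/-- An element of `Q ⊗ P`, `P` projective, killed by all functionals is zero. -/
theorem eq_zero_of_forall_dual {R Q P : Type u} [CommRing R] [AddCommGroup Q] [Module R Q] [AddCommGroup P]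
    [Module R P] [Module.Projective R P] (z : Q ⊗[R] P) (h : ∀ φ : P →ₗ[R] R, φ.lTensor Q z = 0) : z = 0 := by
  classical
  obtain ⟨s, hs⟩ := Module.projective_def.mp (inferInstance : Module.Projective R P)
  have hinj : Function.Injective (s.lTensor Q) := by
    refine Function.LeftInverse.injective (g := (Finsupp.linearCombination R id).lTensor Q) fun w => ?_
    rw [← LinearMap.comp_apply, ← LinearMap.lTensor_comp,
      show Finsupp.linearCombination R id ∘ₗ s = LinearMap.id from LinearMap.ext hs, LinearMap.lTensor_id, LinearMap.id_apply]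
  apply hinj
  rw [map_zero]
  apply (TensorProduct.finsuppScalarRight R R Q P).injective
  rw [map_zero]
  refine Finsupp.ext fun p => ?_
  have h1 : ∀ w : Q ⊗[R] (P →₀ R), TensorProduct.finsuppScalarRight R R Q P w p =
      TensorProduct.rid R Q ((Finsupp.lapply p).lTensor Q w) := fun w => by
    induction w using TensorProduct.induction_on with
    | zero => simp
    | tmul q f => simp
    | add a b ha hb => simp only [map_add, Finsupp.add_apply, ha, hb]
  rw [h1, ← LinearMap.comp_apply, ← LinearMap.lTensor_comp, h, map_zero, Finsupp.zero_apply]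

section Section

variable {A B : Type u} [CommRing A] [CommRing B] [Algebra A B] [Algebra.Smooth A B]

open Groth.L02.SchDom in
/-- With a section, every tensor has a smallest coefficient submodule. -/
theorem exists_smallest (u : B →ₐ[A] A) (h : DomFib A B) (n : ℕ) (x : (Fin n → A) ⊗[A] B) :
    ∃ F' : Submodule A (Fin n → A), x ∈ LinearMap.range (F'.subtype.rTensor B) ∧
      ∀ F'' : Submodule A (Fin n → A), x ∈ LinearMap.range (F''.subtype.rTensor B) → F' ≤ F'' := by
  classical
  have H : ∀ (K : Type u) [Field K] [Algebra A K], NoZeroDivisors (K ⊗[A] B) := fun K _ _ =>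
    haveI := h K
    IsDomain.to_noZeroDivisors _
  let co : Fin n → B := fun i => TensorProduct.lid A B ((LinearMap.proj i : (Fin n → A) →ₗ[A] A).rTensor B x)
  have hx : ∀ (w : (Fin n → A) ⊗[A] B), w = ∑ i, Pi.single i (1 : A) ⊗ₜ[A]
      TensorProduct.lid A B ((LinearMap.proj i : (Fin n → A) →ₗ[A] A).rTensor B w) := fun w => by
    induction w using TensorProduct.induction_on with
    | zero => simp
    | tmul f b =>
      simp only [LinearMap.rTensor_tmul, LinearMap.proj_apply, TensorProduct.lid_tmul, ← TensorProduct.smul_tmul,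
        ← TensorProduct.sum_tmul]
      congr 1
      exact pi_eq_sum_univ' f
    | add a b ha hb => conv_lhs => rw [ha, hb]
                       simp only [map_add, TensorProduct.tmul_add, Finset.sum_add_distrib]
  obtain ⟨A₁, B₁, _, _, _, _, _, _, e, hS, hu⟩ := exists_smooth_model (Finset.univ.image co) {u}
  obtain ⟨u₁, -⟩ := hu u (Finset.mem_singleton_self u)
  choose x₁ hx₁ using fun i => hS (co i) (Finset.mem_image_of_mem _ (Finset.mem_univ i))
  let κ := RingHom.ker u₁.toRingHom
  let F' : Submodule A (Fin n → A) := Submodule.span A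
    {c | ∃ (m : ℕ) (φ : (B₁ ⧸ κ ^ m) →ₗ[A₁] A₁), c = fun i => algebraMap A₁ A (φ (Ideal.Quotient.mk _ (x₁ i)))}
  refine ⟨F', ?_, fun F'' hF'' => Submodule.span_le.mpr ?_⟩
  · rw [← LinearMap.exact_iff.mp (rTensor_exact B (LinearMap.exact_subtype_mkQ F') F'.mkQ_surjective),
      LinearMap.mem_ker]
    let Q := (Fin n → A) ⧸ F'
    let R := TrivSqZeroExt A Q
    let inr : Q →ₗ[A] R := TrivSqZeroExt.inrHom A Q
    let pr : R →ₗ[A] Q := TrivSqZeroExt.sndHom A Q
    have hpr : pr ∘ₗ inr = LinearMap.id := LinearMap.ext fun q => rfl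
    haveI : IsScalarTower A₁ A R := inferInstance
    let q : Fin n → Q := fun i => F'.mkQ (Pi.single i 1)
    let z : R ⊗[A₁] B₁ := ∑ i, inr (q i) ⊗ₜ x₁ i
    have hz : z = 0 := by
      refine eq_zero_of_forall_pow u₁ (fun K _ _ χ => noZeroDivisors_of_model e H (R := R) K χ) z fun m => ?_
      haveI := (projective_quotient_ker_pow u₁ m).2
      refine eq_zero_of_forall_dual _ fun φ => ?_
      apply (TensorProduct.rid A₁ R).injective
      rw [map_zero]
      simp only [z, map_sum, LinearMap.lTensor_tmul, TensorProduct.rid_tmul, AlgHom.toLinearMap_apply,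
        Ideal.Quotient.mkₐ_eq_mk]
      have hterm : ∀ i, φ (Ideal.Quotient.mk _ (x₁ i)) • inr (q i) =
          inr (algebraMap A₁ A (φ (Ideal.Quotient.mk _ (x₁ i))) • q i) := fun i => by
        rw [map_smul, algebraMap_smul]
      simp only [hterm, ← map_sum]
      rw [show (0 : R) = inr 0 from (map_zero inr).symm]
      congr 1
      simp only [q]
      rw [Finset.sum_congr rfl fun i _ => (map_smul F'.mkQ _ _).symm, ← map_sum, Submodule.mkQ_apply,
        Submodule.Quotient.mk_eq_zero]
      have : ∑ i, algebraMap A₁ A (φ (Ideal.Quotient.mk _ (x₁ i))) • (Pi.single i (1 : A) : Fin n → A) =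
          fun i => algebraMap A₁ A (φ (Ideal.Quotient.mk _ (x₁ i))) :=
        (pi_eq_sum_univ' fun i => algebraMap A₁ A (φ (Ideal.Quotient.mk _ (x₁ i)))).symm
      rw [this]
      exact Submodule.subset_span ⟨m, φ, rfl⟩
    have hzA : ∑ i, inr (q i) ⊗ₜ[A] co i = 0 := by
      apply (modelBaseChange e R).injective
      rw [map_zero, map_sum, ← hz]
      exact Finset.sum_congr rfl fun i _ => modelBaseChange_tmul e R (hx₁ i) _
    have h2 := congrArg (pr.rTensor B) hzA
    rw [map_zero, map_sum] at h2
    rw [hx x, map_sum]
    simp only [LinearMap.rTensor_tmul] at h2 ⊢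
    exact h2
  · rintro _ ⟨m, φ, rfl⟩
    let φ' : B₁ →ₗ[A₁] A₁ := φ ∘ₗ (Ideal.Quotient.mkₐ A₁ (κ ^ m)).toLinearMap
    let ψ : B →ₗ[A] A :=
      (AlgebraTensorModule.rid A₁ A A).toLinearMap ∘ₗ AlgebraTensorModule.lTensor A A φ' ∘ₗ e.toLinearMap
    have hψ : ∀ i, ψ (co i) = algebraMap A₁ A (φ (Ideal.Quotient.mk _ (x₁ i))) := fun i => by
      show (AlgebraTensorModule.rid A₁ A A) (AlgebraTensorModule.lTensor A A φ' (e (co i))) = _
      rw [hx₁ i, AlgebraTensorModule.lTensor_tmul, AlgebraTensorModule.rid_tmul, Algebra.smul_def, mul_one]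
      rfl
    obtain ⟨w, hw⟩ := hF''
    have h1 : TensorProduct.rid A (Fin n → A) (ψ.lTensor (Fin n → A) x) ∈ F'' := by
      rw [← hw, ← LinearMap.comp_apply, LinearMap.lTensor_comp_rTensor, ← LinearMap.rTensor_comp_lTensor,
        LinearMap.comp_apply]
      generalize ψ.lTensor F'' w = v
      induction v using TensorProduct.induction_on with
      | zero => simp
      | tmul f a => simpa using F''.smul_mem a f.2
      | add a b ha hb => rw [map_add, map_add]; exact add_mem ha hb
    have h2 : TensorProduct.rid A (Fin n → A) (ψ.lTensor (Fin n → A) x) =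
        fun i => algebraMap A₁ A (φ (Ideal.Quotient.mk _ (x₁ i))) := by
      rw [hx x]
      simp only [map_sum, LinearMap.lTensor_tmul, TensorProduct.rid_tmul]
      rw [pi_eq_sum_univ' (fun i => algebraMap A₁ A (φ (Ideal.Quotient.mk _ (x₁ i))))]
      exact Finset.sum_congr rfl fun i _ => by rw [← hψ i]
    rw [h2] at h1
    exact h1

/-- A finite type algebra is countably generated as a module. -/
theorem isCountablyGenerated (A B : Type u) [CommRing A] [CommRing B] [Algebra A B] [Algebra.FiniteType A B] :
    CAlg.IsCountablyGenerated A B := by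
  obtain ⟨n, π, hπ⟩ := Algebra.FiniteType.iff_quotient_mvPolynomial''.mp (inferInstance : Algebra.FiniteType A B)
  refine ⟨Set.range fun d : Fin n →₀ ℕ => π (MvPolynomial.monomial d 1), Set.countable_range _, top_le_iff.mp ?_⟩
  intro b _
  obtain ⟨p, rfl⟩ := hπ b
  induction p using MvPolynomial.induction_on' with
  | monomial d a =>
    rw [show MvPolynomial.monomial d a = a • MvPolynomial.monomial d (1 : A) by simp [MvPolynomial.smul_monomial],
      map_smul]
    exact Submodule.smul_mem _ _ (Submodule.subset_span ⟨d, rfl⟩)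
  | add p q hp hq => rw [map_add]; exact add_mem (hp trivial) (hq trivial)

theorem projective_of_section (u : B →ₐ[A] A) (h : DomFib A B) : Module.Projective A B := by
  haveI : Module.Flat A B := Algebra.Smooth.flat A B
  exact Groth.L01.CountFlatML.projective ((Groth.Agent.S6346.result A B).mpr (exists_smallest u h))
    (isCountablyGenerated A B)

/-- **Smooth algebras with geometrically integral fibres are projective.** -/
theorem DomFib.projective (h : DomFib A B) : Module.Projective A B := by
  haveI := h.faithfullyFlat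
  haveI := projective_of_section
    (Algebra.TensorProduct.lift (Algebra.ofId B B) (AlgHom.id A B) fun _ _ => Commute.all _ _) (h.baseChange B)
  exact Groth.L01.ProjDescent.projective B

end Section

end Groth.L20.RG
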