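import Groth.Agent.L20.RG.AssCover
import Groth.Agent.L01.Kaplansky
import Mathlib.RingTheory.Localization.BaseChange

/-!
# Projective modules are universally pure
-/

set_option autoImplicit false
set_option linter.style.haveILetI false
set_option backward.isDefEq.respectTransparency.types false
universe u

open TensorProduct IsLocalRing

noncomputable section

namespace Groth.L20.RG

open Groth.L03.WeakAss

/-- A projective module has all its associated points of fibres specialising to any nearby fibre. -/
theorem exists_over_of_projective {A B : Type u} [CommRing A] [CommRing B] [Algebra A B] [Algebra.FiniteType A B]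
    (N : Type u) [AddCommGroup N] [Module B N] [Module A N] [IsScalarTower A B N]
    [Module.Projective A N] (t' t : Ideal A) [t'.IsPrime] [t.IsPrime] (hle : t' ≤ t) (P : Ideal B) [P.IsPrime]
    [P.LiesOver t'] (hP : P ∈ FlatCA.weakAss B (N ⊗[A] t'.ResidueField)) :
    ∃ P' : Ideal B, P'.IsPrime ∧ P ≤ P' ∧ P'.LiesOver t := by
  classical
  by_contra! hno
  let T : Submonoid B := Algebra.algebraMapSubmonoid B t.primeCompl
  -- an element of `P` congruent to a unit
  obtain ⟨f, hf, r, hr, hfr⟩ : ∃ f ∈ P, ∃ r ∉ t, algebraMap A B r - f ∈ t.map (algebraMap A B) := by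
    by_contra! hne
    have hdis : Disjoint ((P ⊔ t.map (algebraMap A B) : Ideal B) : Set B) (T : Set B) := by
      rw [Set.disjoint_left]
      rintro _ hmem ⟨r, hr, rfl⟩
      obtain ⟨f, hf, τ, hτ, hsum⟩ := Submodule.mem_sup.mp hmem
      exact hne f hf r hr (by rw [← hsum, add_sub_cancel_left]; exact hτ)
    obtain ⟨P', hP', hPP', hPT⟩ := Ideal.exists_le_prime_disjoint _ _ hdis
    refine hno P' hP' (le_sup_left.trans hPP') ⟨le_antisymm (fun a ha => ?_) fun a ha => ?_⟩
    · exact hPP' (Ideal.mem_sup_right (Ideal.mem_map_of_mem _ ha))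
    · by_contra hat
      exact Set.disjoint_left.1 hPT (show algebraMap A B a ∈ P' from ha) ⟨a, hat, rfl⟩
  let L := Localization.AtPrime t
  let C := Localization T
  haveI : SMulCommClass B L C := ⟨fun s a c => by simp only [Algebra.smul_def]; ring⟩
  haveI : SMulCommClass B A C := ⟨fun s a c => by simp only [Algebra.smul_def]; ring⟩
  haveI : IsScalarTower L C (C ⊗[B] N) := TensorProduct.isScalarTower_left
  haveI : Algebra.IsPushout A B L C := Algebra.isPushout_of_isLocalization t.primeCompl L B C
  haveI : Algebra.IsPushout A L B C := Algebra.IsPushout.symm inferInstance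
  have hbc : IsBaseChange L ((TensorProduct.mk B C N 1).restrictScalars A) :=
    Groth.L20.isBaseChange_restrictScalars (R := A) (S := B) (R' := L) (S' := C) (TensorProduct.isBaseChange B N C)
  haveI : Module.Projective L (C ⊗[B] N) := Module.Projective.of_equiv hbc.equiv
  haveI : Module.Free L (C ⊗[B] N) := Groth.L01.free_of_projective (C ⊗[B] N)
  have hunit : ∀ a ∉ t, IsUnit (algebraMap A L a) := fun a ha => IsLocalization.map_units L (⟨a, ha⟩ : t.primeCompl)
  have hfkey : ∀ v : C ⊗[B] (N ⊗[A] t.ResidueField), algebraMap B C f • v = 0 → v = 0 := by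
    intro v hv
    have h0 : ∀ v : C ⊗[B] (N ⊗[A] t.ResidueField), algebraMap B C (algebraMap A B r - f) • v = 0 := fun v => by
      induction v using TensorProduct.induction_on with
      | zero => exact smul_zero _
      | add a b ha hb => rw [smul_add, ha, hb, add_zero]
      | tmul c y =>
        rw [algebraMap_smul, TensorProduct.smul_tmul', TensorProduct.smul_tmul]
        have : ∀ τ ∈ t.map (algebraMap A B), τ • y = 0 := fun τ hτ => by
          induction hτ using Submodule.span_induction with
          | mem τ hτ =>
            obtain ⟨a, ha, rfl⟩ := hτ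
            exact smul_fibre_eq_zero t N ha y
          | zero => exact zero_smul _ _
          | add a b _ _ ha hb => rw [add_smul, ha, hb, add_zero]
          | smul c a _ ha => rw [smul_eq_mul, mul_smul, ha, smul_zero]
        rw [this _ hfr, TensorProduct.tmul_zero]
    have h1 : algebraMap B C (algebraMap A B r) • v = 0 := by
      have e := h0 v
      rw [map_sub] at e
      exact ((sub_smul (algebraMap B C (algebraMap A B r)) (algebraMap B C f) v).trans
        ((congrArg (algebraMap B C (algebraMap A B r) • v - ·) hv).trans (sub_zero _))).symm.trans e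
    exact (IsUnit.smul_eq_zero (IsLocalization.map_units C (⟨_, r, hr, rfl⟩ : T))).mp h1
  obtain ⟨z, hz1, hz2⟩ := mem_weakAss_iff_exists.1 hP
  obtain ⟨s, hs, k, hk⟩ := hz2 f hf
  rw [mul_comm, mul_smul] at hk
  have hpow : ∀ (n : ℕ) (w : C ⊗[B] (N ⊗[A] t'.ResidueField)), algebraMap B C f ^ n • w = 0 → w = 0 := fun n => by
    induction n with
    | zero => intro w hw; simpa using hw
    | succ n ih =>
      intro w hw
      rw [pow_succ, mul_smul] at hw
      exact smul_injective_chart (A := L) N t'.ResidueField (p := t) (Localization.AtPrime.map_eq_maximalIdeal) hunit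
        (algebraMap B C f) hfkey w (ih _ hw)
  have hdis : Disjoint (T : Set B) (P : Set B) := by
    rw [Set.disjoint_left]
    rintro _ ⟨a, ha, rfl⟩ haP
    exact ha (hle ((Ideal.mem_of_liesOver P t' a).2 haP))
  haveI := IsLocalization.isPrime_of_isPrime_disjoint T C P ‹_› hdis
  haveI : Module.Flat B C := IsLocalization.flat _ T
  refine one_tmul_ne_zero_of_le (P.map (algebraMap B C)) (z := s • z) ?_ (hpow k _ ?_)
  · intro b hb
    rw [← Ideal.under_def, IsLocalization.under_map_of_isPrime_disjoint T C ‹_› hdis]
    by_contra hbP
    exact hz1 (b * s) (fun h => (Ideal.IsPrime.mem_or_mem ‹P.IsPrime› h).elim hbP hs)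
      (by rw [mul_smul]; exact mem_annE.1 hb)
  · rw [← map_pow, algebraMap_smul, TensorProduct.smul_tmul', TensorProduct.smul_tmul, hk, TensorProduct.tmul_zero]

/-- **Projective modules are universally pure.** -/
theorem isUnivPure_of_projective {A B : Type u} [CommRing A] [CommRing B] [Algebra A B] [Algebra.FiniteType A B]
    (N : Type u) [AddCommGroup N] [Module B N] [Module A N] [IsScalarTower A B N]
    [Module.Projective A N] : FlatCA.IsUnivPure A B N := by
  intro p _ A' B' N' _ _ _ _ _ _ _ _ _ _ _ _ _ _ f t' t _ _ P _ himp
  obtain ⟨hpush, hbc, hle, -, hPt', hass, hno⟩ := himp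
  haveI := hpush
  haveI := hPt'
  letI : Module A N' := Module.compHom N' (algebraMap A A')
  haveI : IsScalarTower A A' N' := IsScalarTower.of_algebraMap_smul fun _ _ => rfl
  haveI : IsScalarTower A B N' := IsScalarTower.of_algebraMap_smul fun a m => by
    show algebraMap A B a • m = algebraMap A A' a • m
    rw [← algebraMap_smul B' (algebraMap A B a) m, ← algebraMap_smul B' (algebraMap A A' a) m,
      ← IsScalarTower.algebraMap_apply, ← IsScalarTower.algebraMap_apply]
  haveI : Module.Projective A' N' :=
    Module.Projective.of_equiv (Groth.L20.isBaseChange_restrictScalars (R := A) (S := B) (R' := A') (S' := B') hbc).equiv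
  haveI : Algebra.IsPushout A A' B B' := Algebra.IsPushout.symm inferInstance
  haveI : Algebra.FiniteType A' B' :=
    Algebra.FiniteType.equiv inferInstance (Algebra.IsPushout.equiv A A' B B')
  obtain ⟨P', hP', hPP', hover⟩ := exists_over_of_projective N' t' t hle P
    ((fiberIdeal_mem_ass_iff_weakAss t' N' P).mp hass)
  haveI := hP'
  exact hno P' hPP' hover

end Groth.L20.RG
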