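import Groth.Agent.L20.RG.Transfer
import Groth.Agent.L20.FlatAtBaseChange
import Groth.Agent.L11.Az.Basic
import Mathlib.RingTheory.Finiteness.ModuleFinitePresentation
import Mathlib.RingTheory.Localization.BaseChange
import Mathlib.RingTheory.IsTensorProduct

/-!
# Transferring finite presentation along an elementary dévissage
-/

set_option autoImplicit false
set_option linter.style.haveILetI false
universe u

open TensorProduct

noncomputable section

namespace Groth.L20.RG

/-- A module over a finite algebra which is finitely presented over the base is finitely presented. -/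
theorem finitePresentation_of_finite_algebra (X Y M : Type u) [CommRing X] [CommRing Y] [Algebra X Y]
    [Module.Finite X Y] [AddCommGroup M] [Module Y M] [Module X M] [IsScalarTower X Y M]
    [Module.FinitePresentation X M] : Module.FinitePresentation Y M := by
  haveI : Module.Finite Y M := Module.Finite.of_restrictScalars_finite X Y M
  obtain ⟨n, π, hπ⟩ := Module.Finite.exists_fin' Y M
  refine Module.finitePresentation_of_surjective π hπ (Submodule.FG.of_restrictScalars X ?_)
  rw [← LinearMap.ker_restrictScalars]
  exact Module.FinitePresentation.fg_ker (π.restrictScalars X) hπ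

/-- Finite presentation of a localised module, read through a base change. -/
theorem fp_iff_isBaseChange {X M M' : Type u} [CommRing X] (A : Type u) [CommRing A] [Algebra X A] [AddCommGroup M]
    [Module X M] [AddCommGroup M'] [Module X M'] [Module A M'] [IsScalarTower X A M'] (f : M →ₗ[X] M')
    (hf : IsBaseChange A f) : Module.FinitePresentation A (A ⊗[X] M) ↔ Module.FinitePresentation A M' :=
  hf.equiv.finitePresentation_iff

theorem fp_of_algebra {X M : Type u} [CommRing X] [AddCommGroup M] [Module X M] (A A' : Type u) [CommRing A]
    [CommRing A'] [Algebra X A] [Algebra X A'] [Algebra A A'] [IsScalarTower X A A']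
    (h : Module.FinitePresentation A (A ⊗[X] M)) : Module.FinitePresentation A' (A' ⊗[X] M) := by
  haveI := h
  exact Module.FinitePresentation.of_equiv (AlgebraTensorModule.cancelBaseChange X A A' A' M)

theorem fp_descent {X M : Type u} [CommRing X] [AddCommGroup M] [Module X M] (A A' : Type u) [CommRing A]
    [CommRing A'] [Algebra X A] [Algebra X A'] [Algebra A A'] [IsScalarTower X A A'] [Module.FaithfullyFlat A A']
    (h : Module.FinitePresentation A' (A' ⊗[X] M)) : Module.FinitePresentation A (A ⊗[X] M) := by
  haveI := h
  haveI : Module.FinitePresentation A' (A' ⊗[A] (A ⊗[X] M)) :=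
    Module.FinitePresentation.of_equiv (AlgebraTensorModule.cancelBaseChange X A A' A' M).symm
  exact Groth.L11.Az.finitePresentation_descent A' _

/-- Replacing the module by a base change. -/
theorem fp_baseChange_iff {S S' N N' : Type u} [CommRing S] [CommRing S'] [Algebra S S'] [AddCommGroup N] [Module S N]
    [AddCommGroup N'] [Module S N'] [Module S' N'] [IsScalarTower S S' N'] (f : N →ₗ[S] N') (hf : IsBaseChange S' f)
    (A : Type u) [CommRing A] [Algebra S A] [Algebra S' A] [IsScalarTower S S' A] :
    Module.FinitePresentation A (A ⊗[S] N) ↔ Module.FinitePresentation A (A ⊗[S'] N') := by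
  let e : A ⊗[S'] N' ≃ₗ[A] A ⊗[S] N :=
    (AlgebraTensorModule.congr (LinearEquiv.refl A A) hf.equiv.symm).trans
      (AlgebraTensorModule.cancelBaseChange S S' A A N)
  exact e.finitePresentation_iff.symm

/-- Along a finite finitely presented algebra, finite presentation of localisations is checked below. -/
theorem fp_finite_iff {X Y M : Type u} [CommRing X] [CommRing Y] [Algebra X Y] [Module.Finite X Y]
    [Algebra.FinitePresentation X Y] [AddCommGroup M] [Module Y M] [Module X M] [IsScalarTower X Y M]
    (A B : Type u) [CommRing A] [CommRing B] [Algebra X A] [Algebra Y B] [Algebra A B] [Algebra X B]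
    [IsScalarTower X A B] [IsScalarTower X Y B] [Algebra.IsPushout X A Y B] :
    Module.FinitePresentation A (A ⊗[X] M) ↔ Module.FinitePresentation B (B ⊗[Y] M) := by
  let P := B ⊗[Y] M
  let g : M →ₗ[Y] P := TensorProduct.mk Y B M 1
  have hg : IsBaseChange B g := TensorProduct.isBaseChange Y M B
  haveI : Algebra.IsPushout X Y A B := Algebra.IsPushout.symm inferInstance
  have hg' : IsBaseChange A (g.restrictScalars X) :=
    Groth.L20.isBaseChange_restrictScalars (R := X) (S := Y) (R' := A) (S' := B) hg
  rw [fp_iff_isBaseChange A (g.restrictScalars X) hg']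
  haveI : Module.Finite A B := Module.Finite.equiv (Algebra.IsPushout.equiv X A Y B).toLinearEquiv
  haveI : Algebra.FinitePresentation A B := Algebra.FinitePresentation.equiv (Algebra.IsPushout.equiv X A Y B)
  haveI : Module.FinitePresentation A B := Module.FinitePresentation.of_finite_of_finitePresentation A B
  exact ⟨fun _ => finitePresentation_of_finite_algebra A B P, fun _ => Module.FinitePresentation.trans A P B⟩

/-- The local ring at a single prime above `y` is the localisation at the complement of `y`. -/
theorem isLocalization_atPrime_of_unique {D C : Type u} [CommRing D] [CommRing C] [Algebra D C] [Algebra.IsIntegral D C]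
    (y : Ideal D) [y.IsPrime] (z : Ideal C) [z.IsPrime] [z.LiesOver y]
    (hz : ∀ (z₁ : Ideal C) [z₁.IsPrime], z₁.LiesOver y → z₁ = z) :
    IsLocalization (Algebra.algebraMapSubmonoid C y.primeCompl) (Localization.AtPrime z) := by
  let T := Algebra.algebraMapSubmonoid C y.primeCompl
  haveI : IsLocalization z.primeCompl (Localization T) := by
    refine IsLocalization.isLocalization_of_is_exists_mul_mem (Localization T) T z.primeCompl ?_ fun c => ?_
    · rintro _ ⟨t, ht, rfl⟩ h
      exact ht ((Ideal.mem_of_liesOver z y t).mpr h)
    · obtain ⟨h, hy, m, hm⟩ := exists_notMem_dvd y z hz c.2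
      exact ⟨m, ⟨h, hy, by rw [hm, mul_comm]⟩⟩
  exact IsLocalization.isLocalization_of_algEquiv T
    (IsLocalization.algEquiv z.primeCompl (Localization T) (Localization.AtPrime z))

/-- The frozen localised form of finite presentation, as a base change. -/
theorem fpLoc_iff {X M : Type u} [CommRing X] [AddCommGroup M] [Module X M] (T : Submonoid X) :
    Module.FinitePresentation (Localization T) (LocalizedModule T M) ↔
      Module.FinitePresentation (Localization T) (Localization T ⊗[X] M) :=
  ((IsLocalizedModule.isBaseChange T (Localization T) (LocalizedModule.mkLinearMap T M)).equiv.finitePresentation_iff).symm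

theorem fp_congr {X M M' : Type u} [CommRing X] [AddCommGroup M] [Module X M] [AddCommGroup M'] [Module X M']
    (e : M ≃ₗ[X] M') (A : Type u) [CommRing A] [Algebra X A] :
    Module.FinitePresentation A (A ⊗[X] M) ↔ Module.FinitePresentation A (A ⊗[X] M') :=
  (AlgebraTensorModule.congr (LinearEquiv.refl A A) e).finitePresentation_iff

/-- Finite presentation at a single prime above, along a finite finitely presented algebra. -/
theorem fp_atPrime_iff {X Y M : Type u} [CommRing X] [CommRing Y] [Algebra X Y] [Module.Finite X Y]
    [Algebra.FinitePresentation X Y] [AddCommGroup M] [Module Y M] [Module X M] [IsScalarTower X Y M]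
    (y : Ideal X) [y.IsPrime] (z : Ideal Y) [z.IsPrime] [z.LiesOver y]
    (hz : ∀ (z₁ : Ideal Y) [z₁.IsPrime], z₁.LiesOver y → z₁ = z) :
    Module.FinitePresentation (Localization.AtPrime y) (Localization.AtPrime y ⊗[X] M) ↔
      Module.FinitePresentation (Localization.AtPrime z) (Localization.AtPrime z ⊗[Y] M) := by
  letI := Localization.AtPrime.algebraOfLiesOver y z
  haveI := isLocalization_atPrime_of_unique y z hz
  haveI : Algebra.IsPushout X Y (Localization.AtPrime y) (Localization.AtPrime z) :=
    Algebra.isPushout_of_isLocalization y.primeCompl _ Y _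
  haveI : Algebra.IsPushout X (Localization.AtPrime y) Y (Localization.AtPrime z) := Algebra.IsPushout.symm inferInstance
  exact fp_finite_iff _ _

/-- Finite presentation on a basic open, along a finite finitely presented algebra. -/
theorem fp_away_iff {X Y M : Type u} [CommRing X] [CommRing Y] [Algebra X Y] [Module.Finite X Y]
    [Algebra.FinitePresentation X Y] [AddCommGroup M] [Module Y M] [Module X M] [IsScalarTower X Y M] (h : X) :
    Module.FinitePresentation (Localization.Away h) (Localization.Away h ⊗[X] M) ↔
      Module.FinitePresentation (Localization.Away (algebraMap X Y h)) (Localization.Away (algebraMap X Y h) ⊗[Y] M) := by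
  let B := Localization.Away (algebraMap X Y h)
  letI : Algebra (Localization.Away h) B := (IsLocalization.Away.lift h (g := algebraMap X B)
    (by rw [IsScalarTower.algebraMap_apply X Y B]; exact IsLocalization.Away.algebraMap_isUnit _)).toAlgebra
  haveI : IsScalarTower X (Localization.Away h) B :=
    IsScalarTower.of_algebraMap_eq fun x => (IsLocalization.Away.lift_eq h _ x).symm
  haveI : IsLocalization (Algebra.algebraMapSubmonoid Y (Submonoid.powers h)) B := by
    rw [show Algebra.algebraMapSubmonoid Y (Submonoid.powers h) = Submonoid.powers (algebraMap X Y h) from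
      Submonoid.map_powers _ h]
    infer_instance
  haveI : Algebra.IsPushout X Y (Localization.Away h) B :=
    Algebra.isPushout_of_isLocalization (Submonoid.powers h) _ Y _
  haveI : Algebra.IsPushout X (Localization.Away h) Y B := Algebra.IsPushout.symm inferInstance
  exact fp_finite_iff _ _

/-- Shrinking a basic open keeps finite presentation. -/
theorem fp_away_of_dvd {X M : Type u} [CommRing X] [AddCommGroup M] [Module X M] {g k : X} (hgk : g ∣ k)
    (h : Module.FinitePresentation (Localization.Away g) (Localization.Away g ⊗[X] M)) :
    Module.FinitePresentation (Localization.Away k) (Localization.Away k ⊗[X] M) := by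
  letI : Algebra (Localization.Away g) (Localization.Away k) := (IsLocalization.Away.lift g
    (g := algebraMap X (Localization.Away k)) (isUnit_of_dvd_unit (map_dvd _ hgk)
      (IsLocalization.Away.algebraMap_isUnit k))).toAlgebra
  haveI : IsScalarTower X (Localization.Away g) (Localization.Away k) :=
    IsScalarTower.of_algebraMap_eq fun x => (IsLocalization.Away.lift_eq g _ x).symm
  exact fp_of_algebra _ _ h

/-- Pulling a basic open back. -/
theorem fp_away_baseChange {X Y M : Type u} [CommRing X] [CommRing Y] [Algebra X Y] [AddCommGroup M] [Module X M]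
    (g : X) (h : Module.FinitePresentation (Localization.Away g) (Localization.Away g ⊗[X] M)) :
    Module.FinitePresentation (Localization.Away (algebraMap X Y g)) (Localization.Away (algebraMap X Y g) ⊗[X] M) := by
  let B := Localization.Away (algebraMap X Y g)
  letI : Algebra (Localization.Away g) B := (IsLocalization.Away.lift g (g := algebraMap X B)
    (by rw [IsScalarTower.algebraMap_apply X Y B]; exact IsLocalization.Away.algebraMap_isUnit _)).toAlgebra
  haveI : IsScalarTower X (Localization.Away g) B :=
    IsScalarTower.of_algebraMap_eq fun x => (IsLocalization.Away.lift_eq g _ x).symm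
  exact fp_of_algebra _ _ h

/-- Descending from a basic open of a flat algebra to a basic open of its image. -/
theorem fp_away_descent {X Y M : Type u} [CommRing X] [CommRing Y] [Algebra X Y] [Module.Flat X Y]
    [AddCommGroup M] [Module X M] (s : Y) (h : X)
    (hsurj : ∀ (Q : Ideal X) [Q.IsPrime], h ∉ Q → ∃ (Q' : Ideal Y) (_ : Q'.IsPrime), Q'.LiesOver Q ∧ s ∉ Q')
    (hfp : Module.FinitePresentation (Localization.Away s) (Localization.Away s ⊗[X] M)) :
    Module.FinitePresentation (Localization.Away h) (Localization.Away h ⊗[X] M) := by
  let k := s * algebraMap X Y h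
  let A := Localization.Away h
  let B := Localization.Away k
  letI : Algebra A B := (IsLocalization.Away.lift h (g := algebraMap X B)
    (by rw [IsScalarTower.algebraMap_apply X Y B]
        exact isUnit_of_dvd_unit (map_dvd _ (dvd_mul_left _ _)) (IsLocalization.Away.algebraMap_isUnit k))).toAlgebra
  haveI : IsScalarTower X A B := IsScalarTower.of_algebraMap_eq fun x => (IsLocalization.Away.lift_eq h _ x).symm
  haveI : Module.Flat Y B := IsLocalization.flat _ (Submonoid.powers k)
  haveI : Module.Flat X B := Module.Flat.trans X Y B
  haveI : Module.Flat A B := (Module.flat_iff_of_isLocalization A (Submonoid.powers h) B).2 inferInstance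
  haveI : Module.FaithfullyFlat A B := by
    refine Module.FaithfullyFlat.of_comap_surjective fun P => ?_
    let Q := PrimeSpectrum.comap (algebraMap X A) P
    have hQ : h ∉ Q.asIdeal := by
      have : Q ∈ Set.range (PrimeSpectrum.comap (algebraMap X A)) := ⟨P, rfl⟩
      rw [PrimeSpectrum.localization_away_comap_range A h] at this
      exact this
    obtain ⟨Q', hQ'p, hQ'Q, hQ's⟩ := hsurj Q.asIdeal hQ
    haveI := hQ'p
    have hk : k ∉ Q' := fun hm => (hQ'p.mem_or_mem hm).elim hQ's fun h' => hQ ((Ideal.mem_of_liesOver Q' Q.asIdeal h).mpr h')
    obtain ⟨P', hP'⟩ : (⟨Q', hQ'p⟩ : PrimeSpectrum Y) ∈ Set.range (PrimeSpectrum.comap (algebraMap Y B)) := by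
      rw [PrimeSpectrum.localization_away_comap_range B k]; exact hk
    refine ⟨P', PrimeSpectrum.localization_comap_injective A (Submonoid.powers h) ?_⟩
    rw [← PrimeSpectrum.comap_comp_apply, ← IsScalarTower.algebraMap_eq, IsScalarTower.algebraMap_eq X Y B,
      PrimeSpectrum.comap_comp_apply, hP']
    exact PrimeSpectrum.ext (Ideal.LiesOver.over (P := Q') (p := Q.asIdeal)).symm
  refine fp_descent A B ?_
  letI : Algebra (Localization.Away s) B := (IsLocalization.Away.lift s (g := algebraMap Y B)
    (isUnit_of_dvd_unit (map_dvd _ (dvd_mul_right _ _)) (IsLocalization.Away.algebraMap_isUnit k))).toAlgebra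
  haveI : IsScalarTower Y (Localization.Away s) B :=
    IsScalarTower.of_algebraMap_eq fun x => (IsLocalization.Away.lift_eq s _ x).symm
  haveI : IsScalarTower X (Localization.Away s) B := IsScalarTower.of_algebraMap_eq fun x => by
    rw [IsScalarTower.algebraMap_apply X Y (Localization.Away s), ← IsScalarTower.algebraMap_apply Y (Localization.Away s) B,
      ← IsScalarTower.algebraMap_apply]
  exact fp_of_algebra _ _ hfp

end Groth.L20.RG
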