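import Groth.Agent.L20.FlatLocusOpen
import Groth.Agent.L07.FlatStage
import Groth.Agent.L20.RG.TransferFp

/-!
# Relations of flat finitely presented modules

The kernel of a surjection from a finitely presented module onto a flat finitely presented module over a finitely
presented algebra is finitely presented: descent to a Noetherian ring.
-/

set_option autoImplicit false
set_option linter.style.haveILetI false
set_option backward.isDefEq.respectTransparency.types false
universe u

open TensorProduct MvPolynomial Groth.L07.FlatDescent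

noncomputable section

namespace Groth.L20.RG.SyzFp

variable {R A : Type u} [CommRing R] [CommRing A] [Algebra R A] {d : ℕ}

/-- The basis of monomial vectors. -/
def bF (n : ℕ) (C : Type u) [CommRing C] :
    Module.Basis (Σ _ : Fin n, Fin d →₀ ℕ) C (F d n C) :=
  Pi.basis fun _ => MvPolynomial.basisMonomials (Fin d) C

theorem bF_apply {n : ℕ} (C : Type u) [CommRing C] (e : Σ _ : Fin n, Fin d →₀ ℕ) :
    bF n C e = (em (e.1, e.2) : F d n C) := by
  rw [bF, Pi.basis_apply, MvPolynomial.coe_basisMonomials]
  rfl

theorem bijective_liftBaseChange_ψ (n : ℕ) :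
    Function.Bijective ((ψ A : F d n R →ₗ[R] F d n A).liftBaseChange A) := by
  let e := Module.Basis.equiv ((bF (d := d) n R).baseChange A) (bF n A) (Equiv.refl _)
  have : ((ψ A : F d n R →ₗ[R] F d n A).liftBaseChange A) = e.toLinearMap := by
    refine ((bF (d := d) n R).baseChange A).ext fun i => ?_
    rw [LinearEquiv.coe_coe, Module.Basis.equiv_apply, Module.Basis.baseChange_apply, LinearMap.liftBaseChange_tmul,
      one_smul, Equiv.refl_apply, bF_apply, bF_apply, ψ_em]
  rw [this]
  exact e.bijective

/-- Extension of the scalars of finite combinations. -/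
theorem span_ψ_eq {n : ℕ} (K : Submodule (MvPolynomial (Fin d) R) (F d n R)) (G : Set (F d n R))
    (hG : Submodule.span (MvPolynomial (Fin d) R) G = K) :
    KP (C := A) K = Submodule.span (MvPolynomial (Fin d) A) (ψ A '' G) := by
  apply le_antisymm
  · intro x hx
    refine (Submodule.span_le (p := (Submodule.span (MvPolynomial (Fin d) A) (ψ A '' G)).restrictScalars A)).mpr ?_
      (show x ∈ KC A K from hx)
    rintro _ ⟨y, hy, rfl⟩
    rw [SetLike.mem_coe, Submodule.restrictScalars_mem]
    rw [← hG] at hy
    induction hy using Submodule.span_induction with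
    | mem y hy => exact Submodule.subset_span ⟨y, hy, rfl⟩
    | zero => simp
    | add a b _ _ ha hb => rw [map_add]; exact add_mem ha hb
    | smul c a _ ha => rw [ψ_poly_smul]; exact Submodule.smul_mem _ _ ha
  · rw [Submodule.span_le]
    rintro _ ⟨y, hy, rfl⟩
    exact ψ_mem K (hG ▸ Submodule.subset_span hy)

set_option maxHeartbeats 1000000 in
/-- A relation after extension of scalars comes from relations, when the cokernel is flat. -/
theorem mem_range_lTensor_of_flat_coker {P : Type u} [CommRing P] [Algebra R P] {X Y : Type u} [AddCommGroup X]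
    [Module P X] [Module R X] [IsScalarTower R P X] [AddCommGroup Y] [Module P Y] [Module R Y] [IsScalarTower R P Y]
    (g : X →ₗ[P] Y) (hflat : Module.Flat R (Y ⧸ LinearMap.range g)) (z : A ⊗[R] X)
    (hz : (g.restrictScalars R).lTensor A z = 0) :
    z ∈ LinearMap.range (((LinearMap.ker g).subtype.restrictScalars R).lTensor A) := by
  have hex : Function.Exact ((LinearMap.ker g).subtype.restrictScalars R) ((g.rangeRestrict).restrictScalars R) := by
    intro y
    refine ⟨fun hy => ⟨⟨y, LinearMap.mem_ker.mpr (congrArg Subtype.val hy)⟩, rfl⟩, ?_⟩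
    rintro ⟨⟨y, hy⟩, rfl⟩
    exact Subtype.ext hy
  haveI := hflat
  have hinj : Function.Injective (((LinearMap.range g).subtype.restrictScalars R).lTensor A) :=
    LinearMap.lTensor_injective_of_exact_of_flat ((LinearMap.range g).mkQ.restrictScalars R)
      (Submodule.mkQ_surjective (LinearMap.range g)) ((LinearMap.range g).subtype.restrictScalars R)
      (fun a b h => Subtype.ext h) (fun y => LinearMap.exact_subtype_mkQ (LinearMap.range g) y) A
  have h0 : ((g.rangeRestrict).restrictScalars R).lTensor A z = 0 := by
    refine hinj ?_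
    have : (LinearMap.range g).subtype.restrictScalars R ∘ₗ g.rangeRestrict.restrictScalars R = g.restrictScalars R :=
      LinearMap.ext fun y => rfl
    rw [map_zero, ← LinearMap.comp_apply, ← LinearMap.lTensor_comp, this]
    exact hz
  exact (lTensor_exact A hex (fun y => by
    obtain ⟨v, hv⟩ := g.surjective_rangeRestrict y
    exact ⟨v, hv⟩) z).1 h0

/-- The relations extended to an algebra are finitely presented when the quotient is flat over the Noetherian stage. -/
theorem fp_KP_of_flat [IsNoetherianRing R] {n : ℕ} (K : Submodule (MvPolynomial (Fin d) R) (F d n R))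
    [Module.Flat R (F d n R ⧸ K)] : Module.FinitePresentation (MvPolynomial (Fin d) A) ↥(KP (C := A) K) := by
  classical
  obtain ⟨G, hG⟩ : K.FG := IsNoetherian.noetherian K
  let k : Fin G.card → F d n R := fun j => (G.equivFin.symm j).1
  have hrange : Set.range k = (G : Set (F d n R)) := by
    ext y
    exact ⟨by rintro ⟨j, rfl⟩; exact (G.equivFin.symm j).2, fun hy => ⟨G.equivFin ⟨y, hy⟩, by simp [k]⟩⟩
  let g : F d G.card R →ₗ[MvPolynomial (Fin d) R] F d n R := Fintype.linearCombination _ k
  let gA : F d G.card A →ₗ[MvPolynomial (Fin d) A] F d n A := Fintype.linearCombination _ fun j => ψ A (k j)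
  have hgr : LinearMap.range g = K := by
    rw [Fintype.range_linearCombination, hrange, hG]
  have hgAr : LinearMap.range gA = KP (C := A) K := by
    rw [Fintype.range_linearCombination, span_ψ_eq (A := A) K _ hG, ← hrange, ← Set.range_comp]
    rfl
  obtain ⟨H, hH⟩ : (LinearMap.ker g).FG := IsNoetherian.noetherian _
  let e := LinearEquiv.ofEq _ _ hgAr
  let π : F d G.card A →ₗ[MvPolynomial (Fin d) A] ↥(KP (C := A) K) := e.toLinearMap ∘ₗ gA.rangeRestrict
  refine Module.finitePresentation_of_surjective π (e.surjective.comp gA.surjective_rangeRestrict) ?_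
  have hπ : LinearMap.ker π = LinearMap.ker gA := by
    rw [LinearMap.ker_comp, LinearEquiv.ker, Submodule.comap_bot, LinearMap.ker_rangeRestrict]
  rw [hπ]
  refine ⟨H.image (ψ A), le_antisymm (Submodule.span_le.mpr ?_) fun x hx => ?_⟩
  · intro y hy
    obtain ⟨v, hv, rfl⟩ := Finset.mem_image.mp hy
    rw [SetLike.mem_coe, LinearMap.mem_ker]
    have hgv : g v = 0 := hH.le (Submodule.subset_span hv)
    have : ∀ w : F d G.card R, gA (ψ A w) = ψ A (g w) := fun w => by
      simp only [gA, g, Fintype.linearCombination_apply, map_sum, ψ_poly_smul, ψ_apply]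
    rw [this, hgv, map_zero]
  · have hcomp : ∀ w : F d G.card R, gA (ψ A w) = ψ A (g w) := fun w => by
      simp only [gA, g, Fintype.linearCombination_apply, map_sum, ψ_poly_smul, ψ_apply]
    let Θm := (ψ A : F d G.card R →ₗ[R] F d G.card A).liftBaseChange A
    let Θn := (ψ A : F d n R →ₗ[R] F d n A).liftBaseChange A
    have hsq : ∀ z, gA (Θm z) = Θn ((g.restrictScalars R).baseChange A z) := fun z => by
      induction z using TensorProduct.induction_on with
      | zero => simp
      | add a b ha hb => simp only [map_add, ha, hb]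
      | tmul a v =>
        rw [LinearMap.baseChange_tmul, LinearMap.liftBaseChange_tmul, LinearMap.liftBaseChange_tmul,
          LinearMap.map_smul_of_tower, hcomp]
        rfl
    obtain ⟨z, rfl⟩ := (bijective_liftBaseChange_ψ (R := R) (d := d) (A := A) G.card).2 x
    have hz : (g.restrictScalars R).baseChange A z = 0 := by
      refine (bijective_liftBaseChange_ψ (R := R) (d := d) (A := A) n).1 ?_
      rw [map_zero, ← hsq]
      exact hx
    obtain ⟨w, rfl⟩ := mem_range_lTensor_of_flat_coker (A := A) g (by rw [hgr]; infer_instance) z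
      (by rw [← LinearMap.baseChange_eq_ltensor]; exact hz)
    have key : ∀ w, Θm (((LinearMap.ker g).subtype.restrictScalars R).lTensor A w) ∈
        Submodule.span (MvPolynomial (Fin d) A) ((H.image (ψ A) : Finset (F d G.card A)) : Set (F d G.card A)) := fun w => by
      induction w using TensorProduct.induction_on with
      | zero => simp
      | add a b ha hb => rw [map_add, map_add]; exact add_mem ha hb
      | tmul a v =>
        rw [LinearMap.lTensor_tmul, LinearMap.liftBaseChange_tmul]
        refine Submodule.smul_of_tower_mem _ a ?_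
        obtain ⟨v, hv⟩ := v
        show ψ A v ∈ _
        have hv' : v ∈ Submodule.span (MvPolynomial (Fin d) R) (H : Set (F d G.card R)) := hH ▸ hv
        clear hv
        induction hv' using Submodule.span_induction with
        | mem y hy => exact Submodule.subset_span (Finset.mem_coe.2 (Finset.mem_image_of_mem _ hy))
        | zero => simp
        | add a b _ _ ha hb => rw [map_add]; exact add_mem ha hb
        | smul c a _ ha => rw [ψ_poly_smul]; exact Submodule.smul_mem _ _ ha
    exact key w

/-- Relations of a flat finitely presented module over a polynomial ring are finitely presented. -/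
theorem fp_of_flat_quotient {n : ℕ} (L : Submodule (MvPolynomial (Fin d) A) (F d n A)) (hL : L.FG)
    [Module.Flat A (F d n A ⧸ L)] : Module.FinitePresentation (MvPolynomial (Fin d) A) ↥L := by
  classical
  obtain ⟨G, hG⟩ := hL
  let W : Finset A := G.biUnion fun y => (supp y).image (co y)
  let R₀ := Algebra.adjoin ℤ (W : Set A)
  haveI : IsNoetherianRing R₀ := by
    haveI : Algebra.FiniteType ℤ R₀ := R₀.fg_iff_finiteType.mp ⟨W, rfl⟩
    exact Algebra.FiniteType.isNoetherianRing ℤ R₀
  have hlift : ∀ y ∈ G, ∃ z : F d n R₀, ψ A z = y := by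
    intro y hy
    have : ∀ i, y i ∈ Set.range (MvPolynomial.map (algebraMap R₀ A)) := fun i => by
      rw [MvPolynomial.mem_range_map_iff_coeffs_subset]
      intro c hc
      obtain ⟨m, hm, rfl⟩ := MvPolynomial.mem_coeffs_iff.mp hc
      exact ⟨⟨_, Algebra.subset_adjoin (Finset.mem_biUnion.mpr ⟨y, hy, Finset.mem_image.mpr
        ⟨(i, m), Finset.mem_biUnion.mpr ⟨i, Finset.mem_univ _, Finset.mem_map.mpr ⟨m, hm, rfl⟩⟩,
          rfl⟩⟩)⟩, rfl⟩
    choose z hz using this
    exact ⟨z, funext hz⟩
  choose! z hz using hlift
  let K : Submodule (MvPolynomial (Fin d) R₀) (F d n R₀) := Submodule.span _ (z '' (G : Set (F d n A)))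
  have hKL : KP (C := A) K = L := by
    rw [span_ψ_eq (A := A) K _ rfl, ← hG, Set.image_image]
    congr 1
    exact (Set.image_congr fun y hy => hz y hy).trans (Set.image_id _)
  haveI : Module.Flat A (MC A K) :=
    Module.Flat.of_linearEquiv (Submodule.quotEquivOfEq _ _ rfl ≪≫ₗ
      Submodule.Quotient.restrictScalarsEquiv A (KP (C := A) K) ≪≫ₗ
      (Submodule.quotEquivOfEq _ _ hKL).restrictScalars A)
  obtain ⟨B, hB, hflat⟩ := exists_fg_stage K A
  haveI : Algebra.FiniteType R₀ B := B.fg_iff_finiteType.mp hB
  haveI : IsNoetherianRing B := Algebra.FiniteType.isNoetherianRing R₀ B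
  let eB : MC B K ≃ₗ[B] (F d n B ⧸ KP (C := B) K) :=
    Submodule.quotEquivOfEq _ _ rfl ≪≫ₗ Submodule.Quotient.restrictScalarsEquiv B (KP (C := B) K)
  haveI : Module.Flat B (F d n B ⧸ KP (C := B) K) :=
    haveI := hflat
    Module.Flat.of_linearEquiv eB.symm
  have h := fp_KP_of_flat (A := A) (KP (C := B) K)
  have : KP (C := A) (KP (C := B) K) = L := by
    rw [← hKL]
    exact Submodule.ext fun x => by
      show x ∈ KC A (KP (C := B) K) ↔ x ∈ KC A K
      rw [KC_KP]
  exact this ▸ h

variable {S : Type u} [CommRing S] [Algebra R S] [Algebra.FinitePresentation R S]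

/-- **The kernel of a surjection onto a flat finitely presented module is finitely presented.** -/
theorem fp_ker {X Q : Type u} [AddCommGroup X] [Module S X] [Module.FinitePresentation S X]
    [AddCommGroup Q] [Module S Q] [Module R Q] [IsScalarTower R S Q] [Module.FinitePresentation S Q] [Module.Flat R Q]
    (f : X →ₗ[S] Q) (hf : Function.Surjective f) : Module.FinitePresentation S ↥(LinearMap.ker f) := by
  obtain ⟨d, φ, hφ, hkerφ⟩ := Algebra.FinitePresentation.out (R := R) (A := S)
  let P := MvPolynomial (Fin d) R
  letI : Algebra P S := φ.toRingHom.toAlgebra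
  haveI : IsScalarTower R P S := IsScalarTower.of_algebraMap_eq fun a => (φ.commutes a).symm
  haveI : Module.FinitePresentation P S :=
    Module.finitePresentation_of_surjective (Algebra.linearMap P S) hφ hkerφ
  haveI : Module.Finite P S := inferInstance
  letI : Module P X := Module.compHom X (algebraMap P S)
  haveI : IsScalarTower P S X := IsScalarTower.of_algebraMap_smul fun _ _ => rfl
  letI : Module P Q := Module.compHom Q (algebraMap P S)
  haveI : IsScalarTower P S Q := IsScalarTower.of_algebraMap_smul fun _ _ => rfl
  haveI : IsScalarTower R P Q := IsScalarTower.of_algebraMap_smul fun r m => by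
    show algebraMap P S (algebraMap R P r) • m = r • m
    rw [← IsScalarTower.algebraMap_apply, algebraMap_smul]
  haveI : Module.FinitePresentation P X := Module.FinitePresentation.trans P X S
  haveI : Module.FinitePresentation P Q := Module.FinitePresentation.trans P Q S
  obtain ⟨n, π, hπ⟩ := Module.Finite.exists_fin' P X
  let ρ : (Fin n → P) →ₗ[P] Q := f.restrictScalars P ∘ₗ π
  have hρ : Function.Surjective ρ := hf.comp hπ
  haveI : Module.Flat R ((Fin n → P) ⧸ LinearMap.ker ρ) :=
    Module.Flat.of_linearEquiv ((ρ.quotKerEquivOfSurjective hρ).restrictScalars R)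
  haveI := fp_of_flat_quotient (LinearMap.ker ρ) (Module.FinitePresentation.fg_ker ρ hρ)
  let σ : ↥(LinearMap.ker ρ) →ₗ[P] ↥(LinearMap.ker (f.restrictScalars P)) :=
    π.restrict fun v hv => hv
  have hσ : Function.Surjective σ := fun x => by
    obtain ⟨v, hv⟩ := hπ x.1
    exact ⟨⟨v, by show f (π v) = 0; rw [hv]; exact x.2⟩, Subtype.ext hv⟩
  haveI : Module.FinitePresentation P ↥(LinearMap.ker (f.restrictScalars P)) := by
    refine Module.finitePresentation_of_surjective σ hσ ?_
    have : LinearMap.ker σ = (LinearMap.ker π).comap (LinearMap.ker ρ).subtype := by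
      ext v
      simp only [LinearMap.mem_ker, Submodule.mem_comap, Submodule.subtype_apply]
      exact Subtype.ext_iff
    rw [this]
    refine Submodule.fg_of_fg_map_injective (LinearMap.ker ρ).subtype Subtype.val_injective ?_
    rw [Submodule.map_comap_subtype, inf_eq_right.mpr fun v hv => by
      show f (π v) = 0
      rw [LinearMap.mem_ker.mp hv, map_zero]]
    exact Module.FinitePresentation.fg_ker π hπ
  let e : ↥(LinearMap.ker (f.restrictScalars P)) ≃ₗ[P] ↥(LinearMap.ker f) :=
    { toFun := fun x => ⟨x.1, x.2⟩
      invFun := fun x => ⟨x.1, x.2⟩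
      map_add' := fun _ _ => rfl
      map_smul' := fun _ _ => rfl }
  haveI : Module.FinitePresentation P ↥(LinearMap.ker f) := Module.FinitePresentation.of_equiv e
  exact Groth.L20.RG.finitePresentation_of_finite_algebra P S _

end Groth.L20.RG.SyzFp
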