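import Groth.Agent.L20.RG.AssCover
import Groth.Agent.L20.RG.SyzFp
import Groth.Agent.L20.ModPullback

/-!
# Spreading out the covering of the associated points

If a closed subset cut out by finitely many elements contains no associated point of the fibres over generisations of a
prime, then the same holds on a neighbourhood of the prime, universally.
-/

set_option autoImplicit false
set_option linter.style.haveILetI false
set_option backward.isDefEq.respectTransparency.types false
universe u

open TensorProduct

noncomputable section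

namespace Groth.L20.RG

open Groth.L03.WeakAss

variable {R B : Type u} [CommRing R] [CommRing B] [Algebra R B]
  (N : Type u) [AddCommGroup N] [Module B N] [Module R N] [IsScalarTower R B N]

/-- The multiplications by finitely many elements. -/
def mulMap (G : Finset B) : N →ₗ[B] (↥G → N) := LinearMap.pi fun g => LinearMap.lsmul B N (g : B)

theorem smul_eq_zero_of_mulMap (G : Finset B) (M : Type u) [AddCommGroup M] [Module R M] {w : N ⊗[R] M}
    (hw : AlgebraTensorModule.rTensor R M (mulMap N G) w = 0) : ∀ g ∈ G, g • w = 0 := by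
  intro g hg
  have key : ∀ w : N ⊗[R] M, AlgebraTensorModule.rTensor R M (LinearMap.proj (R := B) (φ := fun _ : ↥G => N) ⟨g, hg⟩)
      (AlgebraTensorModule.rTensor R M (mulMap N G) w) = g • w := fun w => by
    induction w using TensorProduct.induction_on with
    | zero => simp
    | add a b ha hb => rw [map_add, map_add, ha, hb, smul_add]
    | tmul n m => simp [mulMap, TensorProduct.smul_tmul']
  rw [← key, hw, map_zero]

theorem rTensor_injective_ker {A X Y : Type u} [CommRing A] [AddCommGroup X] [Module A X] [Module R X] [AddCommGroup Y]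
    [Module A Y] [Module R Y] [Algebra R A] [IsScalarTower R A X] [IsScalarTower R A Y] [Module.Flat R Y]
    (π : X →ₗ[A] Y) (hπ : Function.Surjective π) (M : Type u) [AddCommGroup M] [Module R M] :
    Function.Injective (((LinearMap.ker π).subtype.restrictScalars R).rTensor M) :=
  (LinearMap.lTensor_inj_iff_rTensor_inj _ _).mp (LinearMap.lTensor_injective_of_exact_of_flat (π.restrictScalars R) hπ
    ((LinearMap.ker π).subtype.restrictScalars R) (fun a b h => Subtype.ext h)
    (fun y => LinearMap.exact_subtype_ker_map π y) M)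

/-- What kills the kernel kills the kernel of the tensored map, when the cokernel is flat. -/
theorem smul_eq_zero_of_rTensor {A N' X Y : Type u} [CommRing A] [Algebra R A] [AddCommGroup N'] [Module A N'] [Module R N']
    [IsScalarTower R A N'] [AddCommGroup X] [Module A X] [Module R X] [IsScalarTower R A X] [AddCommGroup Y]
    [Module A Y] [Module R Y] [IsScalarTower R A Y] [Module.Flat R Y]
    (u : N' →ₗ[A] X) (π : X →ₗ[A] Y) (hπ : Function.Surjective π) (hex : Function.Exact u π) (a : A)
    (ha : ∀ y, u y = 0 → a • y = 0) (M : Type u) [AddCommGroup M] [Module R M] (w : N' ⊗[R] M)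
    (hw : (u.restrictScalars R).rTensor M w = 0) : a • w = 0 := by
  let uK : N' →ₗ[A] ↥(LinearMap.ker π) := u.codRestrict _ fun y => hex.apply_apply_eq_zero y
  have huK : Function.Surjective uK := fun x => by
    obtain ⟨y, hy⟩ := (hex x.1).1 x.2
    exact ⟨y, Subtype.ext hy⟩
  have h1 : (uK.restrictScalars R).rTensor M w = 0 := by
    refine rTensor_injective_ker (R := R) π hπ M ?_
    rw [map_zero, ← hw, ← LinearMap.comp_apply, ← LinearMap.rTensor_comp]
    rfl
  have hexU : Function.Exact ((LinearMap.ker uK).subtype.restrictScalars R) (uK.restrictScalars R) := fun y =>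
    LinearMap.exact_subtype_ker_map uK y
  obtain ⟨v, rfl⟩ := (rTensor_exact M hexU (show Function.Surjective (uK.restrictScalars R) from huK) w).1 h1
  clear hw h1
  induction v using TensorProduct.induction_on with
  | zero => simp
  | add a b ha hb => rw [map_add, smul_add, ha, hb, add_zero]
  | tmul y m =>
    rw [LinearMap.rTensor_tmul, TensorProduct.smul_tmul']
    show (a • (y : N')) ⊗ₜ[R] m = 0
    rw [ha _ (congrArg Subtype.val y.2), TensorProduct.zero_tmul]

theorem fg_ker_of_exact {A N' X Y : Type u} [CommRing A] [Algebra R A] [Algebra.FinitePresentation R A]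
    [AddCommGroup N'] [Module A N'] [Module.Finite A N'] [AddCommGroup X] [Module A X] [Module.FinitePresentation A X]
    [Module R X] [IsScalarTower R A X] [AddCommGroup Y] [Module A Y] [Module.FinitePresentation A Y] [Module R Y]
    [IsScalarTower R A Y] [Module.Flat R Y]
    (u : N' →ₗ[A] X) (π : X →ₗ[A] Y) (hπ : Function.Surjective π) (hex : Function.Exact u π) :
    (LinearMap.ker u).FG := by
  haveI : Module.FinitePresentation A ↥(LinearMap.ker π) := SyzFp.fp_ker (R := R) π hπ
  have := Module.FinitePresentation.fg_ker (u.codRestrict (LinearMap.ker π) fun y => hex.apply_apply_eq_zero y)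
    fun x => by
      obtain ⟨y, hy⟩ := (hex x.1).1 x.2
      exact ⟨y, Subtype.ext hy⟩
  rwa [LinearMap.ker_codRestrict] at this

theorem rTensor_mulMap_eq_zero (G : Finset B) (M : Type u) [AddCommGroup M] [Module R M] {w : N ⊗[R] M}
    (hw : ∀ g ∈ G, g • w = 0) : AlgebraTensorModule.rTensor R M (mulMap N G) w = 0 := by
  classical
  refine (TensorProduct.piLeft R M (fun _ : ↥G => N)).injective ?_
  rw [map_zero]
  funext g
  have key : ∀ w : N ⊗[R] M, TensorProduct.piLeft R M (fun _ : ↥G => N)
      (AlgebraTensorModule.rTensor R M (mulMap N G) w) g = (g : B) • w := fun w => by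
    induction w using TensorProduct.induction_on with
    | zero => simp
    | add a b ha hb => rw [map_add, map_add, Pi.add_apply, ha, hb, smul_add]
    | tmul n m =>
      rw [AlgebraTensorModule.rTensor_tmul, TensorProduct.smul_tmul']
      rfl
  rw [key, hw g g.2]
  rfl

variable [Algebra.FinitePresentation R B] [Module.FinitePresentation B N] [Module.Flat R N]
  (p : Ideal R) [hp : p.IsPrime]

/-- Near `p`, elements killed by `G` die, when `G` avoids the associated points over generisations of `p`. -/
theorem exists_smul_of_killed (G : Finset B)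
    (hG : ∀ (P : Ideal B) [P.IsPrime] (t : Ideal R) [t.IsPrime] [P.LiesOver t], t ≤ p →
      P ∈ FlatCA.weakAss B (N ⊗[R] t.ResidueField) → ∃ g ∈ G, g ∉ P)
    (M : Type u) [AddCommGroup M] [Module R M] (z : N ⊗[R] M) (hz : ∀ g ∈ G, g • z = 0) :
    ∃ r ∉ p, algebraMap R B r • z = 0 := by
  by_contra! hne
  have hdis : Disjoint (annE B z : Set B) (Algebra.algebraMapSubmonoid B p.primeCompl : Set B) := by
    rw [Set.disjoint_left]
    rintro _ h ⟨r, hr, rfl⟩
    exact hne r hr (mem_annE.1 h)
  obtain ⟨Pm, hPm, hle, hPT⟩ := Ideal.exists_le_prime_disjoint _ _ hdis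
  haveI := hPm
  obtain ⟨P, hP, hPle⟩ := Ideal.exists_minimalPrimes_le hle
  haveI := hP.isPrime
  let t := P.comap (algebraMap R B)
  haveI : P.LiesOver t := ⟨rfl⟩
  have htp : t ≤ p := fun a ha => by
    by_contra hap
    exact Set.disjoint_left.1 hPT (hPle (show algebraMap R B a ∈ P from ha)) ⟨a, hap, rfl⟩
  have h2 := (of_mem_weakAss_tensor N M t P (Groth.L20.FibreCrit.flat_localizedModule_of_flat P.primeCompl) ⟨z, hP⟩).2
  obtain ⟨g, hg, hgP⟩ := hG P t htp h2
  exact hgP (hP.le (mem_annE.2 (hz g hg)))

set_option maxHeartbeats 4000000 in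
/-- **Spreading out**: near `p`, elements killed by `G` die, uniformly. -/
theorem exists_uniform_killed (G : Finset B)
    (hG : ∀ (P : Ideal B) [P.IsPrime] (t : Ideal R) [t.IsPrime] [P.LiesOver t], t ≤ p →
      P ∈ FlatCA.weakAss B (N ⊗[R] t.ResidueField) → ∃ g ∈ G, g ∉ P) :
    ∃ r ∉ p, ∀ (M : Type u) [AddCommGroup M] [Module R M] (z : N ⊗[R] M),
      (∀ g ∈ G, g • z = 0) → ∃ k : ℕ, algebraMap R B r ^ k • z = 0 := by
  classical
  let X := ↥G → N
  let u : N →ₗ[B] X := mulMap N G
  let Q := X ⧸ LinearMap.range u
  haveI : Module.FinitePresentation B Q :=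
    Module.finitePresentation_of_surjective (LinearMap.range u).mkQ (Submodule.mkQ_surjective _) (by
      rw [Submodule.ker_mkQ, LinearMap.range_eq_map]
      exact Module.Finite.fg_top.map u)
  haveI : Module.Flat R X :=
    Module.Flat.of_linearEquiv (DFinsupp.linearEquivFunOnFintype (R := R) (M := fun _ : ↥G => N)).symm
  let T : Submonoid B := Algebra.algebraMapSubmonoid B p.primeCompl
  -- the cokernel is flat over the generisations of `p`
  haveI hQT : Module.Flat R (LocalizedModule T Q) := by
    let fN := LocalizedModule.mkLinearMap T N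
    let fX := LocalizedModule.mkLinearMap T X
    let fQ := LocalizedModule.mkLinearMap T Q
    let uT := IsLocalizedModule.map T fN fX u
    let βT := IsLocalizedModule.map T fX fQ (LinearMap.range u).mkQ
    haveI : Module.Flat R (LocalizedModule T X) := Groth.L20.FibreCrit.flat_localizedModule_of_flat T
    have hinj : ∀ (M : Type u) [AddCommGroup M] [Module R M],
        Function.Injective (AlgebraTensorModule.rTensor R M uT) := by
      intro M _ _
      refine (injective_iff_map_eq_zero _).mpr fun y hy => ?_
      obtain ⟨⟨z, c⟩, hz⟩ := IsLocalizedModule.surj T (AlgebraTensorModule.rTensor R M fN) y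
      have hcomm : ∀ z : N ⊗[R] M, AlgebraTensorModule.rTensor R M uT (AlgebraTensorModule.rTensor R M fN z) =
          AlgebraTensorModule.rTensor R M fX (AlgebraTensorModule.rTensor R M u z) := fun z => by
        induction z using TensorProduct.induction_on with
        | zero => simp
        | add a b ha hb => simp only [map_add, ha, hb]
        | tmul n m =>
          rw [AlgebraTensorModule.rTensor_tmul, AlgebraTensorModule.rTensor_tmul, AlgebraTensorModule.rTensor_tmul,
            AlgebraTensorModule.rTensor_tmul, IsLocalizedModule.map_apply]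
      have h1 : AlgebraTensorModule.rTensor R M fX (AlgebraTensorModule.rTensor R M u z) = 0 := by
        rw [← hcomm, ← hz, Submonoid.smul_def, map_smul, hy, smul_zero]
      obtain ⟨c', hc'⟩ := (IsLocalizedModule.eq_zero_iff T (AlgebraTensorModule.rTensor R M fX)).mp h1
      rw [Submonoid.smul_def, ← map_smul] at hc'
      obtain ⟨r, hr, hrz⟩ := exists_smul_of_killed N p G hG M _ (smul_eq_zero_of_mulMap N G M hc')
      refine IsLocalizedModule.smul_injective (AlgebraTensorModule.rTensor R M fN) (⟨_, r, hr, rfl⟩ * c' * c) ?_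
      show (⟨_, r, hr, rfl⟩ * c' * c : T) • y = (⟨_, r, hr, rfl⟩ * c' * c : T) • 0
      rw [smul_zero, mul_smul, mul_smul, hz, Submonoid.smul_def, Submonoid.smul_def, ← map_smul, ← map_smul, hrz, map_zero]
    have hI : ∀ I : Ideal R, Function.Injective ((uT.restrictScalars R).lTensor (R ⧸ I)) := fun I =>
      (LinearMap.lTensor_inj_iff_rTensor_inj _ _).mpr (hinj (R ⧸ I))
    haveI := Groth.L20.flat_quotient_range_of_lTensor_injective (uT.restrictScalars R) hI
    have hex : Function.Exact (uT.restrictScalars R) (βT.restrictScalars R) :=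
      IsLocalizedModule.map_exact T fN fX fQ u _ u.exact_map_mkQ_range
    have hsurj : Function.Surjective (βT.restrictScalars R) :=
      IsLocalizedModule.map_surjective T fX fQ _ (Submodule.mkQ_surjective _)
    exact Module.Flat.of_linearEquiv (((Submodule.quotEquivOfEq _ _ (LinearMap.exact_iff.mp hex).symm).trans
      ((βT.restrictScalars R).quotKerEquivOfSurjective hsurj)).symm)
  obtain ⟨a, ⟨r₀, hr₀, rfl⟩, hflat⟩ := Groth.L20.exists_flat_away T (R := R) (M := Q)
  let a := algebraMap R B r₀
  let Ta := Submonoid.powers a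
  haveI : Module.Flat R (LocalizedModule Ta Q) := hflat
  let fN := LocalizedModule.mkLinearMap Ta N
  let fX := LocalizedModule.mkLinearMap Ta X
  let uA : LocalizedModule Ta N →ₗ[Localization Ta] LocalizedModule Ta X := LocalizedModule.map Ta u
  let πA : LocalizedModule Ta X →ₗ[Localization Ta] LocalizedModule Ta Q := LocalizedModule.map Ta (LinearMap.range u).mkQ
  have hπ : Function.Surjective πA := LocalizedModule.map_surjective Ta _ (Submodule.mkQ_surjective _)
  have hexA : Function.Exact uA πA := LocalizedModule.map_exact Ta u _ u.exact_map_mkQ_range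
  haveI : Algebra.FinitePresentation R (Localization Ta) :=
    Algebra.FinitePresentation.trans R B (Localization.Away a)
  obtain ⟨F, hF⟩ := fg_ker_of_exact (R := R) uA πA hπ hexA
  -- finitely many generators of the kernel die near `p`
  have hgen : ∀ y : ↥F, ∃ r ∉ p, algebraMap R B r • (y : LocalizedModule Ta N) = 0 := by
    intro y
    have hy : uA (y : LocalizedModule Ta N) = 0 := hF.le (Submodule.subset_span y.2)
    obtain ⟨⟨x, c⟩, hx⟩ := IsLocalizedModule.surj Ta fN (y : LocalizedModule Ta N)
    have h1 : fX (u x) = 0 := by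
      have : uA (fN x) = fX (u x) := LocalizedModule.map_mk Ta u x 1
      rw [← this, ← hx, Submonoid.smul_def, LinearMap.map_smul_of_tower, hy, smul_zero]
    obtain ⟨c', hc'⟩ := (IsLocalizedModule.eq_zero_iff Ta fX).mp h1
    have h2 : u ((c' : B) • x) = 0 := by rw [map_smul]; exact hc'
    obtain ⟨r, hr, hrx⟩ := exists_smul_of_killed N p G hG R ((c' : B) • (x ⊗ₜ[R] (1 : R))) fun g hg => by
      rw [TensorProduct.smul_tmul', TensorProduct.smul_tmul',
        show g • (c' : B) • x = 0 from congrFun h2 ⟨g, hg⟩, TensorProduct.zero_tmul]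
    refine ⟨r, hr, ?_⟩
    rw [TensorProduct.smul_tmul', TensorProduct.smul_tmul'] at hrx
    have hrx' : algebraMap R B r • (c' : B) • x = 0 := by
      simpa using congrArg (AlgebraTensorModule.rid R B N) hrx
    refine IsLocalizedModule.smul_injective fN (c' * c) ?_
    show (c' * c) • algebraMap R B r • (y : LocalizedModule Ta N) = (c' * c) • 0
    rw [smul_zero, smul_comm, mul_smul, hx, Submonoid.smul_def, ← map_smul, ← map_smul, hrx', map_zero]
  choose r hr hry using hgen
  have hker : ∀ y ∈ LinearMap.ker uA, algebraMap R B (∏ i, r i) • y = 0 := fun y hy => by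
    rw [← hF] at hy
    induction hy using Submodule.span_induction with
    | mem y hy => rw [← Finset.prod_erase_mul _ _ (Finset.mem_univ (⟨y, hy⟩ : ↥F)), map_mul, mul_smul, hry ⟨y, hy⟩,
        smul_zero]
    | zero => exact smul_zero _
    | add a b _ _ ha hb => rw [smul_add, ha, hb, add_zero]
    | smul c a _ ha => rw [smul_comm, ha, smul_zero]
  refine ⟨r₀ * ∏ i, r i, fun h => (hp.mem_or_mem h).elim hr₀ fun h => ?_, fun M _ _ z hz => ?_⟩
  · obtain ⟨i, -, hi⟩ := (Ideal.IsPrime.prod_mem_iff).mp h
    exact hr i hi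
  let r₁ := ∏ i, r i
  let φN := AlgebraTensorModule.rTensor R M fN
  have h0 : (uA.restrictScalars R).rTensor M (φN z) = 0 := by
    have hcomm : ∀ z : N ⊗[R] M, (uA.restrictScalars R).rTensor M (φN z) =
        AlgebraTensorModule.rTensor R M fX (AlgebraTensorModule.rTensor R M u z) := fun z => by
      induction z using TensorProduct.induction_on with
      | zero => simp
      | add a b ha hb => simp only [map_add, ha, hb]
      | tmul n m =>
        show uA (fN n) ⊗ₜ[R] m = fX (u n) ⊗ₜ[R] m
        rw [show uA (fN n) = fX (u n) from LocalizedModule.map_mk Ta u n 1]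
    rw [hcomm, rTensor_mulMap_eq_zero N G M hz, map_zero]
  have h2 : algebraMap R B r₁ • φN z = 0 := by
    rw [← algebraMap_smul (Localization Ta) (algebraMap R B r₁) (φN z)]
    exact smul_eq_zero_of_rTensor uA πA hπ hexA _ (fun y hy => by
      rw [algebraMap_smul]; exact hker y hy) M _ h0
  rw [← map_smul] at h2
  obtain ⟨⟨_, k, rfl⟩, hk⟩ := (IsLocalizedModule.eq_zero_iff Ta φN).mp h2
  refine ⟨k + 1, ?_⟩
  rw [Submonoid.smul_def, smul_smul] at hk
  rw [show algebraMap R B (r₀ * ∏ i, r i) ^ (k + 1) =
    (a * algebraMap R B r₁ ^ k) * (a ^ k * algebraMap R B r₁) by rw [map_mul]; ring, mul_smul, hk, smul_zero]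

omit [Algebra.FinitePresentation R B] [Module.FinitePresentation B N] [Module.Flat R N] hp in
/-- From elements to powers. -/
theorem exists_pow_smul_of_powers (G : Finset B) {W : Type u} [AddCommGroup W] [Module B W] {r : B}
    (h : ∀ w : W, (∀ g ∈ G, g • w = 0) → ∃ k : ℕ, r ^ k • w = 0) :
    ∀ w : W, (∀ g ∈ G, ∃ k : ℕ, g ^ k • w = 0) → ∃ k : ℕ, r ^ k • w = 0 := by
  classical
  suffices H : ∀ (n : ℕ) (e : B → ℕ), (∑ g ∈ G, e g) = n → ∀ w : W, (∀ g ∈ G, g ^ e g • w = 0) →
      ∃ k : ℕ, r ^ k • w = 0 by
    intro w hw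
    choose! e he using hw
    exact H _ e rfl w he
  intro n
  induction n using Nat.strong_induction_on with
  | _ n ih =>
    intro e hn w hw
    by_cases hall : ∀ g ∈ G, e g ≤ 1
    · refine h w fun g hg => ?_
      rcases Nat.le_one_iff_eq_zero_or_eq_one.mp (hall g hg) with h0 | h0
      · have := hw g hg
        rw [h0, pow_zero, one_smul] at this
        rw [this, smul_zero]
      · simpa [h0] using hw g hg
    · push Not at hall
      obtain ⟨g, hg, hge⟩ := hall
      -- the smaller exponent at `g`
      let e' : B → ℕ := Function.update e g (e g - 1)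
      have hlt : ∀ e'' : B → ℕ, (∀ x ∈ G, e'' x ≤ e x) → e'' g < e g → ∑ x ∈ G, e'' x < n := fun e'' h1 h2 =>
        hn ▸ Finset.sum_lt_sum h1 ⟨g, hg, h2⟩
      obtain ⟨k, hk⟩ := ih _ (hlt (Function.update e g 1) (fun x _ => by
        by_cases hxg : x = g
        · subst hxg; simp; omega
        · simp [hxg]) (by simp; omega)) (Function.update e g 1) rfl (g ^ (e g - 1) • w) fun x hx => by
        by_cases hxg : x = g
        · subst hxg
          rw [Function.update_self, pow_one, smul_smul, ← pow_succ', Nat.sub_add_cancel (by omega)]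
          exact hw x hx
        · rw [Function.update_of_ne hxg, smul_comm, hw x hx, smul_zero]
      obtain ⟨k', hk'⟩ := ih _ (hlt e' (fun x _ => by
        by_cases hxg : x = g
        · subst hxg; simp [e']
        · simp [e', hxg]) (by simp [e']; omega)) e' rfl (r ^ k • w) fun x hx => by
        by_cases hxg : x = g
        · subst hxg
          rw [show e' x = e x - 1 by simp [e'], smul_comm]
          exact hk
        · rw [show e' x = e x by simp [e', hxg], smul_comm, hw x hx, smul_zero]
      exact ⟨k' + k, by rw [pow_add, mul_smul]; exact hk'⟩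

/-- **Spreading out universal injectivity**: for a flat algebra covering `G`, the base change is injective near `p`. -/
theorem exists_uniform_tmul (G : Finset B) (C : Type u) [CommRing C] [Algebra B C] [Module.Flat B C]
    (hC : ∀ (Q : Ideal B) [Q.IsPrime], (∃ g ∈ G, g ∉ Q) → ∃ x : Ideal C, x.IsPrime ∧ x.comap (algebraMap B C) = Q)
    (hG : ∀ (P : Ideal B) [P.IsPrime] (t : Ideal R) [t.IsPrime] [P.LiesOver t], t ≤ p →
      P ∈ FlatCA.weakAss B (N ⊗[R] t.ResidueField) → ∃ g ∈ G, g ∉ P) :
    ∃ r ∉ p, ∀ (M : Type u) [AddCommGroup M] [Module R M] (z : N ⊗[R] M),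
      (1 : C) ⊗ₜ[B] z = 0 → ∃ k : ℕ, algebraMap R B r ^ k • z = 0 := by
  classical
  obtain ⟨r, hr, hr'⟩ := exists_uniform_killed N p G hG
  refine ⟨r, hr, fun M _ _ z hz => ?_⟩
  have : algebraMap R B r ∈ (annE B z).radical := by
    rw [← Ideal.sInf_minimalPrimes]
    refine Submodule.mem_sInf.2 fun P hP => ?_
    haveI := hP.isPrime
    obtain ⟨-, hle, hmin⟩ := minimalPrimes_iff.1 hP
    by_cases hex : ∃ g ∈ G, g ∉ P
    · obtain ⟨x, hx, hxP⟩ := hC P hex
      haveI := hx
      exact absurd hz (one_tmul_ne_zero_of_le x (by rw [hxP]; exact hle))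
    · push Not at hex
      choose s hs k hk using fun g : ↥G => hmin g (hex g g.2)
      let σ := ∏ g, s g
      have hσ : σ ∉ P := fun h => by
        obtain ⟨g, -, hg⟩ := (Ideal.IsPrime.prod_mem_iff).mp h
        exact hs g hg
      obtain ⟨m, hm⟩ := exists_pow_smul_of_powers G (hr' M) (σ • z) fun g hg => ⟨k ⟨g, hg⟩, by
        rw [smul_smul, show g ^ k ⟨g, hg⟩ * σ = (∏ x ∈ Finset.univ.erase ⟨g, hg⟩, s x) * (s ⟨g, hg⟩ * g ^ k ⟨g, hg⟩) by
          rw [← mul_assoc, Finset.prod_erase_mul _ _ (Finset.mem_univ _), mul_comm], mul_smul,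
          mem_annE.1 (hk ⟨g, hg⟩), smul_zero]⟩
      rw [smul_smul] at hm
      exact (Ideal.IsPrime.mem_of_pow_mem hP.isPrime m
        ((Ideal.IsPrime.mem_or_mem hP.isPrime (hle (mem_annE.2 hm))).resolve_right hσ))
  obtain ⟨k, hk⟩ := Ideal.mem_radical_iff.1 this
  exact ⟨k, mem_annE.1 hk⟩

end Groth.L20.RG
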