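import Groth.Agent.L20.RG.ProjNhd
import Groth.Agent.L20.RG.PureSpread
import Groth.Agent.L20.RG.PureOfProj
import Groth.Agent.L20.RG.FibreCover
import Groth.Agent.L20.RG.Dev
import Groth.Agent.L20.RG.Projective
import Groth.Agent.L01.CountFlatML
import Groth.Agent.L01.ProjDescent
import Groth.Agent.L01.ProjML
import Groth.Agent.L02.Pi
import Groth.Agent.L20.SmoothLocal.ProjLocal

/-!
# Pure modules are projective

For a flat finitely presented module, purity gives projectivity in an étale neighbourhood of each point of the base.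
-/

set_option autoImplicit false
set_option linter.style.haveILetI false
set_option backward.isDefEq.respectTransparency.types false
universe u

open TensorProduct Pointwise

noncomputable section

namespace Groth.L20.RG

open TensorProduct in
set_option backward.isDefEq.respectTransparency.types false in
/-- Base change of a local piece to a common neighbourhood, with the points over the neighbourhood. -/
theorem chartOver {R S R₁ S₁ R' : Type u} [CommRing R] [CommRing S] [CommRing R₁] [CommRing S₁] [CommRing R']
    [Algebra R S] [Algebra R R₁] [Algebra S S₁] [Algebra R₁ S₁] [Algebra R S₁] [IsScalarTower R R₁ S₁]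
    [IsScalarTower R S S₁] [Algebra R R'] [Algebra R₁ R'] [IsScalarTower R R₁ R'] [Algebra.Etale R R₁]
    [Algebra.Etale R R'] [Algebra.Etale S S₁]
    (N : Type u) [AddCommGroup N] [Module S N] (p₁ : Ideal R₁) [p₁.IsPrime] (p' : Ideal R') [p'.IsPrime]
    (h : Groth.L20.RG.TrivRes R₁ p₁ p')
    (H : ∀ (N' : Type u) [AddCommGroup N'] [Module S₁ N'] [Module S N'] [IsScalarTower S S₁ N'] [Module R₁ N']
        [IsScalarTower R₁ S₁ N'] (g : N →ₗ[S] N'), IsBaseChange S₁ g → Module.Projective R₁ N') :
    ∃ (C : Type u) (_ : CommRing C) (_ : Algebra S C) (_ : Algebra R' C) (_ : SMulCommClass S R' C),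
      Algebra.Etale S C ∧ (∀ r, algebraMap R' C (algebraMap R R' r) = algebraMap S C (algebraMap R S r)) ∧
      (∀ Qs : Ideal S₁, Qs.IsPrime → Qs.LiesOver p₁ →
        ∃ x : Ideal C, x.IsPrime ∧ x.comap (algebraMap S C) = Qs.comap (algebraMap S S₁) ∧
          x.comap (algebraMap R' C) = p') ∧
      Module.Projective R' (C ⊗[S] N) := by
  haveI : Algebra.Etale R₁ R' := Algebra.Etale.of_restrictScalars R R₁ R'
  letI : Algebra S₁ (R' ⊗[R₁] S₁) := Algebra.TensorProduct.rightAlgebra
  let C := R' ⊗[R₁] S₁
  letI : Algebra S C := ((algebraMap S₁ C).comp (algebraMap S S₁)).toAlgebra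
  haveI : IsScalarTower S S₁ C := IsScalarTower.of_algebraMap_eq' rfl
  haveI : SMulCommClass S R' C := ⟨fun s a c => by simp only [Algebra.smul_def]; ring⟩
  haveI : SMulCommClass S R₁ S₁ := ⟨fun s a c => by simp only [Algebra.smul_def]; ring⟩
  haveI : SMulCommClass S R₁ C := ⟨fun s a c => by simp only [Algebra.smul_def]; ring⟩
  haveI : SMulCommClass S₁ R' C := ⟨fun s a c => by simp only [Algebra.smul_def]; ring⟩
  haveI : Algebra.Etale S₁ C := Groth.L20.RG.etale_pushout
  refine ⟨C, inferInstance, inferInstance, inferInstance, inferInstance, Algebra.Etale.comp S S₁ C, fun r => ?_, ?_, ?_⟩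
  · rw [IsScalarTower.algebraMap_apply R R₁ R', ← IsScalarTower.algebraMap_apply R₁ R' C,
      IsScalarTower.algebraMap_apply R₁ S₁ C, ← IsScalarTower.algebraMap_apply R R₁ S₁,
      IsScalarTower.algebraMap_apply R S S₁, ← IsScalarTower.algebraMap_apply S S₁ C]
  · intro Qs _ hQs
    obtain ⟨x, hx, hxp, hxQ, -⟩ := Groth.L20.RG.exists_point_pushout p₁ Qs p' h
    refine ⟨x, hx, ?_, hxp.over.symm⟩
    rw [IsScalarTower.algebraMap_eq S S₁ C, ← Ideal.comap_comap]
    exact congrArg (Ideal.comap _) hxQ.liesOver.over.symm
  · let N₁ := S₁ ⊗[S] N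
    haveI : IsScalarTower R₁ S₁ N₁ := TensorProduct.isScalarTower_left
    haveI := H N₁ (TensorProduct.mk S S₁ N 1) (TensorProduct.isBaseChange S N S₁)
    haveI : Algebra.IsPushout R₁ S₁ R' C := Algebra.IsPushout.symm inferInstance
    haveI : IsScalarTower R' C (C ⊗[S₁] N₁) := TensorProduct.isScalarTower_left
    haveI : IsScalarTower R₁ C (C ⊗[S₁] N₁) := TensorProduct.isScalarTower_left
    have hbc : IsBaseChange R' ((TensorProduct.mk S₁ C N₁ 1).restrictScalars R₁) :=
      Groth.L20.isBaseChange_restrictScalars (R := R₁) (S := S₁) (R' := R') (S' := C) (TensorProduct.isBaseChange S₁ N₁ C)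
    haveI : IsScalarTower R' C (C ⊗[S] N) := TensorProduct.isScalarTower_left
    exact Module.Projective.of_equiv
      (hbc.equiv.trans ((AlgebraTensorModule.cancelBaseChange S S₁ C C N).restrictScalars R'))


/-- Projectivity after an étale covering of a fibre, with points over the new base point. -/
theorem exists_projective_cover_over {R S : Type u} [CommRing R] [CommRing S] [Algebra R S] [Algebra.FinitePresentation R S]
    (N : Type u) [AddCommGroup N] [Module S N] [Module R N] [IsScalarTower R S N] [Module.FinitePresentation S N]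
    (p : Ideal R) [p.IsPrime] (hflat : ∀ (q : Ideal S) [q.IsPrime], q.LiesOver p → FlatCA.FlatAt R q N) :
    ∃ (R' S' : Type u) (_ : CommRing R') (_ : CommRing S') (_ : Algebra R R') (_ : Algebra S S') (_ : Algebra R' S')
      (_ : Algebra R S') (_ : IsScalarTower R R' S') (_ : IsScalarTower R S S')
      (p' : Ideal R') (_ : p'.IsPrime),
      FlatCA.IsEtaleNhd R R' p p' ∧ Algebra.Etale S S' ∧
      (∀ (q : Ideal S) [q.IsPrime], q.LiesOver p →
        ∃ q' : Ideal S', q'.IsPrime ∧ q'.comap (algebraMap S S') = q ∧ q'.comap (algebraMap R' S') = p') ∧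
      Module.Projective R' (RestrictScalars R' S' (S' ⊗[S] N)) := by
  classical
  let T := {q : PrimeSpectrum S // q.asIdeal.LiesOver p}
  have hloc := fun t : T => haveI := t.2; Groth.L20.RG.exists_projective_local N p t.1.asIdeal (hflat t.1.asIdeal t.2)
  choose R₁ S₁ cR cS aR aS aRS aRS' tR tS pR hpR hn het _hq hU H using hloc
  obtain ⟨R', _, _, p', _, hR', k, j, hj, hcov⟩ := Groth.L20.RG.exists_fibre_refinement (R := R) (S := S) p T
    (fun t => t.1) (fun q hq => ⟨⟨q, hq⟩, rfl⟩) R₁ S₁ pR (fun _ => 1) hn
    (fun t => Ideal.one_notMem (pR t)) hU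
  choose aj tj htr _hu using hj
  have hch := fun i => by
    letI := aj i
    haveI := tj i
    haveI := (hn (j i)).1
    haveI := hR'.1
    haveI := het (j i)
    exact chartOver (R := R) (S := S) (R₁ := R₁ (j i)) (S₁ := S₁ (j i)) (R' := R') N (pR (j i)) p' (htr i) (H (j i))
  choose C cC aSC aRC cCl hCet hCcomp hCpt hCproj using hch
  letI : Algebra S (∀ i, C i) := Pi.algebra _ _
  letI : Algebra R' (∀ i, C i) := Pi.algebra _ _
  letI : Algebra R (∀ i, C i) := ((algebraMap S (∀ i, C i)).comp (algebraMap R S)).toAlgebra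
  haveI : IsScalarTower R S (∀ i, C i) := IsScalarTower.of_algebraMap_eq' rfl
  haveI : IsScalarTower R R' (∀ i, C i) := IsScalarTower.of_algebraMap_eq fun r => funext fun i => (hCcomp i r).symm
  haveI := hCet
  refine ⟨R', ∀ i, C i, inferInstance, inferInstance, inferInstance, inferInstance, inferInstance, inferInstance,
    inferInstance, inferInstance, p', inferInstance, hR', inferInstance, ?_, ?_⟩
  · intro q _ hqp
    obtain ⟨i, Qs, hQsp, hQsc, hQsR⟩ := hcov ⟨q, inferInstance⟩ hqp
    obtain ⟨x, _, hxc, hxp⟩ := hCpt i Qs hQsp hQsR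
    refine ⟨x.comap (Pi.evalRingHom C i), inferInstance, ?_, ?_⟩
    · show (x.comap (Pi.evalRingHom C i)).comap (algebraMap S (∀ i, C i)) = q
      rw [Ideal.comap_comap, show (Pi.evalRingHom C i).comp (algebraMap S (∀ i, C i)) = algebraMap S (C i) from rfl,
        hxc]
      exact hQsc
    · show (x.comap (Pi.evalRingHom C i)).comap (algebraMap R' (∀ i, C i)) = p'
      rw [Ideal.comap_comap]
      exact hxp
  · haveI : SMulCommClass S R' (∀ i, C i) := ⟨fun s a c => by simp only [Algebra.smul_def]; ring⟩
    haveI : IsScalarTower R' (∀ i, C i) ((∀ i, C i) ⊗[S] N) := TensorProduct.isScalarTower_left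
    haveI : ∀ i, IsScalarTower R' (C i) (C i ⊗[S] N) := fun i => TensorProduct.isScalarTower_left
    haveI := hCproj
    let e : (∀ i, C i) ⊗[S] N ≃ₗ[R'] ∀ i, C i ⊗[S] N :=
      { Groth.L20.RG.piTensorEquiv C with
        map_smul' := fun a z => funext fun i => by
          show Groth.L20.RG.piTensorEquiv C (a • z) i = a • Groth.L20.RG.piTensorEquiv C z i
          rw [← algebraMap_smul (∀ i, C i) a z, Groth.L20.RG.piTensorEquiv_smul]
          exact algebraMap_smul (C i) a _ }
    haveI : Module.Projective R' (∀ i, C i ⊗[S] N) :=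
      Module.Projective.of_equiv (DFinsupp.linearEquivFunOnFintype (R := R') (M := fun i => C i ⊗[S] N))
    haveI : Module.Projective R' ((∀ i, C i) ⊗[S] N) := Module.Projective.of_equiv e.symm
    exact Groth.L20.RG.projective_restrictScalars

/-- A finite module over a finite type algebra is countably generated over the base. -/
theorem isCountablyGenerated_of_finite {A B : Type u} [CommRing A] [CommRing B] [Algebra A B] [Algebra.FiniteType A B]
    (N : Type u) [AddCommGroup N] [Module B N] [Module A N] [IsScalarTower A B N] [Module.Finite B N] :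
    CAlg.IsCountablyGenerated A N := by
  obtain ⟨s, hs, hspan⟩ := isCountablyGenerated A B
  obtain ⟨t, ht⟩ := Module.Finite.fg_top (R := B) (M := N)
  refine ⟨s • (t : Set N), hs.image2 t.finite_toSet.countable _, ?_⟩
  rw [Submodule.span_smul_of_span_eq_top hspan, ht, Submodule.restrictScalars_top]

/-- A map into a projective module whose kernels die at `r` gives a projective module away from `r`. -/
theorem projective_away {A B : Type u} [CommRing A] [CommRing B] [Algebra A B] [Algebra.FiniteType A B]
    (N : Type u) [AddCommGroup N] [Module B N] [Module A N] [IsScalarTower A B N] [Module.Finite B N] [Module.Flat A N]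
    (M : Type u) [AddCommGroup M] [Module A M] [Module.Projective A M] (ψ : N →ₗ[A] M) (r : A)
    (h : ∀ (X : Type u) [AddCommGroup X] [Module A X] (z : N ⊗[A] X), ψ.rTensor X z = 0 → ∃ k : ℕ, r ^ k • z = 0) :
    Module.Projective (Localization.Away r) (Localization.Away r ⊗[A] N) := by
  let L := Localization.Away r
  have hu : IsUnit (algebraMap A L r) := IsLocalization.Away.algebraMap_isUnit r
  have huinj : CAlgX.UniversallyInjective L (ψ.baseChange L) := by
    intro X _ _
    rw [← LinearMap.lTensor_inj_iff_rTensor_inj]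
    letI : Module A X := Module.compHom X (algebraMap A L)
    haveI : IsScalarTower A L X := IsScalarTower.of_algebraMap_smul fun _ _ => rfl
    haveI : SMulCommClass A L X := ⟨fun a l x => by
      rw [← algebraMap_smul L a x, ← algebraMap_smul L a (l • x), smul_comm]⟩
    let eN := AlgebraTensorModule.cancelBaseChange A L L X N
    let eM := AlgebraTensorModule.cancelBaseChange A L L X M
    have hcomm : ∀ w : X ⊗[L] (L ⊗[A] N), eM ((ψ.baseChange L).lTensor X w) = ψ.lTensor X (eN w) := fun w => by
      induction w using TensorProduct.induction_on with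
      | zero => simp
      | add a b ha hb => simp only [map_add, ha, hb]
      | tmul x y =>
        induction y using TensorProduct.induction_on with
        | zero => simp
        | add a b ha hb => simp only [TensorProduct.tmul_add, map_add, ha, hb]
        | tmul l n => simp [eM, eN]
    refine (injective_iff_map_eq_zero _).mpr fun w hw => ?_
    have h1 : ψ.lTensor X (eN w) = 0 := by rw [← hcomm, hw, map_zero]
    have hcm : ∀ y : X ⊗[A] N, ψ.rTensor X (TensorProduct.comm A X N y) = TensorProduct.comm A X M (ψ.lTensor X y) :=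
      fun y => by
        induction y using TensorProduct.induction_on with
        | zero => simp
        | add a b ha hb => simp only [map_add, ha, hb]
        | tmul x n => rfl
    have h2 : ψ.rTensor X (TensorProduct.comm A X N (eN w)) = 0 := by rw [hcm, h1, map_zero]
    obtain ⟨k, hk⟩ := h X _ h2
    obtain ⟨v, hv⟩ := (hu.pow k).exists_left_inv
    have hback : ∀ z : N ⊗[A] X,
        (DistribMulAction.toLinearMap A X v).lTensor N (r ^ k • z) = z := fun z => by
      induction z using TensorProduct.induction_on with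
      | zero => simp
      | add a b ha hb => rw [smul_add, map_add, ha, hb]
      | tmul n x =>
        rw [← TensorProduct.tmul_smul, LinearMap.lTensor_tmul]
        show n ⊗ₜ[A] (v • (r ^ k • x)) = n ⊗ₜ[A] x
        rw [← algebraMap_smul L (r ^ k) x, smul_smul, map_pow, hv, one_smul]
    have h3 := hback (TensorProduct.comm A X N (eN w))
    rw [hk, map_zero] at h3
    exact eN.injective ((TensorProduct.comm A X N).injective (by rw [map_zero, map_zero]; exact h3.symm))
  haveI : Module.Flat L (L ⊗[A] N) := Module.Flat.baseChange A L N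
  refine Groth.L01.CountFlatML.projective
    (Groth.L02.isMittagLeffler_of_universallyInjective (ψ.baseChange L) huinj
      (Groth.L01.ProjML.isMittagLeffler_of_projective (R := L) (M := L ⊗[A] M))) ?_
  obtain ⟨s, hs, hspan⟩ := isCountablyGenerated_of_finite (A := A) (B := B) N
  refine ⟨(fun n => (1 : L) ⊗ₜ[A] n) '' s, hs.image _, ?_⟩
  refine Submodule.eq_top_iff'.mpr fun w => ?_
  induction w using TensorProduct.induction_on with
  | zero => exact zero_mem _
  | add a b ha hb => exact add_mem ha hb
  | tmul l n =>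
    rw [show l ⊗ₜ[A] n = l • ((1 : L) ⊗ₜ[A] n) by rw [TensorProduct.smul_tmul', smul_eq_mul, mul_one]]
    refine Submodule.smul_mem _ l ?_
    have hn : n ∈ Submodule.span A s := hspan ▸ trivial
    induction hn using Submodule.span_induction with
    | mem n hn => exact Submodule.subset_span (Set.mem_image_of_mem _ hn)
    | zero => rw [TensorProduct.tmul_zero]; exact zero_mem _
    | add a b _ _ ha hb => rw [TensorProduct.tmul_add]; exact add_mem ha hb
    | smul a x _ hx => rw [TensorProduct.tmul_smul, ← algebraMap_smul L a]; exact Submodule.smul_mem _ _ hx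

/-- Purity gives projectivity on a neighbourhood, given a covering of the fibre. -/
theorem exists_projective_away {A B C : Type u} [CommRing A] [CommRing B] [CommRing C] [Algebra A B]
    [Algebra.FinitePresentation A B] [Algebra B C] [Algebra.Etale B C] [Algebra A C] [IsScalarTower A B C]
    (N : Type u) [AddCommGroup N] [Module B N] [Module A N] [IsScalarTower A B N] [Module.FinitePresentation B N]
    [Module.Flat A N] (p : Ideal A) [p.IsPrime]
    (hcov : ∀ (Q : Ideal B) [Q.IsPrime], Q.LiesOver p → ∃ x : Ideal C, x.IsPrime ∧ x.comap (algebraMap B C) = Q)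
    (hpure : ∀ (P : Ideal B) [P.IsPrime] (t : Ideal A) [t.IsPrime] [P.LiesOver t], t ≤ p →
      P ∈ FlatCA.weakAss B (N ⊗[A] t.ResidueField) → ∃ P' : Ideal B, P'.IsPrime ∧ P ≤ P' ∧ P'.LiesOver p)
    (M : Type u) [AddCommGroup M] [Module B M] [Module C M] [IsScalarTower B C M] [Module A M] [IsScalarTower A B M]
    [Module.Projective A M] (g : N →ₗ[B] M) (hg : IsBaseChange C g) :
    ∃ r ∉ p, Module.Projective (Localization.Away r) (Localization.Away r ⊗[A] N) := by
  classical
  have hopen : IsOpen (Set.range (PrimeSpectrum.comap (algebraMap B C))) :=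
    (PrimeSpectrum.isOpenMap_comap_of_hasGoingDown_of_finitePresentation (R := B) (S := C)).isOpen_range
  obtain ⟨G, hG⟩ := PrimeSpectrum.isCompact_isOpen_iff.mp
    ⟨isCompact_range (PrimeSpectrum.continuous_comap (algebraMap B C)), hopen⟩
  obtain ⟨r, hr, hker⟩ := exists_uniform_tmul N p G C (fun Q _ hQ => by
      obtain ⟨g, hg, hgQ⟩ := hQ
      obtain ⟨x, hx⟩ : (⟨Q, inferInstance⟩ : PrimeSpectrum B) ∈ Set.range (PrimeSpectrum.comap (algebraMap B C)) :=
        hG ▸ fun h => hgQ (h hg)
      exact ⟨x.asIdeal, x.isPrime, congrArg PrimeSpectrum.asIdeal hx⟩)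
    (fun P _ t _ _ ht hP => by
      obtain ⟨P', hP', hle, hover⟩ := hpure P t ht hP
      haveI := hP'
      obtain ⟨x, hx, hxP⟩ := hcov P' hover
      have hmem : (⟨P', hP'⟩ : PrimeSpectrum B) ∈ Set.range (PrimeSpectrum.comap (algebraMap B C)) :=
        ⟨⟨x, hx⟩, PrimeSpectrum.ext hxP⟩
      rw [← hG] at hmem
      by_contra! hno
      exact hmem fun y hy => hle (hno y hy))
  refine ⟨r, hr, projective_away (B := B) N M (g.restrictScalars A) r fun X _ _ z hz => ?_⟩
  -- the kernel of the map to the étale covering
  let e : C ⊗[B] N ≃ₗ[B] M := hg.equiv.restrictScalars B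
  let e' : C ⊗[B] (N ⊗[A] X) ≃ₗ[A] M ⊗[A] X :=
    ((AlgebraTensorModule.assoc A B B C N X).symm.restrictScalars A).trans
      (TensorProduct.congr (e.restrictScalars A) (LinearEquiv.refl A X))
  have hkey : ∀ z : N ⊗[A] X, e' ((1 : C) ⊗ₜ[B] z) = (g.restrictScalars A).rTensor X z := fun z => by
    induction z using TensorProduct.induction_on with
    | zero => simp
    | add a b ha hb => simp only [TensorProduct.tmul_add, map_add, ha, hb]
    | tmul n x =>
      show (e ((1 : C) ⊗ₜ[B] n)) ⊗ₜ[A] x = g n ⊗ₜ[A] x
      rw [show e ((1 : C) ⊗ₜ[B] n) = (1 : C) • g n from hg.equiv_tmul 1 n, one_smul]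
  obtain ⟨k, hk⟩ := hker X z (e'.injective (by rw [hkey, hz, map_zero]))
  exact ⟨k, by rw [← algebraMap_smul B (r ^ k) z, map_pow, hk]⟩

/-- **Purity gives projectivity in an étale neighbourhood.** -/
theorem exists_projective_etaleNhd {A B : Type u} [CommRing A] [CommRing B] [Algebra A B] [Algebra.FinitePresentation A B]
    (N : Type u) [AddCommGroup N] [Module B N] [Module A N] [IsScalarTower A B N] [Module.FinitePresentation B N]
    [Module.Flat A N] (p : Ideal A) [p.IsPrime] (hpure : FlatCA.IsPureAlong A B N p) :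
    ∃ (A'' : Type u) (_ : CommRing A'') (_ : Algebra A A'') (p'' : Ideal A'') (_ : p''.IsPrime), FlatCA.IsEtaleNhd A A'' p p'' ∧ Module.Projective A'' (A'' ⊗[A] N) := by
  classical
  obtain ⟨A', C, _, _, _, _, _, _, _, _, p', _, hA', _, hpts, hproj⟩ := exists_projective_cover_over N p
    fun (q : Ideal B) (_ : q.IsPrime) _ => Groth.L20.FibreCrit.flat_localizedModule_of_flat q.primeCompl
  haveI := hA'.1
  haveI := hA'.2.1
  -- the base change
  obtain ⟨B', _, _, _, _, _, _, _, _⟩ : ∃ (B' : Type u) (_ : CommRing B') (_ : Algebra B B') (_ : Algebra A' B')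
      (_ : Algebra A B') (_ : IsScalarTower A B B') (_ : IsScalarTower A A' B') (_ : Algebra.IsPushout A B A' B'),
      True := by
    letI : Algebra B (A' ⊗[A] B) := Algebra.TensorProduct.rightAlgebra
    haveI : IsScalarTower A B (A' ⊗[A] B) := Algebra.TensorProduct.right_isScalarTower
    exact ⟨A' ⊗[A] B, inferInstance, inferInstance, inferInstance, inferInstance, inferInstance, inferInstance,
      Algebra.IsPushout.symm inferInstance, trivial⟩
  haveI : Algebra.IsPushout A A' B B' := Algebra.IsPushout.symm inferInstance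
  haveI : Algebra.Etale B B' := Algebra.Etale.of_equiv (Algebra.IsPushout.equiv A B A' B')
  haveI : Algebra.FinitePresentation A' B' :=
    Algebra.FinitePresentation.equiv (Algebra.IsPushout.equiv A A' B B')
  let φ : B' →ₐ[A] C := Algebra.pushoutDesc B' (IsScalarTower.toAlgHom A B C) (IsScalarTower.toAlgHom A A' C)
    fun _ _ => Commute.all _ _
  letI : Algebra B' C := φ.toRingHom.toAlgebra
  haveI : IsScalarTower B B' C := IsScalarTower.of_algebraMap_eq fun b =>
    (Algebra.pushoutDesc_left B' (IsScalarTower.toAlgHom A B C) (IsScalarTower.toAlgHom A A' C) (fun _ _ => Commute.all _ _) b).symm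
  haveI : IsScalarTower A' B' C := IsScalarTower.of_algebraMap_eq fun a =>
    (Algebra.pushoutDesc_right B' (IsScalarTower.toAlgHom A B C) (IsScalarTower.toAlgHom A A' C) (fun _ _ => Commute.all _ _) a).symm
  haveI : Algebra.Etale B' C := Algebra.Etale.of_restrictScalars B B' C
  obtain ⟨N', _, _, _, _, _, _, _, f, hf⟩ : ∃ (N' : Type u) (_ : AddCommGroup N') (_ : Module B' N') (_ : Module B N')
      (_ : IsScalarTower B B' N') (_ : Module A' N') (_ : IsScalarTower A' B' N') (_ : Module A N')
      (f : N →ₗ[B] N'), IsBaseChange B' f ∧ IsScalarTower A A' N' ∧ IsScalarTower A B N' := by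
    haveI : SMulCommClass B A' B' := ⟨fun s a c => by simp only [Algebra.smul_def]; ring⟩
    haveI : SMulCommClass B A B' := ⟨fun s a c => by simp only [Algebra.smul_def]; ring⟩
    haveI : IsScalarTower A' B' (B' ⊗[B] N) := TensorProduct.isScalarTower_left
    exact ⟨B' ⊗[B] N, inferInstance, inferInstance, inferInstance, inferInstance, inferInstance, inferInstance,
      inferInstance, TensorProduct.mk B B' N 1, TensorProduct.isBaseChange B N B', TensorProduct.isScalarTower_left,
      inferInstance⟩
  obtain ⟨hf, _, _⟩ := hf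
  have hbc : IsBaseChange A' (f.restrictScalars A) :=
    Groth.L20.isBaseChange_restrictScalars (R := A) (S := B) (R' := A') (S' := B') hf
  haveI : Module.Flat A' N' := Module.Flat.isBaseChange A A' N N' hbc
  haveI : Module.FinitePresentation B' N' := FinitePresentation.of_isBaseChange f hf
  -- the covering of the fibre
  have hcov : ∀ (Q : Ideal B') [Q.IsPrime], Q.LiesOver p' → ∃ x : Ideal C, x.IsPrime ∧ x.comap (algebraMap B' C) = Q := by
    intro Q _ hQ
    let q := Q.comap (algebraMap B B')
    haveI : q.LiesOver p := ⟨by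
      rw [Ideal.under_def, show q = Q.comap (algebraMap B B') from rfl, Ideal.comap_comap,
        ← IsScalarTower.algebraMap_eq, IsScalarTower.algebraMap_eq A A' B', ← Ideal.comap_comap]
      rw [← show p' = Q.comap (algebraMap A' B') from hQ.over]
      exact hA'.2.1.over⟩
    obtain ⟨x, hx, hxq, hxp⟩ := hpts q inferInstance
    refine ⟨x, hx, ?_⟩
    obtain ⟨Q₀, _, -, -, huniq⟩ := exists_point_of_isPushout (B := A) (A := B) (B' := A') (A' := B') p q p' hA'.2
    rw [huniq Q hQ ⟨rfl⟩]
    refine huniq _ ⟨?_⟩ ⟨?_⟩
    · rw [Ideal.under_def, Ideal.comap_comap, ← IsScalarTower.algebraMap_eq, hxp]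
    · rw [Ideal.under_def, Ideal.comap_comap, ← IsScalarTower.algebraMap_eq, hxq]
  -- purity
  have hpure' : ∀ (P : Ideal B') [P.IsPrime] (t : Ideal A') [t.IsPrime] [P.LiesOver t], t ≤ p' →
      P ∈ FlatCA.weakAss B' (N' ⊗[A'] t.ResidueField) → ∃ P' : Ideal B', P'.IsPrime ∧ P ≤ P' ∧ P'.LiesOver p' := by
    intro P _ t _ _ ht hP
    by_contra! hno
    exact hpure A' B' N' f t p' P hA' ⟨inferInstance, hf, ht, hA'.2.1, inferInstance,
      (fiberIdeal_mem_ass_iff_weakAss t N' P).mpr hP, fun P' hP' hle hover => hno P' hP' hle hover⟩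
  -- the projective module over the covering
  obtain ⟨M, _, _, _, _, _, _, _, g, hg⟩ : ∃ (M : Type u) (_ : AddCommGroup M) (_ : Module B' M) (_ : Module C M)
      (_ : IsScalarTower B' C M) (_ : Module A' M) (_ : IsScalarTower A' B' M) (_ : Module.Projective A' M)
      (g : N' →ₗ[B'] M), IsBaseChange C g := by
    haveI : SMulCommClass B A' C := ⟨fun s a c => by simp only [Algebra.smul_def]; ring⟩
    haveI : SMulCommClass B' A' C := ⟨fun s a c => by simp only [Algebra.smul_def]; ring⟩
    haveI : IsScalarTower A' C (C ⊗[B'] N') := TensorProduct.isScalarTower_left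
    haveI : IsScalarTower A' C (C ⊗[B] N) := TensorProduct.isScalarTower_left
    haveI := hproj
    haveI : Module.Projective A' (C ⊗[B] N) := Module.Projective.of_equiv
      ({ RestrictScalars.addEquiv A' C (C ⊗[B] N) with
          map_smul' := fun r x => by
            show RestrictScalars.addEquiv A' C _ (r • x) = r • RestrictScalars.addEquiv A' C _ x
            rw [RestrictScalars.addEquiv_map_smul, algebraMap_smul] } : RestrictScalars A' C (C ⊗[B] N) ≃ₗ[A'] C ⊗[B] N)
    haveI : Module.Projective A' (C ⊗[B'] N') := Module.Projective.of_equiv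
      (((AlgebraTensorModule.cancelBaseChange B B' C C N).symm.trans
        (AlgebraTensorModule.congr (LinearEquiv.refl C C) hf.equiv)).restrictScalars A')
    exact ⟨C ⊗[B'] N', inferInstance, inferInstance, inferInstance, inferInstance, inferInstance, inferInstance,
      inferInstance, TensorProduct.mk B' C N' 1, TensorProduct.isBaseChange B' N' C⟩
  obtain ⟨r, hr, hP⟩ := exists_projective_away N' p' hcov hpure' M g hg
  let L := Localization.Away r
  have hdis : Disjoint (Submonoid.powers r : Set A') (p' : Set A') := by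
    rw [Set.disjoint_left]
    rintro _ ⟨k, rfl⟩ h
    exact hr (Ideal.IsPrime.mem_of_pow_mem ‹p'.IsPrime› k h)
  haveI : Algebra.Etale A' L := Algebra.Etale.of_isLocalizationAway r
  haveI hL := IsLocalization.isPrime_of_isPrime_disjoint (Submonoid.powers r) L p' ‹_› hdis
  haveI : (p'.map (algebraMap A' L)).LiesOver p' :=
    IsLocalization.liesOver_map_of_isPrime_disjoint (Submonoid.powers r) L hdis
  refine ⟨L, inferInstance, inferInstance, p'.map (algebraMap A' L), hL, ⟨Algebra.Etale.comp A A' L,
    (show TrivRes A p p' from hA'.2).trans (show TrivRes A' p' (p'.map (algebraMap A' L)) from (isEtaleNhd_away p' hr _).2)⟩, ?_⟩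
  · haveI := hP
    exact Module.Projective.of_equiv
      ((AlgebraTensorModule.congr (LinearEquiv.refl L L) hbc.equiv.symm).trans
        (AlgebraTensorModule.cancelBaseChange A A' L L N))

/-- The same, forgetting the residue field. -/
theorem exists_projective_nhd {A B : Type u} [CommRing A] [CommRing B] [Algebra A B] [Algebra.FinitePresentation A B]
    (N : Type u) [AddCommGroup N] [Module B N] [Module A N] [IsScalarTower A B N] [Module.FinitePresentation B N]
    [Module.Flat A N] (p : Ideal A) [p.IsPrime] (hpure : FlatCA.IsPureAlong A B N p) :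
    ∃ (A'' : Type u) (_ : CommRing A'') (_ : Algebra A A'') (p'' : Ideal A''), p''.IsPrime ∧ p''.LiesOver p ∧
      Algebra.Etale A A'' ∧ Module.Projective A'' (A'' ⊗[A] N) := by
  obtain ⟨A'', _, _, p'', hp, hn, hproj⟩ := exists_projective_etaleNhd N p hpure
  exact ⟨A'', inferInstance, inferInstance, p'', hp, hn.2.1, hn.1, hproj⟩

/-- Projectivity over a finite product of algebras. -/
theorem projective_pi_tensor {A : Type u} [CommRing A] {ι : Type u} [Fintype ι] (D : ι → Type u) [∀ i, CommRing (D i)]
    [∀ i, Algebra A (D i)] (N : Type u) [AddCommGroup N] [Module A N] [∀ i, Module.Projective (D i) (D i ⊗[A] N)] :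
    Module.Projective (∀ i, D i) ((∀ i, D i) ⊗[A] N) := by
  classical
  have h := Groth.L20.SmoothLocal.projective_pi (R := D) (Q := fun i => D i ⊗[A] N)
  haveI := h
  have hsm : ∀ (c : ∀ i, D i) (z : (∀ i, D i) ⊗[A] N),
      TensorProduct.piLeft A N D (c • z) = c • TensorProduct.piLeft A N D z := fun c z => by
    induction z using TensorProduct.induction_on with
    | zero => simp
    | add a b ha hb => rw [smul_add, map_add, map_add, ha, hb, smul_add]
    | tmul a n => funext i; simp [TensorProduct.smul_tmul']
  refine Module.Projective.of_equiv' (R := ∀ i, D i) (M := ∀ i, D i ⊗[A] N) ?_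
  exact (
    { (TensorProduct.piLeft A N D).toAddEquiv with
      map_smul' := fun c z => hsm c z } :
    (∀ i, D i) ⊗[A] N ≃ₗ[∀ i, D i] ∀ i, D i ⊗[A] N).symm

/-- **Pure flat finitely presented modules are projective.** -/
theorem projective_of_isPure {A B : Type u} [CommRing A] [CommRing B] [Algebra A B] [Algebra.FinitePresentation A B]
    (N : Type u) [AddCommGroup N] [Module B N] [Module A N] [IsScalarTower A B N] [Module.FinitePresentation B N]
    [Module.Flat A N] (hpure : FlatCA.IsPure A B N) : Module.Projective A N := by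
  classical
  have hloc := fun p : PrimeSpectrum A => exists_projective_nhd N p.asIdeal (hpure p.asIdeal)
  choose D cD aD pD hpD hover het hproj using hloc
  have hopen : ∀ p, IsOpen (Set.range (PrimeSpectrum.comap (algebraMap A (D p)))) := fun p => by
    haveI := het p
    exact (PrimeSpectrum.isOpenMap_comap_of_hasGoingDown_of_finitePresentation (R := A) (S := D p)).isOpen_range
  obtain ⟨s, hs⟩ := isCompact_univ.elim_finite_subcover _ hopen fun p _ =>
    Set.mem_iUnion.2 ⟨p, ⟨pD p, hpD p⟩, PrimeSpectrum.ext (hover p).over.symm⟩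
  haveI := fun i : s => het i.1
  haveI := fun i : s => hproj i.1
  haveI : Module.FaithfullyFlat A (∀ i : s, D i.1) := by
    haveI : Algebra.Etale A (∀ i : s, D i.1) := inferInstance
    refine Module.FaithfullyFlat.of_comap_surjective fun q => ?_
    obtain ⟨i, hi, Q, hQ⟩ := Set.mem_iUnion₂.1 (hs (Set.mem_univ q))
    refine ⟨PrimeSpectrum.comap (Pi.evalRingHom (fun i : s => D i.1) ⟨i, hi⟩) Q, ?_⟩
    rw [← hQ]
    rfl
  haveI := projective_pi_tensor (A := A) (fun i : s => D i.1) N
  exact Groth.L01.ProjDescent.projective (∀ i : s, D i.1)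

end Groth.L20.RG
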