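import Groth.Prelude.Def_FlatCA
import Groth.Agent.L02.SchDom.Content
import Groth.Agent.L02.SchDom.EssFree
import Groth.Agent.L26.AV.SmoothField
import Mathlib.AlgebraicGeometry.Geometrically.Integral
import Mathlib.Algebra.TrivSqZeroExt.Basic
import Mathlib.RingTheory.Nakayama

/-!
# Smooth algebras with geometrically integral fibres: content ideals and nonzerodivisors
-/

set_option autoImplicit false
set_option linter.style.haveILetI false
universe u

open TensorProduct IsLocalRing

noncomputable section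

namespace Groth.L20.RG

/-- All base changes to fields are domains. -/
def DomFib (A B : Type u) [CommRing A] [CommRing B] [Algebra A B] : Prop :=
  ∀ (K : Type u) [Field K] [Algebra A K], IsDomain (K ⊗[A] B)

variable {A B : Type u} [CommRing A] [CommRing B] [Algebra A B]

open AlgebraicGeometry CategoryTheory Limits in
theorem DomFib.of_geomIntegralFibres (h : FlatCA.GeomIntegralFibres A B) : DomFib A B := by
  intro K _ _
  let ψ := Spec.map (CommRingCat.ofHom (algebraMap A K))
  have hint : AlgebraicGeometry.IsIntegral (pullback (Spec.map (CommRingCat.ofHom (algebraMap A B))) ψ) :=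
    h.geometrically_isIntegral ψ _ _ (IsPullback.of_hasPullback _ _)
  haveI := hint
  let E := (pullbackSpecIso A K B).inv ≫ (pullbackSymmetry _ _).hom
  haveI : Nonempty (Spec (CommRingCat.of (K ⊗[A] B))) := ⟨(asIso E).inv (Classical.arbitrary _)⟩
  haveI : AlgebraicGeometry.IsIntegral (Spec (CommRingCat.of (K ⊗[A] B))) := isIntegral_of_isOpenImmersion E
  exact (affine_isIntegral_iff _).1 this

open AlgebraicGeometry CategoryTheory Limits in
theorem geomIntegralFibres_of_smooth [Algebra.Smooth A B] (h : FlatCA.GeomIrredFibres A B) :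
    FlatCA.GeomIntegralFibres A B := by
  haveI := h
  haveI : Smooth (Spec.map (CommRingCat.ofHom (algebraMap A B))) := by
    rw [HasRingHomProperty.Spec_iff (P := @Smooth), CommRingCat.hom_ofHom, RingHom.smooth_algebraMap]
    infer_instance
  haveI := Groth.Agent.AV.geometricallyReduced_of_smooth (Spec.map (CommRingCat.ofHom (algebraMap A B)))
  exact GeometricallyIntegral.of_geometricallyReduced_of_geometricallyIrreducible _

theorem DomFib.of_smooth_geomIrredFibres [Algebra.Smooth A B] (h : FlatCA.GeomIrredFibres A B) : DomFib A B :=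
  .of_geomIntegralFibres (geomIntegralFibres_of_smooth h)

theorem DomFib.baseChange (h : DomFib A B) (C : Type u) [CommRing C] [Algebra A C] : DomFib C (C ⊗[A] B) := by
  intro K _ _
  letI : Algebra A K := ((algebraMap C K).comp (algebraMap A C)).toAlgebra
  haveI : IsScalarTower A C K := IsScalarTower.of_algebraMap_eq' rfl
  haveI := h K
  exact (Algebra.TensorProduct.cancelBaseChange A C K K B).toRingEquiv.toMulEquiv.isDomain _

theorem DomFib.faithfullyFlat [Algebra.Smooth A B] (h : DomFib A B) : Module.FaithfullyFlat A B := by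
  refine Module.FaithfullyFlat.of_comap_surjective fun p => ?_
  haveI := h p.asIdeal.ResidueField
  haveI : Nontrivial (p.asIdeal.Fiber B) := inferInstanceAs (Nontrivial (p.asIdeal.ResidueField ⊗[A] B))
  obtain ⟨q⟩ : Nonempty (PrimeSpectrum (p.asIdeal.Fiber B)) := inferInstance
  exact ⟨_, (PrimeSpectrum.preimageEquivFiber A B p).symm q |>.2⟩

/-- **Content ideals.** -/
theorem exists_content [Algebra.Smooth A B] (h : DomFib A B) (s : Set B) :
    ∃ c : Ideal A, (s.Finite → c.FG) ∧ ∀ (R : Type u) [CommRing R] [Algebra A R],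
      (∀ x ∈ s, (1 : R) ⊗ₜ[A] x = 0) ↔ c ≤ RingHom.ker (algebraMap A R) := by
  classical
  haveI := h.faithfullyFlat
  have hB := h.baseChange B
  haveI : ∀ (K : Type u) [Field K] [Algebra B K], NoZeroDivisors (K ⊗[B] (B ⊗[A] B)) := fun K _ _ =>
    haveI := hB K
    IsDomain.to_noZeroDivisors _
  let s' : Set (B ⊗[A] B) := (fun x => (1 : B) ⊗ₜ x) '' s
  obtain ⟨c', hc'fg, hc'⟩ := Groth.L02.SchDom.exists_content (A := B) (B := B ⊗[A] B)
    (Algebra.TensorProduct.lift (Algebra.ofId B B) (AlgHom.id A B) fun _ _ => Commute.all _ _)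
    (fun K _ _ => this K) s'
  let P : ∀ (R : Type u) [CommRing R] [Algebra A R], Prop := fun R _ _ => ∀ x ∈ s, (1 : R) ⊗ₜ[A] x = 0
  have hmap : ∀ (R R' : Type u) [CommRing R] [Algebra A R] [CommRing R'] [Algebra A R'],
      (R →ₐ[A] R') → P R → P R' := by
    intro R R' _ _ _ _ f hR x hx
    have h1 := congrArg (Algebra.TensorProduct.map f (AlgHom.id A B)) (hR x hx)
    rwa [map_zero, Algebra.TensorProduct.map_tmul, map_one, AlgHom.id_apply] at h1
  have hdesc : ∀ (R : Type u) [CommRing R] [Algebra A R], P (R ⊗[A] B) → P R := by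
    intro R _ _ hR x hx
    let f : R →ₗ[A] R ⊗[A] B := (TensorProduct.comm A B R).toLinearMap ∘ₗ TensorProduct.mk A B R 1
    have hf : Function.Injective f :=
      (TensorProduct.comm A B R).injective.comp (Module.FaithfullyFlat.tensorProduct_mk_injective (A := A) (B := B) R)
    exact Module.Flat.rTensor_preserves_injective_linearMap (M := B) f hf
      (by rw [LinearMap.rTensor_tmul, map_zero]; exact hR x hx)
  have key : ∀ (R : Type u) [CommRing R] [Algebra A R] (β : B →ₐ[A] R), P R ↔ c' ≤ RingHom.ker β := by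
    intro R _ _ β
    letI : Algebra B R := β.toRingHom.toAlgebra
    haveI : IsScalarTower A B R := IsScalarTower.of_algebraMap_eq fun a => (β.commutes a).symm
    refine Iff.trans ?_ (hc' R)
    let e := Algebra.TensorProduct.cancelBaseChange A B R R B
    simp only [P, s', Set.forall_mem_image]
    refine forall₂_congr fun x _ => ?_
    rw [← e.injective.eq_iff (b := 0), map_zero]
    have : e ((1 : R) ⊗ₜ[B] ((1 : B) ⊗ₜ[A] x)) = (1 : R) ⊗ₜ[A] x := by
      rw [Algebra.TensorProduct.cancelBaseChange_tmul, one_smul]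
    rw [this]
  obtain ⟨c, hcfg, hc⟩ := Groth.L02.SchDom.exists_ideal_of_descent (B := A) B P hmap hdesc c' key
  exact ⟨c, fun hs => hcfg (hc'fg (hs.image _)), hc⟩

/-- An element nonzero on every fibre is universally a nonzerodivisor. -/
theorem mul_injective [Algebra.Smooth A B] (h : DomFib A B) {b : B}
    (hb : ∀ (K : Type u) [Field K] [Algebra A K], (1 : K) ⊗ₜ[A] b ≠ 0) :
    FlatCA.UnivInj A (LinearMap.mulLeft A b) := by
  intro Q _ _
  letI : Module Aᵐᵒᵖ Q := Module.compHom Q ((RingHom.id A).fromOpposite mul_comm)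
  haveI : IsCentralScalar A Q := ⟨fun r q => rfl⟩
  let R := TrivSqZeroExt A Q
  let inr : Q →ₗ[A] R := TrivSqZeroExt.inrHom A Q
  let pr : R →ₗ[A] Q := TrivSqZeroExt.sndHom A Q
  have hpr : pr ∘ₗ inr = LinearMap.id := LinearMap.ext fun q => rfl
  have hK : ∀ (K : Type u) [Field K] [Algebra A K],
      Function.Injective fun z : K ⊗[A] B => ((1 : K) ⊗ₜ b) * z := fun K _ _ z w hzw => by
    haveI := h K
    exact mul_left_cancel₀ (hb K) hzw
  have hR := Groth.L02.SchDom.mul_injective_of_fibres b hK R
  rw [injective_iff_map_eq_zero]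
  intro z hz
  have h1 : inr.rTensor B z = 0 := by
    refine hR ?_
    show ((1 : R) ⊗ₜ[A] b) * inr.rTensor B z = ((1 : R) ⊗ₜ[A] b) * 0
    rw [mul_zero, ← Groth.L02.SchDom.mulLeft_lTensor_apply, ← LinearMap.comp_apply, LinearMap.lTensor_comp_rTensor,
      ← LinearMap.rTensor_comp_lTensor, LinearMap.comp_apply, hz, map_zero]
  have := congrArg (pr.rTensor B) h1
  rwa [map_zero, ← LinearMap.rTensor_comp_apply, hpr, LinearMap.rTensor_id, LinearMap.id_apply] at this

/-- Over a local base, an element nonzero on the closed fibre is nonzero on all fibres. -/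
theorem one_tmul_ne_zero [Algebra.Smooth A B] [IsLocalRing A] (h : DomFib A B) {b : B}
    (hb : b ∉ (maximalIdeal A).map (algebraMap A B)) (K : Type u) [Field K] [Algebra A K] :
    (1 : K) ⊗ₜ[A] b ≠ 0 := by
  obtain ⟨c, -, hc⟩ := exists_content h ({b} : Set B)
  intro h0
  have h1 : c ≤ maximalIdeal A := by
    refine le_trans ((hc K).1 (by simpa using h0)) (le_maximalIdeal ?_)
    exact RingHom.ker_ne_top _
  have h2 := (hc (A ⧸ maximalIdeal A)).2 (by rwa [Ideal.Quotient.algebraMap_eq, Ideal.mk_ker]) b rfl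
  apply hb
  have h3 := congrArg (TensorProduct.quotTensorEquivQuotSMul B (maximalIdeal A)) h2
  rw [map_zero, ← map_one (Ideal.Quotient.mk (maximalIdeal A)), TensorProduct.quotTensorEquivQuotSMul_mk_tmul,
    one_smul, Submodule.Quotient.mk_eq_zero, Ideal.smul_top_eq_map] at h3
  exact h3

/-- The generic point of the closed fibre. -/
theorem isPrime_map_maximalIdeal [IsLocalRing A] (h : DomFib A B) :
    ((maximalIdeal A).map (algebraMap A B)).IsPrime := by
  letI := Ideal.Quotient.field (maximalIdeal A)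
  haveI := h (A ⧸ maximalIdeal A)
  let g : B →+* (A ⧸ maximalIdeal A) ⊗[A] B :=
    (Algebra.TensorProduct.includeRight : B →ₐ[A] (A ⧸ maximalIdeal A) ⊗[A] B).toRingHom
  have : (maximalIdeal A).map (algebraMap A B) = RingHom.ker g := by
    ext b
    rw [RingHom.mem_ker, ← (TensorProduct.quotTensorEquivQuotSMul B (maximalIdeal A)).map_eq_zero_iff]
    show _ ↔ TensorProduct.quotTensorEquivQuotSMul B (maximalIdeal A) (Ideal.Quotient.mk _ 1 ⊗ₜ[A] b) = 0
    rw [TensorProduct.quotTensorEquivQuotSMul_mk_tmul, one_smul, Submodule.Quotient.mk_eq_zero, Ideal.smul_top_eq_map]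
    rfl
  rw [this]
  exact RingHom.ker_isPrime g

/-- A family of elements lies in `c B` for its content `c`. -/
theorem mem_map_of_content {s : Set B} {c : Ideal A}
    (hc : ∀ (R : Type u) [CommRing R] [Algebra A R], (∀ x ∈ s, (1 : R) ⊗ₜ[A] x = 0) ↔ c ≤ RingHom.ker (algebraMap A R))
    {x : B} (hx : x ∈ s) : x ∈ c.map (algebraMap A B) := by
  have h2 := (hc (A ⧸ c)).2 (by rw [Ideal.Quotient.algebraMap_eq, Ideal.mk_ker]) x hx
  have h3 := congrArg (TensorProduct.quotTensorEquivQuotSMul B c) h2
  rw [map_zero, ← map_one (Ideal.Quotient.mk c), TensorProduct.quotTensorEquivQuotSMul_mk_tmul,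
    one_smul, Submodule.Quotient.mk_eq_zero, Ideal.smul_top_eq_map] at h3
  exact h3

/-- The Krull–content argument: a family whose multiples lie in `c 𝔪 B`, `c` its content, is zero. -/
theorem eq_zero_of_content [Algebra.Smooth A B] [IsLocalRing A] (h : DomFib A B) {s : Set B} (_hs : s.Finite)
    {c : Ideal A}
    (hc : ∀ (R : Type u) [CommRing R] [Algebra A R], (∀ x ∈ s, (1 : R) ⊗ₜ[A] x = 0) ↔ c ≤ RingHom.ker (algebraMap A R))
    (hcfg : c.FG) {t : B} (ht : t ∉ (maximalIdeal A).map (algebraMap A B))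
    (hts : ∀ x ∈ s, t * x ∈ (maximalIdeal A * c).map (algebraMap A B)) : ∀ x ∈ s, x = 0 := by
  have h1 : c ≤ maximalIdeal A * c := by
    suffices h' : c ≤ RingHom.ker (algebraMap A (A ⧸ (maximalIdeal A * c))) by
      rwa [Ideal.Quotient.algebraMap_eq, Ideal.mk_ker] at h'
    refine (hc (A ⧸ (maximalIdeal A * c))).1 fun x hx => ?_
    refine mul_injective h (one_tmul_ne_zero h ht) _ ?_
    rw [map_zero, LinearMap.lTensor_tmul, LinearMap.mulLeft_apply]
    refine (TensorProduct.quotTensorEquivQuotSMul B (maximalIdeal A * c)).injective ?_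
    rw [map_zero, ← map_one (Ideal.Quotient.mk (maximalIdeal A * c)), TensorProduct.quotTensorEquivQuotSMul_mk_tmul,
      one_smul, Submodule.Quotient.mk_eq_zero, Ideal.smul_top_eq_map]
    exact hts x hx
  have h0 : c = ⊥ := Submodule.eq_bot_of_le_smul_of_le_jacobson_bot (maximalIdeal A) c hcfg
    (by rw [smul_eq_mul]; exact h1) (maximalIdeal_le_jacobson ⊥)
  intro x hx
  have := mem_map_of_content hc hx
  rwa [h0, Ideal.map_bot, Ideal.mem_bot] at this

end Groth.L20.RG
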