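import Groth.Agent.L20.RG.FlatOpenFp
import Mathlib.RingTheory.Finiteness.Quotient

/-!
# Flat modules of finite type over bases with few weakly associated primes
-/

set_option autoImplicit false
set_option linter.style.haveILetI false
set_option backward.isDefEq.respectTransparency.types false
universe u

open TensorProduct

noncomputable section

namespace Groth.L20.RG

open Groth.L03.WeakAss

variable {R S : Type u} [CommRing R] [CommRing S] [Algebra R S]

/-- A finite type algebra is a quotient of a finitely presented one. -/
theorem exists_fp_cover [Algebra.FiniteType R S] :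
    ∃ (P : Type u) (_ : CommRing P) (_ : Algebra R P) (_ : Algebra P S) (_ : IsScalarTower R P S),
      Algebra.FinitePresentation R P ∧ Function.Surjective (algebraMap P S) := by
  obtain ⟨k, φ, hφ⟩ := Algebra.FiniteType.iff_quotient_mvPolynomial''.mp (inferInstance : Algebra.FiniteType R S)
  letI : Algebra (MvPolynomial (Fin k) R) S := φ.toRingHom.toAlgebra
  exact ⟨MvPolynomial (Fin k) R, inferInstance, inferInstance, inferInstance,
    IsScalarTower.of_algebraMap_eq' φ.comp_algebraMap.symm, inferInstance, hφ⟩

theorem finite_weakAss_domain [IsDomain R] : (FlatCA.weakAss R R).Finite := by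
  refine (Set.finite_singleton (⊥ : Ideal R)).subset fun p hp => ?_
  obtain ⟨x, hx⟩ := hp
  have hx0 : x ≠ 0 := by
    rintro rfl
    exact hx.isPrime.ne_top (top_le_iff.mp (le_trans (fun a _ => mem_annE.2 (smul_zero a)) hx.le))
  have : annE R x = ⊥ := le_bot_iff.mp fun a ha => by
    simpa [hx0] using mem_annE.1 ha
  rw [show (Submodule.span R {x}).annihilator = annE R x from rfl, this] at hx
  rw [Set.mem_singleton_iff]
  exact le_bot_iff.mp (hx.2 ⟨Ideal.isPrime_bot, le_rfl⟩ bot_le)

/-- Finite presentation descends to a quotient algebra. -/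
theorem fp_of_fp_cover {P : Type u} [CommRing P] [Algebra P S] (hs : Function.Surjective (algebraMap P S))
    (N : Type u) [AddCommGroup N] [Module S N] [Module P N] [IsScalarTower P S N] [Module.FinitePresentation P N] :
    Module.FinitePresentation S N := by
  obtain ⟨n, π, hπ⟩ := Module.Finite.exists_fin' P N
  obtain ⟨F, hF⟩ := Module.FinitePresentation.fg_ker π hπ
  let π' : (Fin n → S) →ₗ[S] N := Fintype.linearCombination S (fun i => π (Pi.single i 1))
  let red : (Fin n → P) →ₗ[P] (Fin n → S) := (Algebra.linearMap P S).compLeft (Fin n)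
  have hred : ∀ v, π' (red v) = π v := fun v => by
    conv_rhs => rw [pi_eq_sum_univ' v, map_sum]
    simp only [π', red, Fintype.linearCombination_apply]
    refine Finset.sum_congr rfl fun i _ => ?_
    rw [map_smul, ← algebraMap_smul S (v i)]
    rfl
  have hredsurj : Function.Surjective red := fun w => by
    choose v hv using fun i => hs (w i)
    exact ⟨v, funext fun i => hv i⟩
  refine Module.finitePresentation_of_surjective π' (fun y => ?_) ?_
  · obtain ⟨v, rfl⟩ := hπ y
    exact ⟨red v, hred v⟩
  · classical
    refine ⟨F.image red, le_antisymm (Submodule.span_le.mpr ?_) fun w hw => ?_⟩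
    · rintro _ hx
      obtain ⟨v, hv, rfl⟩ := Finset.mem_image.mp hx
      rw [SetLike.mem_coe, LinearMap.mem_ker, hred]
      exact hF.le (Submodule.subset_span hv)
    · obtain ⟨v, rfl⟩ := hredsurj w
      have hv : v ∈ Submodule.span P (F : Set (Fin n → P)) := hF.ge (by rw [LinearMap.mem_ker, ← hred]; exact hw)
      have h2 : red v ∈ (Submodule.span P (F : Set (Fin n → P))).map red := Submodule.mem_map_of_mem hv
      rw [Submodule.map_span, ← Finset.coe_image] at h2
      exact Submodule.span_le_restrictScalars P S _ h2

/-- Openness of the flat locus for algebras of finite type. -/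
theorem isOpen_flatLocus_ft [Algebra.FiniteType R S] (hR : (FlatCA.weakAss R R).Finite)
    (N : Type u) [AddCommGroup N] [Module S N] [Module R N] [IsScalarTower R S N] [Module.Finite S N] :
    IsOpen {q : PrimeSpectrum S | FlatCA.FlatAt R q.asIdeal N} := by
  obtain ⟨P, _, _, _, _, _, hs⟩ := exists_fp_cover (R := R) (S := S)
  letI : Module P N := Module.compHom N (algebraMap P S)
  haveI : IsScalarTower P S N := IsScalarTower.of_algebraMap_smul fun _ _ => rfl
  haveI : IsScalarTower R P N := IsScalarTower.of_algebraMap_smul fun r m => by
    show algebraMap P S (algebraMap R P r) • m = r • m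
    rw [← IsScalarTower.algebraMap_apply, algebraMap_smul]
  haveI : Module.Finite P S := Module.Finite.of_surjective (Algebra.linearMap P S) hs
  haveI : Module.Finite P N := Module.Finite.trans S N
  have := isOpen_flatLocus (R := R) (S := P) N fun q _ h => by
    obtain ⟨g, hg, -, hfl⟩ := exists_fp_flat_away hR N q h
    exact ⟨g, hg, hfl⟩
  convert this.preimage (PrimeSpectrum.continuous_comap (algebraMap P S)) using 1
  ext q
  exact (flatAt_iff_of_surjective hs N q.asIdeal).symm

/-- A finite module flat over a base with few weakly associated primes is finitely presented. -/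
theorem fp_of_flat [Algebra.FinitePresentation R S] (hR : (FlatCA.weakAss R R).Finite)
    (N : Type u) [AddCommGroup N] [Module S N] [Module R N] [IsScalarTower R S N] [Module.Finite S N] [Module.Flat R N] :
    Module.FinitePresentation S N := by
  have h := fun q : PrimeSpectrum S => exists_fp_flat_away hR N q.asIdeal
    (FibreCrit.flat_localizedModule_of_flat q.asIdeal.primeCompl)
  choose g hg hfp _ using h
  refine Module.FinitePresentation.of_localizationSpan (Set.range g) ?_ ?_
  · by_contra hne
    obtain ⟨m, hm, hle⟩ := Ideal.exists_le_maximal _ hne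
    exact hg ⟨m, hm.isPrime⟩ (hle (Ideal.subset_span ⟨⟨m, hm.isPrime⟩, rfl⟩))
  · rintro ⟨_, q, rfl⟩
    exact hfp q

/-- A finite module over a finite type algebra. -/
theorem fp_of_flat_ft [Algebra.FiniteType R S] (hR : (FlatCA.weakAss R R).Finite)
    (N : Type u) [AddCommGroup N] [Module S N] [Module R N] [IsScalarTower R S N] [Module.Finite S N] [Module.Flat R N] :
    Module.FinitePresentation S N := by
  obtain ⟨P, _, _, _, _, _, hs⟩ := exists_fp_cover (R := R) (S := S)
  letI : Module P N := Module.compHom N (algebraMap P S)
  haveI : IsScalarTower P S N := IsScalarTower.of_algebraMap_smul fun _ _ => rfl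
  haveI : IsScalarTower R P N := IsScalarTower.of_algebraMap_smul fun r m => by
    show algebraMap P S (algebraMap R P r) • m = r • m
    rw [← IsScalarTower.algebraMap_apply, algebraMap_smul]
  haveI : Module.Finite P S := Module.Finite.of_surjective (Algebra.linearMap P S) hs
  haveI : Module.Finite P N := Module.Finite.trans S N
  haveI := fp_of_flat (R := R) (S := P) hR N
  exact fp_of_fp_cover hs N

/-- A flat algebra of finite type is finitely presented. -/
theorem algebra_fp_of_flat [Algebra.FiniteType R S] [Module.Flat R S] (hR : (FlatCA.weakAss R R).Finite) :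
    Algebra.FinitePresentation R S := by
  obtain ⟨P, _, _, _, _, _, hs⟩ := exists_fp_cover (R := R) (S := S)
  haveI : Module.Finite P S := Module.Finite.of_surjective (Algebra.linearMap P S) hs
  haveI := fp_of_flat (R := R) (S := P) hR S
  refine Algebra.FinitePresentation.of_surjective (f := IsScalarTower.toAlgHom R P S) hs ?_
  exact Module.FinitePresentation.fg_ker (Algebra.linearMap P S) hs

/-- The flat locus of an algebra of finite type. -/
theorem exists_algebra_fp_flat_away [Algebra.FiniteType R S] (hR : (FlatCA.weakAss R R).Finite) (q : Ideal S) [q.IsPrime]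
    (h : FlatCA.FlatAt R q S) :
    ∃ g : S, g ∉ q ∧ Algebra.FinitePresentation R (Localization.Away g) ∧ Module.Flat R (Localization.Away g) := by
  obtain ⟨P, _, _, _, _, hP, hs⟩ := exists_fp_cover (R := R) (S := S)
  haveI := hP
  haveI : Module.Finite P S := Module.Finite.of_surjective (Algebra.linearMap P S) hs
  obtain ⟨g, hg, hfp, hfl⟩ := exists_fp_flat_away hR (S := P) S (q.comap (algebraMap P S))
    ((flatAt_iff_of_surjective hs S q).mpr h)
  let gb := algebraMap P S g
  refine ⟨gb, hg, ?_⟩
  let L := Localization.Away g
  let Sg := Localization.Away gb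
  haveI : IsScalarTower P S Sg := inferInstance
  haveI : IsScalarTower R P Sg := inferInstance
  have hu : IsUnit (algebraMap P Sg g) := by
    rw [IsScalarTower.algebraMap_apply P S Sg]
    exact IsLocalization.Away.algebraMap_isUnit gb
  letI : Algebra L Sg := (IsLocalization.Away.lift g hu).toAlgebra
  haveI : IsScalarTower P L Sg := IsScalarTower.of_algebraMap_eq fun x => (IsLocalization.Away.lift_eq g hu x).symm
  haveI : IsScalarTower R L Sg := IsScalarTower.of_algebraMap_eq fun r => by
    rw [IsScalarTower.algebraMap_apply R P Sg, IsScalarTower.algebraMap_apply R P L, ← IsScalarTower.algebraMap_apply P L Sg]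
  have hsub : Algebra.algebraMapSubmonoid S (Submonoid.powers g) = Submonoid.powers gb :=
    Submonoid.map_powers (algebraMap P S).toMonoidHom g
  haveI : IsLocalization (Algebra.algebraMapSubmonoid S (Submonoid.powers g)) Sg := by rw [hsub]; infer_instance
  haveI : IsLocalizedModule (Submonoid.powers g) (IsScalarTower.toAlgHom P S Sg).toLinearMap :=
    isLocalizedModule_iff_isLocalization.mpr inferInstance
  let e : LocalizedModule (Submonoid.powers g) S ≃ₗ[P] Sg :=
    IsLocalizedModule.iso (Submonoid.powers g) (IsScalarTower.toAlgHom P S Sg).toLinearMap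
  haveI := hfp
  haveI : Module.FinitePresentation L Sg :=
    Module.FinitePresentation.of_equiv (e.extendScalarsOfIsLocalization (Submonoid.powers g) L)
  have hsurj : Function.Surjective (algebraMap L Sg) := fun y => by
    obtain ⟨⟨s, ⟨_, k, rfl⟩⟩, hy⟩ := IsLocalization.surj (Submonoid.powers gb) y
    obtain ⟨x, rfl⟩ := hs s
    refine ⟨IsLocalization.mk' L x (⟨g ^ k, k, rfl⟩ : Submonoid.powers g), ?_⟩
    refine ((hu.pow k).mul_left_inj).mp ?_
    rw [← map_pow, IsScalarTower.algebraMap_apply P L Sg, ← map_mul, IsLocalization.mk'_spec,
      ← IsScalarTower.algebraMap_apply, ← IsScalarTower.algebraMap_apply, IsScalarTower.algebraMap_apply P S Sg (g ^ k),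
      IsScalarTower.algebraMap_apply P S Sg x, map_pow (algebraMap P S)]
    exact hy.symm
  haveI : Algebra.FinitePresentation R L := Algebra.FinitePresentation.trans R P L
  refine ⟨Algebra.FinitePresentation.of_surjective (f := IsScalarTower.toAlgHom R L Sg) hsurj
    (Module.FinitePresentation.fg_ker (Algebra.linearMap L Sg) hsurj), ?_⟩
  haveI := hfl
  exact Module.Flat.of_linearEquiv (e.restrictScalars R).symm

end Groth.L20.RG
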