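import Groth.Agent.L20.RG.AssCover

/-!
# Tensor products of flat modules and associated primes of the closed fibre
-/

set_option autoImplicit false
set_option linter.style.haveILetI false
set_option backward.isDefEq.respectTransparency.types false
universe u

open TensorProduct IsLocalRing

noncomputable section

namespace Groth.L20.RG

open Groth.L03.WeakAss

/-- Modules over a localisation: denominators act invertibly. -/
theorem isUnit_end_of_isLocalization {S B : Type u} [CommRing S] [CommRing B] [Algebra S B] (T : Submonoid S) [IsLocalization T B]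
    (M : Type u) [AddCommGroup M] [Module B M] [Module S M] [IsScalarTower S B M] (t : T) :
    IsUnit (algebraMap S (Module.End S M) t) := by
  obtain ⟨c, hc⟩ := IsLocalization.map_units B t
  refine (Module.End.isUnit_iff _).mpr ⟨fun a b hab => ?_, fun a => ⟨(↑c⁻¹ : B) • a, ?_⟩⟩
  · have h : (c : B) • a = (c : B) • b := by rw [hc, algebraMap_smul, algebraMap_smul]; exact hab
    simpa [smul_smul] using congrArg ((↑c⁻¹ : B) • ·) h
  · show (t : S) • (↑c⁻¹ : B) • a = a
    rw [← algebraMap_smul B (t : S), ← hc, smul_smul, Units.mul_inv, one_smul]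

/-- A finite module over a localisation comes from a finite module. -/
theorem exists_finite_model_of_isLocalization {S B : Type u} [CommRing S] [CommRing B] [Algebra S B] (T : Submonoid S)
    [IsLocalization T B] (N : Type u) [AddCommGroup N] [Module B N] [Module S N] [IsScalarTower S B N] [Module.Finite B N] :
    ∃ N₀ : Submodule S N, Module.Finite S N₀ ∧ IsLocalizedModule T N₀.subtype := by
  classical
  obtain ⟨g, hg⟩ := (Module.Finite.fg_top : (⊤ : Submodule B N).FG)
  have hden : ∀ x : N, ∃ t : T, (t : S) • x ∈ Submodule.span S (g : Set N) := fun x => by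
    induction (hg ▸ Submodule.mem_top : x ∈ Submodule.span B (g : Set N)) using Submodule.span_induction with
    | mem x hx => exact ⟨1, by rw [OneMemClass.coe_one, one_smul]; exact Submodule.subset_span hx⟩
    | zero => exact ⟨1, by rw [smul_zero]; exact zero_mem _⟩
    | add x y _ _ hx hy =>
      obtain ⟨a, ha⟩ := hx
      obtain ⟨b, hb⟩ := hy
      refine ⟨a * b, ?_⟩
      rw [Submonoid.coe_mul, smul_add, mul_smul, mul_smul, smul_comm (a : S) (b : S) x]
      exact add_mem (Submodule.smul_mem _ _ ha) (Submodule.smul_mem _ _ hb)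
    | smul c x _ hx =>
      obtain ⟨a, ha⟩ := hx
      obtain ⟨⟨n, d⟩, hd⟩ := IsLocalization.surj T c
      simp only at hd
      refine ⟨a * d, ?_⟩
      rw [Submonoid.coe_mul, mul_smul, show (d : S) • c • x = n • x by
        rw [← algebraMap_smul B (d : S), smul_smul, mul_comm, hd, algebraMap_smul], smul_comm]
      exact Submodule.smul_mem _ n ha
  exact ⟨_, Module.Finite.span_of_finite S g.finite_toSet, IsLocalizedModule.mk
    (fun t => isUnit_end_of_isLocalization (B := B) T N t)
    (fun y => ⟨⟨⟨_, (hden y).choose_spec⟩, (hden y).choose⟩, rfl⟩)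
    (fun h => ⟨1, congrArg _ (Subtype.ext h)⟩)⟩

variable {R S : Type u} [CommRing R] [IsLocalRing R] [CommRing S] [IsLocalRing S] [Algebra R S]
  [IsLocalHom (algebraMap R S)]

set_option maxHeartbeats 1000000 in
/-- The annihilator of a non-zero element of a tensor product with a flat module is contained in an associated prime of
the closed fibre. -/
theorem exists_ass_closedFibre_ge (hS : Algebra.EssFiniteType R S) (N : Type u) [AddCommGroup N] [Module S N] [Module R N]
    [IsScalarTower R S N] [Module.Finite S N] [Module.Flat R N] {M : Type u} [AddCommGroup M] [Module R M]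
    {z : N ⊗[R] M} (hz : z ≠ 0) :
    ∃ P ∈ associatedPrimes S (FlatCA.fiberMod (maximalIdeal R) S N), annE S z ≤ P := by
  classical
  obtain ⟨S₀, _, _, _, _, _, T, hloc⟩ : ∃ (S₀ : Type u) (_ : CommRing S₀) (_ : Algebra R S₀) (_ : Algebra S₀ S)
      (_ : IsScalarTower R S₀ S) (_ : Algebra.FiniteType R S₀) (T : Submonoid S₀), IsLocalization T S :=
    ⟨Algebra.EssFiniteType.subalgebra R S, inferInstance, inferInstance, inferInstance, inferInstance, inferInstance,
      Algebra.EssFiniteType.submonoid R S, Algebra.EssFiniteType.isLocalization R S⟩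
  haveI := hloc
  let m := maximalIdeal R
  let q : Ideal S₀ := (maximalIdeal S).comap (algebraMap S₀ S)
  haveI hq : IsLocalization q.primeCompl S := IsLocalization.of_le T q.primeCompl
    (fun t ht (h : algebraMap S₀ S t ∈ maximalIdeal S) => h (IsLocalization.map_units S (⟨t, ht⟩ : T)))
    (fun t (ht : algebraMap S₀ S t ∉ maximalIdeal S) => not_not.mp ht)
  haveI : q.LiesOver m := ⟨by
    rw [Ideal.under, Ideal.comap_comap, ← IsScalarTower.algebraMap_eq]
    exact (((local_hom_TFAE (algebraMap R S)).out 0 4 rfl rfl).mp ‹IsLocalHom (algebraMap R S)› :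
      (maximalIdeal S).comap (algebraMap R S) = maximalIdeal R).symm⟩
  letI : Module S₀ N := Module.compHom N (algebraMap S₀ S)
  haveI : IsScalarTower S₀ S N := IsScalarTower.of_algebraMap_smul fun _ _ => rfl
  haveI : IsScalarTower R S₀ N := IsScalarTower.of_algebraMap_smul fun a x => by
    rw [← algebraMap_smul S (algebraMap R S₀ a) x, ← IsScalarTower.algebraMap_apply, algebraMap_smul]
  obtain ⟨N₀, hfin, hN₀⟩ := exists_finite_model_of_isLocalization q.primeCompl (B := S) N
  haveI := hfin
  haveI := hN₀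
  have hflat₀ : FlatCA.FlatAt R q N₀ :=
    Module.Flat.of_linearEquiv ((IsLocalizedModule.iso q.primeCompl N₀.subtype).restrictScalars R)
  let F := AlgebraTensorModule.rTensor R M N₀.subtype
  obtain ⟨⟨z₀, t⟩, htz⟩ := IsLocalizedModule.surj q.primeCompl F z
  simp only at htz
  have hle : annE S₀ z₀ ≤ q := fun s hs => by
    by_contra hsq
    refine hz (IsLocalizedModule.smul_injective F ((⟨s, hsq⟩ : q.primeCompl) * t) ?_)
    show (⟨s, hsq⟩ * t : q.primeCompl) • z = (⟨s, hsq⟩ * t : q.primeCompl) • 0
    rw [smul_zero, mul_smul, htz, Submonoid.smul_def, ← map_smul, mem_annE.1 hs, map_zero]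
  obtain ⟨P, hP, hPq⟩ := Ideal.exists_minimalPrimes_le hle
  obtain ⟨P₀, hP₀, hPP₀, hP₀q⟩ := exists_le_weakAss_fibre N₀ M m q hflat₀ ⟨z₀, hP⟩ hPq
  haveI := isPrime_of_mem_weakAss hP₀
  haveI := liesOver_of_mem_weakAss_fibre m N₀ hP₀
  obtain ⟨y₀, hy₀⟩ := (Groth.L20.fiberIdeal_mem_associatedPrimes_iff m N₀ P₀).mp
    ((fiberIdeal_mem_ass_iff_weakAss m N₀ P₀).mpr hP₀)
  let G := AlgebraTensorModule.rTensor R m.ResidueField N₀.subtype
  let e := fiberModEquiv m S N
  let w := e.symm (G y₀)
  have hdisj : Disjoint (q.primeCompl : Set S₀) (P₀ : Set S₀) :=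
    Set.disjoint_left.mpr fun s hs hs' => hs (hP₀q hs')
  have hPS := IsLocalization.isPrime_of_isPrime_disjoint q.primeCompl S P₀ inferInstance hdisj
  have hmem : ∀ c : S, c ∈ P₀.map (algebraMap S₀ S) ↔ ∀ a : S₀, ∀ d : q.primeCompl, c * algebraMap S₀ S d = algebraMap S₀ S a → a ∈ P₀ :=
    fun c => by
      constructor
      · intro hc a d h
        rw [← IsLocalization.under_map_of_isPrime_disjoint q.primeCompl S (inferInstance : P₀.IsPrime) hdisj]
        exact Ideal.mem_comap.mpr (h ▸ Ideal.mul_mem_right _ _ hc)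
      · intro h
        obtain ⟨⟨a, d⟩, had⟩ := IsLocalization.surj q.primeCompl c
        exact ((Ideal.unit_mul_mem_iff_mem _ (IsLocalization.map_units S d)).mp
          (by rw [mul_comm, had]; exact Ideal.mem_map_of_mem _ (h a d had)))
  refine ⟨P₀.map (algebraMap S₀ S), ⟨hPS, w, ?_⟩, fun c hc => (hmem c).2 fun a d had => ?_⟩
  · ext c
    rw [Ideal.mem_radical_iff]
    simp only [Submodule.mem_colon_singleton, Submodule.mem_bot]
    obtain ⟨⟨a, d⟩, had⟩ := IsLocalization.surj q.primeCompl c
    simp only at had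
    have hpow : ∀ k : ℕ, c ^ k • w = 0 ↔ G (a ^ k • y₀) = 0 := fun k => by
      rw [show c ^ k • w = e.symm (c ^ k • G y₀) from (map_smul e.symm _ _).symm, LinearEquiv.map_eq_zero_iff, map_smul,
        ← algebraMap_smul S (a ^ k) (G y₀), map_pow, ← had, mul_pow, mul_comm, mul_smul]
      exact ⟨fun h => by rw [h, smul_zero], fun h => ((IsLocalization.map_units S d).pow k).smul_eq_zero.mp h⟩
    simp only [hpow]
    constructor
    · intro hc
      obtain ⟨k, hk⟩ := (hy₀ a).1 ((hmem c).1 hc a d had)
      exact ⟨k, by rw [hk, map_zero]⟩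
    · rintro ⟨k, hk⟩
      obtain ⟨s, hs⟩ := (IsLocalizedModule.eq_zero_iff q.primeCompl G).mp hk
      rw [Submonoid.smul_def, ← mul_smul] at hs
      refine (hmem c).2 fun a' d' h' => ?_
      have hsa : (s : S₀) * a ∈ P₀ := (hy₀ _).2 ⟨k + 1, by
        rw [mul_pow, show (s : S₀) ^ (k + 1) * a ^ (k + 1) = (s : S₀) ^ k * a * ((s : S₀) * a ^ k) by ring, mul_smul, hs,
          smul_zero]⟩
      have ha : a ∈ P₀ := ((Ideal.IsPrime.mem_or_mem ‹P₀.IsPrime›) hsa).resolve_left fun h => s.2 (hP₀q h)
      exact (hmem c).1 ((hmem c).2 fun a'' d'' h'' => by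
        have hx : algebraMap S₀ S (a'' * d) = algebraMap S₀ S (a * d'') := by
          rw [map_mul, map_mul, ← h'', ← had]; ring
        obtain ⟨u, hu⟩ := IsLocalization.exists_of_eq (M := q.primeCompl) hx
        have : (u : S₀) * (a'' * d) ∈ P₀ := hu ▸ P₀.mul_mem_left _ (P₀.mul_mem_right _ ha)
        exact (((Ideal.IsPrime.mem_or_mem ‹P₀.IsPrime›) (((Ideal.IsPrime.mem_or_mem ‹P₀.IsPrime›) this).resolve_left
          fun h => u.2 (hP₀q h)))).resolve_right fun h => d.2 (hP₀q h)) a' d' h'
  · have h1 : a • F z₀ = 0 := by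
      rw [← htz, Submonoid.smul_def, smul_comm, ← algebraMap_smul S a z, ← had, mul_comm, mul_smul, mem_annE.1 hc,
        smul_zero, smul_zero]
    rw [← map_smul] at h1
    obtain ⟨s, hs⟩ := (IsLocalizedModule.eq_zero_iff q.primeCompl F).mp h1
    rw [Submonoid.smul_def, ← mul_smul] at hs
    exact hPP₀ (((Ideal.IsPrime.mem_or_mem hP.1.1) (hP.1.2 (mem_annE.2 hs))).resolve_left fun h => s.2 (hPq h))

end Groth.L20.RG
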