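import Groth.Agent.L20.RG.InjModFlat
import Groth.Agent.L20.RG.ClosedFibreAss
import Groth.Agent.L01.MLDescent
import Groth.Agent.L20.WeaklyEtaleStalk
import Groth.Agent.L05.HensTensor.WEHens
import Groth.Agent.L01.ProjML

/-!
# Flat modules essentially of finite type over henselian local rings are Mittag-Leffler
-/

set_option autoImplicit false
set_option linter.style.haveILetI false
set_option backward.isDefEq.respectTransparency.types false
universe u

open TensorProduct IsLocalRing

noncomputable section

namespace Groth.L20.RG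

/-- A universally injective map into a Mittag-Leffler module. -/
theorem isMittagLeffler_of_univInj {R M N : Type u} [CommRing R] [AddCommGroup M] [Module R M] [AddCommGroup N] [Module R N]
    (f : M →ₗ[R] N) (hf : FlatCA.UnivInj R f) (h : CAlg.IsMittagLeffler R N) : CAlg.IsMittagLeffler R M :=
  Groth.L02.isMittagLeffler_of_universallyInjective f (fun Q _ _ => (LinearMap.lTensor_inj_iff_rTensor_inj _ _).mp (hf Q)) h

/-- Universally exact extensions of Mittag-Leffler modules. -/
theorem isMittagLeffler_of_univExact {R F L Q : Type u} [CommRing R] [AddCommGroup F] [Module R F] [AddCommGroup L]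
    [Module R L] [AddCommGroup Q] [Module R Q] (a : F →ₗ[R] L) (β : L →ₗ[R] Q) (hex : Function.Exact a β)
    (hβ : Function.Surjective β) (ha : FlatCA.UnivInj R a) (hF : CAlg.IsMittagLeffler R F)
    (hQ : CAlg.IsMittagLeffler R Q) : CAlg.IsMittagLeffler R L := by
  intro ι X _ _
  refine (injective_iff_map_eq_zero _).mpr fun z hz => ?_
  have hnat : ∀ {U V : Type u} [AddCommGroup U] [Module R U] [AddCommGroup V] [Module R V] (φ : U →ₗ[R] V)
      (w : U ⊗[R] ∀ i, X i) (i : ι),
      TensorProduct.piRightHom R R V X (φ.rTensor _ w) i = φ.rTensor (X i) (TensorProduct.piRightHom R R U X w i) := by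
    intro U V _ _ _ _ φ w i
    induction w using TensorProduct.induction_on with
    | zero => simp
    | add x y hx hy => simp only [map_add, Pi.add_apply, hx, hy]
    | tmul n x => simp
  have h1 : β.rTensor _ z = 0 := hQ ι X (by
    rw [map_zero]
    funext i
    rw [hnat, hz, Pi.zero_apply, map_zero, Pi.zero_apply])
  obtain ⟨w, rfl⟩ := (rTensor_exact _ hex hβ z).1 h1
  rw [hF ι X (show TensorProduct.piRightHom R R F X w = TensorProduct.piRightHom R R F X 0 by
    rw [map_zero]
    funext i
    refine (univInj_iff_rTensor _).mp ha (X i) ?_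
    rw [Pi.zero_apply, map_zero, ← hnat, hz, Pi.zero_apply]), map_zero]

/-- The localisation of a projective module at universally regular scalars. -/
theorem isMittagLeffler_localized {R D F FT : Type u} [CommRing R] [CommRing D] [Algebra R D] [AddCommGroup F] [Module D F]
    [Module R F] [IsScalarTower R D F] [Module.Projective R F] [AddCommGroup FT] [Module D FT] [Module R FT]
    [IsScalarTower R D FT] (T : Submonoid D) (fF : F →ₗ[D] FT) [IsLocalizedModule T fF]
    (hreg : ∀ t ∈ T, FlatCA.UnivInj R ((LinearMap.lsmul D F t).restrictScalars R)) : CAlg.IsMittagLeffler R FT := by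
  intro ι Q _ _
  refine (injective_iff_map_eq_zero _).mpr fun z hz => ?_
  let FF := AlgebraTensorModule.rTensor R (∀ i, Q i) fF
  obtain ⟨⟨z₀, s⟩, hs⟩ := IsLocalizedModule.surj T FF z
  simp only at hs
  have hcomm : ∀ (i : ι) (w : F ⊗[R] ∀ i, Q i), TensorProduct.piRightHom R R FT Q (FF w) i =
      AlgebraTensorModule.rTensor R (Q i) fF (TensorProduct.piRightHom R R F Q w i) := fun i w => by
    induction w using TensorProduct.induction_on with
    | zero => simp
    | add a b ha hb => simp only [map_add, Pi.add_apply, ha, hb]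
    | tmul n x => simp [FF]
  have hsm : ∀ (i : ι) (c : D) (w : FT ⊗[R] ∀ i, Q i),
      TensorProduct.piRightHom R R FT Q (c • w) i = c • TensorProduct.piRightHom R R FT Q w i := fun i c w => by
    induction w using TensorProduct.induction_on with
    | zero => simp
    | add a b ha hb => simp only [smul_add, map_add, Pi.add_apply, ha, hb]
    | tmul n x => simp [TensorProduct.smul_tmul']
  have h1 : z₀ = 0 := by
    refine Groth.L01.ProjML.isMittagLeffler_of_projective (R := R) (M := F) ι Q ?_
    rw [map_zero]
    funext i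
    have h2 : AlgebraTensorModule.rTensor R (Q i) fF (TensorProduct.piRightHom R R F Q z₀ i) = 0 := by
      rw [← hcomm, ← hs, Submonoid.smul_def, hsm, hz, Pi.zero_apply, smul_zero]
    obtain ⟨c, hc⟩ := (IsLocalizedModule.eq_zero_iff T (AlgebraTensorModule.rTensor R (Q i) fF)).mp h2
    refine (univInj_iff_rTensor _).mp (hreg c c.2) (Q i) ?_
    rw [Pi.zero_apply, map_zero, ← Groth.L20.smul_eq_rTensor]
    exact hc
  refine IsLocalizedModule.smul_injective FF s ?_
  show s • z = s • 0
  rw [smul_zero, hs, h1, map_zero]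

variable {R : Type u} [CommRing R] [IsLocalRing R]
variable {S : Type u} [CommRing S] [Algebra R S] {N : Type u} [AddCommGroup N] [Module S N] [Module R N]
  [IsScalarTower R S N]

set_option maxHeartbeats 1000000 in
/-- **The Mittag-Leffler property along a dévissage.** -/
theorem isMittagLeffler_of_dev (D : FlatCA.CompleteDevissage R S N (maximalIdeal R)) {q : Ideal S} [q.IsPrime]
    (E : FlatCA.CompleteDevissageAt R S N (maximalIdeal R) q D) [Module.Flat R (LocalizedModule q.primeCompl N)] :
    CAlg.IsMittagLeffler R (LocalizedModule q.primeCompl N) := by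
  have hqB := E.hqB
  have hqA := E.hqA
  have hoverA := E.overA
  have hoverB := E.overB
  haveI := fun i => isScalarTower_base D i
  haveI := isScalarTower_zero D
  haveI := fun i => isScalarTower_succ D i
  let L := fun i => LocalizedModule (E.qA i).primeCompl (D.M i)
  let f := fun i => LocalizedModule.mkLinearMap (E.qA i).primeCompl (D.M i)
  have hlocB : ∀ i, i < D.n → IsLocalizedModule (E.qB i).primeCompl ((f i).restrictScalars (D.B i)) := fun i hi => by
    haveI := D.finiteBA i hi
    haveI : Algebra.IsIntegral (D.B i) (D.A i) := Algebra.IsIntegral.of_finite _ _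
    refine isLocalizedModule_restrict _ (E.qA i).primeCompl _ (fun t ht h => ht ((Ideal.mem_of_liesOver (E.qA i) (E.qB i) t).mpr h))
      fun s hs => ?_
    exact exists_notMem_dvd (E.qB i) (E.qA i) (fun Q hQ hQl => E.uniq i hi Q hQl) hs
  have hmain : ∀ i, i < D.n → Module.Flat R (L i) → CAlg.IsMittagLeffler R (L i) := by
    have haux : ∀ i (hi : i < D.n), Module.Flat R (L i) →
        CAlg.IsMittagLeffler R (LocalizedModule (E.qB i).primeCompl (Fin (D.r i) → D.B i)) ∧
        FlatCA.UnivInj R (haveI := hlocB i hi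
          (IsLocalizedModule.map (E.qB i).primeCompl (LocalizedModule.mkLinearMap (E.qB i).primeCompl (Fin (D.r i) → D.B i))
            ((f i).restrictScalars (D.B i)) (D.α i)).restrictScalars R) := by
      intro i hi hflat
      haveI := hflat
      haveI := hlocB i hi
      haveI := D.smooth i hi
      have hdom := DomFib.of_smooth_geomIrredFibres (D.geomIrred i hi)
      haveI := hdom.projective
      haveI := D.hp i
      have hle : (maximalIdeal R).map (algebraMap R (D.B i)) ≤ E.qB i :=
        Ideal.map_le_iff_le_comap.mpr (Ideal.LiesOver.over (P := E.qB i) (p := maximalIdeal R)).le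
      haveI : Module.Projective R (Fin (D.r i) → D.B i) :=
        Module.Projective.of_equiv (DFinsupp.linearEquivFunOnFintype (R := R) (M := fun _ : Fin (D.r i) => D.B i))
      haveI : Module.Free R (Fin (D.r i) → D.B i) := Groth.L01.free_of_projective _
      have hreg : ∀ t ∈ (E.qB i).primeCompl, FlatCA.UnivInj R ((LinearMap.lsmul (D.B i) (Fin (D.r i) → D.B i) t).restrictScalars R) :=
        fun t ht => univInj_lsmul_pi t (mul_injective hdom fun K _ _ => one_tmul_ne_zero hdom (fun h => ht (hle h)) K)
      refine ⟨isMittagLeffler_localized (E.qB i).primeCompl (LocalizedModule.mkLinearMap (E.qB i).primeCompl _) hreg, ?_⟩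
      have := univInj_of_injMod_localized (E.qB i).primeCompl (LocalizedModule.mkLinearMap (E.qB i).primeCompl _)
        (univInj_localization (E.qB i).primeCompl _ hreg) ((IsLocalizedModule.map (E.qB i).primeCompl
          (LocalizedModule.mkLinearMap (E.qB i).primeCompl (Fin (D.r i) → D.B i))
          ((f i).restrictScalars (D.B i)) (D.α i)).restrictScalars R)
        (injMod_localized_free (D.α i) _ (E.qB i) rfl hle (D.fibreIso i hi) ((f i).restrictScalars (D.B i)))
      exact this
    refine descending (n := D.n) (P := fun i => Module.Flat R (L i) → CAlg.IsMittagLeffler R (L i)) ?_ ?_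
    · intro hflat
      have hn := Nat.sub_lt D.pos one_pos
      haveI := hlocB _ hn
      obtain ⟨hml, hw⟩ := haux _ hn hflat
      refine isMittagLeffler_of_univExact _ (0 : L (D.n - 1) →ₗ[R] PUnit.{u + 1}) ?_ (fun y => ⟨0, Subsingleton.elim _ _⟩) hw hml
        fun ι Q _ _ a b _ => Subsingleton.elim _ _
      intro y
      refine ⟨fun _ => ?_, fun _ => rfl⟩
      exact IsLocalizedModule.map_surjective (E.qB (D.n - 1)).primeCompl _ _ _ D.cokerLast y
    · intro i hi ih hflat
      have hin : i < D.n := by omega
      haveI := hlocB i hin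
      obtain ⟨hml, hw⟩ := haux i hin hflat
      haveI := hflat
      let fnext : D.M (i + 1) →ₗ[D.A (i + 1)] L (i + 1) := f (i + 1)
      haveI : IsScalarTower (D.B i) (D.A (i + 1)) (L (i + 1)) := inferInstance
      haveI : IsScalarTower R (D.B i) (L (i + 1)) := inferInstance
      haveI hlocN : IsLocalizedModule (E.qB i).primeCompl (fnext.restrictScalars (D.B i)) := by
        refine isLocalizedModule_restrict _ (E.qA (i + 1)).primeCompl _ (fun t ht h => ht ?_) fun s hs => ?_
        · rw [← E.qStep i hi]; exact h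
        · obtain ⟨t, rfl⟩ := D.surjBA' i hi s
          exact ⟨t, fun h => hs (by rw [← E.qStep i hi] at h; exact h), dvd_rfl⟩
      let fQ : (D.M i ⧸ LinearMap.range (D.α i)) →ₗ[D.B i] L (i + 1) :=
        (fnext.restrictScalars (D.B i)) ∘ₗ (D.isoCoker i hi).toLinearMap
      haveI : IsLocalizedModule (E.qB i).primeCompl fQ :=
        IsLocalizedModule.of_linearEquiv_right (E.qB i).primeCompl (fnext.restrictScalars (D.B i)) (D.isoCoker i hi)
      let fP := LocalizedModule.mkLinearMap (E.qB i).primeCompl (Fin (D.r i) → D.B i)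
      have hex := IsLocalizedModule.map_exact (E.qB i).primeCompl fP ((f i).restrictScalars (D.B i)) fQ (D.α i) _
          (D.α i).exact_map_mkQ_range
      have hsurj := IsLocalizedModule.map_surjective (E.qB i).primeCompl ((f i).restrictScalars (D.B i)) fQ
        (LinearMap.range (D.α i)).mkQ (Submodule.mkQ_surjective _)
      let aR := (IsLocalizedModule.map (E.qB i).primeCompl fP ((f i).restrictScalars (D.B i)) (D.α i)).restrictScalars R
      let bR := (IsLocalizedModule.map (E.qB i).primeCompl ((f i).restrictScalars (D.B i)) fQ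
          (LinearMap.range (D.α i)).mkQ).restrictScalars R
      refine isMittagLeffler_of_univExact aR bR hex hsurj hw hml (ih ?_)
      haveI := flat_quotient_range_of_lTensor_injective aR fun I => hw (R ⧸ I)
      exact Module.Flat.of_linearEquiv ((Submodule.quotEquivOfEq _ _ (LinearMap.exact_iff.mp (show Function.Exact aR bR from hex)).symm).trans
        (bR.quotKerEquivOfSurjective hsurj)).symm
  -- the first step
  haveI : IsScalarTower S (D.A 0) (L 0) := inferInstance
  haveI : IsScalarTower R S (L 0) := inferInstance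
  haveI hloc0 : IsLocalizedModule q.primeCompl ((f 0).restrictScalars S) := by
    refine isLocalizedModule_restrict _ (E.qA 0).primeCompl _ (fun t ht h => ht ?_) fun s hs => ?_
    · rw [← E.q0]; exact h
    · obtain ⟨t, rfl⟩ := D.surjSA s
      exact ⟨t, fun h => hs (by rw [← E.q0] at h; exact h), dvd_rfl⟩
  let g : N →ₗ[S] L 0 := ((f 0).restrictScalars S) ∘ₗ D.isoN.toLinearMap
  haveI : IsLocalizedModule q.primeCompl g :=
    IsLocalizedModule.of_linearEquiv_right q.primeCompl ((f 0).restrictScalars S) D.isoN
  let e : LocalizedModule q.primeCompl N ≃ₗ[R] L 0 := (IsLocalizedModule.iso q.primeCompl g).restrictScalars R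
  exact isMittagLeffler_of_univInj e.toLinearMap (fun Q _ _ => (e.lTensor Q).injective)
    (hmain 0 D.pos (Module.Flat.of_linearEquiv e.symm))

end Groth.L20.RG

namespace Groth.L20.RG

/-- Base change along an isomorphism of rings. -/
theorem exists_equiv_of_bijective {A A₁ M : Type u} [CommRing A] [CommRing A₁] [Algebra A A₁] [AddCommGroup M]
    [Module A₁ M] [Module A M] [IsScalarTower A A₁ M] (hb : Function.Bijective (algebraMap A A₁)) :
    Nonempty (A₁ ⊗[A] M ≃ₗ[A₁] M) := by
  let φ : A₁ ⊗[A] M →ₗ[A₁] M := LinearMap.liftBaseChange A₁ (LinearMap.id : M →ₗ[A] M)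
  have hone : ∀ w : A₁ ⊗[A] M, w = (1 : A₁) ⊗ₜ[A] φ w := fun w => by
    induction w using TensorProduct.induction_on with
    | zero => simp
    | add x y hx hy => rw [map_add, TensorProduct.tmul_add, ← hx, ← hy]
    | tmul c m =>
      obtain ⟨a, rfl⟩ := hb.2 c
      simp only [φ, LinearMap.liftBaseChange_tmul, LinearMap.id_apply, algebraMap_smul]
      rw [TensorProduct.tmul_smul, TensorProduct.smul_tmul', Algebra.smul_def, mul_one]
  exact ⟨LinearEquiv.ofBijective φ ⟨fun x y hxy => by rw [hone x, hone y, hxy], fun m => ⟨(1 : A₁) ⊗ₜ m, by simp [φ]⟩⟩⟩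

/-- Over an isomorphic ring. -/
theorem isMittagLeffler_of_bijective {A A₁ M : Type u} [CommRing A] [CommRing A₁] [Algebra A A₁] [AddCommGroup M]
    [Module A₁ M] [Module A M] [IsScalarTower A A₁ M] (hb : Function.Bijective (algebraMap A A₁))
    (h : CAlg.IsMittagLeffler A₁ M) : CAlg.IsMittagLeffler A M := by
  haveI : Module.FaithfullyFlat A A₁ := Module.FaithfullyFlat.of_linearEquiv A A
    (LinearEquiv.ofBijective (Algebra.linearMap A A₁) hb).symm
  refine Groth.L01.MLDescent.isMittagLeffler (S := A₁) ?_
  obtain ⟨e⟩ := exists_equiv_of_bijective (M := M) hb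
  exact isMittagLeffler_of_univInj e.toLinearMap (fun Q _ _ => (e.lTensor Q).injective) h

/-- A localisation of an étale algebra with the same residue field is the henselian base. -/
theorem bijective_algebraMap_atPrime {A R' : Type u} [CommRing A] [HenselianLocalRing A] [CommRing R'] [Algebra A R']
    [Algebra.Etale A R'] (p' : Ideal R') [p'.IsPrime] (h : TrivRes A (maximalIdeal A) p') :
    Function.Bijective (algebraMap A (Localization.AtPrime p')) := by
  let A₁ := Localization.AtPrime p'
  have h1 : TrivRes A (maximalIdeal A) (maximalIdeal A₁) := h.trans (trivRes_atPrime p')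
  obtain ⟨hover, hbij⟩ := h1
  haveI := hover
  haveI : IsLocalHom (algebraMap A A₁) :=
    ((local_hom_TFAE (algebraMap A A₁)).out 0 4 rfl rfl).mpr (Ideal.over_def (maximalIdeal A₁) (maximalIdeal A)).symm
  haveI : Algebra.WeaklyEtale R' A₁ := Groth.L20.weaklyEtale_isLocalization p'.primeCompl A₁
  haveI : Algebra.WeaklyEtale A A₁ := Algebra.WeaklyEtale.trans A R' A₁
  refine Groth.L05.HensTensor.bijective_algebraMap A A₁ fun b => ?_
  obtain ⟨x, hx⟩ := hbij.2 (algebraMap A₁ (maximalIdeal A₁).ResidueField b)
  obtain ⟨a, rfl⟩ := Ideal.algebraMap_residueField_surjective (maximalIdeal A) x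
  refine ⟨a, ?_⟩
  rw [← Ideal.algebraMap_residueField_eq_zero (I := maximalIdeal A₁), map_sub, sub_eq_zero, ← hx,
    ← IsScalarTower.algebraMap_apply, AlgHom.commutes]

set_option maxHeartbeats 1000000 in
/-- **Flat modules embed universally into Mittag-Leffler modules over an étale neighbourhood.** -/
theorem exists_ml_cover {A S : Type u} [CommRing A] [IsLocalRing A] [CommRing S] [Algebra A S]
    [Algebra.FiniteType A S] (q : Ideal S) [q.IsPrime] [q.LiesOver (maximalIdeal A)]
    (N₀ : Type u) [AddCommGroup N₀] [Module S N₀] [Module A N₀] [IsScalarTower A S N₀] [Module.Finite S N₀]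
    (hflat : FlatCA.FlatAt A q N₀) (hq : (⟨q, inferInstance⟩ : PrimeSpectrum S) ∈ Module.support S N₀) :
    ∃ (R' : Type u) (_ : CommRing R') (_ : Algebra A R') (p' : Ideal R') (_ : p'.IsPrime)
      (N' : Type u) (_ : AddCommGroup N') (_ : Module (Localization.AtPrime p') N') (_ : Module A N')
      (_ : IsScalarTower A (Localization.AtPrime p') N') (g : LocalizedModule q.primeCompl N₀ →ₗ[A] N'),
      FlatCA.IsEtaleNhd A R' (maximalIdeal A) p' ∧ Module.Flat (Localization.AtPrime p') N' ∧
        CAlg.IsMittagLeffler (Localization.AtPrime p') N' ∧ FlatCA.UnivInj A g := by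
  classical
  obtain ⟨R', S', _, _, _, _, _, _, _, _, p', q', _, _, hp, hq', hqp, H⟩ := exists_hasDev N₀ (maximalIdeal A) q hq
  haveI := hp.1
  haveI := hp.2.1
  haveI := hq'.1
  haveI := hqp
  haveI := hq'.2.1
  obtain ⟨f, hf, Hf⟩ := (H (S' ⊗[S] N₀) (TensorProduct.mk S S' N₀ 1) (TensorProduct.isBaseChange S N₀ S')).exists_complete
  let A₁ := Localization.AtPrime p'
  obtain ⟨C, _, _, _, _, _, _, hpush⟩ : ∃ (C : Type u) (_ : CommRing C) (_ : Algebra A₁ C) (_ : Algebra S' C)
      (_ : Algebra R' C) (_ : IsScalarTower R' A₁ C) (_ : IsScalarTower R' S' C), Algebra.IsPushout R' A₁ S' C := by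
    letI : Algebra S' (A₁ ⊗[R'] S') := Algebra.TensorProduct.rightAlgebra
    haveI : IsScalarTower R' S' (A₁ ⊗[R'] S') := Algebra.TensorProduct.right_isScalarTower
    exact ⟨A₁ ⊗[R'] S', inferInstance, inferInstance, inferInstance, inferInstance, inferInstance, inferInstance,
      inferInstance⟩
  haveI := hpush
  obtain ⟨Qc, _, hQp, hQq, -⟩ :=
    exists_point_of_isPushout (B := R') (A := S') (B' := A₁) (A' := C) p' q' (maximalIdeal A₁) (trivRes_atPrime p')
  haveI := hQp
  haveI hpush' : Algebra.IsPushout R' S' A₁ C := Algebra.IsPushout.symm hpush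
  haveI : Module.Flat R' A₁ := IsLocalization.flat A₁ p'.primeCompl
  haveI : Module.Flat S' C := Module.Flat.isBaseChange R' S' A₁ C hpush'.out
  haveI : Module.Flat S S' := Algebra.Smooth.flat S S'
  letI : Algebra S C := ((algebraMap S' C).comp (algebraMap S S')).toAlgebra
  haveI : IsScalarTower S S' C := IsScalarTower.of_algebraMap_eq' rfl
  letI : Algebra A C := ((algebraMap A₁ C).comp (algebraMap A A₁)).toAlgebra
  haveI : IsScalarTower A A₁ C := IsScalarTower.of_algebraMap_eq' rfl
  haveI : IsScalarTower A S C := IsScalarTower.of_algebraMap_eq fun r => by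
    rw [IsScalarTower.algebraMap_apply A A₁ C, IsScalarTower.algebraMap_apply A R' A₁,
      ← IsScalarTower.algebraMap_apply R' A₁ C, IsScalarTower.algebraMap_apply R' S' C,
      ← IsScalarTower.algebraMap_apply A R' S', IsScalarTower.algebraMap_apply S S' C,
      ← IsScalarTower.algebraMap_apply A S S']
  haveI : Module.Flat S C := Module.Flat.trans S S' C
  let C' := Localization.AtPrime Qc
  haveI : Module.Flat C C' := IsLocalization.flat C' Qc.primeCompl
  haveI : Module.Flat S C' := Module.Flat.trans S C C'
  haveI : SMulCommClass S A₁ C := ⟨fun s a c => by simp only [Algebra.smul_def]; ring⟩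
  haveI : SMulCommClass S A₁ C' := ⟨fun s a c => by simp only [Algebra.smul_def]; ring⟩
  haveI : SMulCommClass S A C' := ⟨fun s a c => by simp only [Algebra.smul_def]; ring⟩
  haveI : IsScalarTower A₁ C' (C' ⊗[S] N₀) := TensorProduct.isScalarTower_left
  haveI : IsScalarTower A A₁ C' := IsScalarTower.of_algebraMap_eq fun r => by
    rw [IsScalarTower.algebraMap_apply A C C', IsScalarTower.algebraMap_apply A A₁ C,
      ← IsScalarTower.algebraMap_apply A₁ C C']
  haveI : IsScalarTower A A₁ (C' ⊗[S] N₀) := TensorProduct.isScalarTower_left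
  have hTu : ∀ t ∈ q.primeCompl, IsUnit (algebraMap S C' t) := fun t ht => by
    rw [IsScalarTower.algebraMap_apply S C C']
    refine IsLocalization.map_units C' (⟨algebraMap S C t, fun h => ?_⟩ : Qc.primeCompl)
    rw [IsScalarTower.algebraMap_apply S S' C] at h
    exact ht ((Ideal.mem_of_liesOver q' q t).mpr ((Ideal.mem_of_liesOver Qc q' _).mpr h))
  -- flatness
  let fN := LocalizedModule.mkLinearMap q.primeCompl N₀
  have hunit : ∀ t : q.primeCompl, IsUnit (algebraMap S (Module.End S (C' ⊗[S] N₀)) t) := fun t => by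
    obtain ⟨c, hc⟩ := hTu t t.2
    refine (Module.End.isUnit_iff _).mpr ⟨fun a b hab => ?_, fun a => ⟨(↑c⁻¹ : C') • a, ?_⟩⟩
    · have h : (c : C') • a = (c : C') • b := by rw [hc, algebraMap_smul, algebraMap_smul]; exact hab
      simpa [smul_smul] using congrArg ((↑c⁻¹ : C') • ·) h
    · show (t : S) • (↑c⁻¹ : C') • a = a
      rw [← algebraMap_smul C' (t : S), ← hc, smul_smul, Units.mul_inv, one_smul]
  let g := IsLocalizedModule.lift q.primeCompl fN (TensorProduct.mk S C' N₀ 1) hunit
  let G : C' ⊗[S] LocalizedModule q.primeCompl N₀ →ₗ[C'] C' ⊗[S] N₀ := LinearMap.liftBaseChange C' g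
  have hG : ∀ w : C' ⊗[S] N₀, G (fN.baseChange C' w) = w := fun w => by
    induction w using TensorProduct.induction_on with
    | zero => simp
    | add a b ha hb => rw [map_add, map_add, ha, hb]
    | tmul c n =>
      simp only [G, LinearMap.baseChange_tmul, LinearMap.liftBaseChange_tmul]
      rw [show g (fN n) = (1 : C') ⊗ₜ[S] n from IsLocalizedModule.lift_apply q.primeCompl fN _ hunit n,
        TensorProduct.smul_tmul', smul_eq_mul, mul_one]
  haveI : Module.Flat A (LocalizedModule q.primeCompl N₀) := hflat
  haveI : Module.Flat A (C' ⊗[S] LocalizedModule q.primeCompl N₀) := flat_tensor_of_flat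
  haveI : Module.Flat A (C' ⊗[S] N₀) :=
    Module.Flat.of_retract ((fN.baseChange C').restrictScalars A) (G.restrictScalars A) (LinearMap.ext hG)
  haveI : Module.Flat A₁ (C' ⊗[S] N₀) := by
    haveI : SMulCommClass S R' C' := ⟨fun s a c => by simp only [Algebra.smul_def]; ring⟩
    haveI : IsScalarTower R' C' (C' ⊗[S] N₀) := TensorProduct.isScalarTower_left
    haveI : IsScalarTower R' A₁ (C' ⊗[S] N₀) := IsScalarTower.of_algebraMap_smul fun r x => by
      rw [← algebraMap_smul C' (algebraMap R' A₁ r) x, ← IsScalarTower.algebraMap_apply, algebraMap_smul]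
    haveI : IsScalarTower A R' (C' ⊗[S] N₀) := IsScalarTower.of_algebraMap_smul fun a x => by
      rw [← algebraMap_smul A₁ (algebraMap A R' a) x, ← IsScalarTower.algebraMap_apply, algebraMap_smul]
    haveI : Module.Flat R' (C' ⊗[S] N₀) := (flat_iff_of_etale (R := A) (R' := R')).mp inferInstance
    exact (Module.flat_iff_of_isLocalization A₁ p'.primeCompl _).mpr inferInstance
  obtain ⟨Nc, _, _, _, _, _, _, gN, hgN⟩ : ∃ (Nc : Type u) (_ : AddCommGroup Nc) (_ : Module C Nc) (_ : Module S Nc)
      (_ : IsScalarTower S C Nc) (_ : Module A₁ Nc) (_ : IsScalarTower A₁ C Nc) (gN : N₀ →ₗ[S] Nc), IsBaseChange C gN := by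
    haveI : IsScalarTower A₁ C (C ⊗[S] N₀) := TensorProduct.isScalarTower_left
    exact ⟨C ⊗[S] N₀, inferInstance, inferInstance, inferInstance, inferInstance, inferInstance, inferInstance,
      TensorProduct.mk S C N₀ 1, TensorProduct.isBaseChange S N₀ C⟩
  letI : Module S' Nc := Module.compHom Nc (algebraMap S' C)
  haveI : IsScalarTower S' C Nc := IsScalarTower.of_algebraMap_smul fun _ _ => rfl
  haveI : IsScalarTower S S' Nc := IsScalarTower.of_algebraMap_smul fun s m => by
    show algebraMap S' C (algebraMap S S' s) • m = s • m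
    rw [← IsScalarTower.algebraMap_apply, algebraMap_smul]
  let eN : LocalizedModule Qc.primeCompl Nc ≃ₗ[C'] C' ⊗[S] N₀ :=
    ((IsLocalizedModule.isBaseChange Qc.primeCompl C' (LocalizedModule.mkLinearMap Qc.primeCompl Nc)).equiv.symm.trans
      (AlgebraTensorModule.congr (LinearEquiv.refl C' C') hgN.equiv.symm)).trans
      (AlgebraTensorModule.cancelBaseChange S C C' C' N₀)
  obtain ⟨D, hD⟩ := Hf A₁ (maximalIdeal A₁) (trivRes_atPrime p')
    (IsLocalization.map_units A₁ (⟨f, hf⟩ : p'.primeCompl)) C Nc
    ((TensorProduct.isBaseChange S N₀ S').lift gN)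
    (IsBaseChange.of_comp (TensorProduct.isBaseChange S N₀ S') (by
      rw [(TensorProduct.isBaseChange S N₀ S').lift_comp]; exact hgN)) Qc hQq.over.symm
  obtain ⟨E⟩ := hD
  haveI : Module.Flat A₁ (LocalizedModule Qc.primeCompl Nc) := Module.Flat.of_linearEquiv (eN.restrictScalars A₁)
  have hML₁ : CAlg.IsMittagLeffler A₁ (C' ⊗[S] N₀) :=
    isMittagLeffler_of_univInj (eN.restrictScalars A₁).symm.toLinearMap
      (fun Q _ _ => ((eN.restrictScalars A₁).symm.lTensor Q).injective) (isMittagLeffler_of_dev D E)
  -- descent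
  refine ⟨R', inferInstance, inferInstance, p', inferInstance, C' ⊗[S] N₀, inferInstance, inferInstance, inferInstance,
    inferInstance, g.restrictScalars A, hp, inferInstance, hML₁, ?_⟩
  rw [univInj_iff_rTensor]
  intro X _ _
  refine (injective_iff_map_eq_zero _).mpr fun z hz => ?_
  let FN := AlgebraTensorModule.rTensor A X fN
  obtain ⟨⟨z₀, s⟩, hs⟩ := IsLocalizedModule.surj q.primeCompl FN z
  simp only at hs
  let Φ := (AlgebraTensorModule.assoc A S S C' N₀ X).restrictScalars A
  have key : ∀ z : N₀ ⊗[A] X, Φ ((g.restrictScalars A).rTensor X (FN z)) = (1 : C') ⊗ₜ[S] z := fun z => by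
    induction z using TensorProduct.induction_on with
    | zero => simp
    | add a b ha hb => simp only [map_add, TensorProduct.tmul_add, ha, hb]
    | tmul n x =>
      show Φ (g (fN n) ⊗ₜ[A] x) = _
      rw [show g (fN n) = (1 : C') ⊗ₜ[S] n from IsLocalizedModule.lift_apply q.primeCompl fN _ hunit n]
      rfl
  have h1 : (1 : C') ⊗ₜ[S] z₀ = 0 := by
    rw [← key, ← hs, Submonoid.smul_def, show (g.restrictScalars A).rTensor X ((s : S) • z) =
      (s : S) • (g.restrictScalars A).rTensor X z from map_smul (AlgebraTensorModule.rTensor A X g) (s : S) z, hz,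
      smul_zero, map_zero]
  obtain ⟨t, ht, htz⟩ : ∃ t ∉ q, t • z₀ = 0 := by
    by_contra! hne
    refine one_tmul_ne_zero_of_le (S := S) (maximalIdeal C') (fun t ht => Ideal.mem_comap.mpr ?_) h1
    have htq : t ∈ q := by
      by_contra htq
      exact hne t htq (Groth.L03.WeakAss.mem_annE.1 ht)
    rw [IsScalarTower.algebraMap_apply S C C', IsLocalization.AtPrime.to_map_mem_maximal_iff C' Qc,
      IsScalarTower.algebraMap_apply S S' C]
    exact (Ideal.mem_of_liesOver Qc q' _).mp ((Ideal.mem_of_liesOver q' q t).mp htq)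
  refine IsLocalizedModule.smul_injective FN (⟨t, ht⟩ * s) ?_
  show (⟨t, ht⟩ * s : q.primeCompl) • z = (⟨t, ht⟩ * s : q.primeCompl) • 0
  rw [smul_zero, mul_smul, hs, Submonoid.smul_def, ← map_smul, htz, map_zero]

/-- **Flat modules over henselian local rings are Mittag-Leffler.** -/
theorem isMittagLeffler_of_henselian {A S : Type u} [CommRing A] [HenselianLocalRing A] [CommRing S] [Algebra A S]
    [Algebra.FiniteType A S] (q : Ideal S) [q.IsPrime] [q.LiesOver (maximalIdeal A)]
    (N₀ : Type u) [AddCommGroup N₀] [Module S N₀] [Module A N₀] [IsScalarTower A S N₀] [Module.Finite S N₀]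
    (hflat : FlatCA.FlatAt A q N₀) : CAlg.IsMittagLeffler A (LocalizedModule q.primeCompl N₀) := by
  by_cases hq : (⟨q, inferInstance⟩ : PrimeSpectrum S) ∈ Module.support S N₀
  swap
  · haveI : Subsingleton (LocalizedModule q.primeCompl N₀) := Module.notMem_support_iff.mp hq
    exact fun ι Q _ _ a b _ => Subsingleton.elim a b
  obtain ⟨R', _, _, p', _, N', _, _, _, _, g, hp, _, hML, hg⟩ := exists_ml_cover q N₀ hflat hq
  haveI := hp.1
  exact isMittagLeffler_of_univInj g hg
    (isMittagLeffler_of_bijective (bijective_algebraMap_atPrime p' (show TrivRes A (maximalIdeal A) p' from hp.2)) hML)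

end Groth.L20.RG
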