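import Groth.Agent.L20.RG.FlatPtsChain
import Groth.Agent.L20.RG.HenselML
import Groth.Agent.L20.FlatLocusOpen
import Groth.Agent.L07.FlatStage
import Mathlib.RingTheory.Flat.Localization

/-!
# The flat locus over a henselian local ring is cut out by an ideal
-/

set_option autoImplicit false
set_option linter.style.haveILetI false
set_option backward.isDefEq.respectTransparency.types false
universe u

open TensorProduct IsLocalRing

noncomputable section

namespace Groth.L20.RG

theorem flatPts_of_notMem_support {R S N : Type u} [CommRing R] [CommRing S] [Algebra R S] [AddCommGroup N]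
    [Module S N] (q : Ideal S) [q.IsPrime] (hq : (⟨q, inferInstance⟩ : PrimeSpectrum S) ∉ Module.support S N)
    (R' : Type u) [CommRing R'] [IsLocalRing R'] [Algebra R R'] : FlatPts R S N q R' := by
  intro S' N' _ _ _ _ _ _ _ _ _ _ _ _ _ f hf Q _ _ hQq
  haveI : Subsingleton (LocalizedModule q.primeCompl N) := Module.notMem_support_iff.mp hq
  have h0 : ∀ x : N', LocalizedModule.mkLinearMap Q.primeCompl N' x = 0 := fun x => by
    induction x using hf.inductionOn with
    | zero => exact map_zero _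
    | smul a x hx => rw [map_smul, hx, smul_zero]
    | add a b ha hb => rw [map_add, ha, hb, add_zero]
    | tmul n =>
      obtain ⟨t, ht⟩ := (IsLocalizedModule.eq_zero_iff q.primeCompl (LocalizedModule.mkLinearMap q.primeCompl N)).mp
        (Subsingleton.elim (LocalizedModule.mkLinearMap q.primeCompl N n) 0)
      refine (IsLocalizedModule.eq_zero_iff Q.primeCompl _).mpr ⟨⟨algebraMap S S' t, fun h => t.2 ?_⟩, ?_⟩
      · rw [SetLike.mem_coe, ← Ideal.mem_comap, hQq] at h
        exact h
      · rw [Submonoid.smul_def, algebraMap_smul, ← map_smul, show (t : S) • n = 0 from ht, map_zero]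
  haveI : Subsingleton (LocalizedModule Q.primeCompl N') := ⟨fun a b => by
    have hz : ∀ a : LocalizedModule Q.primeCompl N', a = 0 := fun a => by
      obtain ⟨⟨m, s⟩, hs⟩ := IsLocalizedModule.surj Q.primeCompl (LocalizedModule.mkLinearMap Q.primeCompl N') a
      refine IsLocalizedModule.smul_injective (LocalizedModule.mkLinearMap Q.primeCompl N') s ?_
      show s • a = s • 0
      rw [smul_zero, hs, h0]
    rw [hz a, hz b]⟩
  infer_instance

/-- A module flat at every prime is flat. -/
theorem flat_of_forall_prime {R S M : Type u} [CommRing R] [CommRing S] [Algebra R S] [AddCommGroup M] [Module S M]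
    [Module R M] [IsScalarTower R S M]
    (h : ∀ (Q : Ideal S) [Q.IsPrime], Module.Flat R (LocalizedModule Q.primeCompl M)) : Module.Flat R M := by
  have h1 := (flat_away_iff (R := R) (M := M) (1 : S)).mpr fun Q _ _ => h Q
  let f := LocalizedModule.mkLinearMap (Submonoid.powers (1 : S)) M
  have hs : ∀ t ∈ Submonoid.powers (1 : S), t = 1 := fun t ⟨n, hn⟩ => by rw [← hn]; exact one_pow n
  have hb : Function.Bijective f := by
    refine ⟨(injective_iff_map_eq_zero _).mpr fun x hx => ?_, fun y => ?_⟩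
    · obtain ⟨⟨t, ht⟩, htx⟩ := (IsLocalizedModule.eq_zero_iff (Submonoid.powers (1 : S)) f).mp hx
      rw [Submonoid.smul_def] at htx
      simpa [hs t ht] using htx
    · obtain ⟨⟨x, ⟨t, ht⟩⟩, hx⟩ := IsLocalizedModule.surj (Submonoid.powers (1 : S)) f y
      rw [Submonoid.smul_def] at hx
      simp only [hs t ht, one_smul] at hx
      exact ⟨x, hx.symm⟩
  haveI := h1
  exact Module.Flat.of_linearEquiv (LinearEquiv.ofBijective (f.restrictScalars R) hb)

section FG

variable {A S : Type u} [CommRing A] [IsLocalRing A] [CommRing S] [Algebra A S] [Algebra.FinitePresentation A S]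
  (q : Ideal S) [q.IsPrime] (hq : q.comap (algebraMap A S) = maximalIdeal A)
  (N : Type u) [AddCommGroup N] [Module S N] [Module A N] [IsScalarTower A S N] [Module.FinitePresentation S N]

set_option maxHeartbeats 1000000 in
include hq in
/-- The ideal is finitely generated in the finitely presented case. -/
theorem fg_of_flatPts_iff (I : Ideal A)
    (hI : ∀ (R' : Type u) [CommRing R'] [IsLocalRing R'] [Algebra A R'] [IsLocalHom (algebraMap A R')],
      FlatPts A S N q R' ↔ I ≤ RingHom.ker (algebraMap A R')) : I.FG := by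
  classical
  have hIm : I ≤ maximalIdeal A := by
    haveI : IsLocalHom (algebraMap A (ResidueField A)) := inferInstanceAs (IsLocalHom (IsLocalRing.residue A))
    have := (hI (ResidueField A)).mp fun D' M' _ _ _ _ _ _ _ _ _ _ _ _ _ f hf Q _ _ _ => inferInstance
    exact this.trans (IsLocalRing.ker_residue (R := A)).le
  have hloc : ∀ J : Ideal A, J ≤ maximalIdeal A → ∃ _ : IsLocalRing (A ⧸ J),
      IsLocalHom (algebraMap A (A ⧸ J)) ∧ (maximalIdeal (A ⧸ J)).comap (algebraMap A (A ⧸ J)) = maximalIdeal A := by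
    intro J hJ
    haveI : Nontrivial (A ⧸ J) := Ideal.Quotient.nontrivial_iff.mpr fun h =>
      (maximalIdeal.isMaximal A).ne_top (top_le_iff.mp (h ▸ hJ))
    haveI : IsLocalRing (A ⧸ J) := IsLocalRing.of_surjective' (Ideal.Quotient.mk J) Ideal.Quotient.mk_surjective
    have h2 : (maximalIdeal (A ⧸ J)).comap (algebraMap A (A ⧸ J)) = maximalIdeal A :=
      IsLocalRing.eq_maximalIdeal (Ideal.comap_isMaximal_of_surjective _ Ideal.Quotient.mk_surjective)
    exact ⟨inferInstance, ((local_hom_TFAE (algebraMap A (A ⧸ J))).out 0 4 rfl rfl).mpr h2, h2⟩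
  obtain ⟨_, hh2, hc2⟩ := hloc I hIm
  haveI := hh2
  let A₂ := A ⧸ I
  obtain ⟨S₂, N₂, _, _, _, _, _, _, hpush₂, _, _, _, _, _, _, f₂, hf₂⟩ := exists_baseChange_model A S N A₂
  haveI : Module.FinitePresentation S₂ N₂ := Module.FinitePresentation.of_equiv hf₂.equiv
  haveI : Algebra.FinitePresentation A₂ S₂ := Algebra.FinitePresentation.equiv (Algebra.IsPushout.equiv A A₂ S S₂)
  obtain ⟨Q₂, _, hQm, hQq⟩ := exists_prime_of_isPushout (R := A) (R' := A₂) (D := S) (D' := S₂) (maximalIdeal A₂) q
    (by rw [hc2, hq])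
  haveI := (hI A₂).mpr (Ideal.mk_ker (I := I)).ge S₂ N₂ f₂ hf₂ Q₂ hQm hQq
  obtain ⟨g, hg, hflat⟩ := Groth.L20.exists_flat_away (R := A₂) (M := N₂) Q₂.primeCompl
  obtain ⟨s, rfl⟩ := surjective_of_isPushout (R := A) (R' := A₂) (D := S) (D' := S₂) Ideal.Quotient.mk_surjective g
  have hsq : s ∉ q := fun h => hg (by rw [← hQq] at h; exact h)
  let C := Localization.Away s
  haveI : Module.Flat S C := IsLocalization.flat C (Submonoid.powers s)
  haveI : Algebra.FinitePresentation A C :=
    Algebra.FinitePresentation.trans A S C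
  let Ns := C ⊗[S] N
  haveI : Module.FinitePresentation C Ns := inferInstance
  haveI : IsScalarTower A C Ns := TensorProduct.isScalarTower_left
  have hg0 : IsBaseChange C (TensorProduct.mk S C N 1) := TensorProduct.isBaseChange S N C
  have hdisj : Disjoint (Submonoid.powers s : Set S) q :=
    Set.disjoint_left.mpr fun x ⟨n, hn⟩ hxq => hsq (Ideal.IsPrime.mem_of_pow_mem inferInstance n ((show s ^ n = x from hn) ▸ hxq))
  let z : Ideal C := q.map (algebraMap S C)
  haveI hz : z.IsPrime := IsLocalization.isPrime_of_isPrime_disjoint _ C q inferInstance hdisj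
  have hzq : z.comap (algebraMap S C) = q :=
    IsLocalization.under_map_of_isPrime_disjoint _ C inferInstance hdisj
  -- the base change to `A / I` of the basic open is flat
  obtain ⟨C₂, W₂, _, _, _, _, _, _, hpushC, _, _, _, _, _, _, g₂, hg₂⟩ := exists_baseChange_model A C Ns A₂
  letI : Algebra S C₂ := ((algebraMap C C₂).comp (algebraMap S C)).toAlgebra
  haveI : IsScalarTower S C C₂ := IsScalarTower.of_algebraMap_eq' rfl
  haveI : IsScalarTower A S C₂ := IsScalarTower.of_algebraMap_eq fun r => by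
    show algebraMap A C₂ r = algebraMap C C₂ (algebraMap S C (algebraMap A S r))
    rw [← IsScalarTower.algebraMap_apply A S C, ← IsScalarTower.algebraMap_apply A C C₂]
  letI : Module S W₂ := Module.compHom W₂ (algebraMap S C)
  haveI : IsScalarTower S C W₂ := IsScalarTower.of_algebraMap_smul fun _ _ => rfl
  haveI : IsScalarTower S C₂ W₂ := IsScalarTower.of_algebraMap_smul fun r w => by
    rw [IsScalarTower.algebraMap_apply S C C₂, algebraMap_smul, algebraMap_smul]
  let ψ : S₂ →ₐ[A] C₂ :=
    Algebra.pushoutDesc S₂ (IsScalarTower.toAlgHom A A₂ C₂) (IsScalarTower.toAlgHom A S C₂) fun _ _ => Commute.all _ _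
  letI : Algebra S₂ C₂ := ψ.toRingHom.toAlgebra
  haveI : IsScalarTower A₂ S₂ C₂ := IsScalarTower.of_algebraMap_eq fun x =>
    (Algebra.pushoutDesc_left S₂ (IsScalarTower.toAlgHom A A₂ C₂) (IsScalarTower.toAlgHom A S C₂) (fun _ _ => Commute.all _ _) x).symm
  haveI : IsScalarTower S S₂ C₂ := IsScalarTower.of_algebraMap_eq fun x =>
    (Algebra.pushoutDesc_right S₂ (IsScalarTower.toAlgHom A A₂ C₂) (IsScalarTower.toAlgHom A S C₂) (fun _ _ => Commute.all _ _) x).symm
  haveI : IsScalarTower A S₂ C₂ := IsScalarTower.of_algebraMap_eq fun x => (ψ.commutes x).symm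
  haveI : Module.Flat S₂ C₂ := by
    haveI : Algebra.IsPushout A S A₂ S₂ := Algebra.IsPushout.symm hpush₂
    haveI h' : Algebra.IsPushout A C A₂ C₂ := Algebra.IsPushout.symm hpushC
    haveI : Algebra.IsPushout S C S₂ C₂ := (Algebra.IsPushout.comp_iff A S A₂ S₂ (T := C) (T' := C₂)).mp h'
    exact Module.Flat.isBaseChange S S₂ C C₂ (Algebra.IsPushout.symm (inferInstance : Algebra.IsPushout S C S₂ C₂)).out
  letI : Module S₂ W₂ := Module.compHom W₂ (algebraMap S₂ C₂)
  haveI : IsScalarTower S₂ C₂ W₂ := IsScalarTower.of_algebraMap_smul fun _ _ => rfl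
  haveI : IsScalarTower S S₂ W₂ := IsScalarTower.of_algebraMap_smul fun d m => by
    show algebraMap S₂ C₂ (algebraMap S S₂ d) • m = d • m
    rw [← IsScalarTower.algebraMap_apply, algebraMap_smul]
  haveI : IsScalarTower A₂ S₂ W₂ := IsScalarTower.of_algebraMap_smul fun r m => by
    show algebraMap S₂ C₂ (algebraMap A₂ S₂ r) • m = r • m
    rw [← IsScalarTower.algebraMap_apply, algebraMap_smul]
  let g₀ : N →ₗ[S] W₂ := (g₂.restrictScalars S) ∘ₗ TensorProduct.mk S C N 1
  let G : N₂ →ₗ[S₂] W₂ := hf₂.lift g₀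
  have hG : IsBaseChange C₂ G := IsBaseChange.of_comp hf₂ (by rw [hf₂.lift_comp]; exact hg0.comp hg₂)
  haveI : IsScalarTower A₂ C₂ W₂ := inferInstance
  haveI : Module.Flat A₂ W₂ := by
    refine flat_of_forall_prime (S := C₂) fun P _ => ?_
    have hns : algebraMap S S₂ s ∉ P.comap (algebraMap S₂ C₂) := fun h => by
      rw [Ideal.mem_comap, ← IsScalarTower.algebraMap_apply, IsScalarTower.algebraMap_apply S C C₂] at h
      exact (inferInstance : P.IsPrime).ne_top
        (Ideal.eq_top_of_isUnit_mem _ h ((IsLocalization.Away.algebraMap_isUnit s).map _))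
    haveI : Module.Flat A₂ (LocalizedModule (P.comap (algebraMap S₂ C₂)).primeCompl N₂) :=
      (flat_away_iff _).mp hflat _ hns
    exact Groth.L20.AboveClosed.flat_of_flat_below G hG P
  -- descend to a stage
  letI : Module A W₂ := Module.compHom W₂ (algebraMap A A₂)
  haveI : IsScalarTower A A₂ W₂ := IsScalarTower.of_algebraMap_smul fun _ _ => rfl
  haveI : IsScalarTower A C W₂ := IsScalarTower.of_algebraMap_smul fun a w => by
    show algebraMap A C a • w = algebraMap A A₂ a • w
    rw [← algebraMap_smul C₂ (algebraMap A C a) w, ← IsScalarTower.algebraMap_apply,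
      IsScalarTower.algebraMap_apply A A₂ C₂, algebraMap_smul]
  have hW : IsBaseChange A₂ (g₂.restrictScalars A) := by
    haveI : Algebra.IsPushout A C A₂ C₂ := Algebra.IsPushout.symm hpushC
    exact Groth.L20.isBaseChange_restrictScalars hg₂
  obtain ⟨d, n, R, hRn, K, ⟨e⟩⟩ := Groth.L07.FlatDescent.exists_model A (B₀ := C) Ns
  haveI : IsNoetherianRing R := hRn
  obtain ⟨e₂⟩ := Groth.L07.FlatDescent.exists_modelEquiv K e A₂
  haveI : Module.Flat A₂ (Groth.L07.FlatDescent.MC A₂ K) :=
    Module.Flat.of_linearEquiv (e₂.symm.trans hW.equiv)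
  let ι := {c : Ideal A // c.FG ∧ c ≤ I}
  let G' : ι → Type u := fun c => A ⧸ c.1
  let φ : ∀ i j : ι, i ≤ j → G' i →+* G' j := fun i j h => Ideal.Quotient.factor h
  letI aGA : ∀ i : ι, Algebra (G' i) A₂ := fun i => (Ideal.Quotient.factor i.2.2).toAlgebra
  haveI : ∀ i : ι, IsScalarTower R (G' i) A₂ := fun i => IsScalarTower.of_algebraMap_eq fun r => rfl
  have hcolim : FlatCA.IsDirectedColimitRing G' φ A₂ := by
    refine ⟨⟨fun a b => ⟨⟨a.1 ⊔ b.1, Submodule.FG.sup a.2.1 b.2.1, sup_le a.2.2 b.2.2⟩,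
      show a.1 ≤ a.1 ⊔ b.1 from le_sup_left, show b.1 ≤ a.1 ⊔ b.1 from le_sup_right⟩⟩,
      ⟨⟨⊥, Submodule.fg_bot, bot_le⟩⟩, fun i => RingHom.ext fun x => ?_, fun i j k hij hjk => RingHom.ext fun x => ?_,
      fun i j h => RingHom.ext fun x => ?_, fun a => ?_, fun i x hx => ?_⟩
    · obtain ⟨a, rfl⟩ := Ideal.Quotient.mk_surjective x; rfl
    · obtain ⟨a, rfl⟩ := Ideal.Quotient.mk_surjective x; rfl
    · obtain ⟨a, rfl⟩ := Ideal.Quotient.mk_surjective x; rfl
    · obtain ⟨a, rfl⟩ := Ideal.Quotient.mk_surjective a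
      exact ⟨⟨⊥, Submodule.fg_bot, bot_le⟩, Ideal.Quotient.mk _ a, rfl⟩
    · obtain ⟨a, rfl⟩ := Ideal.Quotient.mk_surjective x
      have ha : a ∈ I := Ideal.Quotient.eq_zero_iff_mem.mp hx
      refine ⟨⟨i.1 ⊔ Ideal.span {a}, Submodule.FG.sup i.2.1 (Submodule.fg_span_singleton a),
        sup_le i.2.2 ((Ideal.span_singleton_le_iff_mem I).mpr ha)⟩, show i.1 ≤ _ from le_sup_left, ?_⟩
      exact Ideal.Quotient.eq_zero_iff_mem.mpr (Ideal.mem_sup_right (Ideal.subset_span rfl))
  obtain ⟨i, hi⟩ := Groth.L07.FlatDescent.exists_flat_stage K (G := G') (g := φ)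
    (fun i j h => RingHom.ext fun r => rfl) hcolim
  haveI := hi
  suffices I = i.1 by rw [this]; exact i.2.1
  refine le_antisymm ?_ i.2.2
  obtain ⟨_, hh1, -⟩ := hloc i.1 (i.2.2.trans hIm)
  haveI := hh1
  refine le_trans ((hI (A ⧸ i.1)).mp ?_) Ideal.mk_ker.le
  refine (flatPts_iff_of_flat (R := A) (TensorProduct.mk S C N 1) hg0 q z hzq (A ⧸ i.1)).mpr ?_
  intro E W _ _ _ _ _ _ _ _ _ _ _ _ _ f hf Q _ _ _
  letI : Module A W := Module.compHom W (algebraMap A (A ⧸ i.1))
  haveI : IsScalarTower A (A ⧸ i.1) W := IsScalarTower.of_algebraMap_smul fun _ _ => rfl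
  haveI : IsScalarTower A C W := IsScalarTower.of_algebraMap_smul fun a m => by
    show algebraMap A C a • m = algebraMap A (A ⧸ i.1) a • m
    rw [← algebraMap_smul E (algebraMap A C a) m, ← IsScalarTower.algebraMap_apply,
      IsScalarTower.algebraMap_apply A (A ⧸ i.1) E, algebraMap_smul]
  haveI : Algebra.IsPushout A C (A ⧸ i.1) E := Algebra.IsPushout.symm inferInstance
  have hb : IsBaseChange (A ⧸ i.1) (f.restrictScalars A) := Groth.L20.isBaseChange_restrictScalars hf
  obtain ⟨ei⟩ := Groth.L07.FlatDescent.exists_modelEquiv K e (A ⧸ i.1)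
  haveI : Module.Flat (A ⧸ i.1) ((A ⧸ i.1) ⊗[A] Ns) := Module.Flat.of_linearEquiv ei
  haveI : Module.Flat (A ⧸ i.1) W := Module.Flat.of_linearEquiv hb.equiv.symm
  exact Groth.L20.FibreCrit.flat_localizedModule_of_flat Q.primeCompl

end FG

set_option maxHeartbeats 1000000 in
/-- **The ideal of the flat locus over a henselian local ring.** -/
theorem exists_ideal_of_henselian {A S : Type u} [CommRing A] [HenselianLocalRing A] [CommRing S] [Algebra A S]
    [Algebra.FiniteType A S] (q : Ideal S) [q.IsPrime] [q.LiesOver (maximalIdeal A)]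
    (N : Type u) [AddCommGroup N] [Module S N] [Module A N] [IsScalarTower A S N] [Module.Finite S N] :
    ∃ I : Ideal A, ∀ (R' : Type u) [CommRing R'] [IsLocalRing R'] [Algebra A R'] [IsLocalHom (algebraMap A R')],
      FlatPts A S N q R' ↔ I ≤ RingHom.ker (algebraMap A R') := by
  classical
  by_cases hq : (⟨q, inferInstance⟩ : PrimeSpectrum S) ∈ Module.support S N
  swap
  · exact ⟨⊥, fun R' _ _ _ _ => ⟨fun _ => bot_le, fun _ => flatPts_of_notMem_support q hq R'⟩⟩
  obtain ⟨R', S', _, _, _, _, _, _, _, _, p', q', _, _, hp, hq', hqp, H⟩ := exists_hasDev N (maximalIdeal A) q hq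
  haveI := hp.1
  haveI := hp.2.1
  haveI := hq'.1
  haveI := hqp
  haveI := hq'.2.1
  obtain ⟨f, hf, Hf⟩ := (H (S' ⊗[S] N) (TensorProduct.mk S S' N 1) (TensorProduct.isBaseChange S N S')).exists_complete
  let A₁ := Localization.AtPrime p'
  let e : A ≃+* A₁ := RingEquiv.ofBijective (algebraMap A A₁)
    (bijective_algebraMap_atPrime p' (show TrivRes A (maximalIdeal A) p' from hp.2))
  letI : Algebra R' A := (e.symm.toRingHom.comp (algebraMap R' A₁)).toAlgebra
  have halg : ∀ x, e (algebraMap R' A x) = algebraMap R' A₁ x := fun x => e.apply_symm_apply _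
  haveI : IsScalarTower A R' A := IsScalarTower.of_algebraMap_eq fun a => e.injective (by
    rw [halg, ← IsScalarTower.algebraMap_apply A R' A₁]; rfl)
  haveI hpm : (maximalIdeal A).LiesOver p' := ⟨by
    have : (maximalIdeal A₁).comap e.toRingHom = maximalIdeal A :=
      IsLocalRing.eq_maximalIdeal (Ideal.comap_isMaximal_of_surjective _ e.surjective)
    rw [Ideal.under_def, ← this, Ideal.comap_comap,
      show e.toRingHom.comp (algebraMap R' A) = algebraMap R' A₁ from RingHom.ext halg]
    exact (Localization.AtPrime.under_maximalIdeal (I := p')).symm⟩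
  have htr : TrivRes R' p' (maximalIdeal A) :=
    TrivRes.cancel (R := A) (show TrivRes A (maximalIdeal A) p' from hp.2) (trivRes_id _) hpm
  have hfu : IsUnit (algebraMap R' A f) := by
    have h1 : IsUnit (algebraMap R' A₁ f) := IsLocalization.map_units A₁ (⟨f, hf⟩ : p'.primeCompl)
    exact (h1.map e.symm : IsUnit (e.symm (algebraMap R' A₁ f)))
  obtain ⟨C, _, _, _, _, _, _, hpush⟩ : ∃ (C : Type u) (_ : CommRing C) (_ : Algebra A C) (_ : Algebra S' C)
      (_ : Algebra R' C) (_ : IsScalarTower R' A C) (_ : IsScalarTower R' S' C), Algebra.IsPushout R' A S' C := by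
    letI : Algebra S' (A ⊗[R'] S') := Algebra.TensorProduct.rightAlgebra
    haveI : IsScalarTower R' S' (A ⊗[R'] S') := Algebra.TensorProduct.right_isScalarTower
    exact ⟨A ⊗[R'] S', inferInstance, inferInstance, inferInstance, inferInstance, inferInstance, inferInstance,
      inferInstance⟩
  haveI := hpush
  obtain ⟨Qc, _, hQp, hQq, -⟩ :=
    exists_point_of_isPushout (B := R') (A := S') (B' := A) (A' := C) p' q' (maximalIdeal A) htr
  haveI := hQp
  haveI hpush' : Algebra.IsPushout R' S' A C := Algebra.IsPushout.symm hpush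
  haveI : Module.Flat R' A := by
    letI : Module R' A₁ := inferInstance
    haveI : Module.Flat R' A₁ := IsLocalization.flat A₁ p'.primeCompl
    exact Module.Flat.of_linearEquiv (AlgEquiv.ofRingEquiv (R := R') (f := e) halg).toLinearEquiv
  haveI : Module.Flat S' C := Module.Flat.isBaseChange R' S' A C hpush'.out
  haveI : Module.Flat S S' := Algebra.Smooth.flat S S'
  letI : Algebra S C := ((algebraMap S' C).comp (algebraMap S S')).toAlgebra
  haveI : IsScalarTower S S' C := IsScalarTower.of_algebraMap_eq' rfl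
  haveI : IsScalarTower A S C := IsScalarTower.of_algebraMap_eq fun r => by
    rw [IsScalarTower.algebraMap_apply S S' C, ← IsScalarTower.algebraMap_apply A S S',
      IsScalarTower.algebraMap_apply A R' S', ← IsScalarTower.algebraMap_apply R' S' C,
      IsScalarTower.algebraMap_apply R' A C, ← IsScalarTower.algebraMap_apply A R' A]
    rfl
  haveI : Module.Flat S C := Module.Flat.trans S S' C
  let Nc := C ⊗[S] N
  haveI : IsScalarTower A C Nc := TensorProduct.isScalarTower_left
  haveI : IsScalarTower S' C Nc := TensorProduct.isScalarTower_left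
  haveI : IsScalarTower S S' Nc := TensorProduct.isScalarTower_left
  have hgN : IsBaseChange C (TensorProduct.mk S C N 1) := TensorProduct.isBaseChange S N C
  obtain ⟨D, ⟨E⟩⟩ := Hf A (maximalIdeal A) htr hfu C Nc
    ((TensorProduct.isBaseChange S N S').lift (TensorProduct.mk S C N 1))
    (IsBaseChange.of_comp (TensorProduct.isBaseChange S N S') (by
      rw [(TensorProduct.isBaseChange S N S').lift_comp]; exact hgN)) Qc hQq.over.symm
  obtain ⟨I, hI⟩ := exists_ideal_of_dev D E
  refine ⟨I, fun R'' _ _ _ _ => ?_⟩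
  rw [← hI R'']
  refine flatPts_iff_of_flat (TensorProduct.mk S C N 1) hgN q Qc ?_ R''
  rw [IsScalarTower.algebraMap_eq S S' C, ← Ideal.comap_comap, ← Ideal.under_def (A := S'), ← hQq.over]
  exact hq'.2.1.over.symm

end Groth.L20.RG
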