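import Groth.Agent.L20.AboveClosed
import Groth.Agent.L20.WeaklyEtale
import Groth.Agent.L20.FlatLocusOpen
import Groth.Agent.L20.FibreFT
import Mathlib.RingTheory.Spectrum.Prime.Chevalley
import Mathlib.RingTheory.Etale.Weakly
import Mathlib.RingTheory.Smooth.Flat

/-!
# Transferring flatness along an elementary dévissage
-/

set_option autoImplicit false
set_option linter.style.haveILetI false
universe u

open TensorProduct

noncomputable section

namespace Groth.L20.RG

theorem flat_iff_of_etale {R R' M : Type u} [CommRing R] [CommRing R'] [Algebra R R'] [Algebra.Etale R R']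
    [AddCommGroup M] [Module R M] [Module R' M] [IsScalarTower R R' M] : Module.Flat R M ↔ Module.Flat R' M :=
  ⟨fun _ => Groth.L20.flat_of_flat_of_flat_lmul (Algebra.WeaklyEtale.flat_lmul' R R'),
    fun _ => Module.Flat.trans R R' M⟩

theorem isScalarTower_localizedModule {R R' S M : Type u} [CommRing R] [CommRing R'] [CommRing S] [Algebra R R']
    [Algebra R S] [Algebra R' S] [IsScalarTower R R' S] [AddCommGroup M] [Module S M] [Module R M] [Module R' M]
    [IsScalarTower R S M] [IsScalarTower R' S M] (T : Submonoid S) : IsScalarTower R R' (LocalizedModule T M) :=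
  IsScalarTower.of_algebraMap_smul fun r x => by
    rw [← algebraMap_smul S (algebraMap R R' r) x, ← IsScalarTower.algebraMap_apply, algebraMap_smul]

/-- Along a surjection, flatness of localisations only sees the image. -/
theorem flat_localized_iff_of_surjective {R S C G : Type u} [CommRing R] [CommRing S] [CommRing C] [Algebra R S]
    [Algebra R C] [Algebra S C] [IsScalarTower R S C] [AddCommGroup G] [Module S G] [Module C G] [IsScalarTower S C G]
    [Module R G] [IsScalarTower R S G] [IsScalarTower R C G] (T : Submonoid S) (T' : Submonoid C)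
    (hT : T' = T.map (algebraMap S C)) :
    Module.Flat R (LocalizedModule T G) ↔ Module.Flat R (LocalizedModule T' G) :=
  (flat_localizedModule_iff_of_semilinear (R := R) (algebraMap S C) (LinearEquiv.refl R G)
    (fun s m => algebraMap_smul C s m) T T' hT).symm

theorem flat_localized_iff_of_equiv {R S M M' : Type u} [CommRing R] [CommRing S] [Algebra R S]
    [AddCommGroup M] [Module S M] [Module R M] [IsScalarTower R S M] [AddCommGroup M'] [Module S M'] [Module R M']
    [IsScalarTower R S M'] (e : M ≃ₗ[S] M') (T : Submonoid S) :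
    Module.Flat R (LocalizedModule T M) ↔ Module.Flat R (LocalizedModule T M') :=
  (flat_localizedModule_iff_of_semilinear (R := R) (RingHom.id S) (e.symm.restrictScalars R)
    (fun s m => e.symm.map_smul s m) T T (Submonoid.map_id T).symm).symm

/-- Flatness on a basic open is flatness at each of its primes. -/
theorem flat_away_iff {R S M : Type u} [CommRing R] [CommRing S] [Algebra R S] [AddCommGroup M] [Module S M]
    [Module R M] [IsScalarTower R S M] (g : S) :
    Module.Flat R (LocalizedModule (Submonoid.powers g) M) ↔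
      ∀ (Q : Ideal S) [Q.IsPrime], g ∉ Q → Module.Flat R (LocalizedModule Q.primeCompl M) := by
  constructor
  · intro h Q _ hg
    refine flat_localizedModule_of_le (Submonoid.powers_le.mpr (show g ∈ Q.primeCompl from hg)) h
  · intro h
    rw [flat_localizedModule_iff_forall]
    intro J z hz
    by_contra hne
    push Not at hne
    let a : Ideal S := LinearMap.ker (LinearMap.toSpanSingleton S (M ⊗[R] J) z)
    have hdis : Disjoint (a : Set S) (Submonoid.powers g : Set S) :=
      Set.disjoint_left.mpr fun t ht ht' => hne t ht' (by simpa [a] using ht)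
    obtain ⟨Q, hQ, haQ, hQg⟩ := Ideal.exists_le_prime_disjoint a (Submonoid.powers g) hdis
    haveI := hQ
    have hgQ : g ∉ Q := fun hg => Set.disjoint_left.mp hQg hg (Submonoid.mem_powers g)
    haveI := h Q hgQ
    obtain ⟨t, ht, htz⟩ := exists_smul_eq_zero_of_flat (R := R) (S := S) Q.primeCompl J.subtype Subtype.val_injective z hz
    exact ht (haQ (by simpa [a] using htz))

/-- A single prime above `y` has neighbourhoods pulled back from below. -/
theorem exists_notMem_dvd {D C : Type u} [CommRing D] [CommRing C] [Algebra D C] [Algebra.IsIntegral D C]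
    (y : Ideal D) [y.IsPrime] (z : Ideal C) (hz : ∀ (z₁ : Ideal C) [z₁.IsPrime], z₁.LiesOver y → z₁ = z)
    {g : C} (hg : g ∉ z) : ∃ h ∉ y, g ∣ algebraMap D C h := by
  by_contra hne
  push Not at hne
  have hle : (Ideal.span {g}).comap (algebraMap D C) ≤ y := fun h hh => by
    by_contra hy
    exact hne h hy (Ideal.mem_span_singleton.mp hh)
  obtain ⟨Q, hgQ, hQ, hQy⟩ := Ideal.exists_ideal_over_prime_of_isIntegral y _ hle
  haveI := hQ
  exact hg (hz Q ⟨hQy.symm⟩ ▸ hgQ (Ideal.mem_span_singleton_self g))

/-- The image of a basic open of an étale algebra contains a basic open. -/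
theorem exists_basicOpen_image {S S' : Type u} [CommRing S] [CommRing S'] [Algebra S S'] [Algebra.Etale S S']
    (q : Ideal S) [q.IsPrime] (q' : Ideal S') [q'.IsPrime] [q'.LiesOver q] {g : S'} (hg : g ∉ q') :
    ∃ h ∉ q, ∀ (Q : Ideal S) [Q.IsPrime], h ∉ Q → ∃ (Q' : Ideal S') (_ : Q'.IsPrime), Q'.LiesOver Q ∧ g ∉ Q' := by
  haveI : Module.Flat S S' := Algebra.Smooth.flat S S'
  have hopen := (PrimeSpectrum.isOpenMap_comap_of_hasGoingDown_of_finitePresentation (R := S) (S := S'))
    _ (PrimeSpectrum.basicOpen g).isOpen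
  have hq : (⟨q, inferInstance⟩ : PrimeSpectrum S) ∈
      PrimeSpectrum.comap (algebraMap S S') '' (PrimeSpectrum.basicOpen g : Set (PrimeSpectrum S')) :=
    ⟨⟨q', inferInstance⟩, hg, PrimeSpectrum.ext (Ideal.LiesOver.over (P := q') (p := q)).symm⟩
  obtain ⟨_, ⟨h, rfl⟩, hqh, hsub⟩ := PrimeSpectrum.isTopologicalBasis_basic_opens.exists_subset_of_mem_open hq hopen
  refine ⟨h, hqh, fun Q _ hQ => ?_⟩
  obtain ⟨Q', hQ'g, hQ'⟩ := hsub (show (⟨Q, inferInstance⟩ : PrimeSpectrum S) ∈ PrimeSpectrum.basicOpen h from hQ)
  exact ⟨Q'.asIdeal, Q'.isPrime, ⟨(congrArg PrimeSpectrum.asIdeal hQ').symm⟩, hQ'g⟩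

end Groth.L20.RG
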