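import Groth.Agent.L20.RG.Key
import Groth.Agent.L20.RG.TransferFp
import Groth.Agent.L20.RG.Projective
import Groth.Prelude.Def_FlatCA

/-!
# Iterating along a complete dévissage
-/

set_option autoImplicit false
set_option linter.style.haveILetI false
universe u

open TensorProduct

noncomputable section

namespace Groth.L20.RG

section Linear

variable {R : Type u} [CommRing R]

theorem exists_prod_equiv {P M Q : Type u} [AddCommGroup P] [AddCommGroup M] [AddCommGroup Q] [Module R P] [Module R M]
    [Module R Q] [Module.Projective R Q] (f : P →ₗ[R] M) (g : M →ₗ[R] Q) (hf : Function.Injective f)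
    (hg : Function.Surjective g) (hfg : Function.Exact f g) : Nonempty (M ≃ₗ[R] P × Q) := by
  obtain ⟨s, hs⟩ := Module.projective_lifting_property g LinearMap.id hg
  have hs' : ∀ q, g (s q) = q := fun q => LinearMap.congr_fun hs q
  refine ⟨(LinearEquiv.ofBijective (f.coprod s) ⟨?_, ?_⟩).symm⟩
  · refine (injective_iff_map_eq_zero _).mpr fun ⟨x, q⟩ hxq => ?_
    rw [LinearMap.coprod_apply] at hxq
    have hq : q = 0 := by
      have := congrArg g hxq
      rwa [map_add, hfg.apply_apply_eq_zero, hs', zero_add, map_zero] at this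
    subst hq
    rw [map_zero, add_zero] at hxq
    obtain rfl : x = 0 := hf (hxq.trans (map_zero f).symm)
    rfl
  · intro m
    obtain ⟨x, hx⟩ := (hfg (m - s (g m))).mp (by rw [map_sub, hs', sub_self])
    exact ⟨(x, g m), by rw [LinearMap.coprod_apply, hx, sub_add_cancel]⟩

theorem nonempty_pi_prod_equiv (M P : ℕ → Type u) [∀ i, AddCommGroup (M i)] [∀ i, AddCommGroup (P i)]
    [∀ i, Module R (M i)] [∀ i, Module R (P i)] :
    ∀ (m : ℕ), (∀ i < m, Nonempty (M i ≃ₗ[R] P i × M (i + 1))) →
      Nonempty (M 0 ≃ₗ[R] (∀ i : Fin m, P i) × M m)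
  | 0, _ => ⟨{ toFun := fun x => (0, x), invFun := fun x => x.2, map_add' := fun x y => by simp,
               map_smul' := fun a x => by simp, left_inv := fun x => rfl,
               right_inv := fun x => Prod.ext (Subsingleton.elim _ _) rfl }⟩
  | m + 1, h => by
    obtain ⟨e⟩ := nonempty_pi_prod_equiv M P m fun i hi => h i (hi.trans (Nat.lt_succ_self m))
    obtain ⟨e'⟩ := h m (Nat.lt_succ_self m)
    let σ : ((∀ i : Fin m, P i) × P m) ≃ₗ[R] (∀ i : Fin (m + 1), P i) :=
      { toFun := fun x => Fin.snoc (α := fun i : Fin (m + 1) => P i) x.1 x.2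
        invFun := fun g => (fun i => g i.castSucc, g (Fin.last m))
        map_add' := fun x y => funext fun i => by
          refine Fin.lastCases ?_ (fun j => ?_) i <;> simp
        map_smul' := fun a x => funext fun i => by
          refine Fin.lastCases ?_ (fun j => ?_) i <;> simp
        left_inv := fun x => by simp
        right_inv := fun g => funext fun i => by
          refine Fin.lastCases ?_ (fun j => ?_) i <;> simp }
    exact ⟨e.trans ((LinearEquiv.prodCongr (LinearEquiv.refl R _) e').trans
      ((LinearEquiv.prodAssoc R _ _ _).symm.trans (LinearEquiv.prodCongr σ (LinearEquiv.refl R _))))⟩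

/-- Gluing a chain of split sequences. -/
theorem nonempty_pi_equiv (M P : ℕ → Type u) [∀ i, AddCommGroup (M i)] [∀ i, AddCommGroup (P i)]
    [∀ i, Module R (M i)] [∀ i, Module R (P i)] (n : ℕ) (hn : 0 < n)
    (h : ∀ i, i + 1 < n → Nonempty (M i ≃ₗ[R] P i × M (i + 1))) (hlast : Nonempty (M (n - 1) ≃ₗ[R] P (n - 1))) :
    Nonempty (M 0 ≃ₗ[R] ∀ i : Fin n, P i) := by
  obtain ⟨m, rfl⟩ : ∃ m, n = m + 1 := ⟨n - 1, by omega⟩
  obtain ⟨e⟩ := nonempty_pi_prod_equiv M P m fun i hi => h i (by omega)
  obtain ⟨e'⟩ := hlast
  let σ : ((∀ i : Fin m, P i) × P m) ≃ₗ[R] (∀ i : Fin (m + 1), P i) :=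
    { toFun := fun x => Fin.snoc (α := fun i : Fin (m + 1) => P i) x.1 x.2
      invFun := fun g => (fun i => g i.castSucc, g (Fin.last m))
      map_add' := fun x y => funext fun i => by refine Fin.lastCases ?_ (fun j => ?_) i <;> simp
      map_smul' := fun a x => funext fun i => by refine Fin.lastCases ?_ (fun j => ?_) i <;> simp
      left_inv := fun x => by simp
      right_inv := fun g => funext fun i => by refine Fin.lastCases ?_ (fun j => ?_) i <;> simp }
  exact ⟨e.trans ((LinearEquiv.prodCongr (LinearEquiv.refl R _) e').trans σ)⟩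

/-- Descending induction along `i < n`. -/
theorem descending {n : ℕ} {P : ℕ → Prop} (hlast : P (n - 1)) (hstep : ∀ i, i + 1 < n → P (i + 1) → P i) :
    ∀ i, i < n → P i := by
  intro i hi
  obtain ⟨d, hd⟩ : ∃ d, i + d + 1 = n := ⟨n - i - 1, by omega⟩
  induction d generalizing i with
  | zero => rwa [show i = n - 1 by omega]
  | succ d ih => exact hstep i (by omega) (ih (i + 1) (by omega) (by omega))

end Linear

section Chain

variable {R S : Type u} [CommRing R] [CommRing S] [Algebra R S] {N : Type u} [AddCommGroup N] [Module S N]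
  {rr : Ideal R} [rr.IsPrime] (D : FlatCA.CompleteDevissage R S N rr)

theorem isScalarTower_base (i : ℕ) : IsScalarTower R (D.A i) (D.M i) :=
  IsScalarTower.of_algebraMap_smul fun r m => by
    rw [IsScalarTower.algebraMap_apply R (D.B i) (D.A i), algebraMap_smul, algebraMap_smul]

theorem isScalarTower_zero : IsScalarTower R S (D.M 0) := by
  haveI := isScalarTower_base D 0
  exact IsScalarTower.of_algebraMap_smul fun r m => by
    rw [← algebraMap_smul (D.A 0) (algebraMap R S r) m, ← IsScalarTower.algebraMap_apply, algebraMap_smul]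

theorem isScalarTower_succ (j : ℕ) : IsScalarTower R (D.B j) (D.M (j + 1)) := by
  haveI := isScalarTower_base D (j + 1)
  exact IsScalarTower.of_algebraMap_smul fun r m => by
    rw [← algebraMap_smul (D.A (j + 1)) (algebraMap R (D.B j) r) m, ← IsScalarTower.algebraMap_apply, algebraMap_smul]

theorem finite_B (i : ℕ) (hi : i < D.n) : Module.Finite (D.B i) (D.M i) := by
  haveI := D.finiteBA i hi
  haveI := D.finiteM i hi
  exact Module.Finite.trans (D.A i) (D.M i)

theorem finitePresentation_B [Algebra.FinitePresentation R S] (i : ℕ) (hi : i < D.n) :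
    Algebra.FinitePresentation R (D.A i) ∧ Algebra.FinitePresentation (D.B i) (D.A i) := by
  have hA : Algebra.FinitePresentation R (D.A i) := by
    cases i with
    | zero => haveI := D.fpSA; exact Algebra.FinitePresentation.trans R S (D.A 0)
    | succ j =>
      haveI := D.fpBA' j hi
      haveI := D.smooth j (by omega)
      exact Algebra.FinitePresentation.trans R (D.B j) (D.A (j + 1))
  haveI := D.smooth i hi
  exact ⟨hA, Algebra.FinitePresentation.of_restrict_scalars_finitePresentation R (D.B i) (D.A i)⟩

/-- Finite presentation spreads backwards along the steps when the maps are injective. -/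
theorem fp_step [Algebra.FinitePresentation R S] (i : ℕ) (hi : i + 1 < D.n) (hinj : Function.Injective (D.α i))
    (h : Module.FinitePresentation (D.B (i + 1)) (D.M (i + 1))) : Module.FinitePresentation (D.B i) (D.M i) := by
  haveI := h
  haveI := D.finiteBA (i + 1) hi
  haveI := finitePresentation_of_finite_algebra (D.B (i + 1)) (D.A (i + 1)) (D.M (i + 1))
  haveI : Module.Finite (D.B i) (D.A (i + 1)) :=
    Module.Finite.of_surjective (Algebra.linearMap (D.B i) (D.A (i + 1))) (D.surjBA' i hi)
  haveI := D.fpBA' i hi
  haveI := Module.FinitePresentation.of_finite_of_finitePresentation (D.B i) (D.A (i + 1))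
  haveI : Module.FinitePresentation (D.B i) (D.M (i + 1)) := Module.FinitePresentation.trans (D.B i) (D.M (i + 1)) (D.A (i + 1))
  haveI : Module.FinitePresentation (D.B i) (D.M i ⧸ LinearMap.range (D.α i)) :=
    Module.FinitePresentation.of_equiv (D.isoCoker i hi).symm
  haveI : Module.FinitePresentation (D.B i) (LinearMap.ker (LinearMap.range (D.α i)).mkQ) := by
    rw [Submodule.ker_mkQ]
    exact Module.FinitePresentation.of_equiv (LinearEquiv.ofInjective (D.α i) hinj)
  exact Module.finitePresentation_of_ker (LinearMap.range (D.α i)).mkQ (Submodule.mkQ_surjective _)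

theorem fp_last (hbij : Function.Bijective (D.α (D.n - 1))) :
    Module.FinitePresentation (D.B (D.n - 1)) (D.M (D.n - 1)) :=
  Module.FinitePresentation.of_equiv (LinearEquiv.ofBijective (D.α (D.n - 1)) hbij)

theorem fp_of_injective [Algebra.FinitePresentation R S] (hinj : ∀ i, i < D.n → Function.Injective (D.α i)) :
    Module.FinitePresentation S N := by
  have h0 : Module.FinitePresentation (D.B 0) (D.M 0) :=
    descending (n := D.n) (P := fun i => Module.FinitePresentation (D.B i) (D.M i))
      (fp_last D ⟨hinj _ (Nat.sub_lt D.pos one_pos), D.cokerLast⟩)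
      (fun i hi h => fp_step D i hi (hinj i (by omega)) h) 0 D.pos
  haveI := D.finiteBA 0 D.pos
  haveI := finitePresentation_of_finite_algebra (D.B 0) (D.A 0) (D.M 0)
  haveI : Module.Finite S (D.A 0) := Module.Finite.of_surjective (Algebra.linearMap S (D.A 0)) D.surjSA
  haveI := D.fpSA
  haveI := Module.FinitePresentation.of_finite_of_finitePresentation S (D.A 0)
  haveI : Module.FinitePresentation S (D.M 0) := Module.FinitePresentation.trans S (D.M 0) (D.A 0)
  exact Module.FinitePresentation.of_equiv D.isoN.symm

end Chain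

/-- Flatness travels along the steps of a complete dévissage at a point. -/
theorem univInj_of_flatAt_start {R S : Type u} [CommRing R] [IsLocalRing R] [CommRing S] [Algebra R S]
    {N : Type u} [AddCommGroup N] [Module S N] [Module R N] [IsScalarTower R S N]
    (D : FlatCA.CompleteDevissage R S N (IsLocalRing.maximalIdeal R)) {q : Ideal S} [q.IsPrime]
    (E : FlatCA.CompleteDevissageAt R S N (IsLocalRing.maximalIdeal R) q D) (hflat : FlatCA.FlatAt R q N) :
    ∀ i, i < D.n → FlatCA.UnivInj R ((D.α i).restrictScalars R) := by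
  have hqB := E.hqB
  have hqA := E.hqA
  have hoverA := E.overA
  have hoverB := E.overB
  haveI := fun i => isScalarTower_base D i
  haveI := isScalarTower_zero D
  have hflatB : ∀ i, i < D.n → FlatCA.FlatAt R (E.qB i) (D.M i) := by
    intro i
    induction i with
    | zero =>
      intro hi
      haveI := D.finiteBA 0 hi
      refine AboveClosed.flat_of_forall_above (C' := D.A 0) (E.qB 0) fun Q _ hQ => ?_
      obtain rfl := E.uniq 0 hi Q ⟨hQ.symm⟩
      have h1 : Module.Flat R (LocalizedModule q.primeCompl (D.M 0)) :=
        (flat_localized_iff_of_equiv D.isoN q.primeCompl).mp hflat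
      haveI : Module.Flat R (LocalizedModule ((E.qA 0).comap (algebraMap S (D.A 0))).primeCompl (D.M 0)) := by
        have := E.q0
        convert h1
      exact AboveClosed.flat_above_of_flat (B' := S) (E.qA 0)
    | succ j ih =>
      intro hi
      haveI := D.finiteBA (j + 1) hi
      haveI := isScalarTower_succ D j
      haveI := finite_B D j (by omega)
      haveI := D.smooth j (by omega)
      have hdom := DomFib.of_smooth_geomIrredFibres (D.geomIrred j (by omega))
      have hle : (IsLocalRing.maximalIdeal R).map (algebraMap R (D.B j)) ≤ E.qB j :=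
        Ideal.map_le_iff_le_comap.mpr (Ideal.LiesOver.over (P := E.qB j) (p := IsLocalRing.maximalIdeal R)).le
      have h1 := (flatAt_coker_of_flatAt (D.α j) hdom rfl (D.fibreIso j (by omega)) hle (ih (by omega))).2
      have h2 : Module.Flat R (LocalizedModule (E.qB j).primeCompl (D.M (j + 1))) :=
        (flat_localized_iff_of_equiv (D.isoCoker j hi) (E.qB j).primeCompl).mp h1
      refine AboveClosed.flat_of_forall_above (C' := D.A (j + 1)) (E.qB (j + 1)) fun Q _ hQ => ?_
      obtain rfl := E.uniq (j + 1) hi Q ⟨hQ.symm⟩
      haveI : Module.Flat R (LocalizedModule ((E.qA (j + 1)).comap (algebraMap (D.B j) (D.A (j + 1)))).primeCompl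
          (D.M (j + 1))) := by
        have := E.qStep j hi
        convert h2
      exact AboveClosed.flat_above_of_flat (B' := D.B j) (E.qA (j + 1))
  intro i hi
  haveI := finite_B D i hi
  haveI := D.smooth i hi
  have hdom := DomFib.of_smooth_geomIrredFibres (D.geomIrred i hi)
  have hle : (IsLocalRing.maximalIdeal R).map (algebraMap R (D.B i)) ≤ E.qB i :=
    Ideal.map_le_iff_le_comap.mpr (Ideal.LiesOver.over (P := E.qB i) (p := IsLocalRing.maximalIdeal R)).le
  exact (flatAt_coker_of_flatAt (D.α i) hdom rfl (D.fibreIso i hi) hle (hflatB i hi)).1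

end Groth.L20.RG
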