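import Groth.Agent.L20.RG.Cover
import Groth.Agent.L20.RG.Transfer
import Groth.Agent.S1253
import Groth.Agent.L20.FlatAtBaseChange
import Groth.Agent.L20.AboveClosed

/-!
# Flat modules become free on etale neighbourhoods over local rings of the base
-/

set_option autoImplicit false
set_option linter.style.haveILetI false
set_option backward.isDefEq.respectTransparency.types false
universe u

open TensorProduct IsLocalRing

noncomputable section

namespace Groth.L20.RG

attribute [local instance] Algebra.TensorProduct.rightAlgebra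

variable {R S : Type u} [CommRing R] [CommRing S] [Algebra R S]

/-- The local ring at a point has the same residue field. -/
theorem trivRes_atPrime {R : Type u} [CommRing R] (p : Ideal R) [p.IsPrime] :
    TrivRes R p (maximalIdeal (Localization.AtPrime p)) := by
  haveI h : (maximalIdeal (Localization.AtPrime p)).LiesOver p :=
    ⟨(Localization.AtPrime.under_maximalIdeal (I := p)).symm⟩
  exact ⟨h, (RingHom.surjectiveOnStalks_of_isLocalization p.primeCompl _).residueFieldMap_bijective _ _ _⟩

set_option maxHeartbeats 400000 in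
/-- Flatness at a point passes to the base change of a neighbourhood. -/
theorem flatAt_chart {N : Type u} [AddCommGroup N] [Module S N] [Module R N] [IsScalarTower R S N]
    {R' S' : Type u} [CommRing R'] [CommRing S'] [Algebra R R'] [Algebra S S'] [Algebra R' S'] [Algebra R S']
    [IsScalarTower R R' S'] [IsScalarTower R S S'] [Algebra.Etale R R'] [Algebra.Etale S S'] (q : Ideal S) [q.IsPrime]
    (hflat : FlatCA.FlatAt R q N) (q' : Ideal S') [q'.IsPrime] (hq' : q'.comap (algebraMap S S') = q)
    (A : Type u) [CommRing A] [Algebra R' A] (C : Type u) [CommRing C] [Algebra A C] [Algebra S' C] [Algebra R' C]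
    [IsScalarTower R' A C] [IsScalarTower R' S' C] [Algebra.IsPushout R' A S' C] [Algebra S C] [IsScalarTower S S' C]
    (Nc : Type u) [AddCommGroup Nc] [Module C Nc] [Module S Nc] [IsScalarTower S C Nc] [Module A Nc]
    [IsScalarTower A C Nc] (g : N →ₗ[S] Nc) (hg : IsBaseChange C g) (Qc : Ideal C) [Qc.IsPrime]
    (hQc : Qc.comap (algebraMap S' C) = q') : FlatCA.FlatAt A Qc Nc := by
  haveI : Module.Flat S S' := Algebra.Smooth.flat S S'
  haveI : IsScalarTower R S' (S' ⊗[S] N) := inferInstance
  haveI : IsScalarTower R' S' (S' ⊗[S] N) := inferInstance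
  haveI : IsScalarTower R R' (S' ⊗[S] N) := IsScalarTower.of_algebraMap_smul fun r m => by
    rw [← algebraMap_smul S' (algebraMap R R' r) m, ← IsScalarTower.algebraMap_apply, algebraMap_smul]
  have h0 := TensorProduct.isBaseChange S N S'
  haveI : Module.Flat R (LocalizedModule (q'.comap (algebraMap S S')).primeCompl N) := by
    unfold FlatCA.FlatAt at hflat
    convert hflat
  have h1 : Module.Flat R (LocalizedModule q'.primeCompl (S' ⊗[S] N)) :=
    Groth.L20.AboveClosed.flat_of_flat_below (TensorProduct.mk S S' N 1) h0 q'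
  haveI := isScalarTower_localizedModule (R := R) (R' := R') (S := S') (M := S' ⊗[S] N) q'.primeCompl
  haveI : Module.Flat R' (LocalizedModule q'.primeCompl (S' ⊗[S] N)) := (flat_iff_of_etale (R := R) (R' := R') (M := LocalizedModule q'.primeCompl (S' ⊗[S] N))).mp h1
  letI : Module S' Nc := Module.compHom Nc (algebraMap S' C)
  haveI : IsScalarTower S' C Nc := IsScalarTower.of_algebraMap_smul fun _ _ => rfl
  haveI : IsScalarTower S S' Nc := IsScalarTower.of_algebraMap_smul fun s m => by
    show algebraMap S' C (algebraMap S S' s) • m = s • m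
    rw [← IsScalarTower.algebraMap_apply, algebraMap_smul]
  letI : Module R' Nc := Module.compHom Nc (algebraMap R' C)
  haveI : IsScalarTower R' C Nc := IsScalarTower.of_algebraMap_smul fun _ _ => rfl
  haveI : IsScalarTower R' A Nc := IsScalarTower.of_algebraMap_smul fun r m => by
    rw [← algebraMap_smul C (algebraMap R' A r) m, ← IsScalarTower.algebraMap_apply, algebraMap_smul]
  haveI : IsScalarTower R' S' Nc := IsScalarTower.of_algebraMap_smul fun r m => by
    show algebraMap S' C (algebraMap R' S' r) • m = algebraMap R' C r • m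
    rw [← IsScalarTower.algebraMap_apply]
  have hbc : IsBaseChange C (h0.lift g) := IsBaseChange.of_comp h0 (by
    have : (h0.lift g).restrictScalars S ∘ₗ TensorProduct.mk S S' N 1 = g := h0.lift_comp g
    rw [this]; exact hg)
  haveI : Algebra.IsPushout R' S' A C := Algebra.IsPushout.symm inferInstance
  exact Groth.L20.flat_localizedModule_of_isBaseChange (R := R') (S := S') (R' := A) (S' := C) (h0.lift g)
    (Groth.L20.isBaseChange_restrictScalars (R := R') (S := S') (R' := A) (S' := C) hbc) q'.primeCompl Qc.primeCompl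
    fun t ht hm => ht (hQc ▸ hm)

set_option maxHeartbeats 400000 in
/-- **Freeness on a neighbourhood** of a point where the module is flat. -/
theorem exists_free_local [Algebra.FinitePresentation R S] (N : Type u) [AddCommGroup N] [Module S N] [Module R N]
    [IsScalarTower R S N] [Module.Finite S N] (p : Ideal R) [p.IsPrime] (q : Ideal S) [q.IsPrime] [q.LiesOver p]
    (hflat : FlatCA.FlatAt R q N) :
    ∃ (R' S' : Type u) (_ : CommRing R') (_ : CommRing S') (_ : Algebra R R') (_ : Algebra S S') (_ : Algebra R' S')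
      (_ : Algebra R S') (_ : IsScalarTower R R' S') (_ : IsScalarTower R S S') (p' : Ideal R') (_ : p'.IsPrime) (f : R'),
      FlatCA.IsEtaleNhd R R' p p' ∧ Algebra.Etale S S' ∧ f ∉ p' ∧
      (∃ (q' : Ideal S') (_ : q'.IsPrime), q'.LiesOver p' ∧ TrivRes S q q') ∧
      (∃ U : Set (PrimeSpectrum S), IsOpen U ∧ (⟨q, inferInstance⟩ : PrimeSpectrum S) ∈ U ∧
        ∀ q₁ ∈ U, q₁.asIdeal.LiesOver p →
          ∃ Qs : Ideal S', Qs.IsPrime ∧ Qs.comap (algebraMap S S') = q₁.asIdeal ∧ Qs.LiesOver p') ∧
      ∀ (A : Type u) [CommRing A] [IsLocalRing A] [Algebra R' A], TrivRes R' p' (maximalIdeal A) →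
        IsUnit (algebraMap R' A f) →
        ∀ (C : Type u) [CommRing C] [Algebra A C] [Algebra S' C] [Algebra R' C] [IsScalarTower R' A C]
          [IsScalarTower R' S' C] [Algebra.IsPushout R' A S' C] [Algebra S C] [IsScalarTower S S' C]
          (Nc : Type u) [AddCommGroup Nc] [Module C Nc] [Module S Nc] [IsScalarTower S C Nc] [Module A Nc]
          [IsScalarTower A C Nc] (g : N →ₗ[S] Nc),
          IsBaseChange C g → Module.FinitePresentation C Nc ∧ Module.Free A Nc := by
  classical
  by_cases hq : (⟨q, inferInstance⟩ : PrimeSpectrum S) ∈ Module.support S N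
  · obtain ⟨R', S', _, _, _, _, _, _, _, _, p', q', _, _, hp, hq', hqp, H⟩ := exists_hasDev N p q hq
    haveI := hp.1
    haveI := hp.2.1
    haveI := hq'.1
    haveI := hqp
    obtain ⟨f, hf, Hf⟩ := (H (S' ⊗[S] N) (TensorProduct.mk S S' N 1) (TensorProduct.isBaseChange S N S')).exists_complete
    obtain ⟨g, hg, hiso⟩ := exists_isolating (A := R) p p'
    refine ⟨R', S', inferInstance, inferInstance, inferInstance, inferInstance, inferInstance, inferInstance,
      inferInstance, inferInstance, p', inferInstance, f, hp, inferInstance, hf, ⟨q', inferInstance, hqp, hq'.2⟩,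
      ⟨PrimeSpectrum.comap (algebraMap S S') '' (PrimeSpectrum.basicOpen (algebraMap R' S' g) : Set (PrimeSpectrum S')),
        ?_, ?_, ?_⟩, ?_⟩
    · haveI : Module.Flat S S' := inferInstance
      exact PrimeSpectrum.isOpenMap_comap_of_hasGoingDown_of_finitePresentation (R := S) (S := S') _
        (PrimeSpectrum.basicOpen _).isOpen
    · exact ⟨⟨q', inferInstance⟩, fun h => hg ((Ideal.mem_of_liesOver q' p' g).mpr h),
        PrimeSpectrum.ext hq'.2.1.over.symm⟩
    · rintro _ ⟨Qs, hQs, rfl⟩ hover
      refine ⟨Qs.asIdeal, Qs.isPrime, rfl, ⟨(hiso (Qs.asIdeal.comap (algebraMap R' S')) inferInstance ⟨?_⟩ hQs).symm⟩⟩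
      rw [Ideal.under_def, Ideal.comap_comap, ← IsScalarTower.algebraMap_eq, IsScalarTower.algebraMap_eq R S S',
        ← Ideal.comap_comap]
      exact hover.over
    · intro A _ _ _ hA hu C _ _ _ _ _ _ _ _ _ Nc _ _ _ _ _ _ gN hgN
      letI : Module S' Nc := Module.compHom Nc (algebraMap S' C)
      haveI : IsScalarTower S' C Nc := IsScalarTower.of_algebraMap_smul fun _ _ => rfl
      haveI : IsScalarTower S S' Nc := IsScalarTower.of_algebraMap_smul fun s m => by
        show algebraMap S' C (algebraMap S S' s) • m = s • m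
        rw [← IsScalarTower.algebraMap_apply, algebraMap_smul]
      have h0 := TensorProduct.isBaseChange S N S'
      obtain ⟨Qc, _, hQp, hQq, -⟩ :=
        exists_point_of_isPushout (B := R') (A := S') (B' := A) (A' := C) p' q' (maximalIdeal A) hA
      haveI := hQp
      have hbc : IsBaseChange C (h0.lift gN) := IsBaseChange.of_comp h0 (by
        have : (h0.lift gN).restrictScalars S ∘ₗ TensorProduct.mk S S' N 1 = gN := h0.lift_comp gN
        rw [this]; exact hgN)
      obtain ⟨D, hD⟩ := Hf A (maximalIdeal A) hA hu C Nc (h0.lift gN) hbc Qc hQq.over.symm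
      have hfl := flatAt_chart (R' := R') (S' := S') q hflat q' hq'.2.1.over.symm A C Nc gN hgN Qc hQq.over.symm
      haveI : Algebra.FinitePresentation R S' := Algebra.FinitePresentation.trans R S S'
      haveI : Algebra.FinitePresentation R' S' :=
        Algebra.FinitePresentation.of_restrict_scalars_finitePresentation R R' S'
      haveI : Algebra.FinitePresentation A C := Algebra.FinitePresentation.equiv (Algebra.IsPushout.equiv R' A S' C)
      haveI : Module.Finite C Nc := Module.Finite.equiv hgN.equiv
      exact ⟨(Groth.Agent.S1253.result Nc Qc hfl D hD).1, (Groth.Agent.S1253.result Nc Qc hfl D hD).2.1⟩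
  · haveI := Module.notMem_support_iff.mp hq
    obtain ⟨v, hv, hsub⟩ := LocalizedModule.exists_subsingleton_away (M := N) q
    haveI := hsub
    haveI : Subsingleton (Localization.Away v ⊗[S] N) :=
      (LocalizedModule.equivTensorProduct (Submonoid.powers v) N).symm.toEquiv.subsingleton
    obtain ⟨qv, _, hqv⟩ := exists_prime_away q hv
    haveI := hqv
    refine ⟨R, Localization.Away v, inferInstance, inferInstance, inferInstance, inferInstance, inferInstance,
      inferInstance, inferInstance, inferInstance, p, inferInstance, 1, ⟨inferInstance, trivRes_id p⟩,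
      Algebra.Etale.of_isLocalizationAway v, fun h => Ideal.IsPrime.ne_top' ((Ideal.eq_top_iff_one p).mpr h),
      ⟨qv, inferInstance, Ideal.LiesOver.trans qv q p, (isEtaleNhd_away q hv qv).2⟩,
      ⟨(PrimeSpectrum.basicOpen v : Set (PrimeSpectrum S)), (PrimeSpectrum.basicOpen v).isOpen, hv, ?_⟩, ?_⟩
    · intro q₁ hq₁ hover
      obtain ⟨Qs, hQs, hQs'⟩ := exists_prime_away q₁.asIdeal (hq₁ : v ∉ q₁.asIdeal)
      haveI := hQs'
      haveI := hover
      exact ⟨Qs, hQs, hQs'.over.symm, Ideal.LiesOver.trans Qs q₁.asIdeal p⟩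
    · intro A _ _ _ _ _ C _ _ _ _ _ _ _ _ _ Nc _ _ _ _ _ _ gN hgN
      haveI : Subsingleton (C ⊗[S] N) := by
        let e := TensorProduct.AlgebraTensorModule.cancelBaseChange S (Localization.Away v) C C N
        exact e.symm.toEquiv.subsingleton
      haveI : Subsingleton Nc := hgN.equiv.symm.toEquiv.subsingleton
      exact ⟨Module.finitePresentation_of_projective C Nc, Module.Free.of_subsingleton A Nc⟩

theorem flatAt_iff_of_surjective {P : Type u} [CommRing P] [Algebra R P] [Algebra P S] [IsScalarTower R P S]
    (hs : Function.Surjective (algebraMap P S)) (N : Type u) [AddCommGroup N] [Module S N] [Module P N]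
    [IsScalarTower P S N] [Module R N] [IsScalarTower R S N] [IsScalarTower R P N] (q : Ideal S) [q.IsPrime] :
    FlatCA.FlatAt R (q.comap (algebraMap P S)) N ↔ FlatCA.FlatAt R q N := by
  refine flat_localized_iff_of_surjective _ _ ?_
  ext c
  constructor
  · intro hc
    obtain ⟨t, rfl⟩ := hs c
    exact ⟨t, hc, rfl⟩
  · rintro ⟨t, ht, rfl⟩ h
    exact ht h

set_option maxHeartbeats 400000 in
/-- Freeness on a neighbourhood, for algebras of finite type. -/
theorem exists_free_local_ft [Algebra.FiniteType R S] (N : Type u) [AddCommGroup N] [Module S N] [Module R N]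
    [IsScalarTower R S N] [Module.Finite S N] (p : Ideal R) [p.IsPrime] (q : Ideal S) [q.IsPrime] [q.LiesOver p]
    (hflat : FlatCA.FlatAt R q N) :
    ∃ (R' S' : Type u) (_ : CommRing R') (_ : CommRing S') (_ : Algebra R R') (_ : Algebra S S') (_ : Algebra R' S')
      (_ : Algebra R S') (_ : IsScalarTower R R' S') (_ : IsScalarTower R S S') (p' : Ideal R') (_ : p'.IsPrime) (f : R'),
      FlatCA.IsEtaleNhd R R' p p' ∧ Algebra.Etale S S' ∧ f ∉ p' ∧
      (∃ (q' : Ideal S') (_ : q'.IsPrime), q'.LiesOver p' ∧ TrivRes S q q') ∧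
      (∃ U : Set (PrimeSpectrum S), IsOpen U ∧ (⟨q, inferInstance⟩ : PrimeSpectrum S) ∈ U ∧
        ∀ q₁ ∈ U, q₁.asIdeal.LiesOver p →
          ∃ Qs : Ideal S', Qs.IsPrime ∧ Qs.comap (algebraMap S S') = q₁.asIdeal ∧ Qs.LiesOver p') ∧
      ∀ (A : Type u) [CommRing A] [IsLocalRing A] [Algebra R' A], TrivRes R' p' (maximalIdeal A) →
        IsUnit (algebraMap R' A f) →
        ∀ (C : Type u) [CommRing C] [Algebra A C] [Algebra S' C] [Algebra R' C] [IsScalarTower R' A C]
          [IsScalarTower R' S' C] [Algebra.IsPushout R' A S' C] [Algebra S C] [IsScalarTower S S' C]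
          (Nc : Type u) [AddCommGroup Nc] [Module C Nc] [Module S Nc] [IsScalarTower S C Nc] [Module A Nc]
          [IsScalarTower A C Nc] (g : N →ₗ[S] Nc),
          IsBaseChange C g → Module.Free A Nc := by
  classical
  obtain ⟨k, φ, hφ⟩ := Algebra.FiniteType.iff_quotient_mvPolynomial''.mp (inferInstance : Algebra.FiniteType R S)
  let P := MvPolynomial (Fin k) R
  letI : Algebra P S := φ.toRingHom.toAlgebra
  haveI : IsScalarTower R P S := IsScalarTower.of_algebraMap_eq' φ.comp_algebraMap.symm
  letI : Module P N := Module.compHom N (algebraMap P S)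
  haveI : IsScalarTower P S N := IsScalarTower.of_algebraMap_smul fun _ _ => rfl
  haveI : IsScalarTower R P N := IsScalarTower.of_algebraMap_smul fun r m => by
    show algebraMap P S (algebraMap R P r) • m = r • m
    rw [← IsScalarTower.algebraMap_apply, algebraMap_smul]
  haveI : Module.Finite P S := Module.Finite.of_surjective (Algebra.linearMap P S) hφ
  haveI : Module.Finite P N := Module.Finite.trans S N
  let q₀ := q.comap (algebraMap P S)
  haveI : q.LiesOver q₀ := ⟨rfl⟩
  haveI : q₀.LiesOver p := ⟨by
    rw [Ideal.under_def, Ideal.comap_comap, ← IsScalarTower.algebraMap_eq]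
    exact Ideal.over_def q p⟩
  obtain ⟨R', T, _, _, _, _, _, _, _, _, p', _, f, hp, hT, hf, ⟨qT, _, hqTp, hqT⟩, ⟨U, hU, hqU, hUc⟩, H⟩ :=
    exists_free_local (R := R) (S := P) N p q₀ ((flatAt_iff_of_surjective hφ N q).mpr hflat)
  haveI := hT
  haveI := hqTp
  haveI := hqT.liesOver
  let S' := T ⊗[P] S
  haveI : IsScalarTower R R' S' := IsScalarTower.of_algebraMap_eq fun r => by
    show algebraMap R T r ⊗ₜ[P] (1 : S) = algebraMap R' T (algebraMap R R' r) ⊗ₜ[P] (1 : S)
    rw [← IsScalarTower.algebraMap_apply]
  haveI : IsScalarTower R S S' := IsScalarTower.of_algebraMap_eq fun r => by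
    show algebraMap R T r ⊗ₜ[P] (1 : S) = (1 : T) ⊗ₜ[P] algebraMap R S r
    rw [IsScalarTower.algebraMap_apply R P T, IsScalarTower.algebraMap_apply R P S]
    exact Algebra.TensorProduct.tmul_one_eq_one_tmul (R := P) (A := T) (B := S) (algebraMap R P r)
  obtain ⟨qS, _, hqST, hqSn, -⟩ := exists_nbhd_pushout q₀ q qT ((isEtaleNhd_iff _ _).mpr ⟨hT, hqT⟩)
  haveI := hqST
  haveI : IsScalarTower R' T S' := IsScalarTower.of_algebraMap_eq fun r => rfl
  refine ⟨R', S', inferInstance, inferInstance, inferInstance, inferInstance, inferInstance, inferInstance,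
    inferInstance, inferInstance, p', inferInstance, f, hp, etale_pushout, hf,
    ⟨qS, inferInstance, Ideal.LiesOver.trans qS qT p', hqSn.2⟩,
    ⟨PrimeSpectrum.comap (algebraMap P S) ⁻¹' U, hU.preimage (PrimeSpectrum.continuous_comap _), hqU, ?_⟩, ?_⟩
  · intro q₁ hq₁ hover
    haveI := hover
    have hover0 : (PrimeSpectrum.comap (algebraMap P S) q₁).asIdeal.LiesOver p := ⟨by
      rw [Ideal.under_def, PrimeSpectrum.comap_asIdeal, Ideal.comap_comap, ← IsScalarTower.algebraMap_eq]
      exact Ideal.over_def q₁.asIdeal p⟩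
    obtain ⟨Q0, hQ0, hQ0c, hQ0p⟩ := hUc _ hq₁ hover0
    haveI := hQ0
    haveI := hQ0p
    haveI : Algebra.IsPushout P S T S' := Algebra.IsPushout.symm inferInstance
    obtain ⟨Qs, hQs, h1, h2⟩ := Groth.L20.exists_prime_isPushout (R := P) (S := S) (R' := T) (S' := S') q₁.asIdeal Q0
      hQ0c.symm
    haveI : Qs.LiesOver Q0 := ⟨h2.symm⟩
    exact ⟨Qs, hQs, h1, Ideal.LiesOver.trans Qs Q0 p'⟩
  · intro A _ _ _ hA hu C _ _ _ _ _ _ _ _ _ Nc _ _ _ _ _ _ gN hgN
    let C₀ := A ⊗[R'] T
    letI : Algebra T C := ((algebraMap S' C).comp (algebraMap T S')).toAlgebra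
    haveI : IsScalarTower T S' C := IsScalarTower.of_algebraMap_eq' rfl
    haveI : IsScalarTower R' T C := IsScalarTower.of_algebraMap_eq fun r => by
      rw [IsScalarTower.algebraMap_apply T S' C, ← IsScalarTower.algebraMap_apply R' T S',
        ← IsScalarTower.algebraMap_apply R' S' C]
    let φC : C₀ →ₐ[A] C :=
      Algebra.TensorProduct.lift (Algebra.ofId A C) (IsScalarTower.toAlgHom R' T C) fun _ _ => Commute.all _ _
    letI : Algebra C₀ C := φC.toRingHom.toAlgebra
    haveI : IsScalarTower A C₀ C := IsScalarTower.of_algebraMap_eq' φC.comp_algebraMap.symm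
    haveI : IsScalarTower T C₀ C := IsScalarTower.of_algebraMap_eq fun t => by
      show algebraMap T C t = φC ((1 : A) ⊗ₜ[R'] t)
      erw [Algebra.TensorProduct.lift_tmul, map_one, one_mul]
      rfl
    haveI : IsScalarTower R' C₀ C := IsScalarTower.of_algebraMap_eq fun r => by
      rw [IsScalarTower.algebraMap_apply R' T C₀, ← IsScalarTower.algebraMap_apply T C₀ C,
        ← IsScalarTower.algebraMap_apply R' T C]
    letI : Algebra P C₀ := ((algebraMap T C₀).comp (algebraMap P T)).toAlgebra
    haveI : IsScalarTower P T C₀ := IsScalarTower.of_algebraMap_eq' rfl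
    letI : Algebra P C := ((algebraMap S C).comp (algebraMap P S)).toAlgebra
    haveI : IsScalarTower P S C := IsScalarTower.of_algebraMap_eq' rfl
    haveI : IsScalarTower P C₀ C := IsScalarTower.of_algebraMap_eq fun x => by
      rw [IsScalarTower.algebraMap_apply P T C₀, ← IsScalarTower.algebraMap_apply T C₀ C,
        IsScalarTower.algebraMap_apply T S' C, ← IsScalarTower.algebraMap_apply P T S',
        IsScalarTower.algebraMap_apply P S C, IsScalarTower.algebraMap_apply P S S',
        ← IsScalarTower.algebraMap_apply S S' C]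
    haveI : IsScalarTower R' S' C := inferInstance
    haveI h1 : Algebra.IsPushout T C₀ S' C := by
      haveI : Algebra.IsPushout R' T A C₀ := Algebra.IsPushout.symm inferInstance
      haveI : Algebra.IsPushout R' S' A C := Algebra.IsPushout.symm inferInstance
      exact Algebra.IsPushout.symm ((Algebra.IsPushout.comp_iff R' T A C₀).mp inferInstance)
    haveI : IsScalarTower P S' C := IsScalarTower.of_algebraMap_eq fun x => by
      rw [IsScalarTower.algebraMap_apply P S C, IsScalarTower.algebraMap_apply P S S',
        ← IsScalarTower.algebraMap_apply S S' C]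
    haveI : IsScalarTower P T C := IsScalarTower.of_algebraMap_eq fun x => by
      rw [IsScalarTower.algebraMap_apply T S' C, ← IsScalarTower.algebraMap_apply P T S',
        ← IsScalarTower.algebraMap_apply P S' C]
    haveI : Algebra.IsPushout P S C₀ C := by
      haveI : Algebra.IsPushout P T S S' := inferInstance
      exact Algebra.IsPushout.symm ((Algebra.IsPushout.comp_iff P T S S').mpr h1)
    letI : Module C₀ Nc := Module.compHom Nc (algebraMap C₀ C)
    haveI : IsScalarTower C₀ C Nc := IsScalarTower.of_algebraMap_smul fun _ _ => rfl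
    letI : Module P Nc := Module.compHom Nc (algebraMap P C)
    haveI : IsScalarTower P C Nc := IsScalarTower.of_algebraMap_smul fun _ _ => rfl
    haveI : IsScalarTower P C₀ Nc := IsScalarTower.of_algebraMap_smul fun x m => by
      show algebraMap C₀ C (algebraMap P C₀ x) • m = algebraMap P C x • m
      rw [← IsScalarTower.algebraMap_apply]
    haveI : IsScalarTower P S Nc := IsScalarTower.of_algebraMap_smul fun x m => by
      show algebraMap P S x • m = algebraMap P C x • m
      exact ((congrArg (fun c => c • m) (IsScalarTower.algebraMap_apply P S C x)).trans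
        (algebraMap_smul C (algebraMap P S x) m)).symm
    haveI : IsScalarTower A C₀ Nc := IsScalarTower.of_algebraMap_smul fun x m => by
      show algebraMap C₀ C (algebraMap A C₀ x) • m = x • m
      rw [← IsScalarTower.algebraMap_apply, algebraMap_smul]
    exact (H A hA hu C₀ Nc (gN.restrictScalars P)
      (Groth.L20.isBaseChange_restrictScalars (R := P) (S := S) (R' := C₀) (S' := C) hgN)).2

set_option maxHeartbeats 400000 in
/-- The chart over the base change to any algebra of the neighbourhood. -/
theorem exists_chart_local {R' S' A SA : Type u} [CommRing R'] [CommRing S'] [CommRing A] [CommRing SA] [Algebra R R']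
    [Algebra S S'] [Algebra R' S'] [Algebra R S'] [IsScalarTower R R' S'] [IsScalarTower R S S'] [Algebra.Etale R R']
    [Algebra.Etale S S'] [Algebra R A] [Algebra R' A] [IsScalarTower R R' A] [Algebra R SA] [Algebra S SA]
    [Algebra A SA] [IsScalarTower R S SA] [IsScalarTower R A SA] [Algebra.IsPushout R S A SA]
    (p : Ideal R) [p.IsPrime] (p' : Ideal R') [p'.IsPrime] (m : Ideal A) [m.IsPrime] (hm : TrivRes R p m)
    (hm' : TrivRes R' p' m) :
    ∃ (C : Type u) (_ : CommRing C) (_ : Algebra SA C) (_ : Algebra A C) (_ : Algebra S' C) (_ : Algebra R' C)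
      (_ : Algebra S C) (_ : IsScalarTower A SA C) (_ : IsScalarTower R' A C) (_ : IsScalarTower R' S' C)
      (_ : IsScalarTower S S' C) (_ : IsScalarTower S SA C),
      Algebra.IsPushout R' A S' C ∧ Algebra.Etale SA C ∧
      (∀ (Qs : Ideal S'), Qs.IsPrime → Qs.LiesOver p' → ∃ (x : Ideal C) (_ : x.IsPrime),
        x.LiesOver m ∧ x.comap (algebraMap S' C) = Qs ∧
          (∀ (_ : Qs.IsPrime), TrivRes S' Qs x)) ∧
      (∀ (Q : Ideal SA) [Q.IsPrime], Q.LiesOver m → ∀ (Qs : Ideal S'), Qs.IsPrime →
        Qs.comap (algebraMap S S') = Q.comap (algebraMap S SA) → Qs.LiesOver p' →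
        ∃ Q' : Ideal C, Q'.IsPrime ∧ Q'.comap (algebraMap SA C) = Q) := by
  haveI hSA : Algebra.IsPushout R A S SA := Algebra.IsPushout.symm inferInstance
  let C := A ⊗[R'] S'
  letI : Algebra S C := ((algebraMap S' C).comp (algebraMap S S')).toAlgebra
  haveI : IsScalarTower S S' C := IsScalarTower.of_algebraMap_eq' rfl
  haveI : IsScalarTower R S C := IsScalarTower.of_algebraMap_eq fun a => by
    show algebraMap R A a ⊗ₜ[R'] (1 : S') = (1 : A) ⊗ₜ[R'] algebraMap S S' (algebraMap R S a)
    rw [← IsScalarTower.algebraMap_apply R S S', IsScalarTower.algebraMap_apply R R' S',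
      IsScalarTower.algebraMap_apply R R' A]
    exact Algebra.TensorProduct.tmul_one_eq_one_tmul (R := R') (A := A) (B := S') (algebraMap R R' a)
  let φ₀ : A ⊗[R] S →ₐ[A] C :=
    Algebra.TensorProduct.lift (Algebra.ofId A C) (IsScalarTower.toAlgHom R S C) fun _ _ => Commute.all _ _
  let φ : SA →ₐ[A] C := φ₀.comp (Algebra.IsPushout.equiv R A S SA).symm.toAlgHom
  letI : Algebra SA C := φ.toRingHom.toAlgebra
  haveI : IsScalarTower A SA C := IsScalarTower.of_algebraMap_eq' φ.comp_algebraMap.symm
  haveI : IsScalarTower S SA C := IsScalarTower.of_algebraMap_eq fun b => by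
    show algebraMap S C b = φ (algebraMap S SA b)
    simp [φ, φ₀, Algebra.IsPushout.equiv_symm_algebraMap_right]
  -- `C` is a base change of the etale `R' ⊗ S`-algebra `S'`
  have het : Algebra.Etale SA C := by
    let T := R' ⊗[R] S
    let ψ : T →ₐ[R'] S' :=
      Algebra.TensorProduct.lift (Algebra.ofId R' S') (IsScalarTower.toAlgHom R S S') fun _ _ => Commute.all _ _
    letI : Algebra T S' := ψ.toRingHom.toAlgebra
    haveI : IsScalarTower R' T S' := IsScalarTower.of_algebraMap_eq' ψ.comp_algebraMap.symm
    haveI : IsScalarTower S T S' := IsScalarTower.of_algebraMap_eq fun s => by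
      show algebraMap S S' s = ψ ((1 : R') ⊗ₜ[R] s)
      erw [Algebra.TensorProduct.lift_tmul, map_one, one_mul]
      rfl
    haveI : Algebra.Etale S T := etale_pushout
    haveI : Algebra.Etale T S' := Algebra.Etale.of_restrictScalars S T S'
    letI : Algebra R' SA := ((algebraMap A SA).comp (algebraMap R' A)).toAlgebra
    haveI : IsScalarTower R' A SA := IsScalarTower.of_algebraMap_eq' rfl
    haveI : IsScalarTower R R' SA := IsScalarTower.of_algebraMap_eq fun r => by
      rw [IsScalarTower.algebraMap_apply R' A SA, ← IsScalarTower.algebraMap_apply R R' A,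
        ← IsScalarTower.algebraMap_apply R A SA]
    let χ : T →ₐ[R'] SA :=
      Algebra.TensorProduct.lift (Algebra.ofId R' SA) (IsScalarTower.toAlgHom R S SA) fun _ _ => Commute.all _ _
    letI : Algebra T SA := χ.toRingHom.toAlgebra
    haveI : IsScalarTower R' T SA := IsScalarTower.of_algebraMap_eq' χ.comp_algebraMap.symm
    haveI : IsScalarTower S T SA := IsScalarTower.of_algebraMap_eq fun s => by
      show algebraMap S SA s = χ ((1 : R') ⊗ₜ[R] s)
      erw [Algebra.TensorProduct.lift_tmul, map_one, one_mul]
      rfl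
    haveI : IsScalarTower R T SA := IsScalarTower.of_algebraMap_eq fun r => by
      rw [IsScalarTower.algebraMap_apply R S T, ← IsScalarTower.algebraMap_apply S T SA,
        ← IsScalarTower.algebraMap_apply R S SA]
    haveI : IsScalarTower R' SA C := IsScalarTower.of_algebraMap_eq fun r => by
      rw [IsScalarTower.algebraMap_apply R' A SA, ← IsScalarTower.algebraMap_apply A SA C,
        ← IsScalarTower.algebraMap_apply R' A C]
    haveI hT : Algebra.IsPushout R' A T SA := by
      haveI : Algebra.IsPushout R R' S T := inferInstance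
      exact (Algebra.IsPushout.comp_iff R R' S T).mp inferInstance
    letI : Algebra T C := ((algebraMap S' C).comp (algebraMap T S')).toAlgebra
    haveI : IsScalarTower T S' C := IsScalarTower.of_algebraMap_eq' rfl
    haveI : IsScalarTower T SA C := by
      refine IsScalarTower.of_algebraMap_eq' ?_
      refine Algebra.TensorProduct.ringHom_ext ?_ ?_
      · ext r
        show algebraMap S' C (ψ (r ⊗ₜ[R] (1 : S))) = φ (χ (r ⊗ₜ[R] (1 : S)))
        erw [Algebra.TensorProduct.lift_tmul, Algebra.TensorProduct.lift_tmul]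
        rw [map_one, map_one, mul_one, mul_one]
        show algebraMap S' C (algebraMap R' S' r) = φ (algebraMap R' SA r)
        rw [← IsScalarTower.algebraMap_apply, IsScalarTower.algebraMap_apply R' A SA, φ.commutes,
          ← IsScalarTower.algebraMap_apply]
      · ext s
        show algebraMap S' C (ψ ((1 : R') ⊗ₜ[R] s)) = φ (χ ((1 : R') ⊗ₜ[R] s))
        erw [Algebra.TensorProduct.lift_tmul, Algebra.TensorProduct.lift_tmul]
        rw [map_one, map_one, one_mul, one_mul]
        show algebraMap S' C (algebraMap S S' s) = algebraMap SA C (algebraMap S SA s)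
        rw [← IsScalarTower.algebraMap_apply, ← IsScalarTower.algebraMap_apply]
    haveI : Algebra.IsPushout R' T A SA := Algebra.IsPushout.symm hT
    haveI : Algebra.IsPushout R' S' A C := Algebra.IsPushout.symm inferInstance
    haveI : Algebra.IsPushout T S' SA C := (Algebra.IsPushout.comp_iff R' T A SA).mp inferInstance
    haveI : Algebra.IsPushout T SA S' C := Algebra.IsPushout.symm inferInstance
    exact Algebra.Etale.of_equiv (Algebra.IsPushout.equiv T SA S' C)
  refine ⟨C, inferInstance, inferInstance, inferInstance, inferInstance, inferInstance, inferInstance, inferInstance,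
    inferInstance, inferInstance, inferInstance, inferInstance, inferInstance, het, ?_, ?_⟩
  · intro Qs hQs hQsp
    haveI := hQs
    haveI := hQsp
    obtain ⟨x, hx, hxm, hxQ, -⟩ := exists_point_pushout p' Qs m hm'
    exact ⟨x, hx, hxm, hxQ.1.over.symm, fun _ => hxQ⟩
  · intro Q _ hQ Qs hQs hQQ hQsp
    haveI := hQs
    haveI := hQsp
    obtain ⟨Q', _, hQ'm, hQ'n, -⟩ := exists_point_pushout p' Qs m hm'
    haveI : (Q.comap (algebraMap S SA)).LiesOver p := ⟨by
      rw [Ideal.under_def, Ideal.comap_comap, ← IsScalarTower.algebraMap_eq, IsScalarTower.algebraMap_eq R A SA,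
        ← Ideal.comap_comap, ← Ideal.under_def (A := A), ← hQ.over]
      exact hm.liesOver.over⟩
    obtain ⟨Q₀, _, -, -, hu⟩ := exists_point_of_isPushout (B := R) (A := S) (B' := A) (A' := SA) p
      (Q.comap (algebraMap S SA)) m hm
    refine ⟨Q', inferInstance, ?_⟩
    rw [hu (Q'.comap (algebraMap SA C)) ⟨?_⟩ ⟨?_⟩, hu Q hQ ⟨rfl⟩]
    · rw [Ideal.under_def, Ideal.comap_comap, ← IsScalarTower.algebraMap_eq]
      exact hQ'm.over
    · rw [Ideal.under_def, Ideal.comap_comap, ← IsScalarTower.algebraMap_eq, IsScalarTower.algebraMap_eq S S' C,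
        ← Ideal.comap_comap, ← Ideal.under_def (A := S'), ← hQ'n.1.over]
      exact hQQ.symm

end Groth.L20.RG
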