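import Groth.Agent.L20.RG.DevOps
import Groth.Agent.L20.FibreSupport
import Groth.Agent.L20.FiberAss
import Groth.Agent.L02.SchDom.GeomFibre

/-!
# Complete dévissages from dévissage data
-/

set_option autoImplicit false
set_option linter.style.haveILetI false
set_option backward.isDefEq.respectTransparency.types false
universe u

open TensorProduct AlgebraicGeometry CategoryTheory Limits

noncomputable section

namespace Groth.L20.RG

variable {R : Type u} [CommRing R] {p : Ideal R} [p.IsPrime]

theorem geomIrredFibres_of_domFib {B : Type u} [CommRing B] [Algebra R B] [Algebra.Smooth R B] (h : DomFib R B) :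
    FlatCA.GeomIrredFibres R B := by
  haveI := h.faithfullyFlat
  refine geomIrredFibres_of_algClosed PrimeSpectrum.comap_surjective_of_faithfullyFlat fun K _ _ q => ?_
  letI : Algebra R K := (Spec.preimage q).hom.toAlgebra
  have hq : q = Spec.map (CommRingCat.ofHom (algebraMap R K)) := (Spec.map_preimage q).symm
  rw [hq]
  haveI : IsDomain (K ⊗[R] B) := h K
  haveI : IsDomain (B ⊗[R] K) := (Algebra.TensorProduct.comm R B K).toRingEquiv.toMulEquiv.isDomain _
  let e := pullbackSpecIso R B K
  haveI : Surjective e.inv := inferInstance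
  haveI : PreirreducibleSpace ↥(Spec (CommRingCat.of (B ⊗[R] K))) :=
    inferInstanceAs (PreirreducibleSpace (PrimeSpectrum (B ⊗[R] K)))
  have := (PreirreducibleSpace.isPreirreducible_univ (X := ↥(Spec (CommRingCat.of (B ⊗[R] K))))).image e.inv
    e.inv.continuous.continuousOn
  rw [Set.image_univ, e.inv.surjective.range_eq] at this
  exact ⟨this⟩

theorem isPrime_map_of_domFib {B : Type u} [CommRing B] [Algebra R B] [Module.Flat R B] (h : DomFib R B)
    (p : Ideal R) [p.IsPrime] : (p.map (algebraMap R B)).IsPrime := by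
  haveI := h p.ResidueField
  haveI : IsDomain (p.Fiber B) := this
  let ι : B →+* p.Fiber B := (Algebra.TensorProduct.includeRight (R := R) (A := p.ResidueField) (B := B)).toRingHom
  have : p.map (algebraMap R B) = RingHom.ker ι := Ideal.ext fun b => (one_tmul_eq_zero_iff p b).symm
  rw [this]
  exact RingHom.ker_isPrime ι

/-- A basic open set contained in the image. -/
theorem exists_basicOpen_range {B : Type u} [CommRing B] [Algebra R B] [Algebra.Smooth R B] (y : Ideal B) [y.IsPrime]
    [y.LiesOver p] : ∃ f ∉ p, ∀ P : Ideal R, P.IsPrime → f ∉ P → ∃ Q : Ideal B, Q.IsPrime ∧ Q.comap (algebraMap R B) = P := by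
  haveI : Module.Flat R B := Algebra.Smooth.flat R B
  have hopen := (PrimeSpectrum.isOpenMap_comap_of_hasGoingDown_of_finitePresentation (R := R) (S := B)).isOpen_range
  obtain ⟨_, ⟨f, rfl⟩, hf, hsub⟩ := PrimeSpectrum.isTopologicalBasis_basic_opens.exists_subset_of_mem_open
    (show (⟨p, inferInstance⟩ : PrimeSpectrum R) ∈ Set.range (PrimeSpectrum.comap (algebraMap R B)) from
      ⟨⟨y, inferInstance⟩, PrimeSpectrum.ext (Ideal.over_def y p).symm⟩) hopen
  refine ⟨f, hf, fun P hP hfP => ?_⟩
  obtain ⟨Q, hQ⟩ := hsub (show (⟨P, hP⟩ : PrimeSpectrum R) ∈ PrimeSpectrum.basicOpen f from hfP)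
  exact ⟨Q.asIdeal, Q.isPrime, congrArg PrimeSpectrum.asIdeal hQ⟩

theorem domFib_of_range {B R' B' : Type u} [CommRing B] [Algebra R B] [CommRing R'] [Algebra R R'] [CommRing B']
    [Algebra R' B'] [Algebra B B'] [Algebra R B'] [IsScalarTower R R' B'] [IsScalarTower R B B']
    [Algebra.IsPushout R R' B B'] (hnz : NZFib R B) {f : R}
    (hf : ∀ P : Ideal R, P.IsPrime → f ∉ P → ∃ Q : Ideal B, Q.IsPrime ∧ Q.comap (algebraMap R B) = P)
    (hu : IsUnit (algebraMap R R' f)) : DomFib R' B' := by
  intro K _ _
  letI : Algebra R K := ((algebraMap R' K).comp (algebraMap R R')).toAlgebra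
  haveI : IsScalarTower R R' K := IsScalarTower.of_algebraMap_eq' rfl
  have hfK : f ∉ RingHom.ker (algebraMap R K) := fun h => by
    rw [RingHom.mem_ker, IsScalarTower.algebraMap_apply R R' K] at h
    exact (hu.map (algebraMap R' K)).ne_zero h
  obtain ⟨Q, _, hQ⟩ := hf _ (RingHom.ker_isPrime _) hfK
  haveI := hnz K
  haveI : Nontrivial (K ⊗[R] B) := nontrivial_of_ne ((1 : K) ⊗ₜ[R] (1 : B)) 0
    (Groth.L02.SchDom.tmul_ne_zero_of_notMem K Q hQ 1 ((Ideal.ne_top_iff_one Q).mp Ideal.IsPrime.ne_top'))
  haveI : IsDomain (K ⊗[R] B) := NoZeroDivisors.to_isDomain _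
  let e : K ⊗[R'] B' ≃ₐ[R'] K ⊗[R] B :=
    (Algebra.TensorProduct.congr (AlgEquiv.refl (R := R') (A₁ := K)) (Algebra.IsPushout.equiv R R' B B').symm).trans
      ((Algebra.TensorProduct.cancelBaseChange R R' K K B).restrictScalars R')
  exact e.toRingEquiv.toMulEquiv.isDomain _

section LocDim

variable {S : Type u} [CommRing S] [Algebra R S] {N : Type u} [AddCommGroup N] [Module S N] {q : Ideal S}
  (st : Step R p S N q)

theorem Step.fibre_bij [hP : (p.map (algebraMap R st.B)).IsPrime] :
    Function.Bijective (st.α.baseChange (p.map (algebraMap R st.B)).ResidueField) :=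
  st.bij _ (Ideal.ker_algebraMap_residueField _)

/-- The support of the module of a step is the whole fibre. -/
theorem Step.support_eq_univ (hdom : DomFib R st.B) [Module R st.M] [IsScalarTower R st.B st.M] :
    Module.support (p.Fiber st.B) (FlatCA.fiberMod p st.B st.M) = Set.univ := by
  haveI := flat_of_smooth_relDim st.relDim
  haveI := st.finBA
  haveI := st.finM
  haveI : Module.Finite st.B st.M := Module.Finite.trans st.A st.M
  haveI := isPrime_map_of_domFib hdom p
  haveI : IsDomain (p.Fiber st.B) := hdom p.ResidueField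
  refine Set.eq_univ_of_forall fun x => ?_
  refine Module.mem_support_mono (p := ⟨⊥, Ideal.isPrime_bot⟩) bot_le ?_
  letI : Algebra st.B (p.Fiber st.B) := Algebra.TensorProduct.rightAlgebra
  refine (Groth.L20.FibreSupport.mem_support_baseChange st.B (p.Fiber st.B) st.M _).mpr ?_
  have : PrimeSpectrum.comap (algebraMap st.B (p.Fiber st.B)) ⟨⊥, Ideal.isPrime_bot⟩ =
      ⟨p.map (algebraMap R st.B), inferInstance⟩ :=
    PrimeSpectrum.ext (Ideal.ext fun b => by
      rw [PrimeSpectrum.comap_asIdeal, Ideal.mem_comap, Ideal.mem_bot]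
      exact one_tmul_eq_zero_iff p b)
  rw [this, Module.mem_support_iff_nontrivial_residueField_tensorProduct]
  haveI : Nonempty (Fin st.r) := ⟨⟨0, st.r_pos⟩⟩
  let κ := (p.map (algebraMap R st.B)).ResidueField
  let e := LinearEquiv.ofBijective (st.α.baseChange κ) st.fibre_bij
  haveI : Nontrivial (κ ⊗[st.B] (Fin st.r → st.B)) :=
    (TensorProduct.piScalarRight st.B st.B κ (Fin st.r)).toEquiv.nontrivial
  exact e.symm.toEquiv.nontrivial

theorem Step.locDim (hdom : DomFib R st.B) [Module R st.M] [IsScalarTower R st.B st.M] :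
    ∃ (x : PrimeSpectrum (p.Fiber st.B)) (hx : x ∈ Module.support (p.Fiber st.B) (FlatCA.fiberMod p st.B st.M)),
      x.asIdeal = FlatCA.fiberIdeal p st.y ∧
      FlatMor.localDim (Module.support (p.Fiber st.B) (FlatCA.fiberMod p st.B st.M)) ⟨x, hx⟩ = st.d := by
  have hsupp := st.support_eq_univ hdom
  haveI : (FlatCA.fiberIdeal p st.y).IsPrime := Groth.L20.isPrime_fiberIdeal p st.y
  refine ⟨⟨_, this⟩, by rw [hsupp]; trivial, rfl, ?_⟩
  rw [← Groth.L03.FibreLocalDim.localDim_homeomorph ((Homeomorph.setCongr hsupp).trans (Homeomorph.Set.univ _)) _]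
  haveI := st.relDim
  haveI : SmoothOfRelativeDimension st.d (Groth.L03.FibreLocalDim.f R st.B) := st.relDim
  exact (Groth.L03.FibreLocalDim.localDim_fiber_eq ⟨p, inferInstance⟩ _).trans (Groth.L20.SmoothDim.main st.d _ _)

/-- A one step complete dévissage. -/
theorem Step.complete_last [q.IsPrime] (hdom : DomFib R st.B) (hsurj : Function.Surjective st.α) :
    FlatCA.HasCompleteDevissageAt R S N p q := by
  haveI := smooth_of_relDim st.relDim
  haveI := isPrime_map_of_domFib hdom p
  letI : Module R st.M := Module.compHom st.M (algebraMap R st.B)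
  haveI : IsScalarTower R st.B st.M := IsScalarTower.of_algebraMap_smul fun _ _ => rfl
  refine ⟨{
    n := 1
    pos := Nat.one_pos
    A := fun _ => st.A
    B := fun _ => st.B
    M := fun _ => st.M
    r := fun _ => st.r
    α := fun _ => st.α
    surjSA := st.surj
    fpSA := st.fp
    surjBA' := fun i h => absurd h (by omega)
    fpBA' := fun i h => absurd h (by omega)
    finiteBA := fun _ _ => st.finBA
    smooth := fun _ _ => inferInstance
    geomIrred := fun _ _ => geomIrredFibres_of_domFib hdom
    finiteM := fun _ _ => st.finM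
    isoN := st.iso
    isoCoker := fun i h => absurd h (by omega)
    fibreIso := fun _ _ => st.fibre_bij
    cokerLast := hsurj }, ⟨?_⟩⟩
  exact {
    qB := fun _ => st.y
    qA := fun _ => st.z
    pureTrans := fun _ _ => st.pure
    uniq := fun _ _ => st.uniq
    q0 := st.zq
    qStep := fun i h => absurd h (by simp)
    d := fun _ => st.d
    relDim := fun _ _ => st.relDim
    locDim := fun _ _ => st.locDim hdom }

/-- Prepending a step to a complete dévissage. -/
theorem Step.complete_cons [q.IsPrime] (hdom : DomFib R st.B)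
    (h : FlatCA.HasCompleteDevissageAt R st.B (st.M ⧸ LinearMap.range st.α) p st.y) :
    FlatCA.HasCompleteDevissageAt R S N p q := by
  obtain ⟨D, ⟨T⟩⟩ := h
  haveI := smooth_of_relDim st.relDim
  haveI := isPrime_map_of_domFib hdom p
  letI : Module R st.M := Module.compHom st.M (algebraMap R st.B)
  haveI : IsScalarTower R st.B st.M := IsScalarTower.of_algebraMap_smul fun _ _ => rfl
  refine ⟨{
    n := D.n + 1
    pos := Nat.succ_pos _
    A := fun i => match i with | 0 => st.A | k + 1 => D.A k
    B := fun i => match i with | 0 => st.B | k + 1 => D.B k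
    M := fun i => match i with | 0 => st.M | k + 1 => D.M k
    r := fun i => match i with | 0 => st.r | k + 1 => D.r k
    cA := fun i => match i with | 0 => st.cA | k + 1 => D.cA k
    cB := fun i => match i with | 0 => st.cB | k + 1 => D.cB k
    aRA := fun i => match i with | 0 => st.aRA | k + 1 => D.aRA k
    aRB := fun i => match i with | 0 => st.aRB | k + 1 => D.aRB k
    aBA := fun i => match i with | 0 => st.aBA | k + 1 => D.aBA k
    tRBA := fun i => match i with | 0 => st.tRBA | k + 1 => D.tRBA k
    aSA := st.aSA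
    tRSA := st.tRSA
    aBA' := fun i => match i with | 0 => D.aSA | k + 1 => D.aBA' k
    tRBA' := fun i => match i with | 0 => D.tRSA | k + 1 => D.tRBA' k
    gM := fun i => match i with | 0 => st.gM | k + 1 => D.gM k
    mAM := fun i => match i with | 0 => st.mAM | k + 1 => D.mAM k
    mBM := fun i => match i with | 0 => st.mBM | k + 1 => D.mBM k
    tBAM := fun i => match i with | 0 => st.tBAM | k + 1 => D.tBAM k
    mRM := fun i => match i with | 0 => inferInstanceAs (Module R st.M) | k + 1 => D.mRM k
    tRBM := fun i => match i with | 0 => inferInstanceAs (IsScalarTower R st.B st.M) | k + 1 => D.tRBM k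
    mSM := st.mSM
    tSAM := st.tSAM
    mB'M := fun i => match i with | 0 => D.mSM | k + 1 => D.mB'M k
    tB'AM := fun i => match i with | 0 => D.tSAM | k + 1 => D.tB'AM k
    hp := fun i => match i with | 0 => isPrime_map_of_domFib hdom p | k + 1 => D.hp k
    α := fun i => match i with | 0 => st.α | k + 1 => D.α k
    surjSA := st.surj
    fpSA := st.fp
    surjBA' := fun i => match i with | 0 => fun _ => D.surjSA | k + 1 => fun h => D.surjBA' k (by omega)
    fpBA' := fun i => match i with | 0 => fun _ => D.fpSA | k + 1 => fun h => D.fpBA' k (by omega)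
    finiteBA := fun i => match i with | 0 => fun _ => st.finBA | k + 1 => fun h => D.finiteBA k (by omega)
    smooth := fun i => match i with | 0 => fun _ => inferInstanceAs (Algebra.Smooth R st.B) | k + 1 => fun h => D.smooth k (by omega)
    geomIrred := fun i => match i with
      | 0 => fun _ => geomIrredFibres_of_domFib hdom
      | k + 1 => fun h => D.geomIrred k (by omega)
    finiteM := fun i => match i with | 0 => fun _ => st.finM | k + 1 => fun h => D.finiteM k (by omega)
    isoN := st.iso
    isoCoker := fun i => match i with | 0 => fun _ => D.isoN | k + 1 => fun h => D.isoCoker k (by omega)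
    fibreIso := fun i => match i with | 0 => fun _ => st.fibre_bij | k + 1 => fun h => D.fibreIso k (by omega)
    cokerLast := by
      obtain ⟨m, hm⟩ : ∃ m, D.n = m + 1 := ⟨D.n - 1, by have := D.pos; omega⟩
      have hl := D.cokerLast
      rw [show D.n - 1 = m by omega] at hl
      rw [show D.n + 1 - 1 = m + 1 by omega]
      exact hl }, ⟨?_⟩⟩
  exact {
    qB := fun i => match i with | 0 => st.y | k + 1 => T.qB k
    qA := fun i => match i with | 0 => st.z | k + 1 => T.qA k
    hqB := fun i => match i with | 0 => st.hy | k + 1 => T.hqB k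
    hqA := fun i => match i with | 0 => st.hz | k + 1 => T.hqA k
    overB := fun i => match i with | 0 => st.yOver | k + 1 => T.overB k
    overA := fun i => match i with | 0 => st.zOver | k + 1 => T.overA k
    pureTrans := fun i => match i with | 0 => fun _ => st.pure | k + 1 => fun h => T.pureTrans k (Nat.lt_of_succ_lt_succ h)
    uniq := fun i => match i with | 0 => fun _ => st.uniq | k + 1 => fun h => T.uniq k (Nat.lt_of_succ_lt_succ h)
    q0 := st.zq
    qStep := fun i => match i with | 0 => fun _ => T.q0 | k + 1 => fun h => T.qStep k (Nat.lt_of_succ_lt_succ h)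
    d := fun i => match i with | 0 => st.d | k + 1 => T.d k
    relDim := fun i => match i with | 0 => fun _ => st.relDim | k + 1 => fun h => T.relDim k (Nat.lt_of_succ_lt_succ h)
    locDim := fun i => match i with | 0 => fun _ => st.locDim hdom | k + 1 => fun h => T.locDim k (Nat.lt_of_succ_lt_succ h) }

end LocDim

/-- **Dévissage data give a complete dévissage** after shrinking the base. -/
theorem Dev.exists_complete {S : Type u} [CommRing S] [Algebra R S] {N : Type u} [AddCommGroup N] [Module S N]
    {q : Ideal S} (h : Dev R p S N q) :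
    ∃ f ∉ p, ∀ (R' : Type u) [CommRing R'] [Algebra R R'] (p' : Ideal R') [p'.IsPrime], TrivRes R p p' →
      IsUnit (algebraMap R R' f) →
      ∀ (S' : Type u) [CommRing S'] [Algebra R' S'] [Algebra S S'] [Algebra R S'] [IsScalarTower R R' S']
        [IsScalarTower R S S'] [Algebra.IsPushout R R' S S'] (N' : Type u) [AddCommGroup N'] [Module S' N']
        [Module S N'] [IsScalarTower S S' N'] (g : N →ₗ[S] N'), IsBaseChange S' g →
        ∀ (q' : Ideal S') [q'.IsPrime] [q'.LiesOver p'], q'.comap (algebraMap S S') = q →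
        FlatCA.HasCompleteDevissageAt R' S' N' p' q' := by
  induction h with
  | last st hs =>
    haveI := smooth_of_relDim st.relDim
    obtain ⟨f, hf, hrange⟩ := exists_basicOpen_range (p := p) st.y
    refine ⟨f, hf, ?_⟩
    intro R' _ _ p' _ hp hu S' _ _ _ _ _ _ _ N' _ _ _ _ g hg q' _ _ hq'
    obtain ⟨st', _, _, _, _, _, -, _, _, g', -, hsurj⟩ := st.exists_baseChange hp S' N' g hg q' hq'
    exact st'.complete_last (domFib_of_range (B := st.B) st.nz hrange hu) (hsurj hs)
  | cons st _ ih =>
    haveI := smooth_of_relDim st.relDim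
    obtain ⟨f, hf, hrange⟩ := exists_basicOpen_range (p := p) st.y
    obtain ⟨f₁, hf₁, ih⟩ := ih
    refine ⟨f * f₁, fun h => (Ideal.IsPrime.mem_or_mem' h).elim hf hf₁, ?_⟩
    intro R' _ _ p' _ hp hu S' _ _ _ _ _ _ _ N' _ _ _ _ g hg q' _ _ hq'
    rw [map_mul, IsUnit.mul_iff] at hu
    obtain ⟨st', _, _, _, _, _, hy, _, _, g', hg', -⟩ := st.exists_baseChange hp S' N' g hg q' hq'
    exact st'.complete_cons (domFib_of_range (B := st.B) st.nz hrange hu.1)
      (ih R' p' hp hu.2 st'.B _ g' hg' st'.y hy)

end Groth.L20.RG
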