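import Groth.Agent.L20.RG.Dev
import Mathlib.RingTheory.TensorProduct.Quotient

/-!
# Base change and shrinking of dévissages
-/

set_option autoImplicit false
set_option linter.style.haveILetI false
set_option backward.isDefEq.respectTransparency.types false
universe u

open TensorProduct AlgebraicGeometry CategoryTheory Limits

noncomputable section

namespace Groth.L20.RG

section Lemmas

variable {R B : Type u} [CommRing R] [CommRing B] [Algebra R B] [Module.Flat R B] (p : Ideal R) [p.IsPrime]

/-- The ideal `pB` of a flat algebra is the kernel of the map to the fibre. -/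
theorem one_tmul_eq_zero_iff (b : B) :
    ((1 : p.ResidueField) ⊗ₜ[R] b : p.Fiber B) = 0 ↔ b ∈ p.map (algebraMap R B) := by
  let j : R ⧸ p →ₗ[R] p.ResidueField := (IsScalarTower.toAlgHom R (R ⧸ p) p.ResidueField).toLinearMap
  have hj : Function.Injective j := IsFractionRing.injective (R ⧸ p) p.ResidueField
  have hinj := Module.Flat.rTensor_preserves_injective_linearMap (M := B) j hj
  have h1 : ((1 : R ⧸ p) ⊗ₜ[R] b) = 0 ↔ b ∈ p.map (algebraMap R B) := by
    let e := Algebra.TensorProduct.quotIdealMapEquivTensorQuot B p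
    rw [← (TensorProduct.comm R (R ⧸ p) B).map_eq_zero_iff, TensorProduct.comm_tmul,
      ← Ideal.Quotient.eq_zero_iff_mem, ← e.toLinearEquiv.map_eq_zero_iff]
    refine iff_of_eq (congrArg (fun t => t = (0 : B ⊗[R] (R ⧸ p))) ?_)
    show b ⊗ₜ[R] (1 : R ⧸ p) = e (Ideal.Quotient.mk _ b)
    rw [Algebra.TensorProduct.quotIdealMapEquivTensorQuot_mk]
  rw [← h1, ← map_eq_zero_iff _ hinj, LinearMap.rTensor_tmul]
  show _ ↔ (algebraMap (R ⧸ p) p.ResidueField 1) ⊗ₜ[R] b = 0
  rw [map_one]

end Lemmas

section SmoothRel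

variable {R R' B B' : Type u} [CommRing R] [CommRing R'] [CommRing B] [CommRing B'] [Algebra R R'] [Algebra R B]
  [Algebra R B'] [Algebra R' B'] [Algebra B B'] [IsScalarTower R R' B'] [IsScalarTower R B B']

/-- Relative dimension is stable under change of the base. -/
theorem smoothRelDim_baseChange [Algebra.IsPushout R R' B B'] {n : ℕ} (h : FlatCA.SmoothRelDim n R B) :
    FlatCA.SmoothRelDim n R' B' := by
  have sq : IsPullback (Spec.map (CommRingCat.ofHom (algebraMap R' B'))) (Spec.map (CommRingCat.ofHom (algebraMap B B')))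
      (Spec.map (CommRingCat.ofHom (algebraMap R R'))) (Spec.map (CommRingCat.ofHom (algebraMap R B))) :=
    (isPullback_SpecMap_of_isPushout _ _ _ _ (CommRingCat.isPushout_of_isPushout R R' B B'))
  exact (smoothOfRelativeDimension_isStableUnderBaseChange n).of_isPullback sq.flip h

omit [Algebra R' B'] [IsScalarTower R R' B'] [Algebra R R'] in
/-- Relative dimension is stable under localisation. -/
theorem smoothRelDim_away (v : B) [IsLocalization.Away v B'] {n : ℕ} (h : FlatCA.SmoothRelDim n R B) :
    FlatCA.SmoothRelDim n R B' := by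
  let j := Spec.map (CommRingCat.ofHom (algebraMap B B'))
  haveI : IsOpenImmersion j := IsOpenImmersion.of_isLocalization v
  haveI := h
  have hc : SmoothOfRelativeDimension (0 + n) (j ≫ Spec.map (CommRingCat.ofHom (algebraMap R B))) := inferInstance
  rw [zero_add] at hc
  show SmoothOfRelativeDimension n _
  rw [IsScalarTower.algebraMap_eq R B B', CommRingCat.ofHom_comp, Spec.map_comp]
  exact hc

end SmoothRel

theorem flat_of_smooth_relDim {R B : Type u} [CommRing R] [CommRing B] [Algebra R B] {n : ℕ}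
    (h : FlatCA.SmoothRelDim n R B) : Module.Flat R B :=
  haveI := smooth_of_relDim h
  inferInstance

section BaseChange

attribute [local instance] Algebra.TensorProduct.rightAlgebra

variable {R : Type u} [CommRing R] {p : Ideal R} [p.IsPrime]

theorem hξ_baseChange {B R' B' : Type u} [CommRing B] [Algebra R B] [Module.Flat R B] [CommRing R'] [Algebra R R']
    [CommRing B'] [Algebra R' B'] [Algebra B B'] [Algebra R B'] [IsScalarTower R R' B'] [IsScalarTower R B B']
    [Algebra.IsPushout R R' B B'] (p' : Ideal R') [p'.IsPrime] [p'.LiesOver p] :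
    (p'.map (algebraMap R' B')).comap (algebraMap B B') = p.map (algebraMap R B) := by
  refine le_antisymm (fun b hb => ?_) ?_
  · rw [← one_tmul_eq_zero_iff]
    rw [Ideal.mem_comap] at hb
    haveI : Module.Flat R' B' :=
      Module.Flat.of_linearEquiv (Algebra.IsPushout.equiv R R' B B').toLinearEquiv.symm
    rw [← one_tmul_eq_zero_iff] at hb
    let e : p'.ResidueField ⊗[R'] B' ≃ₐ[R'] p'.ResidueField ⊗[R] B :=
      (Algebra.TensorProduct.congr (AlgEquiv.refl (R := R') (A₁ := p'.ResidueField))
        (Algebra.IsPushout.equiv R R' B B').symm).trans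
        ((Algebra.TensorProduct.cancelBaseChange R R' p'.ResidueField p'.ResidueField B).restrictScalars R')
    have h2 : e ((1 : p'.ResidueField) ⊗ₜ[R'] algebraMap B B' b) = (1 : p'.ResidueField) ⊗ₜ[R] b := by
      simp [e, Algebra.IsPushout.equiv_symm_algebraMap_right]
    have h3 : (1 : p'.ResidueField) ⊗ₜ[R] b = 0 := by rw [← h2, hb, map_zero]
    let i : p.ResidueField →ₐ[R] p'.ResidueField :=
      Ideal.ResidueField.mapₐ p p' (Algebra.ofId R R') (Ideal.over_def p' p)
    have hi := Module.Flat.rTensor_preserves_injective_linearMap (M := B) i.toLinearMap i.toRingHom.injective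
    refine (map_eq_zero_iff _ hi).mp ?_
    rw [LinearMap.rTensor_tmul, AlgHom.toLinearMap_apply, map_one, h3]
  · rw [Ideal.map_le_iff_le_comap]
    intro a ha
    rw [Ideal.mem_comap, Ideal.mem_comap, ← IsScalarTower.algebraMap_apply, IsScalarTower.algebraMap_apply R R' B']
    exact Ideal.mem_map_of_mem _ ((Ideal.mem_of_liesOver p' p a).mp ha)

variable {R' : Type u} [CommRing R'] [Algebra R R'] {p' : Ideal R'} [p'.IsPrime]

set_option maxHeartbeats 400000 in
/-- One step after a change of the base. -/
theorem Step.exists_baseChange {S : Type u} [CommRing S] [Algebra R S] {N : Type u} [AddCommGroup N] [Module S N]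
    {q : Ideal S} (st : Step R p S N q) (hp : TrivRes R p p')
    (S' : Type u) [CommRing S'] [Algebra R' S'] [Algebra S S'] [Algebra R S'] [IsScalarTower R R' S']
    [IsScalarTower R S S'] [Algebra.IsPushout R R' S S'] (N' : Type u) [AddCommGroup N'] [Module S' N'] [Module S N']
    [IsScalarTower S S' N'] (f : N →ₗ[S] N') (hf : IsBaseChange S' f) (q' : Ideal S') [q'.IsPrime] [q'.LiesOver p']
    (hq' : q'.comap (algebraMap S S') = q) :
    ∃ (st' : Step R' p' S' N' q') (_ : Algebra st.B st'.B) (_ : Algebra R st'.B) (_ : IsScalarTower R R' st'.B)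
      (_ : IsScalarTower R st.B st'.B) (_ : Algebra.IsPushout R R' st.B st'.B),
      st'.y.comap (algebraMap st.B st'.B) = st.y ∧
      ∃ (_ : Module st.B st'.M) (_ : IsScalarTower st.B st'.B st'.M)
        (g : (st.M ⧸ LinearMap.range st.α) →ₗ[st.B] (st'.M ⧸ LinearMap.range st'.α)),
        IsBaseChange st'.B g ∧ (Function.Surjective st.α → Function.Surjective st'.α) := by
  haveI := hp.liesOver
  haveI := flat_of_smooth_relDim st.relDim
  obtain ⟨y', _, hy'p, hyy', hy'u⟩ := exists_point_pushout p st.y p' hp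
  haveI := hy'p
  let A' := R' ⊗[R] st.A
  let B' := R' ⊗[R] st.B
  let φBA : B' →ₐ[R'] A' := Algebra.TensorProduct.map (AlgHom.id R' R') (IsScalarTower.toAlgHom R st.B st.A)
  letI : Algebra B' A' := φBA.toRingHom.toAlgebra
  haveI : IsScalarTower R' B' A' := IsScalarTower.of_algebraMap_eq' φBA.comp_algebraMap.symm
  let e : R' ⊗[R] S ≃ₐ[R'] S' := Algebra.IsPushout.equiv R R' S S'
  let φSA : S' →ₐ[R'] A' :=
    (Algebra.TensorProduct.map (AlgHom.id R' R') (IsScalarTower.toAlgHom R S st.A)).comp e.symm.toAlgHom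
  letI : Algebra S' A' := φSA.toRingHom.toAlgebra
  haveI : IsScalarTower R' S' A' := IsScalarTower.of_algebraMap_eq' φSA.comp_algebraMap.symm
  letI : Algebra st.B A' := ((algebraMap st.A A').comp (algebraMap st.B st.A)).toAlgebra
  haveI : IsScalarTower st.B st.A A' := IsScalarTower.of_algebraMap_eq' rfl
  haveI : IsScalarTower st.B B' A' := IsScalarTower.of_algebraMap_eq fun b => by
    show (1 : R') ⊗ₜ[R] algebraMap st.B st.A b = φBA ((1 : R') ⊗ₜ[R] b)
    show _ = Algebra.TensorProduct.map _ _ _
    rw [Algebra.TensorProduct.map_tmul]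
    rfl
  letI : Algebra S A' := ((algebraMap st.A A').comp (algebraMap S st.A)).toAlgebra
  haveI : IsScalarTower S st.A A' := IsScalarTower.of_algebraMap_eq' rfl
  haveI : IsScalarTower S S' A' := IsScalarTower.of_algebraMap_eq fun s => by
    show (1 : R') ⊗ₜ[R] algebraMap S st.A s = φSA (algebraMap S S' s)
    simp [φSA, e, Algebra.IsPushout.equiv_symm_algebraMap_right]
  haveI : IsScalarTower R S' A' := IsScalarTower.of_algebraMap_eq fun r => by
    rw [IsScalarTower.algebraMap_apply R R' S', ← IsScalarTower.algebraMap_apply R' S' A',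
      ← IsScalarTower.algebraMap_apply R R' A']
  haveI : IsScalarTower R B' A' := IsScalarTower.of_algebraMap_eq fun r => by
    rw [IsScalarTower.algebraMap_apply R R' B', ← IsScalarTower.algebraMap_apply R' B' A',
      ← IsScalarTower.algebraMap_apply R R' A']
  haveI : Algebra.IsPushout R R' st.A A' := inferInstance
  haveI : Algebra.IsPushout R R' st.B B' := inferInstance
  haveI : Algebra.IsPushout st.B B' st.A A' := by
    haveI : Algebra.IsPushout R st.B R' B' := Algebra.IsPushout.symm inferInstance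
    exact Algebra.IsPushout.symm ((Algebra.IsPushout.comp_iff R st.B R' B').mp (Algebra.IsPushout.symm inferInstance))
  haveI : Algebra.IsPushout S S' st.A A' := by
    haveI : Algebra.IsPushout R S R' S' := Algebra.IsPushout.symm inferInstance
    exact Algebra.IsPushout.symm ((Algebra.IsPushout.comp_iff R S R' S').mp (Algebra.IsPushout.symm inferInstance))
  obtain ⟨z', _, hz'y, hz'z, hz'u⟩ :=
    exists_point_of_isPushout (B := st.B) (A := st.A) (B' := B') (A' := A') st.y st.z y' hyy'
  haveI := hz'y
  have huniq : ∀ (z₁ : Ideal A') [z₁.IsPrime], z₁.LiesOver y' → z₁ = z' := fun z₁ _ h1 => by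
    haveI := h1
    haveI := hyy'.1
    haveI : z₁.LiesOver st.y := Ideal.LiesOver.trans z₁ y' st.y
    haveI : (z₁.comap (algebraMap st.A A')).LiesOver st.y := ⟨by
      rw [Ideal.under_def, Ideal.comap_comap, ← IsScalarTower.algebraMap_eq]
      exact Ideal.over_def z₁ st.y⟩
    exact hz'u z₁ h1 ⟨(st.uniq _ inferInstance).symm⟩
  haveI : z'.LiesOver p' := Ideal.LiesOver.trans z' y' p'
  have hzq : z'.comap (algebraMap S' A') = q' := by
    haveI hqp : q.IsPrime := st.zq ▸ inferInstance
    haveI : q.LiesOver p := by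
      rw [← st.zq]
      refine ⟨?_⟩
      rw [Ideal.under_def, Ideal.comap_comap, ← IsScalarTower.algebraMap_eq]
      haveI : st.z.LiesOver p := Ideal.LiesOver.trans st.z st.y p
      exact Ideal.over_def st.z p
    obtain ⟨Q, _, -, -, hQu⟩ := exists_point_of_isPushout (B := R) (A := S) (B' := R') (A' := S') p q p' hp
    have h1 : (z'.comap (algebraMap S' A')).LiesOver p' := ⟨by
      rw [Ideal.under_def, Ideal.comap_comap, ← IsScalarTower.algebraMap_eq]
      exact Ideal.over_def z' p'⟩
    have h2 : (z'.comap (algebraMap S' A')).LiesOver q := ⟨by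
      rw [Ideal.under_def, Ideal.comap_comap, ← IsScalarTower.algebraMap_eq, IsScalarTower.algebraMap_eq S st.A A',
        ← Ideal.comap_comap, ← Ideal.under_def (A := st.A), ← hz'z.over, st.zq]⟩
    rw [hQu _ h1 h2, hQu q' inferInstance ⟨hq'.symm⟩]
  refine ⟨Step.map (S' := S') (B' := B') (A' := A') st y' hp hyy' z' huniq q' hzq
    (smoothRelDim_baseChange st.relDim) (st.nz.baseChange R' B') (hξ_baseChange p') hf,
    (inferInstance : Algebra st.B B'), (inferInstance : Algebra R B'), (inferInstance : IsScalarTower R R' B'),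
    (inferInstance : IsScalarTower R st.B B'), (inferInstance : Algebra.IsPushout R R' st.B B'), hyy'.1.over.symm,
    (inferInstance : Module st.B (A' ⊗[st.A] st.M)), (inferInstance : IsScalarTower st.B B' (A' ⊗[st.A] st.M)),
    cokerMap st.α _, isBaseChange_cokerMap st.α _, fun h => surjective_mapFree st.α _ h⟩

/-- **Base change** of a dévissage along a map with trivial residue field extension. -/
theorem Dev.baseChange {S : Type u} [CommRing S] [Algebra R S] {N : Type u} [AddCommGroup N] [Module S N]
    {q : Ideal S} (h : Dev R p S N q) (hp : TrivRes R p p') :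
    ∀ (S' : Type u) [CommRing S'] [Algebra R' S'] [Algebra S S'] [Algebra R S'] [IsScalarTower R R' S']
      [IsScalarTower R S S'] [Algebra.IsPushout R R' S S'] (N' : Type u) [AddCommGroup N'] [Module S' N'] [Module S N']
      [IsScalarTower S S' N'] (f : N →ₗ[S] N'), IsBaseChange S' f → ∀ (q' : Ideal S') [q'.IsPrime] [q'.LiesOver p'],
      q'.comap (algebraMap S S') = q → Dev R' p' S' N' q' := by
  induction h with
  | last st hs =>
    intro S' _ _ _ _ _ _ _ N' _ _ _ _ f hf q' _ _ hq'
    obtain ⟨st', _, _, _, _, _, -, _, _, g, -, hsurj⟩ := st.exists_baseChange hp S' N' f hf q' hq'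
    exact Dev.last st' (hsurj hs)
  | cons st _ ih =>
    intro S' _ _ _ _ _ _ _ N' _ _ _ _ f hf q' _ _ hq'
    obtain ⟨st', _, _, _, _, _, hy, _, _, g, hg, -⟩ := st.exists_baseChange hp S' N' f hf q' hq'
    exact Dev.cons st' (ih st'.B _ g hg st'.y hy)

end BaseChange

theorem trivRes_id {A : Type u} [CommRing A] (a : Ideal A) [a.IsPrime] : TrivRes A a a := by
  refine ⟨⟨Ideal.comap_id a |>.symm⟩, ?_⟩
  have : Ideal.ResidueField.mapₐ a a (Algebra.ofId A A) (Ideal.comap_id a).symm = AlgHom.id A _ := by
    ext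
  rw [this]
  exact Function.bijective_id

section Shrink

variable {R : Type u} [CommRing R] {p : Ideal R} [p.IsPrime]

/-- Finite maps are closed: a basic open set around the unique point. -/
theorem exists_dvd_algebraMap {B A : Type u} [CommRing B] [CommRing A] [Algebra B A] [Module.Finite B A] (y : Ideal B)
    [y.IsPrime] (z : Ideal A) [z.IsPrime] (huniq : ∀ (z₁ : Ideal A) [z₁.IsPrime], z₁.LiesOver y → z₁ = z) (a : A)
    (ha : a ∉ z) : ∃ v ∉ y, a ∣ algebraMap B A v := by
  have hcl : IsClosed (PrimeSpectrum.comap (algebraMap B A) '' PrimeSpectrum.zeroLocus {a}) :=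
    PrimeSpectrum.isClosedMap_comap_of_isIntegral _ (algebraMap_isIntegral_iff.mpr (Algebra.IsIntegral.of_finite B A))
      _ (PrimeSpectrum.isClosed_zeroLocus _)
  have hy : (⟨y, inferInstance⟩ : PrimeSpectrum B) ∈
      (PrimeSpectrum.comap (algebraMap B A) '' PrimeSpectrum.zeroLocus {a})ᶜ := by
    rintro ⟨w, hw, hwy⟩
    have := huniq w.asIdeal ⟨(congrArg PrimeSpectrum.asIdeal hwy).symm⟩
    exact ha (this ▸ hw rfl)
  obtain ⟨_, ⟨_, ⟨v, rfl⟩, rfl⟩, hv, hsub⟩ :=
    PrimeSpectrum.isBasis_basic_opens.exists_subset_of_mem_open hy hcl.isOpen_compl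
  have hle : algebraMap B A v ∈ (Ideal.span {a}).radical := by
    rw [← PrimeSpectrum.vanishingIdeal_zeroLocus_eq_radical, PrimeSpectrum.mem_vanishingIdeal]
    intro w hw
    rw [PrimeSpectrum.zeroLocus_span] at hw
    by_contra hvw
    exact hsub (show PrimeSpectrum.comap (algebraMap B A) w ∈ (PrimeSpectrum.basicOpen v : Set (PrimeSpectrum B)) from hvw)
      ⟨w, hw, rfl⟩
  obtain ⟨k, hk⟩ := hle
  exact ⟨v ^ k, fun h => hv (Ideal.IsPrime.mem_of_pow_mem inferInstance k h), by
    rw [map_pow]; exact Ideal.mem_span_singleton.mp hk⟩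

set_option maxHeartbeats 400000 in
/-- One step shrunk along a basic open set of the smooth algebra. -/
theorem Step.exists_shrink {S : Type u} [CommRing S] [Algebra R S] {N : Type u} [AddCommGroup N] [Module S N]
    {q : Ideal S} [q.IsPrime] (st : Step R p S N q) (g : S) (hg : g ∉ q) :
    ∃ v ∉ st.y, ∀ v₁ ∉ st.y, v ∣ v₁ → ∃ h ∉ q, g ∣ h ∧
      ∀ (S' : Type u) [CommRing S'] [Algebra S S'] [Algebra R S'] [IsScalarTower R S S'] [IsLocalization.Away h S']
        (N' : Type u) [AddCommGroup N'] [Module S' N'] [Module S N'] [IsScalarTower S S' N'] (f : N →ₗ[S] N'),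
        IsBaseChange S' f → ∀ (q' : Ideal S') [q'.IsPrime], q'.comap (algebraMap S S') = q →
        ∃ (st' : Step R p S' N' q') (_ : Algebra st.B st'.B) (_ : IsScalarTower R st.B st'.B)
          (_ : IsLocalization.Away v₁ st'.B), st'.y.comap (algebraMap st.B st'.B) = st.y ∧
          ∃ (_ : Module st.B st'.M) (_ : IsScalarTower st.B st'.B st'.M)
            (g' : (st.M ⧸ LinearMap.range st.α) →ₗ[st.B] (st'.M ⧸ LinearMap.range st'.α)),
            IsBaseChange st'.B g' ∧ (Function.Surjective st.α → Function.Surjective st'.α) := by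
  haveI := st.finBA
  have hgz : algebraMap S st.A g ∉ st.z := fun h => hg (st.zq ▸ h)
  obtain ⟨v, hvy, hgv⟩ := exists_dvd_algebraMap st.y st.z st.uniq _ hgz
  refine ⟨v, hvy, fun v₁ hv₁ hvv₁ => ?_⟩
  have hgv₁ : algebraMap S st.A g ∣ algebraMap st.B st.A v₁ := hgv.trans (map_dvd _ hvv₁)
  have hv₁z : algebraMap st.B st.A v₁ ∉ st.z := fun h => hv₁ ((Ideal.mem_of_liesOver st.z st.y v₁).mpr h)
  obtain ⟨t, ht⟩ := st.surj (algebraMap st.B st.A v₁)
  have hhz : algebraMap S st.A (g * t) ∉ st.z := by
    rw [map_mul, ht]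
    exact fun h => (Ideal.IsPrime.mem_or_mem' h).elim hgz hv₁z
  refine ⟨g * t, fun h => hhz (by rw [← Ideal.mem_comap, st.zq]; exact h), dvd_mul_right g t, ?_⟩
  intro S' _ _ _ _ _ N' _ _ _ _ f hf q' _ hq'
  let B' := Localization.Away v₁
  let A' := Localization.Away (algebraMap st.B st.A v₁)
  obtain ⟨y', _, hy'⟩ := exists_prime_away st.y hv₁
  haveI := hy'
  haveI : y'.LiesOver p := Ideal.LiesOver.trans y' st.y p
  have hu1 : IsUnit (algebraMap st.B A' v₁) := by
    rw [IsScalarTower.algebraMap_apply st.B st.A A']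
    exact IsLocalization.Away.algebraMap_isUnit _
  letI : Algebra B' A' := (IsLocalization.Away.lift v₁ hu1).toAlgebra
  haveI : IsScalarTower st.B B' A' :=
    IsScalarTower.of_algebraMap_eq fun x => (IsLocalization.Away.lift_eq v₁ hu1 x).symm
  have hgu : IsUnit (algebraMap st.A A' (algebraMap S st.A g)) :=
    IsLocalization.Away.isUnit_of_dvd (algebraMap st.B st.A v₁) hgv₁
  haveI : IsLocalization.Away (algebraMap S st.A (g * t)) A' := by
    rw [map_mul, ht]
    exact IsLocalization.Away.mul_of_isUnit' (algebraMap S st.A g) (algebraMap st.B st.A v₁) hgu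
  have hu2 : IsUnit (algebraMap S A' (g * t)) := by
    rw [IsScalarTower.algebraMap_apply S st.A A']
    exact IsLocalization.Away.algebraMap_isUnit _
  letI : Algebra S' A' := (IsLocalization.Away.lift (g * t) hu2).toAlgebra
  haveI : IsScalarTower S S' A' :=
    IsScalarTower.of_algebraMap_eq fun x => (IsLocalization.Away.lift_eq (g * t) hu2 x).symm
  haveI : IsScalarTower R B' A' := IsScalarTower.of_algebraMap_eq fun r => by
    rw [IsScalarTower.algebraMap_apply R st.B B', ← IsScalarTower.algebraMap_apply st.B B' A',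
      ← IsScalarTower.algebraMap_apply R st.B A']
  haveI : IsScalarTower R S' A' := IsScalarTower.of_algebraMap_eq fun r => by
    rw [IsScalarTower.algebraMap_apply R S S', ← IsScalarTower.algebraMap_apply S S' A',
      ← IsScalarTower.algebraMap_apply R S A']
  haveI : Algebra.IsPushout st.B B' st.A A' := by
    refine Algebra.IsPushout.symm (R := st.B) (S := st.A) ((Algebra.isLocalization_iff_isPushout (Submonoid.powers v₁) B').mp ?_)
    rw [Algebra.algebraMapSubmonoid, Submonoid.map_powers]
    exact inferInstanceAs (IsLocalization.Away (algebraMap st.B st.A v₁) A')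
  haveI : Algebra.IsPushout S S' st.A A' := by
    refine Algebra.IsPushout.symm (R := S) (S := st.A) ((Algebra.isLocalization_iff_isPushout (Submonoid.powers (g * t)) S').mp ?_)
    rw [Algebra.algebraMapSubmonoid, Submonoid.map_powers]
    exact inferInstanceAs (IsLocalization.Away (algebraMap S st.A (g * t)) A')
  obtain ⟨z', _, hz'⟩ := exists_prime_away st.z hv₁z
  haveI := hz'
  have hunder : ∀ (w : Ideal B') [w.IsPrime], w.LiesOver st.y → w = y' := fun w _ hw => by
    rw [← IsLocalization.map_under (Submonoid.powers v₁) B' w, ← IsLocalization.map_under (Submonoid.powers v₁) B' y',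
      ← hw.over, ← hy'.over]
  haveI : z'.LiesOver y' := by
    refine ⟨(hunder _ ⟨?_⟩).symm⟩
    rw [Ideal.under_under, ← Ideal.under_under (B := st.A) z', ← hz'.over]
    exact Ideal.over_def st.z st.y
  have huniq : ∀ (z₁ : Ideal A') [z₁.IsPrime], z₁.LiesOver y' → z₁ = z' := fun z₁ _ h1 => by
    haveI := h1
    haveI : z₁.LiesOver st.y := Ideal.LiesOver.trans z₁ y' st.y
    have h2 : z₁.under st.A = st.z := st.uniq _ ⟨by rw [Ideal.under_under]; exact Ideal.over_def z₁ st.y⟩
    rw [← IsLocalization.map_under (Submonoid.powers (algebraMap st.B st.A v₁)) A' z₁,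
      ← IsLocalization.map_under (Submonoid.powers (algebraMap st.B st.A v₁)) A' z', h2, ← hz'.over]
  have hzq : z'.comap (algebraMap S' A') = q' := by
    have h1 : (z'.comap (algebraMap S' A')).under S = q := by
      rw [Ideal.under_def, Ideal.comap_comap, ← IsScalarTower.algebraMap_eq, IsScalarTower.algebraMap_eq S st.A A',
        ← Ideal.comap_comap, ← Ideal.under_def (A := st.A), ← hz'.over, st.zq]
    rw [← IsLocalization.map_under (Submonoid.powers (g * t)) S' (z'.comap (algebraMap S' A')), h1, ← hq',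
      ← Ideal.under_def, IsLocalization.map_under (Submonoid.powers (g * t)) S' q']
  have hξ : (p.map (algebraMap R B')).comap (algebraMap st.B B') = p.map (algebraMap R st.B) := by
    haveI := flat_of_smooth_relDim st.relDim
    haveI := st.nz p.ResidueField
    refine le_antisymm (fun b hb => ?_) (Ideal.map_le_iff_le_comap.mpr fun a ha => by
      rw [Ideal.mem_comap, Ideal.mem_comap, ← IsScalarTower.algebraMap_apply]
      exact Ideal.mem_map_of_mem _ ha)
    rw [Ideal.mem_comap, IsScalarTower.algebraMap_eq R st.B B', ← Ideal.map_map,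
      IsLocalization.algebraMap_mem_map_algebraMap_iff (Submonoid.powers v₁)] at hb
    obtain ⟨_, ⟨k, rfl⟩, hk⟩ := hb
    rw [← one_tmul_eq_zero_iff] at hk ⊢
    rw [show ((1 : p.ResidueField) ⊗ₜ[R] (v₁ ^ k * b) : p.Fiber st.B) = (1 ⊗ₜ v₁) ^ k * (1 ⊗ₜ b) by simp] at hk
    refine ((mul_eq_zero (M₀ := p.ResidueField ⊗[R] st.B)).mp hk).resolve_left (fun h0 => ?_)
    have key : ∀ (k : ℕ) (x : p.Fiber st.B), x ^ k = 0 → x = 0 := by
      intro k
      induction k with
      | zero => intro x h; rw [pow_zero] at h; rw [← mul_one x, h, mul_zero]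
      | succ k ih =>
        intro x h
        rw [pow_succ] at h
        exact ((mul_eq_zero (M₀ := p.ResidueField ⊗[R] st.B)).mp h).elim (ih x) id
    have h1 := key k _ h0
    rw [one_tmul_eq_zero_iff] at h1
    exact hv₁ (Ideal.map_le_iff_le_comap.mpr (Ideal.over_def st.y p).le h1)
  have hyy : TrivRes st.B st.y y' := (isEtaleNhd_away st.y hv₁ y').2
  refine ⟨Step.map (R' := R) (S' := S') (B' := B') (A' := A') st y' (trivRes_id p) hyy z' huniq q' hzq
    (smoothRelDim_away v₁ st.relDim) (st.nz.away v₁ B') hξ hf,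
    (inferInstance : Algebra st.B B'), (inferInstance : IsScalarTower R st.B B'),
    (inferInstance : IsLocalization.Away v₁ B'), hy'.over.symm,
    (inferInstance : Module st.B (A' ⊗[st.A] st.M)), (inferInstance : IsScalarTower st.B B' (A' ⊗[st.A] st.M)),
    cokerMap st.α _, isBaseChange_cokerMap st.α _, fun h => surjective_mapFree st.α _ h⟩

/-- **Shrinking** of a dévissage into a basic open set around the point. -/
theorem Dev.shrink {S : Type u} [CommRing S] [Algebra R S] {N : Type u} [AddCommGroup N] [Module S N]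
    {q : Ideal S} (hd : Dev R p S N q) :
    ∀ [q.IsPrime] (g : S), g ∉ q → ∃ h ∉ q, g ∣ h ∧
      ∀ (S' : Type u) [CommRing S'] [Algebra S S'] [Algebra R S'] [IsScalarTower R S S'] [IsLocalization.Away h S']
        (N' : Type u) [AddCommGroup N'] [Module S' N'] [Module S N'] [IsScalarTower S S' N'] (f : N →ₗ[S] N'),
        IsBaseChange S' f → ∀ (q' : Ideal S') [q'.IsPrime], q'.comap (algebraMap S S') = q → Dev R p S' N' q' := by
  induction hd with
  | last st hs =>
    intro _ g hg
    obtain ⟨v, hv, H⟩ := st.exists_shrink g hg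
    obtain ⟨h, hh, hgh, H'⟩ := H v hv dvd_rfl
    refine ⟨h, hh, hgh, ?_⟩
    intro S' _ _ _ _ _ N' _ _ _ _ f hf q' _ hq'
    obtain ⟨st', _, _, _, -, _, _, g', -, hsurj⟩ := H' S' N' f hf q' hq'
    exact Dev.last st' (hsurj hs)
  | cons st _ ih =>
    intro _ g hg
    obtain ⟨v, hv, H⟩ := st.exists_shrink g hg
    obtain ⟨v₁, hv₁, hvv₁, ih'⟩ := ih v hv
    obtain ⟨h, hh, hgh, H'⟩ := H v₁ hv₁ hvv₁
    refine ⟨h, hh, hgh, ?_⟩
    intro S' _ _ _ _ _ N' _ _ _ _ f hf q' _ hq'
    obtain ⟨st', _, _, _, hy, _, _, g', hg', -⟩ := H' S' N' f hf q' hq'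
    exact Dev.cons st' (ih' st'.B _ g' hg' st'.y hy)

end Shrink

end Groth.L20.RG
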