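import Groth.Agent.L20.RG.InjModLemmas

/-!
# Flatness from injectivity modulo the maximal ideal along a complete dévissage
-/

set_option autoImplicit false
set_option linter.style.haveILetI false
set_option backward.isDefEq.respectTransparency.types false
universe u

open TensorProduct IsLocalRing

noncomputable section

namespace Groth.L20.RG

variable {R : Type u} [CommRing R] [IsLocalRing R]

/-- The two meanings of `mM`. -/
theorem mem_map_smul_top {D W : Type u} [CommRing D] [Algebra R D] [AddCommGroup W] [Module D W] [Module R W]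
    [IsScalarTower R D W] (I : Ideal R) (w : W) :
    w ∈ (I.map (algebraMap R D) • ⊤ : Submodule D W) ↔ w ∈ (I • ⊤ : Submodule R W) := by
  constructor
  · intro hw
    refine Submodule.smul_induction_on hw (fun e he x _ => ?_) fun _ _ => add_mem
    induction he using Submodule.span_induction generalizing x with
    | mem e he =>
      obtain ⟨a, ha, rfl⟩ := he
      rw [algebraMap_smul]
      exact Submodule.smul_mem_smul ha trivial
    | zero => rw [zero_smul]; exact zero_mem _
    | add e e' _ _ h h' => rw [add_smul]; exact add_mem (h x trivial) (h' x trivial)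
    | smul c e _ h => rw [smul_eq_mul, mul_comm, mul_smul]; exact h _ trivial
  · intro hw
    refine Submodule.smul_induction_on hw (fun a ha x _ => ?_) fun _ _ => add_mem
    rw [← algebraMap_smul D a x]
    exact Submodule.smul_mem_smul (Ideal.mem_map_of_mem _ ha) trivial

/-- The map from the free module, localised, is injective modulo the maximal ideal. -/
theorem injMod_localized_free {D G GG : Type u} [CommRing D] [Algebra R D] [AddCommGroup G] [Module D G]
    [AddCommGroup GG] [Module D GG] [Module R GG] [IsScalarTower R D GG]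
    {r : ℕ} (α : (Fin r → D) →ₗ[D] G) (ξ y : Ideal D) [ξ.IsPrime] [y.IsPrime] (hξ : ξ = (maximalIdeal R).map (algebraMap R D))
    (hξy : ξ ≤ y) (hα : Function.Bijective (α.baseChange ξ.ResidueField)) (fG : G →ₗ[D] GG)
    [IsLocalizedModule y.primeCompl fG] :
    InjMod ((IsLocalizedModule.map y.primeCompl (LocalizedModule.mkLinearMap y.primeCompl (Fin r → D)) fG α).restrictScalars R) := by
  let S := y.primeCompl
  let fP := LocalizedModule.mkLinearMap S (Fin r → D)
  let αy := IsLocalizedModule.map S fP fG α
  let fξ := LocalizedModule.mkLinearMap ξ.primeCompl G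
  intro x hx
  obtain ⟨⟨d, s⟩, hs⟩ := IsLocalizedModule.surj S fP x
  simp only at hs
  -- `α d` lies in `m • G` up to a scalar outside `y`
  have h1 : fG (α d) ∈ (ξ • ⊤ : Submodule D GG) := by
    rw [← IsLocalizedModule.map_apply S fP fG α, ← hs, Submonoid.smul_def, map_smul]
    refine Submodule.smul_mem _ _ ?_
    rw [hξ, mem_map_smul_top]
    exact hx
  have h2 : ∀ w ∈ (ξ • ⊤ : Submodule D GG), ∃ c : S, ∃ g ∈ (ξ • ⊤ : Submodule D G), c • w = fG g := by
    intro w hw
    refine Submodule.smul_induction_on hw (fun e he w _ => ?_) fun w w' hw hw' => ?_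
    ·
      obtain ⟨⟨g, c⟩, hc⟩ := IsLocalizedModule.surj S fG w
      refine ⟨c, e • g, Submodule.smul_mem_smul he trivial, ?_⟩
      rw [smul_comm, hc, map_smul]
    ·
      obtain ⟨c, g, hg, h⟩ := hw
      obtain ⟨c', g', hg', h'⟩ := hw'
      refine ⟨c * c', (c' : D) • g + (c : D) • g', add_mem (Submodule.smul_mem _ _ hg) (Submodule.smul_mem _ _ hg'), ?_⟩
      rw [map_add, map_smul, map_smul, ← h, ← h', smul_add, Submonoid.smul_def, Submonoid.smul_def, Submonoid.smul_def,
        Submonoid.smul_def, Submonoid.coe_mul, smul_smul, smul_smul, mul_comm (c' : D) (c : D)]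
  obtain ⟨c, g, hg, hcg⟩ := h2 _ h1
  rw [Submonoid.smul_def, ← map_smul] at hcg
  obtain ⟨c', hc'⟩ := IsLocalizedModule.exists_of_eq (S := S) (f := fG) hcg
  -- so its class in the fibre at `ξ` vanishes
  have h3 : ((c' : D) * (c : D)) • α d ∈ (ξ • ⊤ : Submodule D G) := by
    rw [mul_smul]
    exact (show (c' : D) • (c : D) • α d = (c' : D) • g from hc') ▸ Submodule.smul_mem _ _ hg
  have h4 : ((c' : D) * (c : D)) • d ∈ LinearMap.ker (TensorProduct.mk D ξ.ResidueField (Fin r → D) 1) := by
    refine hα.injective ?_
    rw [map_zero, TensorProduct.mk_apply, LinearMap.baseChange_tmul, map_smul]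
    clear hcg hc'
    refine Submodule.smul_induction_on h3 (fun e he g _ => ?_) fun g g' hg hg' => ?_
    · rw [← TensorProduct.smul_tmul, Algebra.smul_def, mul_one, Ideal.algebraMap_residueField_eq_zero.mpr he,
        TensorProduct.zero_tmul]
    · rw [TensorProduct.tmul_add, hg, hg', add_zero]
  have h5 : ∀ i, d i ∈ ξ := fun i => by
    have := congrArg ((TensorProduct.rid D ξ.ResidueField).toLinearMap ∘ₗ
      (LinearMap.proj i : (Fin r → D) →ₗ[D] D).lTensor ξ.ResidueField) (LinearMap.mem_ker.mp h4)
    rw [map_zero, TensorProduct.mk_apply, LinearMap.comp_apply, LinearMap.lTensor_tmul, LinearEquiv.coe_coe,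
      TensorProduct.rid_tmul, LinearMap.proj_apply, Algebra.smul_def, mul_one, Ideal.algebraMap_residueField_eq_zero,
      Pi.smul_apply, smul_eq_mul] at this
    exact (Ideal.IsPrime.mem_or_mem inferInstance this).resolve_left
      (fun h => (mul_mem c'.2 c.2 : (c' : D) * (c : D) ∈ y.primeCompl) (hξy h))
  obtain ⟨e, he⟩ := (IsLocalization.map_units (Localization S) s).exists_left_inv
  have hd : d ∈ (ξ • ⊤ : Submodule D (Fin r → D)) := by
    rw [pi_eq_sum_univ' d]
    exact Submodule.sum_mem _ fun i _ => Submodule.smul_mem_smul (h5 i) trivial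
  have h6 : fP d ∈ (ξ • ⊤ : Submodule D (LocalizedModule S (Fin r → D))) := by
    have := Submodule.mem_map_of_mem (f := fP) hd
    rw [Submodule.map_smul''] at this
    exact Submodule.smul_mono le_rfl le_top this
  have hx' : x ∈ (ξ • ⊤ : Submodule D (LocalizedModule S (Fin r → D))) := by
    rw [← hs, Submonoid.smul_def] at h6
    have : x = e • ((s : D) • x) := by rw [← algebraMap_smul (Localization S) (s : D) x, smul_smul, he, one_smul]
    rw [this]
    clear this
    refine Submodule.smul_induction_on h6 (fun a ha w _ => ?_) fun w w' hw hw' => ?_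
    · rw [smul_comm]; exact Submodule.smul_mem_smul ha trivial
    · rw [smul_add]; exact add_mem hw hw'
  rw [hξ, mem_map_smul_top] at hx'
  exact hx'

variable {S : Type u} [CommRing S] [Algebra R S] {N : Type u} [AddCommGroup N] [Module S N] [Module R N]
  [IsScalarTower R S N]

set_option maxHeartbeats 1000000 in
/-- **Flatness along a dévissage.** -/
theorem flat_and_univInj_of_injMod (D : FlatCA.CompleteDevissage R S N (maximalIdeal R)) {q : Ideal S} [q.IsPrime]
    (E : FlatCA.CompleteDevissageAt R S N (maximalIdeal R) q D) (P : Type u) [AddCommGroup P] [Module R P]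
    [Module.Flat R P] (v : LocalizedModule q.primeCompl N →ₗ[R] P) (hv : InjMod v) :
    Module.Flat R (LocalizedModule q.primeCompl N) ∧ FlatCA.UnivInj R v := by
  have hqB := E.hqB
  have hqA := E.hqA
  have hoverA := E.overA
  have hoverB := E.overB
  haveI := fun i => isScalarTower_base D i
  haveI := isScalarTower_zero D
  haveI := fun i => isScalarTower_succ D i
  let L := fun i => LocalizedModule (E.qA i).primeCompl (D.M i)
  let f := fun i => LocalizedModule.mkLinearMap (E.qA i).primeCompl (D.M i)
  have hlocB : ∀ i, i < D.n → IsLocalizedModule (E.qB i).primeCompl ((f i).restrictScalars (D.B i)) := fun i hi => by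
    haveI := D.finiteBA i hi
    haveI : Algebra.IsIntegral (D.B i) (D.A i) := Algebra.IsIntegral.of_finite _ _
    refine isLocalizedModule_restrict _ (E.qA i).primeCompl _ (fun t ht h => ht ((Ideal.mem_of_liesOver (E.qA i) (E.qB i) t).mpr h))
      fun s hs => ?_
    exact exists_notMem_dvd (E.qB i) (E.qA i) (fun Q hQ hQl => E.uniq i hi Q hQl) hs
  have hmain : ∀ i, i < D.n → ∀ (P : Type u) [AddCommGroup P] [Module R P] [Module.Flat R P] (v : L i →ₗ[R] P),
      InjMod v → Module.Flat R (L i) ∧ FlatCA.UnivInj R v := by
    have haux : ∀ i (hi : i < D.n), ∀ (P : Type u) [AddCommGroup P] [Module R P] [Module.Flat R P] (v : L i →ₗ[R] P),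
        InjMod v → Module.Flat R (LocalizedModule (E.qB i).primeCompl (Fin (D.r i) → D.B i)) ∧
        FlatCA.UnivInj R (v ∘ₗ (haveI := hlocB i hi
          (IsLocalizedModule.map (E.qB i).primeCompl (LocalizedModule.mkLinearMap (E.qB i).primeCompl (Fin (D.r i) → D.B i))
            ((f i).restrictScalars (D.B i)) (D.α i)).restrictScalars R)) := by
      intro i hi P _ _ _ v hv
      haveI := hlocB i hi
      haveI := D.smooth i hi
      have hdom := DomFib.of_smooth_geomIrredFibres (D.geomIrred i hi)
      haveI := hdom.projective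
      haveI := D.hp i
      have hle : (maximalIdeal R).map (algebraMap R (D.B i)) ≤ E.qB i :=
        Ideal.map_le_iff_le_comap.mpr (Ideal.LiesOver.over (P := E.qB i) (p := maximalIdeal R)).le
      haveI : Module.Projective R (Fin (D.r i) → D.B i) :=
        Module.Projective.of_equiv (DFinsupp.linearEquivFunOnFintype (R := R) (M := fun _ : Fin (D.r i) => D.B i))
      haveI : Module.Free R (Fin (D.r i) → D.B i) := Groth.L01.free_of_projective _
      refine ⟨Groth.L20.FibreCrit.flat_localizedModule_of_flat _, ?_⟩
      refine univInj_of_injMod_localized (E.qB i).primeCompl (LocalizedModule.mkLinearMap (E.qB i).primeCompl _) ?_ _ ?_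
      · exact univInj_localization (E.qB i).primeCompl _ fun t ht =>
          univInj_lsmul_pi t (mul_injective hdom fun K _ _ => one_tmul_ne_zero hdom (fun h => ht (hle h)) K)
      · intro x hx
        exact injMod_localized_free (D.α i) _ (E.qB i) rfl hle (D.fibreIso i hi) ((f i).restrictScalars (D.B i)) x (hv _ hx)
    refine descending (n := D.n) (P := fun i => ∀ (P : Type u) [AddCommGroup P] [Module R P] [Module.Flat R P]
      (v : L i →ₗ[R] P), InjMod v → Module.Flat R (L i) ∧ FlatCA.UnivInj R v) ?_ ?_
    · intro P _ _ _ v hv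
      have hn := Nat.sub_lt D.pos one_pos
      haveI := hlocB _ hn
      obtain ⟨hfl, hw⟩ := haux _ hn P v hv
      haveI := hfl
      refine injMod_step _ (0 : L (D.n - 1) →ₗ[R] PUnit.{u + 1}) (fun y => ⟨0, Subsingleton.elim _ _⟩) ?_ v hv hw
        fun P' _ _ _ v' _ => ⟨inferInstance, fun Q _ _ a b _ => Subsingleton.elim _ _⟩
      intro y
      refine ⟨fun _ => ?_, fun _ => rfl⟩
      exact IsLocalizedModule.map_surjective (E.qB (D.n - 1)).primeCompl _ _ _ D.cokerLast y
    · intro i hi ih P _ _ _ v hv
      have hin : i < D.n := by omega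
      haveI := hlocB i hin
      obtain ⟨hfl, hw⟩ := haux i hin P v hv
      haveI := hfl
      let fnext : D.M (i + 1) →ₗ[D.A (i + 1)] L (i + 1) := f (i + 1)
      haveI : IsScalarTower (D.B i) (D.A (i + 1)) (L (i + 1)) := inferInstance
      haveI : IsScalarTower R (D.B i) (L (i + 1)) := inferInstance
      haveI hlocN : IsLocalizedModule (E.qB i).primeCompl (fnext.restrictScalars (D.B i)) := by
        refine isLocalizedModule_restrict _ (E.qA (i + 1)).primeCompl _ (fun t ht h => ht ?_) fun s hs => ?_
        · rw [← E.qStep i hi]; exact h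
        · obtain ⟨t, rfl⟩ := D.surjBA' i hi s
          exact ⟨t, fun h => hs (by rw [← E.qStep i hi] at h; exact h), dvd_rfl⟩
      let fQ : (D.M i ⧸ LinearMap.range (D.α i)) →ₗ[D.B i] L (i + 1) :=
        (fnext.restrictScalars (D.B i)) ∘ₗ (D.isoCoker i hi).toLinearMap
      haveI : IsLocalizedModule (E.qB i).primeCompl fQ :=
        IsLocalizedModule.of_linearEquiv_right (E.qB i).primeCompl (fnext.restrictScalars (D.B i)) (D.isoCoker i hi)
      let fP := LocalizedModule.mkLinearMap (E.qB i).primeCompl (Fin (D.r i) → D.B i)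
      refine injMod_step _ ((IsLocalizedModule.map (E.qB i).primeCompl ((f i).restrictScalars (D.B i)) fQ
          (LinearMap.range (D.α i)).mkQ).restrictScalars R) ?_ ?_ v hv hw fun P' _ _ _ v' hv' => ih P' v' hv'
      · exact IsLocalizedModule.map_surjective _ _ _ _ (Submodule.mkQ_surjective _)
      · exact IsLocalizedModule.map_exact (E.qB i).primeCompl fP ((f i).restrictScalars (D.B i)) fQ (D.α i) _
          (D.α i).exact_map_mkQ_range
  -- the first step
  haveI : IsScalarTower S (D.A 0) (L 0) := inferInstance
  haveI : IsScalarTower R S (L 0) := inferInstance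
  haveI hloc0 : IsLocalizedModule q.primeCompl ((f 0).restrictScalars S) := by
    refine isLocalizedModule_restrict _ (E.qA 0).primeCompl _ (fun t ht h => ht ?_) fun s hs => ?_
    · rw [← E.q0]; exact h
    · obtain ⟨t, rfl⟩ := D.surjSA s
      exact ⟨t, fun h => hs (by rw [← E.q0] at h; exact h), dvd_rfl⟩
  let g : N →ₗ[S] L 0 := ((f 0).restrictScalars S) ∘ₗ D.isoN.toLinearMap
  haveI : IsLocalizedModule q.primeCompl g :=
    IsLocalizedModule.of_linearEquiv_right q.primeCompl ((f 0).restrictScalars S) D.isoN
  let e : LocalizedModule q.primeCompl N ≃ₗ[R] L 0 := (IsLocalizedModule.iso q.primeCompl g).restrictScalars R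
  obtain ⟨hfl, hu⟩ := hmain 0 D.pos P (v ∘ₗ e.symm.toLinearMap) (fun x hx => by
    have h1 := hv _ hx
    have h2 := Submodule.mem_map_of_mem (f := e.toLinearMap) h1
    rw [Submodule.map_smul'', Submodule.map_top, LinearEquiv.range] at h2
    simpa using h2)
  haveI := hfl
  refine ⟨Module.Flat.of_linearEquiv e, ?_⟩
  have : v = (v ∘ₗ e.symm.toLinearMap) ∘ₗ e.toLinearMap := LinearMap.ext fun x => by simp
  rw [this]
  exact univInj_comp hu fun Q _ _ => (e.lTensor Q).injective

end Groth.L20.RG
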