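import Groth.Agent.L20.RG.FlatPts
import Groth.Agent.L20.RG.InjModChain
import Groth.Agent.L20.RG.DevOps
import Groth.Agent.L03.ComplExact

/-!
# One step of a dévissage: the ideal cutting out the flat locus
-/

set_option autoImplicit false
set_option linter.style.haveILetI false
set_option backward.isDefEq.respectTransparency.types false
universe u

open TensorProduct IsLocalRing

noncomputable section

namespace Groth.L20.RG

theorem DomFib.of_isPushout {A B : Type u} [CommRing A] [CommRing B] [Algebra A B] (h : DomFib A B) (A' B' : Type u)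
    [CommRing A'] [CommRing B'] [Algebra A A'] [Algebra A' B'] [Algebra B B'] [Algebra A B'] [IsScalarTower A A' B']
    [IsScalarTower A B B'] [Algebra.IsPushout A A' B B'] : DomFib A' B' := by
  intro K _ _
  letI : Algebra A K := ((algebraMap A' K).comp (algebraMap A A')).toAlgebra
  haveI : IsScalarTower A A' K := IsScalarTower.of_algebraMap_eq' rfl
  haveI := h K
  let e : K ⊗[A'] B' ≃ₐ[A'] K ⊗[A] B :=
    (Algebra.TensorProduct.congr (AlgEquiv.refl (R := A') (A₁ := K)) (Algebra.IsPushout.equiv A A' B B').symm).trans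
      ((Algebra.TensorProduct.cancelBaseChange A A' K K B).restrictScalars A')
  exact e.toRingEquiv.toMulEquiv.isDomain _

theorem smooth_of_isPushout (A B A' B' : Type u) [CommRing A] [CommRing B] [Algebra A B] [Algebra.Smooth A B]
    [CommRing A'] [CommRing B'] [Algebra A A'] [Algebra A' B'] [Algebra B B'] [Algebra A B'] [IsScalarTower A A' B']
    [IsScalarTower A B B'] [Algebra.IsPushout A A' B B'] : Algebra.Smooth A' B' :=
  Algebra.Smooth.of_equiv (Algebra.IsPushout.equiv A A' B B')

theorem free_of_isPushout (A B A' B' : Type u) [CommRing A] [CommRing B] [Algebra A B] [Module.Free A B]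
    [CommRing A'] [CommRing B'] [Algebra A A'] [Algebra A' B'] [Algebra B B'] [Algebra A B'] [IsScalarTower A A' B']
    [IsScalarTower A B B'] [Algebra.IsPushout A A' B B'] : Module.Free A' B' :=
  Module.Free.of_equiv (Algebra.IsPushout.equiv A A' B B').toLinearEquiv

/-- The natural map between free modules. -/
def piMap (D D' : Type u) [CommRing D] [CommRing D'] [Algebra D D'] (r : ℕ) : (Fin r → D) →ₗ[D] (Fin r → D') :=
  LinearMap.pi fun i => Algebra.linearMap D D' ∘ₗ LinearMap.proj i

theorem piMap_apply {D D' : Type u} [CommRing D] [CommRing D'] [Algebra D D'] {r : ℕ} (x : Fin r → D) (i : Fin r) :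
    piMap D D' r x i = algebraMap D D' (x i) := rfl

theorem mapFree_piMap {B M : Type u} [CommRing B] [AddCommGroup M] [Module B M] {r : ℕ} (α : (Fin r → B) →ₗ[B] M)
    {B' M' : Type u} [CommRing B'] [Algebra B B'] [AddCommGroup M'] [Module B' M'] [Module B M'] [IsScalarTower B B' M']
    {g : M →ₗ[B] M'} (hg : IsBaseChange B' g) (x : Fin r → B) : mapFree α hg (piMap B B' r x) = g (α x) := by
  have h1 : (TensorProduct.piScalarRight B B' B' (Fin r)).symm (piMap B B' r x) = (1 : B') ⊗ₜ[B] x := by
    rw [LinearEquiv.symm_apply_eq]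
    funext i
    simp [piMap_apply, Algebra.algebraMap_eq_smul_one]
  show hg.equiv (α.baseChange B' ((TensorProduct.piScalarRight B B' B' (Fin r)).symm (piMap B B' r x))) = _
  rw [h1, LinearMap.baseChange_tmul, IsBaseChange.equiv_tmul, one_smul]

/-- Content of a set in a free module. -/
theorem exists_content_free {R X : Type u} [CommRing R] [AddCommGroup X] [Module R X] [Module.Free R X] (s : Set X) :
    ∃ c : Ideal R, (∀ x ∈ s, x ∈ c • (⊤ : Submodule R X)) ∧
      ∀ (R' : Type u) [CommRing R'] [Algebra R R'], (∀ x ∈ s, (1 : R') ⊗ₜ[R] x = 0) → c ≤ RingHom.ker (algebraMap R R') := by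
  classical
  obtain ⟨ι, b⟩ := Module.Free.exists_basis (R := R) (M := X)
  refine ⟨Ideal.span {a | ∃ x ∈ s, ∃ i, b.repr x i = a}, fun x hx => ?_, fun R' _ _ h => ?_⟩
  · rw [← b.linearCombination_repr x, Finsupp.linearCombination_apply]
    exact Submodule.sum_mem _ fun i _ => Submodule.smul_mem_smul (Ideal.subset_span ⟨x, hx, i, rfl⟩) trivial
  · rw [Ideal.span_le]
    rintro a ⟨x, hx, i, rfl⟩
    have h1 := congrArg ((Finsupp.lapply i ∘ₗ b.repr.toLinearMap).baseChange R') (h x hx)
    rw [map_zero, LinearMap.baseChange_tmul] at h1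
    have h2 := congrArg (TensorProduct.rid R R') h1
    simpa [Algebra.smul_def] using h2

/-- Membership in `I • M_S` descends up to a denominator. -/
theorem exists_smul_mem_of_mem_smul {R D G GG : Type u} [CommRing R] [CommRing D] [Algebra R D] [AddCommGroup G]
    [Module D G] [Module R G] [IsScalarTower R D G] [AddCommGroup GG] [Module D GG] [Module R GG] [IsScalarTower R D GG]
    (S : Submonoid D) (f : G →ₗ[D] GG) [IsLocalizedModule S f] (I : Ideal R) {x : G}
    (hx : f x ∈ (I • ⊤ : Submodule R GG)) : ∃ t ∈ S, t • x ∈ (I • ⊤ : Submodule R G) := by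
  have key : ∀ w ∈ (I • ⊤ : Submodule R GG), ∃ t : S, ∃ g ∈ (I • ⊤ : Submodule R G), t • w = f g := by
    intro w hw
    refine Submodule.smul_induction_on hw (fun a ha w _ => ?_) fun w w' hw hw' => ?_
    · obtain ⟨⟨g, t⟩, ht⟩ := IsLocalizedModule.surj S f w
      refine ⟨t, a • g, Submodule.smul_mem_smul ha trivial, ?_⟩
      rw [smul_comm, ht, LinearMap.map_smul_of_tower]
    · obtain ⟨c, g, hg, h⟩ := hw
      obtain ⟨c', g', hg', h'⟩ := hw'
      have hst : ∀ (d : D) (y : G), y ∈ (I • ⊤ : Submodule R G) → d • y ∈ (I • ⊤ : Submodule R G) := fun d y hy => by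
        refine Submodule.smul_induction_on hy (fun a ha z _ => ?_) fun a b ha hb => ?_
        · rw [smul_comm]; exact Submodule.smul_mem_smul ha trivial
        · rw [smul_add]; exact add_mem ha hb
      refine ⟨c * c', (c' : D) • g + (c : D) • g', add_mem (hst _ _ hg) (hst _ _ hg'), ?_⟩
      rw [map_add, map_smul, map_smul, ← h, ← h', smul_add, Submonoid.smul_def, Submonoid.smul_def, Submonoid.smul_def,
        Submonoid.smul_def, Submonoid.coe_mul, smul_smul, smul_smul, mul_comm (c' : D) (c : D)]
  obtain ⟨t, g, hg, htg⟩ := key _ hx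
  rw [Submonoid.smul_def, ← map_smul] at htg
  obtain ⟨c, hc⟩ := IsLocalizedModule.exists_of_eq (S := S) (f := f) htg
  refine ⟨(c : D) * (t : D), mul_mem c.2 t.2, ?_⟩
  rw [mul_smul, show (c : D) • (t : D) • x = (c : D) • g from hc]
  refine Submodule.smul_induction_on hg (fun a ha z _ => ?_) fun a b ha hb => ?_
  · rw [smul_comm]; exact Submodule.smul_mem_smul ha trivial
  · rw [smul_add]; exact add_mem ha hb

section Localized

variable {R D M : Type u} [CommRing R] [CommRing D] [Algebra R D] [AddCommGroup M] [Module D M] [Module R M]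
  [IsScalarTower R D M] {r : ℕ} (α : (Fin r → D) →ₗ[D] M) (y : Ideal D) [y.IsPrime]

/-- The localised map from the free module. -/
abbrev locFree : LocalizedModule y.primeCompl (Fin r → D) →ₗ[D] LocalizedModule y.primeCompl M :=
  IsLocalizedModule.map y.primeCompl (LocalizedModule.mkLinearMap y.primeCompl (Fin r → D))
    (LocalizedModule.mkLinearMap y.primeCompl M) α

theorem flat_coker_iff :
    Module.Flat R (LocalizedModule y.primeCompl (M ⧸ LinearMap.range α)) ↔
      Module.Flat R (LocalizedModule y.primeCompl M ⧸ LinearMap.range ((locFree α y).restrictScalars R)) := by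
  let fP := LocalizedModule.mkLinearMap y.primeCompl (Fin r → D)
  let fM := LocalizedModule.mkLinearMap y.primeCompl M
  let fL := LocalizedModule.mkLinearMap y.primeCompl (M ⧸ LinearMap.range α)
  let β := IsLocalizedModule.map y.primeCompl fM fL (LinearMap.range α).mkQ
  have hex : Function.Exact (locFree α y) β :=
    IsLocalizedModule.map_exact y.primeCompl fP fM fL α _ α.exact_map_mkQ_range
  have hs : Function.Surjective β :=
    IsLocalizedModule.map_surjective y.primeCompl fM fL _ (Submodule.mkQ_surjective _)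
  let bR := β.restrictScalars R
  let e := (Submodule.quotEquivOfEq _ _ (LinearMap.exact_iff.mp
    (show Function.Exact ((locFree α y).restrictScalars R) bR from hex)).symm).trans (bR.quotKerEquivOfSurjective hs)
  exact ⟨fun _ => Module.Flat.of_linearEquiv e, fun _ => Module.Flat.of_linearEquiv e.symm⟩

/-- Flatness from the cokernel. -/
theorem flat_of_coker [Module.Flat R D] (hinj : Function.Injective (locFree α y))
    (hcok : Module.Flat R (LocalizedModule y.primeCompl (M ⧸ LinearMap.range α))) :
    Module.Flat R (LocalizedModule y.primeCompl M) := by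
  haveI : Module.Flat R (LocalizedModule y.primeCompl (Fin r → D)) := by
    haveI : Module.Flat R (Fin r → D) :=
      Module.Flat.of_linearEquiv (DFinsupp.linearEquivFunOnFintype (R := R) (M := fun _ : Fin r => D)).symm
    exact Groth.L20.FibreCrit.flat_localizedModule_of_flat _
  haveI := (flat_coker_iff α y).mp hcok
  exact Groth.L07.FlatDescent.flat_of_shortExact ((locFree α y).restrictScalars R)
    (LinearMap.range ((locFree α y).restrictScalars R)).mkQ hinj (Submodule.mkQ_surjective _)
    (LinearMap.exact_map_mkQ_range _)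

set_option maxHeartbeats 400000 in
/-- A flat target makes the localised map universally injective. -/
theorem injective_of_flat [IsLocalRing R] [Algebra.Smooth R D] (hdom : DomFib R D)
    (hle : (maximalIdeal R).map (algebraMap R D) ≤ y)
    (hbij : ∀ (K : Type u) [Field K] [Algebra D K],
      RingHom.ker (algebraMap D K) = (maximalIdeal R).map (algebraMap R D) → Function.Bijective (α.baseChange K))
    [Module.Flat R (LocalizedModule y.primeCompl M)] :
    Function.Injective (locFree α y) ∧
      Module.Flat R (LocalizedModule y.primeCompl (M ⧸ LinearMap.range α)) ∧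
      Function.Injective (LocalizedModule.mkLinearMap y.primeCompl (Fin r → D)) := by
  let ξ := (maximalIdeal R).map (algebraMap R D)
  haveI : ξ.IsPrime := isPrime_map_maximalIdeal hdom
  haveI := hdom.projective
  haveI : Module.Projective R (Fin r → D) :=
    Module.Projective.of_equiv (DFinsupp.linearEquivFunOnFintype (R := R) (M := fun _ : Fin r => D))
  haveI : Module.Free R (Fin r → D) := Groth.L01.free_of_projective _
  have hreg : ∀ t ∈ y.primeCompl, FlatCA.UnivInj R ((LinearMap.lsmul D (Fin r → D) t).restrictScalars R) :=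
    fun t ht => univInj_lsmul_pi t (mul_injective hdom fun K _ _ => one_tmul_ne_zero hdom (fun h => ht (hle h)) K)
  let fP := LocalizedModule.mkLinearMap y.primeCompl (Fin r → D)
  have hfP := univInj_localization y.primeCompl fP hreg
  have hker : RingHom.ker (algebraMap D ξ.ResidueField) = ξ := Ideal.ext fun d => by
    rw [RingHom.mem_ker, Ideal.algebraMap_residueField_eq_zero]
  have hu : FlatCA.UnivInj R ((locFree α y).restrictScalars R) :=
    univInj_of_injMod_localized y.primeCompl fP hfP _
      (injMod_localized_free α ξ y rfl hle (hbij _ hker) (LocalizedModule.mkLinearMap y.primeCompl M))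
  exact ⟨injective_of_lTensor_self ((locFree α y).restrictScalars R) (hu R),
    (flat_coker_iff α y).mpr (flat_quotient_range_of_lTensor_injective _ fun I => hu (R ⧸ I)),
    injective_of_lTensor_self (fP.restrictScalars R) (hfP R)⟩

set_option maxHeartbeats 800000 in
/-- **The ideal of a step**, when the cokernel is flat. -/
theorem step_ideal_local [Module.Free R D] (hcok : Module.Flat R (LocalizedModule y.primeCompl (M ⧸ LinearMap.range α))) :
    ∃ c : Ideal R,
      (∀ (R' D' M' : Type u) [CommRing R'] [Algebra R R'] [CommRing D'] [Algebra D D'] [Algebra R' D'] [Algebra R D']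
        [IsScalarTower R R' D'] [IsScalarTower R D D'] [Algebra.IsPushout R R' D D'] [AddCommGroup M'] [Module D' M']
        [Module D M'] [IsScalarTower D D' M'] (f : M →ₗ[D] M') (hf : IsBaseChange D' f) (y' : Ideal D') [y'.IsPrime],
        y'.comap (algebraMap D D') = y → Function.Injective (locFree (mapFree α hf) y') →
        Function.Injective (LocalizedModule.mkLinearMap y'.primeCompl (Fin r → D')) →
        c ≤ RingHom.ker (algebraMap R R')) ∧
      (∀ (R' D' M' : Type u) [CommRing R'] [Algebra R R'] [CommRing D'] [Algebra D D'] [Algebra R' D'] [Algebra R D']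
        [IsScalarTower R R' D'] [IsScalarTower R D D'] [Algebra.IsPushout R R' D D'] [AddCommGroup M'] [Module D' M']
        [Module D M'] [IsScalarTower D D' M'] [Module R' M'] [IsScalarTower R' D' M']
        (f : M →ₗ[D] M') (hf : IsBaseChange D' f),
        Function.Surjective (algebraMap R R') → RingHom.ker (algebraMap R R') = c →
        ∀ (y' : Ideal D') [y'.IsPrime], y'.comap (algebraMap D D') = y →
          Module.Flat R' (LocalizedModule y'.primeCompl M')) := by
  classical
  let S := y.primeCompl
  let fP := LocalizedModule.mkLinearMap S (Fin r → D)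
  let fM := LocalizedModule.mkLinearMap S M
  have happ : ∀ x, locFree α y (fP x) = fM (α x) := fun x => IsLocalizedModule.map_apply S fP fM α x
  let K : Set (Fin r → D) := {k | ∃ t ∉ y, t • α k = 0}
  obtain ⟨c, hc1, hc2⟩ := exists_content_free (R := R) {d : D | ∃ k ∈ K, ∃ i, k i = d}
  have hKc : ∀ k ∈ K, k ∈ (c • ⊤ : Submodule R (Fin r → D)) := fun k hk => by
    rw [← Finset.univ_sum_single k]
    refine Submodule.sum_mem _ fun i _ => ?_
    have := Submodule.mem_map_of_mem (f := LinearMap.single R (fun _ : Fin r => D) i) (hc1 _ ⟨k, hk, i, rfl⟩)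
    rw [Submodule.map_smul''] at this
    exact Submodule.smul_mono le_rfl le_top this
  refine ⟨c, ?_, ?_⟩
  · intro R' D' M' _ _ _ _ _ _ _ _ _ _ _ _ _ f hf y' _ hy' hinj hinjP
    refine hc2 R' ?_
    rintro d ⟨k, ⟨t, ht, htk⟩, i, rfl⟩
    let fP' := LocalizedModule.mkLinearMap y'.primeCompl (Fin r → D')
    have ht' : algebraMap D D' t ∈ y'.primeCompl := fun h => ht (by rw [← hy']; exact h)
    have h1 : mapFree α hf (algebraMap D D' t • piMap D D' r k) = 0 := by
      rw [map_smul, mapFree_piMap, algebraMap_smul, ← map_smul, htk, map_zero]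
    have h2 : fP' (algebraMap D D' t • piMap D D' r k) = 0 := hinj (by
      rw [IsLocalizedModule.map_apply, h1, map_zero, map_zero])
    rw [map_smul] at h2
    have h3 : piMap D D' r k = 0 := hinjP (by
      rw [map_zero]
      refine IsLocalizedModule.smul_injective fP' (⟨_, ht'⟩ : y'.primeCompl) ?_
      show algebraMap D D' t • fP' (piMap D D' r k) = algebraMap D D' t • 0
      rw [smul_zero, h2])
    have h4 := congrArg (Algebra.IsPushout.equiv R R' D D').symm (congrFun h3 i)
    rw [piMap_apply, Algebra.IsPushout.equiv_symm_algebraMap_right, Pi.zero_apply, map_zero] at h4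
    exact h4
  · intro R' D' M' _ _ _ _ _ _ _ _ _ _ _ _ _ _ _ f hf hsurj hker y' _ hy'
    haveI : Module.Flat R' D' := by
      haveI : Module.Free R' D' := free_of_isPushout R D R' D'
      infer_instance
    refine flat_of_coker (mapFree α hf) y' ?_ ?_
    · -- injectivity
      refine (injective_iff_map_eq_zero _).mpr fun z hz => ?_
      let fP' := LocalizedModule.mkLinearMap y'.primeCompl (Fin r → D')
      let fM' := LocalizedModule.mkLinearMap y'.primeCompl M'
      obtain ⟨⟨k', s⟩, hs⟩ := IsLocalizedModule.surj y'.primeCompl fP' z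
      simp only at hs
      have h1 : fM' (mapFree α hf k') = 0 := by
        rw [← IsLocalizedModule.map_apply y'.primeCompl fP' fM', ← hs, Submonoid.smul_def, map_smul, hz, smul_zero]
      obtain ⟨⟨t', ht'⟩, h2⟩ := (IsLocalizedModule.eq_zero_iff y'.primeCompl fM').mp h1
      have hDs : Function.Surjective (algebraMap D D') := surjective_of_isPushout hsurj
      obtain ⟨t, rfl⟩ := hDs t'
      choose k hk using fun i => hDs (k' i)
      have hk' : piMap D D' r k = k' := funext fun i => hk i
      have ht : t ∉ y := fun h => ht' (by rw [← hy'] at h; exact h)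
      have h3 : f (α (t • k)) = 0 := by
        rw [← mapFree_piMap α hf, map_smul, hk', ← algebraMap_smul D' t k', map_smul]
        exact h2
      -- the kernel of `M → M'`
      have h4 : α (t • k) ∈ (c • ⊤ : Submodule R M) := by
        letI : Module R M' := Module.compHom M' (algebraMap R R')
        haveI : IsScalarTower R R' M' := IsScalarTower.of_algebraMap_smul fun _ _ => rfl
        haveI : IsScalarTower R D M' := IsScalarTower.of_algebraMap_smul fun a m => by
          show algebraMap R D a • m = algebraMap R R' a • m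
          rw [← algebraMap_smul D' (algebraMap R D a) m, ← IsScalarTower.algebraMap_apply,
            IsScalarTower.algebraMap_apply R R' D', algebraMap_smul]
        haveI : Algebra.IsPushout R D R' D' := Algebra.IsPushout.symm inferInstance
        have hb : IsBaseChange R' (f.restrictScalars R) := Groth.L20.isBaseChange_restrictScalars hf
        have h5 : (1 : R') ⊗ₜ[R] α (t • k) = 0 := hb.equiv.injective (by
          rw [hb.equiv_tmul, one_smul, map_zero]; exact h3)
        let eq : R' ≃ₐ[R] R ⧸ c := (Ideal.quotientKerAlgEquivOfSurjective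
          (f := Algebra.ofId R R') hsurj).symm.trans (Ideal.quotientEquivAlgOfEq R hker)
        have h6 := congrArg (fun w => TensorProduct.quotTensorEquivQuotSMul M c (eq.toLinearMap.rTensor M w)) h5
        simp only [LinearMap.rTensor_tmul, AlgEquiv.toLinearMap_apply, map_one, map_zero] at h6
        rwa [← map_one (Ideal.Quotient.mk c), TensorProduct.quotTensorEquivQuotSMul_mk_tmul, one_smul,
          Submodule.Quotient.mk_eq_zero] at h6
      have h7 : fM (α (t • k)) ∈ (c • ⊤ : Submodule R (LocalizedModule S M)) := by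
        have := Submodule.mem_map_of_mem (f := fM.restrictScalars R) h4
        rw [Submodule.map_smul''] at this
        exact Submodule.smul_mono le_rfl le_top this
      let E := LinearMap.range ((locFree α y).restrictScalars R)
      haveI := (flat_coker_iff α y).mp hcok
      have h8 := Groth.L03.ComplExact.mem_smul_top_of_flat (i := E.subtype) (g := E.mkQ) E.injective_subtype
        E.mkQ_surjective (LinearMap.exact_subtype_mkQ E) c ⟨fM (α (t • k)), fP (t • k), happ _⟩ h7
      have h9 : fM (α (t • k)) ∈ (c • ⊤ : Submodule R _).map ((locFree α y).restrictScalars R) := by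
        have := Submodule.mem_map_of_mem (f := E.subtype) h8
        rw [Submodule.map_smul'', Submodule.map_top, Submodule.range_subtype] at this
        rwa [Submodule.map_smul'', Submodule.map_top]
      obtain ⟨w, hw, hw'⟩ := h9
      simp only [LinearMap.restrictScalars_apply] at hw'
      have h10 : locFree α y (fP (t • k) - w) = 0 := by rw [map_sub, happ, hw', sub_self]
      obtain ⟨⟨k₁, s₁⟩, hs₁⟩ := IsLocalizedModule.surj S fP (fP (t • k) - w)
      simp only at hs₁
      have hk₁ : k₁ ∈ K := by
        have h11 : fM (α k₁) = 0 := by rw [← happ, ← hs₁, Submonoid.smul_def, map_smul, h10, smul_zero]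
        obtain ⟨⟨t₁, ht₁⟩, h12⟩ := (IsLocalizedModule.eq_zero_iff S fM).mp h11
        exact ⟨t₁, ht₁, h12⟩
      have h13 : fP ((s₁ : D) • t • k) ∈ (c • ⊤ : Submodule R (LocalizedModule S (Fin r → D))) := by
        have h14 : fP k₁ ∈ (c • ⊤ : Submodule R (LocalizedModule S (Fin r → D))) := by
          have := Submodule.mem_map_of_mem (f := fP.restrictScalars R) (hKc _ hk₁)
          rw [Submodule.map_smul''] at this
          exact Submodule.smul_mono le_rfl le_top this
        have h15 : (s₁ : D) • w ∈ (c • ⊤ : Submodule R (LocalizedModule S (Fin r → D))) := by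
          refine Submodule.smul_induction_on hw (fun a ha v _ => ?_) fun a b ha hb => ?_
          · rw [smul_comm]; exact Submodule.smul_mem_smul ha trivial
          · rw [smul_add]; exact add_mem ha hb
        have : fP ((s₁ : D) • t • k) = fP k₁ + (s₁ : D) • w := by
          rw [map_smul, ← hs₁, Submonoid.smul_def, smul_sub, sub_add_cancel]
        rw [this]
        exact add_mem h14 h15
      obtain ⟨t₂, ht₂, h16⟩ := exists_smul_mem_of_mem_smul S fP c h13
      have h17 : piMap D D' r ((t₂ * s₁ * t) • k) = 0 := by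
        rw [mul_smul, mul_smul]
        refine Submodule.smul_induction_on h16 (fun a ha v _ => ?_) fun a b ha hb => by rw [map_add, ha, hb, add_zero]
        funext i
        rw [piMap_apply, Pi.smul_apply, Algebra.smul_def, map_mul, ← IsScalarTower.algebraMap_apply,
          IsScalarTower.algebraMap_apply R R' D', show algebraMap R R' a = 0 from hker.ge ha, map_zero, zero_mul]
        rfl
      have hu : algebraMap D D' (t₂ * s₁ * t) ∈ y'.primeCompl := fun h => by
        rw [SetLike.mem_coe, ← Ideal.mem_comap, hy'] at h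
        rcases Ideal.IsPrime.mem_or_mem inferInstance h with h | h
        · rcases Ideal.IsPrime.mem_or_mem inferInstance h with h | h
          · exact ht₂ h
          · exact s₁.2 h
        · exact ht h
      refine IsLocalizedModule.smul_injective fP' (⟨_, hu⟩ * s) ?_
      show (⟨_, hu⟩ * s : y'.primeCompl) • z = (⟨_, hu⟩ * s : y'.primeCompl) • 0
      rw [smul_zero, mul_smul, hs, Submonoid.smul_def, ← map_smul, ← hk', algebraMap_smul, ← map_smul, h17, map_zero]
    · -- the cokernel
      letI : Module R (M' ⧸ LinearMap.range (mapFree α hf)) :=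
        Module.compHom _ (algebraMap R R')
      haveI : IsScalarTower R R' (M' ⧸ LinearMap.range (mapFree α hf)) :=
        IsScalarTower.of_algebraMap_smul fun _ _ => rfl
      haveI : IsScalarTower R D (M' ⧸ LinearMap.range (mapFree α hf)) := IsScalarTower.of_algebraMap_smul fun a m => by
        show algebraMap R D a • m = algebraMap R R' a • m
        rw [← algebraMap_smul D' (algebraMap R D a) m, ← IsScalarTower.algebraMap_apply,
          IsScalarTower.algebraMap_apply R R' D', algebraMap_smul]
      haveI : Algebra.IsPushout R D R' D' := Algebra.IsPushout.symm inferInstance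
      haveI := hcok
      exact Groth.L20.flat_localizedModule_of_isBaseChange (R := R) (R' := R') (cokerMap α hf)
        (Groth.L20.isBaseChange_restrictScalars (isBaseChange_cokerMap α hf)) y.primeCompl y'.primeCompl
        fun t ht h => ht (by rw [← hy']; exact h)

end Localized

section Tower

/-- Models over a tower of bases. -/
theorem exists_tower {R R₁ R' D D₁ D' M M₁ M' : Type u} [CommRing R] [CommRing R₁] [CommRing R'] [CommRing D] [CommRing D₁]
  [CommRing D'] [Algebra R R₁] [Algebra R R'] [Algebra R₁ R'] [IsScalarTower R R₁ R'] [Algebra R D]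
  [Algebra D D₁] [Algebra R₁ D₁] [Algebra R D₁] [IsScalarTower R R₁ D₁] [IsScalarTower R D D₁]
  [Algebra.IsPushout R R₁ D D₁] [Algebra D D'] [Algebra R' D'] [Algebra R D'] [Algebra R₁ D']
  [IsScalarTower R R' D'] [IsScalarTower R₁ R' D'] [IsScalarTower R D D'] [Algebra.IsPushout R R' D D']
  [AddCommGroup M] [Module D M] [AddCommGroup M₁] [Module D₁ M₁] [Module D M₁] [IsScalarTower D D₁ M₁]
  [AddCommGroup M'] [Module D' M'] [Module D M'] [IsScalarTower D D' M']
    {f₁ : M →ₗ[D] M₁} (hf₁ : IsBaseChange D₁ f₁) {f : M →ₗ[D] M'} (hf : IsBaseChange D' f) :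
    ∃ (_ : Algebra D₁ D') (_ : IsScalarTower R₁ D₁ D') (_ : IsScalarTower D D₁ D')
      (_ : Algebra.IsPushout R₁ R' D₁ D') (_ : Module D₁ M') (_ : IsScalarTower D₁ D' M')
      (g : M₁ →ₗ[D₁] M'), IsBaseChange D' g ∧ ∀ x, g (f₁ x) = f x := by
  haveI : IsScalarTower R R₁ D' := IsScalarTower.of_algebraMap_eq fun x => by
    rw [IsScalarTower.algebraMap_apply R R' D', IsScalarTower.algebraMap_apply R R₁ R',
      ← IsScalarTower.algebraMap_apply R₁ R' D']
  let φ : D₁ →ₐ[R] D' :=
    Algebra.pushoutDesc D₁ (IsScalarTower.toAlgHom R R₁ D') (IsScalarTower.toAlgHom R D D') fun _ _ => Commute.all _ _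
  letI : Algebra D₁ D' := φ.toRingHom.toAlgebra
  haveI t1 : IsScalarTower R₁ D₁ D' := IsScalarTower.of_algebraMap_eq fun x =>
    (Algebra.pushoutDesc_left D₁ (IsScalarTower.toAlgHom R R₁ D') (IsScalarTower.toAlgHom R D D') (fun _ _ => Commute.all _ _) x).symm
  haveI t2 : IsScalarTower D D₁ D' := IsScalarTower.of_algebraMap_eq fun x =>
    (Algebra.pushoutDesc_right D₁ (IsScalarTower.toAlgHom R R₁ D') (IsScalarTower.toAlgHom R D D') (fun _ _ => Commute.all _ _) x).symm
  haveI : IsScalarTower R D₁ D' := IsScalarTower.of_algebraMap_eq fun x => (φ.commutes x).symm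
  haveI hpush : Algebra.IsPushout R₁ R' D₁ D' :=
    (Algebra.IsPushout.comp_iff R R₁ D D₁ (T := R') (T' := D')).mp inferInstance
  letI : Module D₁ M' := Module.compHom M' (algebraMap D₁ D')
  haveI t3 : IsScalarTower D₁ D' M' := IsScalarTower.of_algebraMap_smul fun _ _ => rfl
  haveI : IsScalarTower D D₁ M' := IsScalarTower.of_algebraMap_smul fun d m => by
    show algebraMap D₁ D' (algebraMap D D₁ d) • m = d • m
    rw [← IsScalarTower.algebraMap_apply, algebraMap_smul]
  exact ⟨inferInstance, t1, t2, hpush, inferInstance, t3, hf₁.lift f,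
    IsBaseChange.of_comp hf₁ (by rw [hf₁.lift_comp]; exact hf), hf₁.lift_eq f⟩

end Tower

section Global

variable {R D M : Type u} [CommRing R] [IsLocalRing R] [CommRing D] [Algebra R D] [Algebra.Smooth R D]
  [AddCommGroup M] [Module D M] [Module R M] [IsScalarTower R D M] {r : ℕ} (α : (Fin r → D) →ₗ[D] M)
  (y : Ideal D) [y.IsPrime]

set_option maxHeartbeats 1000000 in
/-- **The ideal of a step.** -/
theorem step_global (hdom : DomFib R D) (hy : y.comap (algebraMap R D) = maximalIdeal R)
    (hbij : ∀ (K : Type u) [Field K] [Algebra D K],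
      RingHom.ker (algebraMap D K) = (maximalIdeal R).map (algebraMap R D) → Function.Bijective (α.baseChange K))
    (I₁ : Ideal R)
    (hI₁ : ∀ (R' : Type u) [CommRing R'] [IsLocalRing R'] [Algebra R R'] [IsLocalHom (algebraMap R R')],
      FlatPts R D (M ⧸ LinearMap.range α) y R' ↔ I₁ ≤ RingHom.ker (algebraMap R R')) :
    ∃ I : Ideal R, ∀ (R' : Type u) [CommRing R'] [IsLocalRing R'] [Algebra R R'] [IsLocalHom (algebraMap R R')],
      FlatPts R D M y R' ↔ I ≤ RingHom.ker (algebraMap R R') := by
  have hIm : I₁ ≤ maximalIdeal R := by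
    haveI : IsLocalHom (algebraMap R (ResidueField R)) := inferInstanceAs (IsLocalHom (IsLocalRing.residue R))
    have := (hI₁ (ResidueField R)).mp fun D' M' _ _ _ _ _ _ _ _ _ _ _ _ _ f hf Q _ _ _ => inferInstance
    exact this.trans (IsLocalRing.ker_residue (R := R)).le
  let R₁ := R ⧸ I₁
  haveI : Nontrivial R₁ := Ideal.Quotient.nontrivial_iff.mpr fun h =>
    (maximalIdeal.isMaximal R).ne_top (top_le_iff.mp (h ▸ hIm))
  haveI : IsLocalRing R₁ := IsLocalRing.of_surjective' (Ideal.Quotient.mk I₁) Ideal.Quotient.mk_surjective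
  have hloc : (maximalIdeal R₁).comap (algebraMap R R₁) = maximalIdeal R :=
    IsLocalRing.eq_maximalIdeal (Ideal.comap_isMaximal_of_surjective _ Ideal.Quotient.mk_surjective)
  haveI : IsLocalHom (algebraMap R R₁) := ((local_hom_TFAE (algebraMap R R₁)).out 0 4 rfl rfl).mpr hloc
  obtain ⟨D₁, M₁, _, _, _, _, _, _, _, _, _, _, _, _, _, f₁, hf₁⟩ := exists_baseChange_model R D M R₁
  have hD₁s : Function.Surjective (algebraMap D D₁) :=
    surjective_of_isPushout (R := R) (R' := R₁) Ideal.Quotient.mk_surjective
  obtain ⟨y₁, _, hy₁m, hy₁⟩ := exists_prime_of_isPushout (R := R) (R' := R₁) (D := D) (D' := D₁) (maximalIdeal R₁) y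
    (by rw [hloc, hy])
  haveI := hdom.projective
  haveI : Module.Free R D := Groth.L01.free_of_projective _
  haveI : Module.Free R₁ D₁ := free_of_isPushout R D R₁ D₁
  have hcok₁ : Module.Flat R₁ (LocalizedModule y₁.primeCompl (M₁ ⧸ LinearMap.range (mapFree α hf₁))) :=
    (hI₁ R₁).mpr (Ideal.mk_ker (I := I₁)).ge D₁ _ (cokerMap α hf₁) (isBaseChange_cokerMap α hf₁) y₁ hy₁m hy₁
  obtain ⟨c, hc1, hc2⟩ := step_ideal_local (R := R₁) (mapFree α hf₁) y₁ hcok₁
  refine ⟨c.comap (algebraMap R R₁), fun R' _ _ _ _ => ⟨fun h => ?_, fun h => ?_⟩⟩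
  · have hm' : (maximalIdeal R').comap (algebraMap R R') = maximalIdeal R :=
      ((local_hom_TFAE (algebraMap R R')).out 0 4 rfl rfl).mp inferInstance
    haveI : (maximalIdeal R').LiesOver (maximalIdeal R) := ⟨hm'.symm⟩
    have key : ∀ (D' M' : Type u) [CommRing D'] [Algebra D D'] [Algebra R' D'] [Algebra R D'] [IsScalarTower R R' D']
        [IsScalarTower R D D'] [Algebra.IsPushout R R' D D'] [AddCommGroup M'] [Module D' M'] [Module D M']
        [IsScalarTower D D' M'] [Module R' M'] [IsScalarTower R' D' M'] (f : M →ₗ[D] M') (hf : IsBaseChange D' f)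
        (Q : Ideal D') [Q.IsPrime], Q.comap (algebraMap R' D') = maximalIdeal R' → Q.comap (algebraMap D D') = y →
        Function.Injective (locFree (mapFree α hf) Q) ∧
          Module.Flat R' (LocalizedModule Q.primeCompl (M' ⧸ LinearMap.range (mapFree α hf))) ∧
          Function.Injective (LocalizedModule.mkLinearMap Q.primeCompl (Fin r → D')) := by
      intro D' M' _ _ _ _ _ _ _ _ _ _ _ _ _ f hf Q _ hQm hQy
      haveI := h D' M' f hf Q hQm hQy
      haveI := smooth_of_isPushout R D R' D'
      refine injective_of_flat (mapFree α hf) Q (hdom.of_isPushout R' D')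
        (Ideal.map_le_iff_le_comap.mpr hQm.ge) fun K _ _ hK => ?_
      letI : Algebra D K := ((algebraMap D' K).comp (algebraMap D D')).toAlgebra
      haveI : IsScalarTower D D' K := IsScalarTower.of_algebraMap_eq' rfl
      refine bijective_mapFree_baseChange α hf K (hbij K ?_)
      rw [IsScalarTower.algebraMap_eq D D' K, ← RingHom.comap_ker, hK]
      exact hξ_baseChange (maximalIdeal R')
    have hI₁' : I₁ ≤ RingHom.ker (algebraMap R R') := by
      refine (hI₁ R').mp ?_
      obtain ⟨D', M', _, _, _, _, _, _, _, _, _, _, _, _, _, f, hf⟩ := exists_baseChange_model R D M R'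
      exact flatPts_of_model _ (isBaseChange_cokerMap α hf) fun Q _ hQm hQy => (key D' M' f hf Q hQm hQy).2.1
    obtain ⟨D', M', _, _, _, _, _, _, _, _, _, _, _, _, _, f, hf⟩ := exists_baseChange_model R D M R'
    obtain ⟨Q, _, hQm, hQy⟩ := exists_prime_of_isPushout (R := R) (R' := R') (D := D) (D' := D') (maximalIdeal R') y
      (by rw [hm', hy])
    obtain ⟨hinj, -, hinjP⟩ := key D' M' f hf Q hQm hQy
    let ψ : R₁ →ₐ[R] R' := Ideal.Quotient.liftₐ I₁ (Algebra.ofId R R') fun a ha => hI₁' ha
    letI : Algebra R₁ R' := ψ.toRingHom.toAlgebra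
    haveI : IsScalarTower R R₁ R' := IsScalarTower.of_algebraMap_eq fun x => (ψ.commutes x).symm
    letI : Algebra R₁ D' := ((algebraMap R' D').comp (algebraMap R₁ R')).toAlgebra
    haveI : IsScalarTower R₁ R' D' := IsScalarTower.of_algebraMap_eq' rfl
    obtain ⟨_, _, _, _, _, _, g, hg, hgf⟩ := exists_tower (R := R) (R₁ := R₁) (R' := R') hf₁ hf
    have hQ₁ : Q.comap (algebraMap D₁ D') = y₁ := by
      refine Ideal.comap_injective_of_surjective _ hD₁s ?_
      rw [Ideal.comap_comap, ← IsScalarTower.algebraMap_eq, hQy, hy₁]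
    have heq : mapFree (mapFree α hf₁) hg = mapFree α hf := by
      refine LinearMap.ext fun x => ?_
      have h0 : ∀ x : Fin r → D, mapFree (mapFree α hf₁) hg (piMap D D' r x) = mapFree α hf (piMap D D' r x) := fun x => by
        rw [mapFree_piMap α hf, show piMap D D' r x = piMap D₁ D' r (piMap D D₁ r x) from
          funext fun i => IsScalarTower.algebraMap_apply D D₁ D' (x i), mapFree_piMap, mapFree_piMap]
        exact hgf _
      rw [← (Pi.basisFun D' (Fin r)).sum_repr x, map_sum, map_sum]
      refine Finset.sum_congr rfl fun i _ => ?_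
      rw [map_smul, map_smul]
      congr 1
      have : (Pi.basisFun D' (Fin r)) i = piMap D D' r (Pi.single i 1) := funext fun j => by
        simp [piMap_apply, Pi.single_apply]
      rw [this, h0]
    have := hc1 R' D' M' g hg Q hQ₁ (by rw [heq]; exact hinj) hinjP
    intro a ha
    rw [RingHom.mem_ker, IsScalarTower.algebraMap_apply R R₁ R']
    exact this ha
  · -- sufficiency
    have hI₁' : I₁ ≤ RingHom.ker (algebraMap R R') := fun a ha => h (by
      rw [Ideal.mem_comap, show algebraMap R R₁ a = 0 from Ideal.Quotient.eq_zero_iff_mem.mpr ha]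
      exact zero_mem _)
    let ψ : R₁ →ₐ[R] R' := Ideal.Quotient.liftₐ I₁ (Algebra.ofId R R') fun a ha => hI₁' ha
    letI : Algebra R₁ R' := ψ.toRingHom.toAlgebra
    haveI : IsScalarTower R R₁ R' := IsScalarTower.of_algebraMap_eq fun x => (ψ.commutes x).symm
    let R₂ := R₁ ⧸ c
    have hcker : c ≤ RingHom.ker (algebraMap R₁ R') := fun a ha => by
      obtain ⟨b, rfl⟩ := Ideal.Quotient.mk_surjective a
      rw [RingHom.mem_ker, ← Ideal.Quotient.algebraMap_eq, ← IsScalarTower.algebraMap_apply]
      exact h ha
    let ψ₂ : R₂ →ₐ[R₁] R' := Ideal.Quotient.liftₐ c (Algebra.ofId R₁ R') fun a ha => hcker ha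
    letI : Algebra R₂ R' := ψ₂.toRingHom.toAlgebra
    haveI : IsScalarTower R₁ R₂ R' := IsScalarTower.of_algebraMap_eq fun x => (ψ₂.commutes x).symm
    haveI : IsScalarTower R R₂ R' := IsScalarTower.of_algebraMap_eq fun x => by
      rw [IsScalarTower.algebraMap_apply R R₁ R', IsScalarTower.algebraMap_apply R₁ R₂ R',
        ← IsScalarTower.algebraMap_apply R R₁ R₂]
    obtain ⟨D₂, M₂, _, _, _, _, _, _, _, _, _, _, _, _, _, f₂, hf₂⟩ := exists_baseChange_model R₁ D₁ M₁ R₂
    letI : Algebra R D₂ := ((algebraMap R₂ D₂).comp (algebraMap R R₂)).toAlgebra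
    haveI : IsScalarTower R R₂ D₂ := IsScalarTower.of_algebraMap_eq' rfl
    letI : Algebra D D₂ := ((algebraMap D₁ D₂).comp (algebraMap D D₁)).toAlgebra
    haveI : IsScalarTower D D₁ D₂ := IsScalarTower.of_algebraMap_eq' rfl
    haveI : IsScalarTower R R₁ D₂ := IsScalarTower.of_algebraMap_eq fun x => by
      show algebraMap R₂ D₂ (algebraMap R R₂ x) = _
      rw [IsScalarTower.algebraMap_apply R R₁ R₂, ← IsScalarTower.algebraMap_apply R₁ R₂ D₂]
    haveI : IsScalarTower R D D₂ := IsScalarTower.of_algebraMap_eq fun x => by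
      show algebraMap R D₂ x = algebraMap D₁ D₂ (algebraMap D D₁ (algebraMap R D x))
      rw [← IsScalarTower.algebraMap_apply R D D₁, IsScalarTower.algebraMap_apply R R₁ D₁,
        ← IsScalarTower.algebraMap_apply R₁ D₁ D₂, ← IsScalarTower.algebraMap_apply R R₁ D₂]
    haveI : IsScalarTower R D₁ D₂ := IsScalarTower.of_algebraMap_eq fun x => by
      rw [IsScalarTower.algebraMap_apply R D D₂, IsScalarTower.algebraMap_apply D D₁ D₂,
        ← IsScalarTower.algebraMap_apply R D D₁]
    haveI : Algebra.IsPushout R R₂ D D₂ :=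
      (Algebra.IsPushout.comp_iff R R₁ D D₁ (T := R₂) (T' := D₂)).mpr inferInstance
    letI : Module D M₂ := Module.compHom M₂ (algebraMap D D₁)
    haveI : IsScalarTower D D₁ M₂ := IsScalarTower.of_algebraMap_smul fun _ _ => rfl
    haveI : IsScalarTower D D₂ M₂ := IsScalarTower.of_algebraMap_smul fun d m => by
      rw [IsScalarTower.algebraMap_apply D D₁ D₂, algebraMap_smul, algebraMap_smul]
    have hf₂' : IsBaseChange D₂ ((f₂.restrictScalars D) ∘ₗ f₁) := hf₁.comp hf₂
    intro D' M' _ _ _ _ _ _ _ _ _ _ _ _ _ f hf Q _ hQm hQy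
    letI : Algebra R₂ D' := ((algebraMap R' D').comp (algebraMap R₂ R')).toAlgebra
    haveI : IsScalarTower R₂ R' D' := IsScalarTower.of_algebraMap_eq' rfl
    obtain ⟨_, _, _, _, _, _, g, hg, -⟩ := exists_tower (R := R) (R₁ := R₂) (R' := R') hf₂' hf
    let y₂ := Q.comap (algebraMap D₂ D')
    haveI : y₂.IsPrime := Ideal.IsPrime.comap _
    have hy₂ : y₂.comap (algebraMap D₁ D₂) = y₁ := by
      refine Ideal.comap_injective_of_surjective _ hD₁s ?_
      rw [Ideal.comap_comap, ← IsScalarTower.algebraMap_eq, Ideal.comap_comap, ← IsScalarTower.algebraMap_eq,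
        hQy, hy₁]
    haveI := hc2 R₂ D₂ M₂ f₂ hf₂ Ideal.Quotient.mk_surjective (Ideal.mk_ker (I := c)) y₂ hy₂
    letI : Module R₂ M' := Module.compHom M' (algebraMap R₂ R')
    haveI : IsScalarTower R₂ R' M' := IsScalarTower.of_algebraMap_smul fun _ _ => rfl
    haveI : IsScalarTower R₂ D₂ M' := IsScalarTower.of_algebraMap_smul fun a m => by
      show algebraMap R₂ D₂ a • m = algebraMap R₂ R' a • m
      rw [← algebraMap_smul D' (algebraMap R₂ D₂ a) m, ← IsScalarTower.algebraMap_apply,
        IsScalarTower.algebraMap_apply R₂ R' D', algebraMap_smul]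
    haveI : Algebra.IsPushout R₂ D₂ R' D' := Algebra.IsPushout.symm inferInstance
    exact Groth.L20.flat_localizedModule_of_isBaseChange (R := R₂) (R' := R') g (Groth.L20.isBaseChange_restrictScalars hg)
      y₂.primeCompl Q.primeCompl fun t ht h => ht h

end Global

end Groth.L20.RG
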