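import Groth.Agent.L20.RG.Smooth
import Groth.Agent.L20.FiberModule
import Groth.Agent.L03.FibreLocalDim
import Groth.Agent.L22.AffineDim
import Groth.Agent.L01.TopPrimes
import Groth.Agent.S2768

/-!
# Facts about the fibres of a one-step dévissage
-/

set_option autoImplicit false
set_option linter.style.haveILetI false
universe u

open TensorProduct AlgebraicGeometry

noncomputable section

namespace Groth.L20.RG

theorem smooth_of_relDim {R D : Type u} [CommRing R] [CommRing D] [Algebra R D] {n : ℕ}
    (h : FlatCA.SmoothRelDim n R D) : Algebra.Smooth R D := by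
  haveI := h
  have : Smooth (Spec.map (CommRingCat.ofHom (algebraMap R D))) := SmoothOfRelativeDimension.smooth n _
  rw [HasRingHomProperty.Spec_iff (P := @Smooth), CommRingCat.hom_ofHom, RingHom.smooth_algebraMap] at this
  exact this

theorem ringKrullDim_fiber {R D : Type u} [CommRing R] [CommRing D] [Algebra R D] {n : ℕ}
    (h : FlatCA.SmoothRelDim n R D) (p : Ideal R) [p.IsPrime] [Nontrivial (p.Fiber D)] :
    ringKrullDim (p.Fiber D) = n := by
  haveI := h
  haveI : SmoothOfRelativeDimension n (Groth.L03.FibreLocalDim.f R D) := h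
  have hloc : ∀ Q : PrimeSpectrum (p.Fiber D),
      FlatMor.localDim (PrimeSpectrum (p.Fiber D)) Q = (n : WithBot ℕ∞) := fun Q =>
    (Groth.L03.FibreLocalDim.localDim_fiber_eq ⟨p, inferInstance⟩ Q).trans (Groth.L20.SmoothDim.main n _ _)
  rw [← PrimeSpectrum.topologicalKrullDim_eq_ringKrullDim]
  refine le_antisymm (Groth.L07.FibreDim.dim_le_of_localDim_le _ fun Q => (hloc Q).le) ?_
  obtain ⟨Q⟩ : Nonempty (PrimeSpectrum (p.Fiber D)) := inferInstance
  rw [← hloc Q]
  exact iInf_le_of_le ⟨⊤, trivial⟩ (topologicalKrullDim_subspace_le _ _)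

/-- Dimension of support along an integral ring map, for semilinearly isomorphic modules. -/
theorem supportDim_eq_of_semilinear {X Y M M' : Type u} [CommRing X] [CommRing Y] [AddCommGroup M] [AddCommGroup M']
    [Module X M] [Module Y M'] [Module.Finite X M] [Module.Finite Y M'] (φ : X →+* Y) (hφ : φ.IsIntegral)
    (e : M ≃+ M') (he : ∀ x m, e (x • m) = φ x • e m) : Module.supportDim X M = Module.supportDim Y M' := by
  rw [Module.supportDim_eq_ringKrullDim_quotient_annihilator, Module.supportDim_eq_ringKrullDim_quotient_annihilator]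
  let ψ : X ⧸ Module.annihilator X M →+* Y ⧸ Module.annihilator Y M' := Ideal.quotientMap _ φ fun x hx => by
    rw [Ideal.mem_comap, Module.mem_annihilator]
    intro m
    obtain ⟨m, rfl⟩ := e.surjective m
    rw [← he, Module.mem_annihilator.mp hx, map_zero]
  have hinj : Function.Injective ψ := Ideal.quotientMap_injective' fun x hx => by
    rw [Ideal.mem_comap, Module.mem_annihilator] at hx
    rw [Module.mem_annihilator]
    intro m
    apply e.injective
    rw [he, hx, map_zero]
  letI := ψ.toAlgebra
  haveI : Algebra.IsIntegral (X ⧸ Module.annihilator X M) (Y ⧸ Module.annihilator Y M') := by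
    refine ⟨fun y => ?_⟩
    obtain ⟨y, rfl⟩ := Ideal.Quotient.mk_surjective y
    obtain ⟨P, hP, hPy⟩ := hφ y
    refine ⟨P.map (Ideal.Quotient.mk _), hP.map _, ?_⟩
    rw [Polynomial.eval₂_map, show (algebraMap _ _).comp (Ideal.Quotient.mk _) =
      (Ideal.Quotient.mk _).comp φ from Ideal.quotientMap_comp_mk (f := φ) _, ← Polynomial.hom_eval₂, hPy, map_zero]
  exact (Groth.L22.AffineDim.ringKrullDim_eq_of_isIntegral hinj).symm

section Fibre

variable {R S C : Type u} [CommRing R] [CommRing S] [CommRing C] [Algebra R S] [Algebra R C] [Algebra S C]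
  [IsScalarTower R S C] (p : Ideal R) [p.IsPrime] (G : Type u) [AddCommGroup G] [Module S G] [Module C G]
  [IsScalarTower S C G] [Module R G] [IsScalarTower R S G] [IsScalarTower R C G]

instance finite_fiberMod [Module.Finite S G] : Module.Finite (p.Fiber S) (FlatCA.fiberMod p S G) :=
  letI : Algebra S (p.Fiber S) := Algebra.TensorProduct.rightAlgebra
  inferInstanceAs (Module.Finite (p.Fiber S) ((p.Fiber S) ⊗[S] G))

theorem fiberModEquiv_smul (a : p.ResidueField) (s : S) (m : FlatCA.fiberMod p S G) :
    Groth.L20.fiberModEquiv p S G ((a ⊗ₜ[R] s : p.Fiber S) • m) =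
      (TensorProduct.map ((LinearMap.lsmul S G s).restrictScalars R) (LinearMap.mulLeft R a))
        (Groth.L20.fiberModEquiv p S G m) := by
  letI : Algebra S (p.Fiber S) := Algebra.TensorProduct.rightAlgebra
  let E : (p.Fiber S) ⊗[S] G →+ G ⊗[R] p.ResidueField :=
    (Groth.L20.fiberModEquiv p S G).toAddEquiv.toAddMonoidHom
  suffices H : ∀ w : (p.Fiber S) ⊗[S] G, E ((a ⊗ₜ[R] s : p.Fiber S) • w) =
      (TensorProduct.map ((LinearMap.lsmul S G s).restrictScalars R) (LinearMap.mulLeft R a)) (E w) from H m
  have hE : ∀ (b : p.ResidueField) (t : S) (g : G), E ((b ⊗ₜ[R] t : p.Fiber S) ⊗ₜ[S] g) = (t • g) ⊗ₜ[R] b :=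
    fun b t g => by rfl
  intro w
  induction w using TensorProduct.induction_on with
  | zero => rw [smul_zero, map_zero, map_zero]
  | add x y hx hy => rw [smul_add, map_add, map_add, map_add, hx, hy]
  | tmul f g =>
    rw [TensorProduct.smul_tmul', smul_eq_mul]
    induction f using TensorProduct.induction_on with
    | zero => rw [mul_zero, TensorProduct.zero_tmul, map_zero, map_zero]
    | add x y hx hy => rw [mul_add, TensorProduct.add_tmul, TensorProduct.add_tmul, map_add, map_add, map_add, hx, hy]
    | tmul b t =>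
      rw [Algebra.TensorProduct.tmul_mul_tmul, hE, hE, TensorProduct.map_tmul]
      simp [mul_smul, smul_comm s t]

/-- The dimension of the support of the fibre module does not see integral changes of ring. -/
theorem supportDim_fiberMod [Algebra.IsIntegral S C] [Module.Finite S G] [Module.Finite C G] :
    Module.supportDim (p.Fiber S) (FlatCA.fiberMod p S G) = Module.supportDim (p.Fiber C) (FlatCA.fiberMod p C G) := by
  let φ : p.Fiber S →ₐ[p.ResidueField] p.Fiber C :=
    Algebra.TensorProduct.map (AlgHom.id p.ResidueField p.ResidueField) (IsScalarTower.toAlgHom R S C)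
  let e : FlatCA.fiberMod p S G ≃+ FlatCA.fiberMod p C G :=
    (Groth.L20.fiberModEquiv p S G).toAddEquiv.trans (Groth.L20.fiberModEquiv p C G).toAddEquiv.symm
  refine supportDim_eq_of_semilinear φ.toRingHom ?_ e ?_
  · intro y
    induction y using TensorProduct.induction_on with
    | zero => exact φ.toRingHom.isIntegralElem_zero
    | add y z hy hz => exact hy.add φ.toRingHom hz
    | tmul a c =>
      have h1 : φ.toRingHom.IsIntegralElem (a ⊗ₜ[R] (1 : C) : p.Fiber C) := by
        have : φ.toRingHom (a ⊗ₜ[R] (1 : S) : p.Fiber S) = (a ⊗ₜ[R] (1 : C) : p.Fiber C) := by simp [φ]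
        rw [← this]
        exact φ.toRingHom.isIntegralElem_map
      have h2 : φ.toRingHom.IsIntegralElem ((1 : p.ResidueField) ⊗ₜ[R] c : p.Fiber C) := by
        obtain ⟨P, hP, hPc⟩ := Algebra.IsIntegral.isIntegral (R := S) c
        let ι : S →+* p.Fiber S := (Algebra.TensorProduct.includeRight : S →ₐ[R] p.Fiber S).toRingHom
        let ιC : C →+* p.Fiber C := (Algebra.TensorProduct.includeRight : C →ₐ[R] p.Fiber C).toRingHom
        refine ⟨P.map ι, hP.map _, ?_⟩
        have hc : φ.toRingHom.comp ι = ιC.comp (algebraMap S C) := RingHom.ext fun s => by simp [φ, ι, ιC]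
        rw [Polynomial.eval₂_map, hc]
        show Polynomial.eval₂ (ιC.comp (algebraMap S C)) (ιC c) P = 0
        rw [← Polynomial.hom_eval₂, hPc, map_zero]
      have := h1.mul φ.toRingHom h2
      rwa [Algebra.TensorProduct.tmul_mul_tmul, mul_one, one_mul] at this
  · intro x m
    induction x using TensorProduct.induction_on with
    | zero => simp
    | add x y hx hy => rw [add_smul, map_add, hx, hy, map_add, add_smul]
    | tmul a s =>
      apply (Groth.L20.fiberModEquiv p C G).injective
      show Groth.L20.fiberModEquiv p C G ((Groth.L20.fiberModEquiv p C G).symm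
          (Groth.L20.fiberModEquiv p S G ((a ⊗ₜ[R] s : p.Fiber S) • m))) =
        Groth.L20.fiberModEquiv p C G ((a ⊗ₜ[R] algebraMap S C s : p.Fiber C) •
          (Groth.L20.fiberModEquiv p C G).symm (Groth.L20.fiberModEquiv p S G m))
      rw [fiberModEquiv_smul, fiberModEquiv_smul, LinearEquiv.apply_symm_apply, LinearEquiv.apply_symm_apply]
      congr 2
      ext g
      simp

end Fibre

end Groth.L20.RG

namespace Groth.L20.RG

variable {R D : Type u} [CommRing R] [CommRing D] [Algebra R D] (p : Ideal R) [p.IsPrime]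

theorem liesOver_map [Algebra.Smooth R D] (h : DomFib R D) : (p.map (algebraMap R D)).LiesOver p :=
  haveI := h.faithfullyFlat
  ⟨(Ideal.comap_map_eq_self_of_faithfullyFlat p).symm⟩

/-- Elements outside `pD` are nonzero on the fibre. -/
theorem one_tmul_fiber_ne_zero [Algebra.Smooth R D] (h : DomFib R D) [(p.map (algebraMap R D)).IsPrime] {t : D}
    (ht : t ∉ p.map (algebraMap R D)) : ((1 : p.ResidueField) ⊗ₜ[R] t : p.Fiber D) ≠ 0 := by
  haveI := liesOver_map p h
  let ξ := p.map (algebraMap R D)
  let φ : p.Fiber D →ₐ[R] ξ.ResidueField :=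
    Algebra.TensorProduct.lift (Ideal.ResidueField.mapₐ p ξ (Algebra.ofId R D) (Ideal.LiesOver.over (P := ξ) (p := p)))
      (IsScalarTower.toAlgHom R D ξ.ResidueField) fun _ _ => Commute.all _ _
  intro h0
  have h1 := congrArg φ h0
  rw [map_zero, Algebra.TensorProduct.lift_tmul, map_one, one_mul] at h1
  exact ht (Ideal.algebraMap_residueField_eq_zero.mp h1)

/-- A module vanishing at the generic point of the fibre has small fibre support. -/
theorem supportDim_fiberMod_lt [Algebra.Smooth R D] {n : ℕ} (hn : FlatCA.SmoothRelDim n R D) (h : DomFib R D)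
    [(p.map (algebraMap R D)).IsPrime] (M : Type u) [AddCommGroup M] [Module D M] [Module R M] [IsScalarTower R D M]
    [Module.Finite D M] (hM : ∀ m : M, ∃ t ∉ p.map (algebraMap R D), t • m = 0) :
    Module.supportDim (p.Fiber D) (FlatCA.fiberMod p D M) < (n : WithBot ℕ∞) := by
  haveI := h p.ResidueField
  haveI : IsDomain (p.Fiber D) := this
  have hd := (ringKrullDim_fiber hn p).le
  refine Groth.L01.TopPrimes.supportDim_lt hd _ fun P hP x => ?_
  obtain rfl : P = ⊥ := by
    have hmin := Groth.L01.TopPrimes.minimal_of_mem hd hP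
    simpa [IsDomain.minimalPrimes_eq_singleton_bot] using hmin
  letI : Algebra D (p.Fiber D) := Algebra.TensorProduct.rightAlgebra
  change (p.Fiber D) ⊗[D] M at x
  show ∃ t ∉ (⊥ : Ideal (p.Fiber D)), t • (x : (p.Fiber D) ⊗[D] M) = 0
  induction x using TensorProduct.induction_on with
  | zero => exact ⟨1, by simp, smul_zero _⟩
  | add a b ha hb =>
    obtain ⟨s, hs, hs'⟩ := ha
    obtain ⟨t, ht, ht'⟩ := hb
    refine ⟨s * t, by simp_all, ?_⟩
    rw [smul_add]
    conv_lhs => arg 1; rw [mul_comm]
    rw [mul_smul, mul_smul, hs', ht', smul_zero, smul_zero, add_zero]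
  | tmul f g =>
    obtain ⟨t, ht, ht'⟩ := hM g
    refine ⟨algebraMap D (p.Fiber D) t, ?_, ?_⟩
    · rw [Ideal.mem_bot]; exact one_tmul_fiber_ne_zero p h ht
    · rw [algebraMap_smul, ← TensorProduct.tmul_smul, ht', TensorProduct.tmul_zero]

end Groth.L20.RG
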