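import Groth.Agent.L20.RG.WeakAssFlat

/-!
# Consequences of the description of weakly associated points of flat modules
-/

set_option autoImplicit false
set_option linter.style.haveILetI false
set_option backward.isDefEq.respectTransparency.types false
universe u

open TensorProduct

noncomputable section

namespace Groth.L20.RG

open Groth.L03.WeakAss

/-- In a flat base change an element whose annihilator is contained in a contracted prime survives. -/
theorem one_tmul_ne_zero_of_le {S W : Type u} [CommRing S] [AddCommGroup W] [Module S W] {C : Type u} [CommRing C]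
    [Algebra S C] [Module.Flat S C] (x : Ideal C) [hx : x.IsPrime] {z : W}
    (hz : annE S z ≤ x.comap (algebraMap S C)) : (1 : C) ⊗ₜ[S] z ≠ 0 := by
  intro h0
  let u := LinearMap.toSpanSingleton S W z
  have h1 : u.lTensor C ((1 : C) ⊗ₜ[S] (1 : S)) = 0 := by
    rw [LinearMap.lTensor_tmul, LinearMap.toSpanSingleton_apply, one_smul]; exact h0
  obtain ⟨y, hy⟩ := (Module.Flat.lTensor_exact C (LinearMap.exact_subtype_ker_map u) _).1 h1
  have key : ∀ y : C ⊗[S] LinearMap.ker u, TensorProduct.rid S C ((LinearMap.ker u).subtype.lTensor C y) ∈ x := fun y => by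
    induction y using TensorProduct.induction_on with
    | zero => simp
    | add a b ha hb => simpa using add_mem ha hb
    | tmul c i =>
      rw [LinearMap.lTensor_tmul, TensorProduct.rid_tmul, Algebra.smul_def]
      exact x.mul_mem_right _ (hz (mem_annE.2 i.2))
  have := key y
  rw [hy, TensorProduct.rid_tmul, one_smul] at this
  exact hx.ne_top ((Ideal.eq_top_iff_one x).mpr this)

variable {R S : Type u} [CommRing R] [CommRing S] [Algebra R S] [Algebra.FiniteType R S]
  (N : Type u) [AddCommGroup N] [Module S N] [Module R N] [IsScalarTower R S N] [Module.Finite S N]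
  (M : Type u) [AddCommGroup M] [Module R M]

/-- An element regular on the fibre near a flat point is regular on every tensor product near that point. -/
theorem regular_of_regular_fibre (p : Ideal R) [p.IsPrime] (q : Ideal S) [q.IsPrime] [q.LiesOver p]
    (hflat : FlatCA.FlatAt R q N) {b : S}
    (hb : ∀ y : N ⊗[R] p.ResidueField, b • y = 0 → ∃ s ∉ q, s • y = 0) {z : N ⊗[R] M} (hz : b • z = 0) :
    ∃ s ∉ q, s • z = 0 := by
  obtain ⟨A, _, _, _, C, _, _, _, _, _, _, _, _, hmA, hrA, -, hflatC, ⟨x, hx, hxq⟩, hfree, hreg⟩ :=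
    exists_regular_chart N p q hflat
  haveI := hflatC
  haveI := hfree
  haveI := hx
  by_contra! hne
  have hle : annE S z ≤ x.comap (algebraMap S C) := by
    intro s hs
    rw [hxq]
    by_contra hsq
    exact hne s hsq (mem_annE.1 hs)
  refine one_tmul_ne_zero_of_le x hle (smul_injective_chart (A := A) N M hmA hrA _ (hreg b hb) _ ?_)
  rw [algebraMap_smul, TensorProduct.smul_tmul', TensorProduct.smul_tmul, hz, TensorProduct.tmul_zero]

/-- A weakly associated point specialising to a flat point generalises an associated point of that fibre. -/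
theorem exists_le_weakAss_fibre (p : Ideal R) [p.IsPrime] (q : Ideal S) [q.IsPrime] [q.LiesOver p]
    (hflat : FlatCA.FlatAt R q N) {P : Ideal S} (hP : P ∈ FlatCA.weakAss S (N ⊗[R] M)) (hPq : P ≤ q) :
    ∃ P₀ ∈ FlatCA.weakAss S (N ⊗[R] p.ResidueField), P ≤ P₀ ∧ P₀ ≤ q := by
  classical
  haveI := isPrime_of_mem_weakAss hP
  obtain ⟨z, hz1, hz2⟩ := mem_weakAss_iff_exists.1 hP
  by_contra! hne
  have hfin := finite_weakAss_fibre (S := S) p N
  obtain ⟨b, hbP, hb⟩ : ∃ b ∈ P, ∀ P₀ ∈ FlatCA.weakAss S (N ⊗[R] p.ResidueField), P₀ ≤ q → b ∉ P₀ := by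
    by_contra! hcov
    let I := hfin.toFinset.filter fun P₀ => P₀ ≤ q
    have hsub : (P : Set S) ⊆ ⋃ P₀ ∈ (↑I : Set (Ideal S)), P₀ := by
      intro b hb
      obtain ⟨P₀, hP₀, hle, hbP₀⟩ := hcov b hb
      simp only [Set.mem_iUnion]
      exact ⟨P₀, Finset.mem_coe.2 (Finset.mem_filter.2 ⟨hfin.mem_toFinset.2 hP₀, hle⟩), hbP₀⟩
    obtain ⟨P₀, hP₀, hle⟩ := (Ideal.subset_union_prime (f := id) ⊥ ⊥ (fun P₀ hP₀ _ _ =>
      isPrime_of_mem_weakAss (hfin.mem_toFinset.1 (Finset.mem_filter.1 hP₀).1))).1 hsub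
    exact hne P₀ (hfin.mem_toFinset.1 (Finset.mem_filter.1 hP₀).1) hle (Finset.mem_filter.1 hP₀).2
  have hregb : ∀ y : N ⊗[R] p.ResidueField, b • y = 0 → ∃ s ∉ q, s • y = 0 := by
    intro y hy
    by_contra! hne'
    have hle : annE S y ≤ q := fun s hs => by
      by_contra hsq
      exact hne' s hsq (mem_annE.1 hs)
    obtain ⟨P₀, hP₀, hP₀q⟩ := Ideal.exists_minimalPrimes_le hle
    exact hb P₀ ⟨y, hP₀⟩ hP₀q (hP₀.le (mem_annE.2 hy))
  have hpow : ∀ (n : ℕ) (w : N ⊗[R] M), b ^ n • w = 0 → ∃ s ∉ q, s • w = 0 := fun n => by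
    induction n with
    | zero => exact fun w hw => ⟨1, fun h => (inferInstance : q.IsPrime).ne_top ((Ideal.eq_top_iff_one q).mpr h),
        by simpa using hw⟩
    | succ n ih =>
      intro w hw
      rw [pow_succ, mul_smul] at hw
      obtain ⟨s, hs, hsw⟩ := ih _ hw
      rw [smul_comm] at hsw
      obtain ⟨s', hs', hs'w⟩ := regular_of_regular_fibre N M p q hflat hregb hsw
      exact ⟨s' * s, fun h => (Ideal.IsPrime.mem_or_mem ‹q.IsPrime› h).elim hs' hs, by rw [mul_smul]; exact hs'w⟩
  obtain ⟨s, hs, k, hk⟩ := hz2 b hbP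
  rw [mul_comm, mul_smul] at hk
  obtain ⟨s', hs', hs'z⟩ := hpow k _ hk
  refine hz1 (s' * s) (fun h => (Ideal.IsPrime.mem_or_mem ‹P.IsPrime› h).elim (fun h' => hs' (hPq h')) hs) ?_
  rw [mul_smul]
  exact hs'z

/-- The fibre prime of a weakly associated point is associated. -/
theorem fiberIdeal_mem_of_weakAss (hflat : Module.Flat R N) {P : Ideal S} [P.IsPrime]
    (hP : P ∈ FlatCA.weakAss S (N ⊗[R] M)) (p : Ideal R) [p.IsPrime] [P.LiesOver p] :
    FlatCA.fiberIdeal p P ∈ associatedPrimes (p.Fiber S) (FlatCA.fiberMod p S N) :=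
  (fiberIdeal_mem_ass_iff_weakAss p N P).mpr
    (of_mem_weakAss_tensor N M p P (Groth.L20.FibreCrit.flat_localizedModule_of_flat P.primeCompl) hP).2

end Groth.L20.RG
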