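import Groth.Agent.L20.RG.FreeNhd
import Groth.Agent.L20.RG.TransferFp

/-!
# Finite presentation at flat points
-/

set_option autoImplicit false
set_option linter.style.haveILetI false
set_option backward.isDefEq.respectTransparency.types false
universe u

open TensorProduct IsLocalRing

noncomputable section

namespace Groth.L20.RG

/-- A model of the pushout with its point. -/
theorem exists_pushout_point {R' S' A : Type u} [CommRing R'] [CommRing S'] [CommRing A] [Algebra R' S'] [Algebra R' A]
    (p' : Ideal R') [p'.IsPrime] (q' : Ideal S') [q'.IsPrime] [q'.LiesOver p'] (m : Ideal A) [m.IsPrime]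
    (hm : TrivRes R' p' m) :
    ∃ (C : Type u) (_ : CommRing C) (_ : Algebra A C) (_ : Algebra S' C) (_ : Algebra R' C) (_ : IsScalarTower R' A C)
      (_ : IsScalarTower R' S' C), Algebra.IsPushout R' A S' C ∧
      ∃ (Qc : Ideal C) (_ : Qc.IsPrime), Qc.LiesOver m ∧ TrivRes S' q' Qc := by
  letI : Algebra S' (A ⊗[R'] S') := Algebra.TensorProduct.rightAlgebra
  obtain ⟨Qc, hQ, hQp, hQq, -⟩ := exists_point_pushout p' q' m hm
  exact ⟨A ⊗[R'] S', inferInstance, inferInstance, inferInstance, inferInstance, inferInstance, inferInstance,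
    inferInstance, Qc, hQ, hQp, hQq⟩

set_option maxHeartbeats 400000 in
/-- A finite module is finitely presented at a point where it is flat. -/
theorem fp_atPrime_of_flatAt {R S : Type u} [CommRing R] [CommRing S] [Algebra R S] [Algebra.FinitePresentation R S]
    (N : Type u) [AddCommGroup N] [Module S N] [Module R N] [IsScalarTower R S N] [Module.Finite S N]
    (q : Ideal S) [q.IsPrime] (h : FlatCA.FlatAt R q N) :
    Module.FinitePresentation (Localization.AtPrime q) (Localization.AtPrime q ⊗[S] N) := by
  let p := q.comap (algebraMap R S)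
  haveI : q.LiesOver p := ⟨rfl⟩
  obtain ⟨R', S', _, _, _, _, _, _, _, _, p', _, f, hp, hS, hf, ⟨q', _, hq'p, hq'⟩, -, H⟩ :=
    exists_free_local N p q h
  haveI := hp.1
  haveI := hS
  haveI := hq'p
  haveI := hq'.liesOver
  obtain ⟨A, _, _, _, hA, hAflat, hu⟩ : ∃ (A : Type u) (_ : CommRing A) (_ : IsLocalRing A) (_ : Algebra R' A),
      TrivRes R' p' (maximalIdeal A) ∧ Module.Flat R' A ∧ IsUnit (algebraMap R' A f) :=
    ⟨Localization.AtPrime p', inferInstance, inferInstance, inferInstance, trivRes_atPrime p',
      IsLocalization.flat _ p'.primeCompl, IsLocalization.map_units _ (⟨f, hf⟩ : p'.primeCompl)⟩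
  obtain ⟨C, _, _, _, _, _, _, hpush, Qc, _, hQp, hQq⟩ := exists_pushout_point (A := A) p' q' (maximalIdeal A) hA
  haveI := hpush
  letI : Algebra S C := ((algebraMap S' C).comp (algebraMap S S')).toAlgebra
  haveI : IsScalarTower S S' C := IsScalarTower.of_algebraMap_eq' rfl
  haveI := hQp
  haveI := hQq.liesOver
  haveI : SMulCommClass S A C := ⟨fun s a c => by simp only [Algebra.smul_def]; ring⟩
  obtain ⟨hfp, -⟩ := H A hA hu C (C ⊗[S] N) (TensorProduct.mk S C N 1)
    (TensorProduct.isBaseChange S N C)
  haveI : Qc.LiesOver q := Ideal.LiesOver.trans Qc q' q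
  let T := Localization.AtPrime Qc
  letI := Localization.AtPrime.algebraOfLiesOver q Qc
  haveI := hAflat
  haveI hpush' : Algebra.IsPushout R' S' A C := Algebra.IsPushout.symm hpush
  haveI : Module.Flat S' C := Module.Flat.isBaseChange R' S' A C hpush'.out
  haveI : Module.Flat C T := IsLocalization.flat _ Qc.primeCompl
  haveI : Module.Flat S S' := Algebra.Smooth.flat S S'
  haveI : Module.Flat S C := Module.Flat.trans S S' C
  haveI : Module.Flat S T := Module.Flat.trans S C T
  haveI : Module.Flat (Localization.AtPrime q) T :=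
    (Module.flat_iff_of_isLocalization (Localization.AtPrime q) q.primeCompl T).2 inferInstance
  haveI : Module.FaithfullyFlat (Localization.AtPrime q) T := Module.FaithfullyFlat.of_flat_of_isLocalHom
  exact fp_descent _ T (fp_of_algebra C T hfp)

end Groth.L20.RG
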