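import Groth.Agent.L20.RG.UnivInjChart

/-!
# Universal injectivity from the fibres
-/

set_option autoImplicit false
set_option linter.style.haveILetI false
set_option backward.isDefEq.respectTransparency.types false
universe u

open TensorProduct IsLocalRing

noncomputable section

namespace Groth.L20.RG

open Groth.L03.WeakAss

/-- Injectivity on one residue field gives injectivity on its vector spaces. -/
theorem injective_rTensor_vector {A N M : Type u} [CommRing A] [AddCommGroup N] [Module A N] [AddCommGroup M] [Module A M]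
    (u : N →ₗ[A] M) (K : Type u) [Field K] [Algebra A K] (h : Function.Injective (u.rTensor K))
    (Y : Type u) [AddCommGroup Y] [Module A Y] [Module K Y] [IsScalarTower A K Y] : Function.Injective (u.rTensor Y) := by
  classical
  let b := Module.Free.chooseBasis K Y
  let eN : N ⊗[A] Y ≃ₗ[A] (Module.Free.ChooseBasisIndex K Y →₀ N ⊗[A] K) :=
    ((b.repr.restrictScalars A).lTensor N).trans (TensorProduct.finsuppRight A A N K _)
  let eM : M ⊗[A] Y ≃ₗ[A] (Module.Free.ChooseBasisIndex K Y →₀ M ⊗[A] K) :=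
    ((b.repr.restrictScalars A).lTensor M).trans (TensorProduct.finsuppRight A A M K _)
  have hnat : ∀ z i, eM (u.rTensor Y z) i = u.rTensor K (eN z i) := fun z i => by
    induction z using TensorProduct.induction_on with
    | zero => simp
    | add c d hc hd => simp only [map_add, Finsupp.add_apply, hc, hd]
    | tmul n y => simp [eM, eN]
  refine (injective_iff_map_eq_zero _).mpr fun z hz => eN.injective (Finsupp.ext fun i => ?_)
  rw [map_zero, Finsupp.zero_apply]
  exact h (by rw [map_zero, ← hnat, hz, map_zero, Finsupp.zero_apply])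

/-- The residue field of `t` acts on modules killed by the maximal ideal above it. -/
theorem exists_vector_structure {A A₁ : Type u} [CommRing A] [CommRing A₁] [IsLocalRing A₁] [Algebra A A₁] (t : Ideal A)
    [t.IsPrime] (hmA : t.map (algebraMap A A₁) = maximalIdeal A₁) (hunit : ∀ r ∉ t, IsUnit (algebraMap A A₁ r)) :
    ∃ (ρ : t.ResidueField →+* A₁ ⧸ maximalIdeal A₁),
      ∀ a, ρ (algebraMap A t.ResidueField a) = Ideal.Quotient.mk _ (algebraMap A A₁ a) := by
  have hle : t ≤ RingHom.ker ((Ideal.Quotient.mk (maximalIdeal A₁)).comp (algebraMap A A₁)) := fun a ha =>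
    Ideal.Quotient.eq_zero_iff_mem.mpr (hmA ▸ Ideal.mem_map_of_mem _ ha)
  exact ⟨Ideal.ResidueField.lift t ((Ideal.Quotient.mk (maximalIdeal A₁)).comp (algebraMap A A₁)) hle
      fun a ha => (hunit a ha).map (Ideal.Quotient.mk (maximalIdeal A₁)),
    fun a => Ideal.ResidueField.lift_algebraMap _ _ _ _ _⟩

set_option maxHeartbeats 1000000 in
/-- **Injectivity from the fibres above an ideal**, on modules killed by the ideal. -/
theorem injective_rTensor_of_fibres_above {A B : Type u} [CommRing A] [CommRing B] [Algebra A B] [Algebra.FinitePresentation A B]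
    (T : Submonoid B) (N₀ : Type u) [AddCommGroup N₀] [Module B N₀] [Module A N₀] [IsScalarTower A B N₀]
    [Module.FinitePresentation B N₀] (N : Type u) [AddCommGroup N] [Module B N] [Module A N] [IsScalarTower A B N]
    (l : N₀ →ₗ[B] N) [IsLocalizedModule T l] [Module.Flat A N]
    (M : Type u) [AddCommGroup M] [Module A M] [Module.Flat A M] (u : N →ₗ[A] M)
    (J : Ideal A) (h : ∀ (p : Ideal A) [p.IsPrime], J ≤ p → Function.Injective (u.rTensor p.ResidueField))
    (Q : Type u) [AddCommGroup Q] [Module A Q] (hQ : ∀ a ∈ J, ∀ x : Q, a • x = 0) :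
    Function.Injective (u.rTensor Q) := by
  classical
  have hflat₀ : ∀ (P : Ideal B) [P.IsPrime], Disjoint (T : Set B) (P : Set B) → FlatCA.FlatAt A P N₀ := by
    intro P _ hP
    refine Groth.L20.flat_localizedModule_of_forall P.primeCompl fun J z hz => ?_
    let lJ := AlgebraTensorModule.rTensor A J l
    have h1 : J.subtype.lTensor N (lJ z) = 0 := by
      have : ∀ w : N₀ ⊗[A] J, J.subtype.lTensor N (lJ w) =
          AlgebraTensorModule.rTensor A A l (J.subtype.lTensor N₀ w) := fun w => by
        induction w using TensorProduct.induction_on with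
        | zero => simp
        | add c d hc hd => simp only [map_add, hc, hd]
        | tmul n j => simp [lJ]
      rw [this, hz, map_zero]
    have h2 : lJ z = 0 := Module.Flat.lTensor_preserves_injective_linearMap (M := N) J.subtype Subtype.val_injective
      (by rw [h1, map_zero])
    obtain ⟨c, hc⟩ := (IsLocalizedModule.eq_zero_iff T lJ).mp h2
    exact ⟨c, fun hcP => Set.disjoint_left.1 hP c.2 hcP, hc⟩
  refine (injective_iff_map_eq_zero _).mpr fun z hz => ?_
  by_contra hne
  have hJz : J ≤ annE A z := fun a ha => mem_annE.2 (by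
    clear hz hne
    induction z using TensorProduct.induction_on with
    | zero => simp
    | add c d hc hd => rw [smul_add, hc, hd, add_zero]
    | tmul n x => rw [TensorProduct.smul_tmul', TensorProduct.smul_tmul, hQ a ha, TensorProduct.tmul_zero])
  -- a prime minimal over the annihilator
  obtain ⟨t, ht, -⟩ : ∃ t, t ∈ (annE A z).minimalPrimes ∧ True := by
    have hJ : annE A z ≠ ⊤ := fun htop => hne (by
      have h1 := mem_annE.1 (htop ▸ Submodule.mem_top : (1 : A) ∈ annE A z)
      rwa [one_smul] at h1)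
    obtain ⟨m, hm, hJm⟩ := Ideal.exists_le_maximal _ hJ
    haveI := hm.isPrime
    obtain ⟨t, ht, -⟩ := Ideal.exists_minimalPrimes_le hJm
    exact ⟨t, ht, trivial⟩
  haveI := ht.isPrime
  obtain ⟨A₁, _, _, _, F, _, _, _, _, Ψ, hflatA₁, hmA, hunit, hfree, hchart⟩ := exists_chart_fibre T N₀ hflat₀ t
  haveI := hflatA₁
  haveI := hfree
  obtain ⟨ρ, hρ⟩ := exists_vector_structure t hmA hunit
  let X := A₁ ⊗[A] Q
  let j : Q →ₗ[A] X := TensorProduct.mk A A₁ Q 1
  let w := j.lTensor N z
  have huw : u.rTensor X w = 0 := by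
    show u.rTensor X (j.lTensor N z) = 0
    rw [← LinearMap.comp_apply, LinearMap.rTensor_comp_lTensor, ← LinearMap.lTensor_comp_rTensor, LinearMap.comp_apply,
      hz, map_zero]
  have hw0 : w ≠ 0 := by
    intro h0
    have key : ∀ v : N ⊗[A] Q, TensorProduct.leftComm A N A₁ Q (j.lTensor N v) = (1 : A₁) ⊗ₜ[A] v := fun v => by
      induction v using TensorProduct.induction_on with
      | zero => simp
      | add c d hc hd => simp only [map_add, TensorProduct.tmul_add, hc, hd]
      | tmul n q => rfl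
    refine one_tmul_ne_zero_of_le (S := A) (maximalIdeal A₁) (fun a ha => ?_) ((key z).symm.trans (by
      rw [show j.lTensor N z = 0 from h0, map_zero]))
    by_contra hna
    have haU : IsUnit (algebraMap A A₁ a) := by
      by_contra hnu
      exact hna (Ideal.mem_comap.mpr ((IsLocalRing.mem_maximalIdeal _).mpr hnu))
    refine hna (Ideal.mem_comap.mpr (hmA ▸ Ideal.mem_map_of_mem _ (ht.le ha)))
  -- representatives in the model
  obtain ⟨⟨w₀, s⟩, hsw⟩ := IsLocalizedModule.surj T (AlgebraTensorModule.rTensor A X l) w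
  simp only at hsw
  have hsupp : ∀ a ∈ t, ∃ k : ℕ, a ^ k • w = 0 := by
    intro a ha
    obtain ⟨-, -, hmin⟩ := minimalPrimes_iff.1 ht
    obtain ⟨r, hr, k, hk⟩ := hmin a ha
    refine ⟨k, ?_⟩
    obtain ⟨v, hv⟩ := (hunit r hr).exists_left_inv
    have hback : ∀ y : N ⊗[A] X, (DistribSMul.toLinearMap A X v).lTensor N (r • y) = y := fun y => by
      induction y using TensorProduct.induction_on with
      | zero => simp
      | add c d hc hd => rw [smul_add, map_add, hc, hd]
      | tmul n x =>
        rw [← TensorProduct.tmul_smul, LinearMap.lTensor_tmul]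
        show n ⊗ₜ[A] (v • (r • x)) = n ⊗ₜ[A] x
        rw [← algebraMap_smul A₁ r x, smul_smul, hv, one_smul]
    rw [← hback (a ^ k • w), smul_smul, show (r * a ^ k) • w = j.lTensor N ((r * a ^ k) • z) from (map_smul _ _ _).symm,
      show (r * a ^ k) • z = 0 from mem_annE.1 hk, map_zero, map_zero]
  let ΨX : ∀ (V : Type u) [AddCommGroup V] [Module A₁ V] [Module A V] [IsScalarTower A A₁ V],
      N₀ ⊗[A] V →ₗ[A] F ⊗[A₁] V := fun V _ _ _ _ =>
    TensorProduct.lift (LinearMap.mk₂ A (fun n x => Ψ n ⊗ₜ[A₁] x)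
      (fun a b x => by rw [map_add, TensorProduct.add_tmul])
      (fun c n x => by rw [map_smul, TensorProduct.smul_tmul'])
      (fun n a b => TensorProduct.tmul_add _ _ _)
      (fun c n x => by rw [TensorProduct.tmul_smul]))
  let y := ΨX X w₀
  have hlift : ∀ (V : Type u) [AddCommGroup V] [Module A₁ V] [Module A V] [IsScalarTower A A₁ V] (v : N₀ ⊗[A] V),
      AlgebraTensorModule.rTensor A V l v = 0 ↔ ∃ s ∈ T, s • v = 0 := fun V _ _ _ _ v => by
    rw [IsLocalizedModule.eq_zero_iff T (AlgebraTensorModule.rTensor A V l)]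
    exact ⟨fun ⟨c, hc⟩ => ⟨c, c.2, hc⟩, fun ⟨c, hc, hc'⟩ => ⟨⟨c, hc⟩, hc'⟩⟩
  have hlsmul : ∀ (V : Type u) [AddCommGroup V] [Module A V] (a : A) (v : N₀ ⊗[A] V),
      AlgebraTensorModule.rTensor A V l (a • v) = a • AlgebraTensorModule.rTensor A V l v := fun V _ _ a v =>
    LinearMap.map_smul_of_tower _ a v
  have hsuppX : ∀ a ∈ t, ∃ k : ℕ, ∃ c ∈ T, c • (a ^ k • w₀) = 0 := by
    intro a ha
    obtain ⟨k, hk⟩ := hsupp a ha
    obtain ⟨c, hc, hc0⟩ := (hlift X _).1 (show AlgebraTensorModule.rTensor A X l (a ^ k • w₀) = 0 by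
      rw [hlsmul, ← hsw, smul_comm, hk, smul_zero])
    exact ⟨k, c, hc, hc0⟩
  have hy : y ≠ 0 := fun hy0 => by
    obtain ⟨hinj, -⟩ := hchart X (ΨX X) fun n x => rfl
    have := (hlift X w₀).2 (hinj w₀ hsuppX hy0)
    rw [← hsw] at this
    exact hw0 (IsLocalizedModule.smul_injective (AlgebraTensorModule.rTensor A X l) s
      (show s • w = s • 0 by rw [smul_zero]; exact this))
  -- kill the content
  obtain ⟨Y, K, hKY, hmY, hyK, hyY⟩ := exists_content_quotient (R := A₁) y hy
  let π : X →ₗ[A] X ⧸ K := K.mkQ.restrictScalars A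
  let π' : X →ₗ[A] X ⧸ Y := Y.mkQ.restrictScalars A
  have hnatΨ : ∀ (V : Type u) [AddCommGroup V] [Module A₁ V] [Module A V] [IsScalarTower A A₁ V] (φ : X →ₗ[A₁] V)
      (v : N₀ ⊗[A] X), ΨX V ((φ.restrictScalars A).lTensor N₀ v) = φ.lTensor F (ΨX X v) := fun V _ _ _ _ φ v => by
    induction v using TensorProduct.induction_on with
    | zero => simp
    | add c d hc hd => simp only [map_add, hc, hd]
    | tmul n x => rfl
  have hlnat : ∀ (V : Type u) [AddCommGroup V] [Module A V] (φ : X →ₗ[A] V) (v : N₀ ⊗[A] X),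
      AlgebraTensorModule.rTensor A V l (φ.lTensor N₀ v) = φ.lTensor N (AlgebraTensorModule.rTensor A X l v) :=
    fun V _ _ φ v => by
      induction v using TensorProduct.induction_on with
      | zero => simp
      | add c d hc hd => simp only [map_add, hc, hd]
      | tmul n x => simp
  -- the image modulo the content vanishes
  have hY0 : π'.lTensor N ((s : B) • w) = 0 := by
    obtain ⟨hinj, -⟩ := hchart (X ⧸ Y) (ΨX (X ⧸ Y)) fun n x => rfl
    rw [← Submonoid.smul_def, hsw, ← hlnat]
    refine (hlift _ _).2 (hinj _ (fun a ha => ?_) (by rw [hnatΨ]; exact hyY))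
    obtain ⟨k, c, hc, hc0⟩ := hsuppX a ha
    refine ⟨k, c, hc, ?_⟩
    have hB : ∀ (b : B) (v : N₀ ⊗[A] X), π'.lTensor N₀ (b • v) = b • π'.lTensor N₀ v := fun b v =>
      map_smul (AlgebraTensorModule.lTensor B N₀ π') b v
    rw [← map_smul, ← hB, hc0, map_zero]
  have hBN : ∀ (V : Type u) [AddCommGroup V] [Module A V] (φ : X →ₗ[A] V) (b : B),
      φ.lTensor N (b • w) = b • φ.lTensor N w := fun V _ _ φ b => map_smul (AlgebraTensorModule.lTensor B N φ) b w
  have hY1 : π'.lTensor N w = 0 := IsLocalizedModule.smul_injective (AlgebraTensorModule.rTensor A (X ⧸ Y) l) s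
    (show s • π'.lTensor N w = s • 0 by rw [smul_zero, Submonoid.smul_def, ← hBN]; exact hY0)
  have hexY : Function.Exact ((Submodule.map K.mkQ Y).subtype.restrictScalars A)
      ((Submodule.factor hKY).restrictScalars A) := by
    intro x
    obtain ⟨x, rfl⟩ := K.mkQ_surjective x
    constructor
    · intro hx
      exact ⟨⟨K.mkQ x, Submodule.mem_map_of_mem ((Submodule.Quotient.mk_eq_zero Y).mp hx)⟩, rfl⟩
    · rintro ⟨⟨_, x', hx', rfl⟩, hxx⟩
      rw [← hxx]
      exact (Submodule.Quotient.mk_eq_zero Y).mpr hx'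
  obtain ⟨v, hv⟩ := (_root_.lTensor_exact N hexY
    (show Function.Surjective ((Submodule.factor hKY).restrictScalars A) from Submodule.factor_surjective hKY)
    (π.lTensor N w)).1 (by
      rw [← LinearMap.comp_apply, ← LinearMap.lTensor_comp]
      exact hY1)
  -- the content is a vector space
  have hkill : ∀ a ∈ maximalIdeal A₁, ∀ x ∈ Submodule.map K.mkQ Y, a • x = 0 := by
    rintro a ha _ ⟨x, hx, rfl⟩
    rw [← map_smul]
    exact (Submodule.Quotient.mk_eq_zero K).mpr (hmY (Submodule.smul_mem_smul ha hx))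
  let Ybar := Submodule.map K.mkQ Y
  letI : Module (A₁ ⧸ maximalIdeal A₁) Ybar :=
    Module.IsTorsionBySet.module (show Module.IsTorsionBySet A₁ Ybar (maximalIdeal A₁ : Set A₁) from
      fun x a => Subtype.ext (hkill a a.2 x x.2))
  letI : Module t.ResidueField Ybar := Module.compHom Ybar ρ
  haveI : IsScalarTower A t.ResidueField Ybar := IsScalarTower.of_algebraMap_smul fun a x => by
    show ρ (algebraMap A t.ResidueField a) • x = a • x
    rw [hρ]
    exact algebraMap_smul A₁ a x
  have huY := injective_rTensor_vector u t.ResidueField (h t (hJz.trans ht.le)) Ybar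
  have hv0 : v = 0 := by
    refine huY ?_
    rw [map_zero]
    refine Module.Flat.lTensor_preserves_injective_linearMap (M := M) (Ybar.subtype.restrictScalars A)
      Subtype.val_injective ?_
    rw [map_zero, ← LinearMap.comp_apply, LinearMap.lTensor_comp_rTensor, ← LinearMap.rTensor_comp_lTensor,
      LinearMap.comp_apply, hv, ← LinearMap.comp_apply, LinearMap.rTensor_comp_lTensor, ← LinearMap.lTensor_comp_rTensor,
      LinearMap.comp_apply, huw, map_zero]
  rw [hv0, map_zero] at hv
  -- regularity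
  obtain ⟨-, hreg⟩ := hchart (X ⧸ K) (ΨX (X ⧸ K)) fun n x => rfl
  have hlast : AlgebraTensorModule.rTensor A (X ⧸ K) l (π.lTensor N₀ w₀) = 0 := by
    rw [hlnat, ← hsw, Submonoid.smul_def, hBN, ← hv, smul_zero]
  refine hyK ((hnatΨ _ K.mkQ w₀).symm.trans (hreg Ybar (fun a ha x hx => hkill a ha x hx) _ ?_ ((hlift _ _).1 hlast)))
  rw [hnatΨ _ K.mkQ w₀, ← LinearMap.comp_apply, ← LinearMap.lTensor_comp]
  have hker : LinearMap.ker Y.mkQ ≤ LinearMap.ker (Ybar.mkQ ∘ₗ K.mkQ) := by
    intro x hx
    rw [Submodule.ker_mkQ] at hx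
    exact (Submodule.Quotient.mk_eq_zero Ybar).mpr (Submodule.mem_map_of_mem hx)
  rw [show Ybar.mkQ ∘ₗ K.mkQ = (Y.liftQ (Ybar.mkQ ∘ₗ K.mkQ) (by rw [← Submodule.ker_mkQ Y]; exact hker)) ∘ₗ Y.mkQ from
    (Submodule.liftQ_mkQ _ _ _).symm, LinearMap.lTensor_comp, LinearMap.comp_apply, hyY, map_zero]

/-- **Universal injectivity from the fibres.** -/
theorem univInj_of_injective_fibres {A B : Type u} [CommRing A] [CommRing B] [Algebra A B] [Algebra.FinitePresentation A B]
    (T : Submonoid B) (N₀ : Type u) [AddCommGroup N₀] [Module B N₀] [Module A N₀] [IsScalarTower A B N₀]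
    [Module.FinitePresentation B N₀] (N : Type u) [AddCommGroup N] [Module B N] [Module A N] [IsScalarTower A B N]
    (l : N₀ →ₗ[B] N) [IsLocalizedModule T l] [Module.Flat A N]
    (M : Type u) [AddCommGroup M] [Module A M] [Module.Flat A M] (u : N →ₗ[A] M)
    (h : ∀ (p : Ideal A) [p.IsPrime], Function.Injective (u.rTensor p.ResidueField)) :
    ∀ (Q : Type u) [AddCommGroup Q] [Module A Q], Function.Injective (u.rTensor Q) := fun Q _ _ =>
  injective_rTensor_of_fibres_above T N₀ N l M u ⊥ (fun p _ _ => h p) Q fun a ha x => by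
    rw [(Submodule.mem_bot A).mp ha, zero_smul]

end Groth.L20.RG
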