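import Groth.Agent.L20.RG.GenRank
import Groth.Agent.L20.RG.FlatFp
import Groth.Agent.L20.UnivInj
import Groth.Agent.L07.GrModel
import Groth.Agent.S1208
import Groth.Agent.L20.RG.UnivInjFibres
import Mathlib.RingTheory.Spectrum.Prime.Chevalley

/-!
# Maps from free modules bijective at the generic point of a fibre, and flatness
-/

set_option autoImplicit false
set_option linter.style.haveILetI false
set_option backward.isDefEq.respectTransparency.types false
universe u

open TensorProduct IsLocalRing

noncomputable section

namespace Groth.L20.RG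

variable {R S : Type u} [CommRing R] [CommRing S] [Algebra R S]

/-- A finite module has a map from a free one, bijective at a point. -/
theorem exists_bijective_baseChange (p : Ideal S) [p.IsPrime] (N : Type u) [AddCommGroup N] [Module S N]
    [Module.Finite S N] :
    ∃ (r : ℕ) (α : (Fin r → S) →ₗ[S] N), Function.Bijective (α.baseChange p.ResidueField) := by
  classical
  let K := p.ResidueField
  let v : N → K ⊗[S] N := fun n => (1 : K) ⊗ₜ[S] n
  have hspan : Submodule.span K (Set.range v) = ⊤ := by
    refine top_unique fun z _ => ?_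
    induction z using TensorProduct.induction_on with
    | zero => exact zero_mem _
    | add a b ha hb => exact add_mem (ha trivial) (hb trivial)
    | tmul k n =>
      rw [show k ⊗ₜ[S] n = k • v n by simp [v, TensorProduct.smul_tmul']]
      exact Submodule.smul_mem _ _ (Submodule.subset_span ⟨n, rfl⟩)
  obtain ⟨b, hb, hsp, hli⟩ := exists_linearIndependent K (Set.range v)
  let B : Module.Basis b K (K ⊗[S] N) :=
    Module.Basis.mk hli (by rw [Subtype.range_coe, hsp, hspan])
  haveI : Module.Finite K (K ⊗[S] N) := inferInstance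
  haveI : Finite b := Module.Finite.finite_basis B
  haveI := Fintype.ofFinite b
  let e := (Fintype.equivFin b).symm
  choose n hn using fun x : b => hb x.2
  refine ⟨Fintype.card b, Fintype.linearCombination S fun i => n (e i), ?_⟩
  have h1 : (LinearMap.baseChange K (Fintype.linearCombination S fun i => n (e i))) =
      ((TensorProduct.piScalarRight S K K (Fin (Fintype.card b))).trans (B.reindex e.symm).equivFun.symm).toLinearMap := by
    ext i
    simp [B, TensorProduct.piScalarRight_apply, Module.Basis.equivFun_symm_apply, Fintype.linearCombination_apply,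
      Finsupp.single_apply, Pi.single_apply]
    exact hn (e i)
  rw [h1]
  exact LinearEquiv.bijective _

variable {M N : Type u} [AddCommGroup M] [Module S M] [Module R M] [IsScalarTower R S M] [AddCommGroup N] [Module S N]
  [Module R N] [IsScalarTower R S N]

/-- A map whose universal kernels are killed by `T` becomes universally injective after localising at `T`. -/
theorem univInj_localized (T : Submonoid S) (α : M →ₗ[S] N)
    (h : ∀ (Q : Type u) [AddCommGroup Q] [Module R Q] (z : M ⊗[R] Q), (α.restrictScalars R).rTensor Q z = 0 →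
      ∃ t ∈ T, t • z = 0) :
    FlatCA.UnivInj R ((LocalizedModule.map T α).restrictScalars R) := by
  intro Q _ _
  rw [LinearMap.lTensor_inj_iff_rTensor_inj, injective_iff_map_eq_zero]
  intro z hz
  let gM := LocalizedModule.mkLinearMap T M
  let gN := LocalizedModule.mkLinearMap T N
  obtain ⟨⟨y, s⟩, hy⟩ := IsLocalizedModule.surj T (AlgebraTensorModule.rTensor R Q gM) z
  let αT : LocalizedModule T M →ₗ[S] LocalizedModule T N := (LocalizedModule.map T α).restrictScalars S
  have hcomm : ∀ y : M ⊗[R] Q, AlgebraTensorModule.rTensor R Q αT (AlgebraTensorModule.rTensor R Q gM y) =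
      AlgebraTensorModule.rTensor R Q gN (AlgebraTensorModule.rTensor R Q α y) := by
    intro y
    induction y using TensorProduct.induction_on with
    | zero => simp
    | add a b ha hb => simp only [map_add, ha, hb]
    | tmul m q => simp [αT, gM, gN, LocalizedModule.map_mk]
  have hz' : AlgebraTensorModule.rTensor R Q αT z = 0 := hz
  have h0 : AlgebraTensorModule.rTensor R Q gN (AlgebraTensorModule.rTensor R Q α y) = 0 := by
    rw [← hcomm, ← hy, Submonoid.smul_def, map_smul, hz', smul_zero]
  obtain ⟨u, hu⟩ := (IsLocalizedModule.eq_zero_iff T (AlgebraTensorModule.rTensor R Q gN)).1 h0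
  rw [Submonoid.smul_def, ← map_smul] at hu
  obtain ⟨t, ht, htz⟩ := h Q ((u : S) • y) hu
  have h1 : AlgebraTensorModule.rTensor R Q gM y = 0 :=
    (IsLocalizedModule.eq_zero_iff T (AlgebraTensorModule.rTensor R Q gM)).2 ⟨⟨t, ht⟩ * u, by
      rw [Submonoid.smul_def, Submonoid.coe_mul, mul_smul, htz]⟩
  rw [h1] at hy
  exact ((Module.End.isUnit_iff _).1 (IsLocalizedModule.map_units (AlgebraTensorModule.rTensor R Q gM) s)).1
    (hy.trans (map_zero _).symm)

/-- Kernels of `α ⊗ Q` die away from the generic point when `α` is bijective there. -/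
theorem exists_smul_of_bijective (T : Submonoid S) (α : M →ₗ[S] N)
    (hα : Function.Bijective (LocalizedModule.map T α)) (Q : Type u) [AddCommGroup Q] [Module R Q] (z : M ⊗[R] Q)
    (hz : (α.restrictScalars R).rTensor Q z = 0) : ∃ w ∈ T, w • z = 0 := by
  let gM := LocalizedModule.mkLinearMap T M
  let gN := LocalizedModule.mkLinearMap T N
  let αT := (LinearEquiv.ofBijective (LocalizedModule.map T α) hα).restrictScalars R
  have hcomm : ∀ y : M ⊗[R] Q, αT.toLinearMap.rTensor Q (AlgebraTensorModule.rTensor R Q gM y) =
      AlgebraTensorModule.rTensor R Q gN ((α.restrictScalars R).rTensor Q y) := by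
    intro y
    induction y using TensorProduct.induction_on with
    | zero => simp
    | add a b ha hb => simp only [map_add, ha, hb]
    | tmul m q => simp [αT, gM, gN, LocalizedModule.map_mk]
  have h0 : AlgebraTensorModule.rTensor R Q gM z = 0 := (αT.rTensor Q).injective (by
    rw [map_zero]
    show αT.toLinearMap.rTensor Q _ = 0
    rw [hcomm, hz, map_zero])
  obtain ⟨⟨w, hw⟩, hwz⟩ := (IsLocalizedModule.eq_zero_iff T (AlgebraTensorModule.rTensor R Q gM)).1 h0
  exact ⟨w, hw, hwz⟩

/-- An element nonzero at the generic point of the fibre over `t` is universally a nonzerodivisor near `t`. -/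
theorem exists_nhd_univInj [Algebra.FinitePresentation R S] [Module.Flat R S] (hdom : DomFib R S) (t : Ideal R)
    [t.IsPrime] {w : S} (hw : w ∉ t.map (algebraMap R S)) :
    ∃ a : R, a ∉ t ∧ FlatCA.UnivInj (Localization.Away a)
      (LinearMap.mulLeft (Localization.Away a) ((1 : Localization.Away a) ⊗ₜ[R] w)) := by
  have hprime : ∀ p : Ideal R, p.IsPrime → (p.map (algebraMap R S)).IsPrime ∨ p.map (algebraMap R S) = ⊤ := fun p _ => by
    haveI := hdom p.ResidueField
    haveI : IsDomain (p.Fiber S) := this
    let g : S →+* p.Fiber S := (Algebra.TensorProduct.includeRight : S →ₐ[R] p.ResidueField ⊗[R] S).toRingHom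
    have : p.map (algebraMap R S) = RingHom.ker g := by
      ext b
      rw [RingHom.mem_ker, ← one_tmul_eq_zero_iff p b]
      rfl
    exact Or.inl (this ▸ RingHom.ker_isPrime g)
  haveI hξ : (t.map (algebraMap R S)).IsPrime := (hprime t inferInstance).resolve_right fun h => hw (h ▸ trivial)
  let U : Set (PrimeSpectrum R) := PrimeSpectrum.comap (algebraMap R S) '' (PrimeSpectrum.basicOpen w : Set (PrimeSpectrum S))
  have hU : IsOpen U :=
    PrimeSpectrum.isOpenMap_comap_of_hasGoingDown_of_finitePresentation _ (PrimeSpectrum.basicOpen w).isOpen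
  have htU : (⟨t, inferInstance⟩ : PrimeSpectrum R) ∈ U := by
    haveI : Nontrivial (t.ResidueField ⊗[R] S) := haveI := hdom t.ResidueField; inferInstance
    refine ⟨⟨_, hξ⟩, hw, PrimeSpectrum.ext (le_antisymm (fun r hr => ?_) (Ideal.map_le_iff_le_comap.1 le_rfl))⟩
    have h1 : ((1 : t.ResidueField) ⊗ₜ[R] algebraMap R S r : t.Fiber S) = 0 := (one_tmul_eq_zero_iff t _).2 hr
    haveI := hdom t.ResidueField
    haveI : IsDomain (t.Fiber S) := this
    rw [show ((1 : t.ResidueField) ⊗ₜ[R] algebraMap R S r : t.Fiber S) =
      algebraMap t.ResidueField (t.Fiber S) (algebraMap R t.ResidueField r) by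
        show (1 : t.ResidueField) ⊗ₜ[R] algebraMap R S r = algebraMap R t.ResidueField r ⊗ₜ[R] (1 : S)
        rw [Algebra.algebraMap_eq_smul_one, Algebra.algebraMap_eq_smul_one, TensorProduct.smul_tmul],
      map_eq_zero_iff _ (algebraMap t.ResidueField (t.Fiber S)).injective, Ideal.algebraMap_residueField_eq_zero] at h1
    exact h1
  obtain ⟨_, ⟨a, rfl⟩, hta, haU⟩ :=
    PrimeSpectrum.isTopologicalBasis_basic_opens.exists_subset_of_mem_open htU hU
  refine ⟨a, hta, ?_⟩
  let Ra := Localization.Away a
  let Sa := Ra ⊗[R] S
  haveI : IsLocalizedModule (⊥ : Submonoid Sa) (LinearMap.id : Sa →ₗ[Sa] Sa) :=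
    { map_units := fun x => by
        obtain rfl : x = 1 := Subtype.ext (Submonoid.mem_bot.1 x.2)
        rw [Submonoid.coe_one, map_one]; exact isUnit_one
      surj := fun y => ⟨(y, 1), by simp⟩
      exists_of_eq := fun h => ⟨1, by simpa using h⟩ }
  intro Q _ _
  rw [LinearMap.lTensor_inj_iff_rTensor_inj]
  refine univInj_of_injective_fibres (A := Ra) (B := Sa) ⊥ Sa Sa LinearMap.id Sa _ (fun p _ => ?_) Q
  let p₀ := p.comap (algebraMap R Ra)
  haveI : p₀.IsPrime := Ideal.IsPrime.comap _
  have hp₀ : w ∉ p₀.map (algebraMap R S) := by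
    have ha₀ : a ∉ p₀ := fun hm => (Ideal.IsPrime.ne_top ‹p.IsPrime›)
      (Ideal.eq_top_of_isUnit_mem _ hm (IsLocalization.Away.algebraMap_isUnit a))
    obtain ⟨Q₀, hQw, hQ₀⟩ := haU (show (⟨p₀, inferInstance⟩ : PrimeSpectrum R) ∈ _ from ha₀)
    exact fun hm => hQw (Ideal.map_le_iff_le_comap.2 (congrArg PrimeSpectrum.asIdeal hQ₀).ge hm)
  let i : p₀.ResidueField →ₐ[R] p.ResidueField := Ideal.ResidueField.mapₐ p₀ p (Algebra.ofId R Ra) rfl
  have hne : (1 : p.ResidueField) ⊗ₜ[R] w ≠ 0 := fun h0 => hp₀ ((one_tmul_eq_zero_iff p₀ w).1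
    (Module.Flat.rTensor_preserves_injective_linearMap (M := S) i.toLinearMap i.toRingHom.injective
      (by rw [map_zero, LinearMap.rTensor_tmul]; simpa using h0)))
  haveI := hdom p.ResidueField
  let e : Sa ⊗[Ra] p.ResidueField ≃ₗ[Ra] p.ResidueField ⊗[R] S :=
    (TensorProduct.comm Ra Sa p.ResidueField).trans
      ((Algebra.TensorProduct.cancelBaseChange R Ra p.ResidueField p.ResidueField S).toLinearEquiv.restrictScalars Ra)
  have key : ∀ z, e ((LinearMap.mulLeft Ra ((1 : Ra) ⊗ₜ[R] w)).rTensor p.ResidueField z) =
      ((1 : p.ResidueField) ⊗ₜ[R] w) * e z := fun z => by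
    induction z using TensorProduct.induction_on with
    | zero => simp
    | add x y hx hy => simp only [map_add, mul_add, hx, hy]
    | tmul x k =>
      induction x using TensorProduct.induction_on with
      | zero => simp
      | add x y hx hy => simp only [TensorProduct.add_tmul, map_add, mul_add, hx, hy]
      | tmul r s =>
        simp only [e, LinearMap.rTensor_tmul, LinearMap.mulLeft_apply, Algebra.TensorProduct.tmul_mul_tmul, one_mul,
          LinearEquiv.trans_apply, TensorProduct.comm_tmul, LinearEquiv.restrictScalars_apply, AlgEquiv.toLinearEquiv_apply,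
          Algebra.TensorProduct.cancelBaseChange_tmul]
        erw [Algebra.TensorProduct.cancelBaseChange_tmul, Algebra.TensorProduct.cancelBaseChange_tmul, Algebra.TensorProduct.tmul_mul_tmul, one_mul]
  intro z z' hzz
  exact e.injective (mul_left_cancel₀ hne (by rw [← key, ← key, hzz]))

/-- An element universally regular over `R_a` annihilates only `a`-power torsion, universally. -/
theorem exists_pow_smul_of_univInj {w : S} {a : R}
    (hmul : FlatCA.UnivInj (Localization.Away a)
      (LinearMap.mulLeft (Localization.Away a) ((1 : Localization.Away a) ⊗ₜ[R] w)))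
    {r : ℕ} (Q : Type u) [AddCommGroup Q] [Module R Q] (z : (Fin r → S) ⊗[R] Q) (hz : w • z = 0) :
    ∃ n : ℕ, algebraMap R S (a ^ n) • z = 0 := by
  classical
  have hone : ∀ y : S ⊗[R] Q, w • y = 0 → ∃ n : ℕ, a ^ n • y = 0 := by
    intro y hy
    let Ra := Localization.Away a
    let j : Q →ₗ[R] Ra ⊗[R] Q := TensorProduct.mk R Ra Q 1
    haveI : IsLocalizedModule (Submonoid.powers a) j := inferInstance
    haveI : IsLocalizedModule (Submonoid.powers a) (AlgebraTensorModule.rTensor R S j) := inferInstance
    let e : (Ra ⊗[R] Q) ⊗[Ra] (Ra ⊗[R] S) ≃ₗ[Ra] (Ra ⊗[R] Q) ⊗[R] S :=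
      AlgebraTensorModule.cancelBaseChange R Ra Ra (Ra ⊗[R] Q) S
    have hi : Function.Injective (fun x : (Ra ⊗[R] Q) ⊗[R] S => (LinearMap.mulLeft R w).lTensor (Ra ⊗[R] Q) x) := by
      intro x x' hxx
      refine e.symm.injective (hmul _ ?_)
      have key : ∀ x, (LinearMap.mulLeft Ra ((1 : Ra) ⊗ₜ[R] w)).lTensor (Ra ⊗[R] Q) (e.symm x) =
          e.symm ((LinearMap.mulLeft R w).lTensor (Ra ⊗[R] Q) x) := fun x => by
        induction x using TensorProduct.induction_on with
        | zero => simp
        | add p q hp hq => simp only [map_add, hp, hq]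
        | tmul p s => simp [e]
      rw [key, key]
      exact congrArg _ hxx
    let J := AlgebraTensorModule.rTensor R S j
    have hcomm : ∀ y : S ⊗[R] Q, J (TensorProduct.comm R S Q (w • y)) =
        (LinearMap.mulLeft R w).lTensor (Ra ⊗[R] Q) (J (TensorProduct.comm R S Q y)) := fun y => by
      induction y using TensorProduct.induction_on with
      | zero => simp
      | add p q hp hq => simp only [smul_add, map_add, hp, hq]
      | tmul s q => simp [J, TensorProduct.smul_tmul', smul_eq_mul]
    have h0 : J (TensorProduct.comm R S Q y) = 0 := by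
      refine hi ?_
      simp only [map_zero]
      rw [← hcomm, hy, map_zero, map_zero]
    obtain ⟨⟨_, n, rfl⟩, hn⟩ := (IsLocalizedModule.eq_zero_iff (Submonoid.powers a) J).1 h0
    exact ⟨n, (TensorProduct.comm R S Q).injective (by rw [map_zero, map_smul]; exact hn)⟩
  let π : Fin r → ((Fin r → S) ⊗[R] Q →ₗ[R] S ⊗[R] Q) := fun i => (LinearMap.proj i : (Fin r → S) →ₗ[R] S).rTensor Q
  have hπ : ∀ i, w • π i z = 0 := fun i => by
    have : ∀ y : (Fin r → S) ⊗[R] Q, π i (w • y) = w • π i y := fun y => by
      induction y using TensorProduct.induction_on with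
      | zero => simp
      | add p q hp hq => simp only [smul_add, map_add, hp, hq]
      | tmul s q => simp [π, TensorProduct.smul_tmul']
    rw [← this, hz, map_zero]
  choose n hn using fun i => hone _ (hπ i)
  refine ⟨∑ i, n i, ?_⟩
  rw [algebraMap_smul]
  have hsum : ∀ y : (Fin r → S) ⊗[R] Q, y = ∑ i, (LinearMap.single R (fun _ => S) i).rTensor Q (π i y) := fun y => by
    induction y using TensorProduct.induction_on with
    | zero => simp
    | add p q hp hq => simp only [map_add, Finset.sum_add_distrib, ← hp, ← hq]
    | tmul s q =>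
      simp only [π, LinearMap.rTensor_tmul, LinearMap.proj_apply, LinearMap.coe_single, ← TensorProduct.sum_tmul]
      rw [Finset.univ_sum_single]
  rw [hsum z, Finset.smul_sum]
  refine Finset.sum_eq_zero fun i _ => ?_
  rw [← map_smul]
  have : a ^ (∑ i, n i) • π i z = 0 := by
    rw [← Finset.sum_erase_add _ _ (Finset.mem_univ i), pow_add, mul_smul, hn i, smul_zero]
  rw [this, map_zero]

variable (t : Ideal R) [t.IsPrime] [(t.map (algebraMap R S)).IsPrime] {r : ℕ}

omit [IsScalarTower R S N] in
/-- Bijectivity at the generic point makes universal kernels die away from `t`. -/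
theorem exists_base_smul_of_bijective [IsScalarTower R S N] [Algebra.FinitePresentation R S] [Module.Flat R S]
    (hdom : DomFib R S) (α : (Fin r → S) →ₗ[S] N)
    (hα : Function.Bijective (LocalizedModule.map (t.map (algebraMap R S)).primeCompl α))
    (Q : Type u) [AddCommGroup Q] [Module R Q] (z : (Fin r → S) ⊗[R] Q) (hz : (α.restrictScalars R).rTensor Q z = 0) :
    ∃ b ∈ Algebra.algebraMapSubmonoid S t.primeCompl, b • z = 0 := by
  obtain ⟨w, hw, hwz⟩ := exists_smul_of_bijective _ α hα Q z hz
  obtain ⟨a, hat, hmul⟩ := exists_nhd_univInj hdom t hw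
  obtain ⟨n, hn⟩ := exists_pow_smul_of_univInj hmul Q z hwz
  exact ⟨_, ⟨a ^ n, fun hm => hat (Ideal.IsPrime.mem_of_pow_mem ‹_› n hm), rfl⟩, hn⟩

/-- Flatness at a point is inherited by a quotient by a free module with universally killed kernels, and conversely. -/
theorem flatAt_middle (α : M →ₗ[S] N) [Module.Flat R M] [Module.Flat S S] (q : Ideal S) [q.IsPrime]
    (hinj : Function.Injective (LocalizedModule.map q.primeCompl α))
    (hQ : FlatCA.FlatAt R q (N ⧸ LinearMap.range α)) : FlatCA.FlatAt R q N := by
  haveI : Module.Flat R (LocalizedModule q.primeCompl (N ⧸ LinearMap.range α)) := hQ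
  haveI : Module.Flat R (LocalizedModule q.primeCompl M) := by
    rw [Groth.L20.flat_localizedModule_iff_forall]
    exact fun J z hz => ⟨1, q.primeCompl.one_mem, by
      rw [one_smul]
      exact Module.Flat.lTensor_preserves_injective_linearMap J.subtype Subtype.val_injective (by rw [hz, map_zero])⟩
  exact Groth.L07.FlatDescent.flat_of_shortExact ((LocalizedModule.map q.primeCompl α).restrictScalars R)
    ((LocalizedModule.map q.primeCompl (LinearMap.range α).mkQ).restrictScalars R) hinj
    (LocalizedModule.map_surjective q.primeCompl _ (Submodule.mkQ_surjective _))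
    (LocalizedModule.map_exact q.primeCompl α _ (LinearMap.exact_map_mkQ_range α))

/-- The quotient is flat at a point where the module is, if the universal kernels die there. -/
theorem flatAt_coker (α : M →ₗ[S] N) (q : Ideal S) [q.IsPrime]
    (hinj : FlatCA.UnivInj R ((LocalizedModule.map q.primeCompl α).restrictScalars R))
    (hN : FlatCA.FlatAt R q N) : FlatCA.FlatAt R q (N ⧸ LinearMap.range α) := by
  haveI : Module.Flat R (LocalizedModule q.primeCompl N) := hN
  let uL := (LocalizedModule.map q.primeCompl α).restrictScalars R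
  let gL := (LocalizedModule.map q.primeCompl (LinearMap.range α).mkQ).restrictScalars R
  have hex : Function.Exact uL gL := LocalizedModule.map_exact q.primeCompl α _ (LinearMap.exact_map_mkQ_range α)
  have hsurj : Function.Surjective gL := LocalizedModule.map_surjective q.primeCompl _ (Submodule.mkQ_surjective _)
  haveI := Groth.L20.flat_quotient_range_of_lTensor_injective uL fun I => hinj (R ⧸ I)
  show Module.Flat R (LocalizedModule q.primeCompl (N ⧸ LinearMap.range α))
  exact Module.Flat.of_linearEquiv (hex.linearEquivOfSurjective hsurj).symm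

/-- At a flat point, a map bijective on the residue field of a generic point below is bijective there. -/
theorem bijective_localized_of_flatAt [Algebra.FinitePresentation R S] [Module.Finite S N] (α : (Fin r → S) →ₗ[S] N)
    (hα : Function.Bijective (α.baseChange (t.map (algebraMap R S)).ResidueField))
    (q : Ideal S) [q.IsPrime] (hle : t.map (algebraMap R S) ≤ q) (h : FlatCA.FlatAt R q N) :
    Function.Bijective (LocalizedModule.map (t.map (algebraMap R S)).primeCompl α) := by
  have hflat : FlatCA.FlatAt R (t.map (algebraMap R S)) N :=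
    Groth.L20.flat_localizedModule_of_le (fun x hx => show x ∉ t.map (algebraMap R S) from fun hm => (show x ∉ q from hx) (hle hm)) h
  exact bijective_localized_of_fp t N α hα (Groth.Agent.S1208.result N _ hflat) hflat

end Groth.L20.RG
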