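import Groth.Agent.L20.RG.DimFlat
import Groth.Agent.L20.RG.StepFacts
import Groth.Agent.L20.RG.DevOps
import Groth.Agent.L20.RG.Transfer
import Groth.Agent.L13.Fitting.LocFree
import Groth.Agent.L28.EtTrace.CurveTrdeg
import Mathlib.RingTheory.LocalRing.Module
import Mathlib.RingTheory.KrullDimension.NonZeroDivisors

/-!
# The generic points of the fibres of a smooth algebra with geometrically integral fibres
-/

set_option autoImplicit false
set_option linter.style.haveILetI false
set_option backward.isDefEq.respectTransparency.types false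
universe u

open TensorProduct IsLocalRing

noncomputable section

namespace Groth.L20.RG

variable {R B : Type u} [CommRing R] [CommRing B] [Algebra R B] [Algebra.Smooth R B] (t : Ideal R) [t.IsPrime]

theorem isPrime_map (h : DomFib R B) : (t.map (algebraMap R B)).IsPrime := by
  haveI := h t.ResidueField
  haveI : IsDomain (t.Fiber B) := this
  let g : B →+* t.Fiber B :=
    (Algebra.TensorProduct.includeRight : B →ₐ[R] t.ResidueField ⊗[R] B).toRingHom
  have : t.map (algebraMap R B) = RingHom.ker g := by
    ext b
    rw [RingHom.mem_ker, ← one_tmul_eq_zero_iff t b]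
    rfl
  rw [this]
  exact RingHom.ker_isPrime g

/-- Every element of the fibre has a denominator. -/
theorem exists_denom (z : t.Fiber B) : ∃ r : R, r ∉ t ∧ ∃ b : B, r • z = ((1 : t.ResidueField) ⊗ₜ[R] b : t.Fiber B) := by
  change t.ResidueField ⊗[R] B at z
  induction z using TensorProduct.induction_on with
  | zero => exact ⟨1, t.ne_top_iff_one.1 (Ideal.IsPrime.ne_top ‹_›), 0, by simp⟩
  | add x y hx hy =>
    obtain ⟨r, hr, b, e⟩ := hx
    obtain ⟨r', hr', b', e'⟩ := hy
    refine ⟨r * r', fun hm => (Ideal.IsPrime.mem_or_mem ‹_› hm).elim hr hr', r' • b + r • b', ?_⟩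
    change r • x = _ at e
    change r' • y = _ at e'
    show (r * r') • (x + y) = _
    rw [smul_add, mul_comm r r', mul_smul, e, mul_comm r' r, mul_smul, e', TensorProduct.tmul_add,
      TensorProduct.tmul_smul, TensorProduct.tmul_smul]
  | tmul k b =>
    obtain ⟨a, c, hc, rfl⟩ := IsFractionRing.div_surjective (R ⧸ t) k
    obtain ⟨a, rfl⟩ := Ideal.Quotient.mk_surjective a
    obtain ⟨c, rfl⟩ := Ideal.Quotient.mk_surjective c
    have hc0 : Ideal.Quotient.mk t c ≠ 0 := nonZeroDivisors.ne_zero hc
    refine ⟨c, fun hm => hc0 (Ideal.Quotient.eq_zero_iff_mem.2 hm), a • b, ?_⟩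
    show c • ((_ : t.ResidueField) ⊗ₜ[R] b) = _
    rw [TensorProduct.smul_tmul', TensorProduct.tmul_smul, TensorProduct.smul_tmul']
    congr 1
    rw [Algebra.smul_def, Algebra.smul_def, mul_one, Ideal.algebraMap_quotient_residueField_mk,
      Ideal.algebraMap_quotient_residueField_mk, mul_div_cancel₀]
    rw [Ne, Ideal.algebraMap_residueField_eq_zero]
    exact fun hm => hc0 (Ideal.Quotient.eq_zero_iff_mem.2 hm)

/-- The residual transcendence degree at a prime over `t` is that of the image of the fibre ring. -/
theorem relTrdeg_eq_quotient (Q : Ideal B) [Q.IsPrime] [hQ : Q.LiesOver t] :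
    ∃ (P : Ideal (t.Fiber B)) (_ : P.IsPrime), relTrdeg t Q = Algebra.trdeg t.ResidueField (t.Fiber B ⧸ P) ∧
      (P = ⊥ ↔ Q ≤ t.map (algebraMap R B)) := by
  let i : t.ResidueField →ₐ[R] Q.ResidueField := Ideal.ResidueField.mapₐ t Q (Algebra.ofId R B) hQ.over
  letI : Algebra t.ResidueField Q.ResidueField := i.toRingHom.toAlgebra
  haveI : IsScalarTower R t.ResidueField Q.ResidueField := IsScalarTower.of_algebraMap_eq fun r => (i.commutes r).symm
  let φ : t.Fiber B →ₐ[t.ResidueField] Q.ResidueField :=
    Algebra.TensorProduct.lift (Algebra.ofId t.ResidueField Q.ResidueField)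
      (IsScalarTower.toAlgHom R B Q.ResidueField) fun _ _ => Commute.all _ _
  have hφ : ∀ b : B, φ ((1 : t.ResidueField) ⊗ₜ[R] b) = algebraMap B Q.ResidueField b := fun b => by
    simp [φ]
  haveI hP : (RingHom.ker φ).IsPrime := RingHom.ker_isPrime φ
  refine ⟨RingHom.ker φ, hP, ?_, fun hbot b hb => ?_, fun hQt => ?_⟩
  · let j : (t.Fiber B ⧸ RingHom.ker φ) →ₐ[t.ResidueField] Q.ResidueField := Ideal.kerLiftAlg φ
    letI : Algebra (t.Fiber B ⧸ RingHom.ker φ) Q.ResidueField := j.toRingHom.toAlgebra
    haveI : IsScalarTower t.ResidueField (t.Fiber B ⧸ RingHom.ker φ) Q.ResidueField :=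
      IsScalarTower.of_algebraMap_eq (R := t.ResidueField) (S := t.Fiber B ⧸ RingHom.ker φ) (A := Q.ResidueField) fun k => (j.commutes k).symm
    haveI : FaithfulSMul (t.Fiber B ⧸ RingHom.ker φ) Q.ResidueField :=
      (faithfulSMul_iff_algebraMap_injective _ _).2 (Ideal.kerLiftAlg_injective φ)
    haveI : Algebra.IsAlgebraic (t.Fiber B ⧸ RingHom.ker φ) Q.ResidueField := ⟨fun x => by
      obtain ⟨a, b, hb, rfl⟩ := IsFractionRing.div_surjective (B ⧸ Q) x
      obtain ⟨a, rfl⟩ := Ideal.Quotient.mk_surjective a
      obtain ⟨b, rfl⟩ := Ideal.Quotient.mk_surjective b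
      have hint : ∀ c : B, IsAlgebraic (t.Fiber B ⧸ RingHom.ker φ) (algebraMap B Q.ResidueField c) := fun c => by
        have e : algebraMap B Q.ResidueField c = algebraMap (t.Fiber B ⧸ RingHom.ker φ) Q.ResidueField
            (Ideal.Quotient.mk _ ((1 : t.ResidueField) ⊗ₜ[R] c)) :=
          (hφ c).symm.trans (by rw [RingHom.algebraMap_toAlgebra]; exact (Ideal.kerLiftAlg_mk φ _).symm)
        rw [e]
        exact isAlgebraic_algebraMap _
      have e : ∀ c : B, algebraMap (B ⧸ Q) Q.ResidueField (Ideal.Quotient.mk Q c) = algebraMap B Q.ResidueField c :=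
        fun c => Ideal.algebraMap_quotient_residueField_mk Q c
      rw [e, e, div_eq_mul_inv]
      exact (hint a).mul (hint b).inv⟩
    show Algebra.trdeg t.ResidueField Q.ResidueField = _
    rw [← trdeg_add_eq t.ResidueField (t.Fiber B ⧸ RingHom.ker φ) (A := Q.ResidueField),
      trdeg_eq_zero (R := t.Fiber B ⧸ RingHom.ker φ) (A := Q.ResidueField), add_zero]
  · rw [← one_tmul_eq_zero_iff t b, ← Ideal.mem_bot (R := t.Fiber B), ← hbot, RingHom.mem_ker, hφ,
      Ideal.algebraMap_residueField_eq_zero]
    exact hb
  · refine (Submodule.eq_bot_iff _).2 fun z hz => ?_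
    obtain ⟨r, hr, b, e⟩ := exists_denom t z
    have h0 : φ ((1 : t.ResidueField) ⊗ₜ[R] b) = 0 := by
      rw [← e, ← algebraMap_smul t.ResidueField r z, map_smul, (RingHom.mem_ker.1 hz : φ z = 0), smul_zero]
    rw [hφ, Ideal.algebraMap_residueField_eq_zero] at h0
    rw [(one_tmul_eq_zero_iff t b).2 (hQt h0), ← algebraMap_smul t.ResidueField r z] at e
    refine (smul_eq_zero.1 e).resolve_left ?_
    rwa [Ideal.algebraMap_residueField_eq_zero]

theorem finiteType_fiber : Algebra.FiniteType t.ResidueField (t.Fiber B) :=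
  inferInstanceAs (Algebra.FiniteType t.ResidueField (t.ResidueField ⊗[R] B))

/-- The transcendence degree of a quotient of the fibre by a prime. -/
theorem exists_trdeg_quotient {n : ℕ} (hn : FlatCA.SmoothRelDim n R B) (h : DomFib R B) (P : Ideal (t.Fiber B))
    [P.IsPrime] : ∃ m : ℕ, Algebra.trdeg t.ResidueField (t.Fiber B ⧸ P) = m ∧
      ((P = ⊥ → m = n) ∧ (P ≠ ⊥ → m < n)) := by
  haveI := h t.ResidueField
  haveI : IsDomain (t.Fiber B) := this
  haveI := finiteType_fiber (B := B) t
  have hd := ringKrullDim_fiber hn t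
  haveI : Algebra.FiniteType t.ResidueField (t.Fiber B ⧸ P) :=
    Algebra.FiniteType.of_surjective (Ideal.Quotient.mkₐ t.ResidueField P) Ideal.Quotient.mk_surjective
  have hle : ringKrullDim (t.Fiber B ⧸ P) ≤ (n : WithBot ℕ∞) := hd ▸ ringKrullDim_quotient_le P
  haveI : Nontrivial (t.Fiber B ⧸ P) := Ideal.Quotient.nontrivial_iff.2 ‹P.IsPrime›.ne_top
  obtain ⟨m, hm⟩ : ∃ m : ℕ, ringKrullDim (t.Fiber B ⧸ P) = m := by
    have h0 : (0 : WithBot ℕ∞) ≤ ringKrullDim (t.Fiber B ⧸ P) := ringKrullDim_nonneg_of_nontrivial
    revert h0 hle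
    generalize ringKrullDim (t.Fiber B ⧸ P) = x
    intro hle h0
    induction x using WithBot.recBotCoe with
    | bot => simp at h0
    | coe y =>
      induction y using ENat.recTopCoe with
      | top =>
        exfalso
        exact absurd (WithBot.coe_le_coe.1 hle) (by simp)
      | coe y => exact ⟨y, rfl⟩
  refine ⟨m, Groth.L28.EtTrace.trdeg_eq_of_ringKrullDim _ _ m hm, fun hP => ?_, fun hP => ?_⟩
  · subst hP
    have := (ringKrullDim_eq_of_ringEquiv (RingEquiv.quotientBot (t.Fiber B))).symm.trans hm
    rw [hd] at this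
    exact_mod_cast this.symm
  · obtain ⟨x, hxP, hx⟩ := Submodule.exists_mem_ne_zero_of_ne_bot hP
    have h1 := ringKrullDim_quotient_succ_le_of_nonZeroDivisor (mem_nonZeroDivisors_of_ne_zero hx)
    have h2 : ringKrullDim (t.Fiber B ⧸ P) ≤ ringKrullDim (t.Fiber B ⧸ Ideal.span {x}) :=
      ringKrullDim_le_of_surjective (Ideal.Quotient.factor ((Ideal.span_singleton_le_iff_mem P).2 hxP))
        (Ideal.Quotient.factor_surjective _)
    have h3 : (m : WithBot ℕ∞) + 1 ≤ n := by
      rw [← hm, ← hd]
      refine le_trans ?_ h1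
      gcongr
    exact_mod_cast h3

/-- The residual transcendence degree is the relative dimension at the generic point of a fibre, less elsewhere. -/
theorem relTrdeg_cases {n : ℕ} (hn : FlatCA.SmoothRelDim n R B) (h : DomFib R B) (Q : Ideal B) [Q.IsPrime]
    [hQ : Q.LiesOver t] : ∃ m : ℕ, relTrdeg t Q = m ∧ ((Q = t.map (algebraMap R B) → m = n) ∧
      (Q ≠ t.map (algebraMap R B) → m < n)) := by
  have hle : t.map (algebraMap R B) ≤ Q := Ideal.map_le_iff_le_comap.2 hQ.over.le
  obtain ⟨P, hP, e, hiff⟩ := relTrdeg_eq_quotient t Q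
  obtain ⟨m, hm, h0, h1⟩ := exists_trdeg_quotient t hn h P
  refine ⟨m, e.trans hm, fun hQe => h0 (hiff.2 hQe.le), fun hne => h1 fun hb => hne (le_antisymm (hiff.1 hb) hle)⟩

theorem relTrdeg_map {n : ℕ} (hn : FlatCA.SmoothRelDim n R B) (h : DomFib R B) [(t.map (algebraMap R B)).IsPrime]
    [(t.map (algebraMap R B)).LiesOver t] : relTrdeg t (t.map (algebraMap R B)) = n := by
  obtain ⟨m, hm, h0, -⟩ := relTrdeg_cases t hn h (t.map (algebraMap R B))
  rw [hm, h0 rfl]

omit t in
/-- Over a smooth algebra of relative dimension `n`, only the generic points of the fibres have dimension at least `n`. -/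
theorem flatInDimGE_relDim_iff {n : ℕ} (hn : FlatCA.SmoothRelDim n R B) (h : DomFib R B) (M : Type u) [AddCommGroup M]
    [Module B M] [Module R M] [IsScalarTower R B M] :
    FlatCA.FlatInDimGE n R B M ↔ ∀ (t : Ideal R) [t.IsPrime],
      haveI := isPrime_map (B := B) t h
      FlatCA.FlatAt R (t.map (algebraMap R B)) M := by
  rw [flatInDimGE_iff_relTrdeg]
  constructor
  · intro H t _
    haveI := isPrime_map (B := B) t h
    haveI := liesOver_map (D := B) t h
    exact H t (t.map (algebraMap R B)) (by rw [relTrdeg_map t hn h])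
  · intro H t Q _ _ hQ hd
    haveI := isPrime_map (B := B) t h
    obtain ⟨m, hm, -, hlt⟩ := relTrdeg_cases t hn h Q
    have hQe : Q = t.map (algebraMap R B) := by
      by_contra hne
      rw [hm, Nat.cast_le] at hd
      have := hlt hne
      omega
    subst hQe
    exact H t

omit t in
/-- Flatness in dimensions above the relative dimension is automatic. -/
theorem flatInDimGE_of_lt {n d : ℕ} (hn : FlatCA.SmoothRelDim n R B) (h : DomFib R B) (hd : n < d) (M : Type u)
    [AddCommGroup M] [Module B M] [Module R M] [IsScalarTower R B M] : FlatCA.FlatInDimGE d R B M := by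
  rw [flatInDimGE_iff_relTrdeg]
  intro t Q _ _ hQ hle
  obtain ⟨m, hm, h0, hlt⟩ := relTrdeg_cases t hn h Q
  rw [hm, Nat.cast_le] at hle
  by_cases hQe : Q = t.map (algebraMap R B)
  · have := h0 hQe
    omega
  · have := hlt hQe
    omega

omit t in
/-- An element with unit content is universally a nonzerodivisor after the base change. -/
theorem univInj_mulLeft (h : DomFib R B) {w : B} {c : Ideal R}
    (hc : ∀ (S : Type u) [CommRing S] [Algebra R S], (∀ x ∈ ({w} : Set B), (1 : S) ⊗ₜ[R] x = 0) ↔
      c ≤ RingHom.ker (algebraMap R S))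
    (T : Type u) [CommRing T] [Algebra R T] {a : R} (ha : a ∈ c) (hu : IsUnit (algebraMap R T a)) :
    FlatCA.UnivInj T (LinearMap.mulLeft T ((1 : T) ⊗ₜ[R] w)) := by
  refine mul_injective (h.baseChange T) fun K _ _ h0 => ?_
  letI : Algebra R K := ((algebraMap T K).comp (algebraMap R T)).toAlgebra
  haveI : IsScalarTower R T K := IsScalarTower.of_algebraMap_eq' rfl
  have h1 := congrArg (Algebra.TensorProduct.cancelBaseChange R T K K B) h0
  rw [map_zero, Algebra.TensorProduct.cancelBaseChange_tmul, one_smul] at h1
  have h2 := (hc K).1 (fun x hx => by rw [Set.mem_singleton_iff.1 hx]; exact h1) ha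
  rw [RingHom.mem_ker, IsScalarTower.algebraMap_apply R T K] at h2
  exact (hu.map (algebraMap T K)).ne_zero h2

/-- An element outside `tB` becomes a nonzerodivisor over the local ring at `t`. -/
theorem eq_zero_of_mul_eq_zero_local (h : DomFib R B) {w y : B} (hw : w ∉ t.map (algebraMap R B)) (hwy : w * y = 0)
    (T : Type u) [CommRing T] [IsLocalRing T] [Algebra R T] [hT : (maximalIdeal T).LiesOver t] :
    (1 : T) ⊗ₜ[R] y = 0 := by
  obtain ⟨c, -, hc⟩ := exists_content h ({w} : Set B)
  have hct : ¬ c ≤ t := fun hle => hw ((one_tmul_eq_zero_iff t w).1 ((hc t.ResidueField).2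
    (hle.trans (Ideal.ker_algebraMap_residueField t).ge) w rfl))
  obtain ⟨a, hac, hat⟩ := SetLike.not_le_iff_exists.1 hct
  have hu : IsUnit (algebraMap R T a) := by
    by_contra hnu
    exact hat ((Ideal.mem_of_liesOver (maximalIdeal T) t a).2 hnu)
  refine univInj_mulLeft h hc T hac hu T |> fun hi => ?_
  have h1 : Function.Injective fun z : T ⊗[R] B => ((1 : T) ⊗ₜ[R] w) * z := by
    intro z z' hz
    let e := TensorProduct.lid T (T ⊗[R] B)
    refine e.symm.injective (hi ?_)
    show (LinearMap.mulLeft T ((1 : T) ⊗ₜ[R] w)).lTensor T ((1 : T) ⊗ₜ[T] z) =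
      (LinearMap.mulLeft T ((1 : T) ⊗ₜ[R] w)).lTensor T ((1 : T) ⊗ₜ[T] z')
    rw [LinearMap.lTensor_tmul, LinearMap.lTensor_tmul, LinearMap.mulLeft_apply, LinearMap.mulLeft_apply]
    exact congrArg _ hz
  refine h1 ?_
  show ((1 : T) ⊗ₜ[R] w) * ((1 : T) ⊗ₜ[R] y) = ((1 : T) ⊗ₜ[R] w) * 0
  rw [Algebra.TensorProduct.tmul_mul_tmul, hwy, TensorProduct.tmul_zero, mul_zero]

/-- **Being killed at the generic point of the fibre over `t` is a condition on the content.** -/
theorem killed_iff_content (h : DomFib R B) {s : Set B} {c : Ideal R}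
    (hc : ∀ (S : Type u) [CommRing S] [Algebra R S], (∀ x ∈ s, (1 : S) ⊗ₜ[R] x = 0) ↔
      c ≤ RingHom.ker (algebraMap R S)) :
    (∀ x ∈ s, ∃ w ∉ t.map (algebraMap R B), w * x = 0) ↔
      c ≤ RingHom.ker (algebraMap R (Localization.AtPrime t)) := by
  haveI : (maximalIdeal (Localization.AtPrime t)).LiesOver t :=
    ⟨(Localization.AtPrime.under_maximalIdeal (I := t)).symm⟩
  rw [← hc (Localization.AtPrime t)]
  constructor
  · intro H x hx
    obtain ⟨w, hw, hwx⟩ := H x hx
    exact eq_zero_of_mul_eq_zero_local t h hw hwx _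
  · intro H x hx
    have h0 : IsLocalizedModule t.primeCompl ((TensorProduct.mk R (Localization.AtPrime t) B) 1) :=
      (isLocalizedModule_iff_isBaseChange t.primeCompl (Localization.AtPrime t) _).2 (TensorProduct.isBaseChange R B _)
    obtain ⟨⟨r, hr⟩, hrx⟩ := (IsLocalizedModule.eq_zero_iff t.primeCompl
      ((TensorProduct.mk R (Localization.AtPrime t) B) 1)).1 (show ((TensorProduct.mk R (Localization.AtPrime t) B) 1) x = 0 from H x hx)
    refine ⟨algebraMap R B r, fun hm => ?_, by rw [← Algebra.smul_def]; exact hrx⟩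
    haveI := liesOver_map (D := B) t h
    exact hr ((Ideal.mem_of_liesOver (t.map (algebraMap R B)) t r).2 hm)

omit [Algebra.Smooth R B] in
/-- A finitely presented module over a local algebra with maximal ideal extended from the base, flat over the base,
is free. -/
theorem free_of_flat_of_map_eq {L : Type u} [CommRing L] [IsLocalRing L] [Algebra R L] (I : Ideal R)
    (hI : I.map (algebraMap R L) = maximalIdeal L) (M : Type u) [AddCommGroup M] [Module L M] [Module R M]
    [IsScalarTower R L M] [Module.FinitePresentation L M] [Module.Flat R M] : Module.Free L M := by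
  apply Module.free_of_maximalIdeal_rTensor_injective
  let j : I →ₗ[R] maximalIdeal L :=
    { toFun := fun a => ⟨algebraMap R L a, hI ▸ Ideal.mem_map_of_mem _ a.2⟩
      map_add' := fun a b => Subtype.ext (map_add _ _ _)
      map_smul' := fun r a => Subtype.ext (by simp [Algebra.smul_def]) }
  let Ψ : I ⊗[R] M →ₗ[R] maximalIdeal L ⊗[L] M :=
    TensorProduct.lift (LinearMap.mk₂ R (fun a m => j a ⊗ₜ[L] m)
      (fun a b m => by rw [map_add, TensorProduct.add_tmul])
      (fun r a m => by rw [map_smul, TensorProduct.smul_tmul'])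
      (fun a m m' => by rw [TensorProduct.tmul_add])
      (fun r a m => by rw [TensorProduct.tmul_smul]))
  have hsurj : Function.Surjective Ψ := by
    intro z
    induction z using TensorProduct.induction_on with
    | zero => exact ⟨0, map_zero _⟩
    | add a b ha hb =>
      obtain ⟨a', rfl⟩ := ha
      obtain ⟨b', rfl⟩ := hb
      exact ⟨a' + b', map_add _ _ _⟩
    | tmul x m =>
      obtain ⟨x, hx⟩ := x
      have hx' : x ∈ Submodule.span L (algebraMap R L '' I) := by rw [← hI] at hx; exact hx
      induction hx' using Submodule.span_induction generalizing m with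
      | mem y hy =>
        obtain ⟨a, ha, rfl⟩ := hy
        exact ⟨(⟨a, ha⟩ : I) ⊗ₜ m, rfl⟩
      | zero => exact ⟨0, by rw [map_zero]; exact (TensorProduct.zero_tmul _ m).symm⟩
      | add y y' hy hy' ihy ihy' =>
        obtain ⟨a, ha⟩ := ihy m (by rw [← hI]; exact hy)
        obtain ⟨b, hb⟩ := ihy' m (by rw [← hI]; exact hy')
        exact ⟨a + b, by rw [map_add, ha, hb, ← TensorProduct.add_tmul]; rfl⟩
      | smul l y hy ih =>
        obtain ⟨a, ha⟩ := ih (l • m) (by rw [← hI]; exact hy)
        exact ⟨a, by rw [ha, TensorProduct.tmul_smul, TensorProduct.smul_tmul']; rfl⟩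
  rw [injective_iff_map_eq_zero]
  intro z hz
  obtain ⟨z, rfl⟩ := hsurj z
  have hcomm : ∀ z, TensorProduct.lid L M ((maximalIdeal L).subtype.rTensor M (Ψ z)) =
      TensorProduct.lid R M (I.subtype.rTensor M z) := fun z => by
    induction z using TensorProduct.induction_on with
    | zero => simp
    | add a b ha hb => simp only [map_add, ha, hb]
    | tmul a m => simp [Ψ, j, algebraMap_smul]
  have h0 : I.subtype.rTensor M z = 0 := (TensorProduct.lid R M).injective (by rw [← hcomm, hz]; simp)
  rw [show z = 0 from Module.Flat.rTensor_preserves_injective_linearMap I.subtype Subtype.val_injective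
    (by rw [h0, map_zero]), map_zero]

omit [Algebra.Smooth R B] [t.IsPrime] in
theorem map_atPrime_eq [(t.map (algebraMap R B)).IsPrime] :
    t.map (algebraMap R (Localization.AtPrime (t.map (algebraMap R B)))) =
      maximalIdeal (Localization.AtPrime (t.map (algebraMap R B))) := by
  rw [IsScalarTower.algebraMap_eq R B (Localization.AtPrime (t.map (algebraMap R B))), ← Ideal.map_map,
    Localization.AtPrime.map_eq_maximalIdeal]

omit [Algebra.Smooth R B] in
/-- A map from a free module, bijective on the residue field at the generic point, is bijective there, for a module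
finitely presented and flat there. -/
theorem bijective_localized_of_fp {r : ℕ} [(t.map (algebraMap R B)).IsPrime] (M : Type u) [AddCommGroup M] [Module B M]
    [Module R M] [IsScalarTower R B M] [Module.Finite B M] (α : (Fin r → B) →ₗ[B] M)
    (hα : Function.Bijective (α.baseChange (t.map (algebraMap R B)).ResidueField))
    (hfp : Module.FinitePresentation (Localization.AtPrime (t.map (algebraMap R B)))
      (LocalizedModule (t.map (algebraMap R B)).primeCompl M))
    (hflat : FlatCA.FlatAt R (t.map (algebraMap R B)) M) :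
    Function.Bijective (LocalizedModule.map (t.map (algebraMap R B)).primeCompl α) := by
  let ξ := t.map (algebraMap R B)
  let S := ξ.primeCompl
  let L := Localization.AtPrime ξ
  haveI : Module.FinitePresentation L (LocalizedModule S M) := hfp
  haveI : Module.Flat R (LocalizedModule S M) := hflat
  haveI : Module.Free L (LocalizedModule S M) := free_of_flat_of_map_eq t (map_atPrime_eq t) _
  let αL : LocalizedModule S (Fin r → B) →ₗ[L] LocalizedModule S M := LocalizedModule.map S α
  have hsurj : Function.Surjective αL := by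
    let Q := M ⧸ LinearMap.range α
    have hQ : Subsingleton (ξ.ResidueField ⊗[B] Q) := by
      refine subsingleton_of_forall_eq 0 fun z => ?_
      obtain ⟨z, rfl⟩ := LinearMap.lTensor_surjective ξ.ResidueField (Submodule.mkQ_surjective _) z
      obtain ⟨v, rfl⟩ := hα.2 z
      rw [LinearMap.baseChange_eq_ltensor, ← LinearMap.comp_apply, ← LinearMap.lTensor_comp,
        show (LinearMap.range α).mkQ ∘ₗ α = 0 from LinearMap.range_le_ker_iff.1 (by rw [Submodule.ker_mkQ]),
        LinearMap.lTensor_zero, LinearMap.zero_apply]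
    have hns : (⟨ξ, inferInstance⟩ : PrimeSpectrum B) ∉ Module.support B Q := by
      rw [Module.mem_support_iff_nontrivial_residueField_tensorProduct]
      exact not_nontrivial_iff_subsingleton.2 hQ
    rw [Module.notMem_support_iff'] at hns
    intro z
    induction z using LocalizedModule.induction_on with
    | _ m u =>
      obtain ⟨w, hw, hwm⟩ := hns ((LinearMap.range α).mkQ m)
      rw [← map_smul, Submodule.mkQ_apply, Submodule.Quotient.mk_eq_zero] at hwm
      obtain ⟨v, hv⟩ := hwm
      exact ⟨LocalizedModule.mk v (⟨w, hw⟩ * u), by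
        rw [LocalizedModule.map_mk, hv]
        exact LocalizedModule.mk_cancel_common_left ⟨w, hw⟩ u m⟩
  refine ⟨?_, hsurj⟩
  haveI : Module.Finite L (LinearMap.ker αL) := .of_fg (Module.FinitePresentation.fg_ker αL hsurj)
  obtain ⟨σ, hσ⟩ := Module.projective_lifting_property αL LinearMap.id hsurj
  rw [← LinearMap.ker_eq_bot]
  have hker : LinearMap.ker αL ≤ maximalIdeal L • LinearMap.ker αL := by
    intro z hz
    let p : LocalizedModule S (Fin r → B) →ₗ[L] LinearMap.ker αL :=
      LinearMap.codRestrict _ (LinearMap.id - σ ∘ₗ αL) fun x => by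
        rw [LinearMap.mem_ker, LinearMap.sub_apply, map_sub, LinearMap.id_apply, LinearMap.comp_apply]
        have := LinearMap.congr_fun hσ (αL x)
        simp only [LinearMap.comp_apply, LinearMap.id_apply] at this
        rw [this, sub_self]
    have hpz : (LinearMap.ker αL).subtype (p z) = z := by
      simp [p, LinearMap.mem_ker.1 hz]
    have hmz : z ∈ maximalIdeal L • (⊤ : Submodule L (LocalizedModule S (Fin r → B))) := by
      induction z using LocalizedModule.induction_on with
      | _ v u =>
        have h0 := LinearMap.mem_ker.1 hz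
        rw [LocalizedModule.map_mk, ← LocalizedModule.zero_mk 1, LocalizedModule.mk_eq] at h0
        obtain ⟨⟨w, hw⟩, hwv⟩ := h0
        simp only [smul_zero, one_smul, Submonoid.smul_def] at hwv
        change w • α v = 0 at hwv
        have h1 : (1 : ξ.ResidueField) ⊗ₜ[B] (w • v) = 0 := hα.1 (by
          rw [map_zero, LinearMap.baseChange_tmul, map_smul, hwv, TensorProduct.tmul_zero])
        have h2 : ∀ i, v i ∈ ξ := fun i => by
          have h3 := congrFun (congrArg (TensorProduct.piScalarRight B B ξ.ResidueField (Fin r)) h1) i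
          simp at h3
          have h4 : algebraMap B ξ.ResidueField (w * v i) = 0 := by
            rw [Algebra.algebraMap_eq_smul_one, mul_smul]; exact h3
          exact ((‹ξ.IsPrime›).mem_or_mem (Ideal.algebraMap_residueField_eq_zero.1 h4)).resolve_left hw
        have hv : v ∈ ξ • (⊤ : Submodule B (Fin r → B)) := by
          rw [← Finset.univ_sum_single v]
          refine Submodule.sum_mem _ fun i _ => ?_
          rw [show (Pi.single i (v i) : Fin r → B) = v i • Pi.single i 1 by simp [← Pi.single_smul]]
          exact Submodule.smul_mem_smul (h2 i) trivial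
        refine Submodule.smul_induction_on (p := fun v => LocalizedModule.mk v u ∈ _) hv (fun a ha x _ => ?_)
          (fun x y hx hy => ?_)
        · rw [← LocalizedModule.smul'_mk, ← algebraMap_smul L a (LocalizedModule.mk x u)]
          exact Submodule.smul_mem_smul (by
            rw [← Localization.AtPrime.map_eq_maximalIdeal]; exact Ideal.mem_map_of_mem _ ha) trivial
        · rw [show LocalizedModule.mk (x + y) u = LocalizedModule.mk x u + LocalizedModule.mk y u by
            rw [LocalizedModule.mk_add_mk, ← smul_add, LocalizedModule.mk_cancel_common_left]]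
          exact add_mem hx hy
    have h5 : p z ∈ maximalIdeal L • (⊤ : Submodule L (LinearMap.ker αL)) := by
      have := Submodule.mem_map_of_mem (f := p) hmz
      rw [Submodule.map_smul''] at this
      exact Submodule.smul_mono le_rfl le_top this
    have h6 := Submodule.mem_map_of_mem (f := (LinearMap.ker αL).subtype) h5
    rwa [Submodule.map_smul'', Submodule.map_subtype_top, hpz] at h6
  exact Submodule.eq_bot_of_le_smul_of_le_jacobson_bot _ _ (Module.FinitePresentation.fg_ker αL hsurj) hker
    (maximalIdeal_le_jacobson ⊥)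

/-- **A map from a free module, bijective on the generic point of the fibre over `t`, is so locally.** -/
theorem bijective_localized {r : ℕ} [(t.map (algebraMap R B)).IsPrime] (M : Type u) [AddCommGroup M] [Module B M]
    [Module R M] [IsScalarTower R B M] [Module.FinitePresentation B M] (α : (Fin r → B) →ₗ[B] M)
    (hα : Function.Bijective (α.baseChange (t.map (algebraMap R B)).ResidueField))
    (hflat : FlatCA.FlatAt R (t.map (algebraMap R B)) M) :
    Function.Bijective (LocalizedModule.map (t.map (algebraMap R B)).primeCompl α) := by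
  exact bijective_localized_of_fp t M α hα inferInstance hflat

omit [t.IsPrime] in
/-- **Flatness at the generic point of a fibre, through the Fitting ideals.** -/
theorem flatAt_map_iff_fitting [(t.map (algebraMap R B)).IsPrime] (M : Type u) [AddCommGroup M] [Module B M]
    [Module R M] [IsScalarTower R B M] [Module.FinitePresentation B M] :
    FlatCA.FlatAt R (t.map (algebraMap R B)) M ↔ ∃ k : ℕ,
      (∀ l, l < k → ∀ x ∈ Fitt.ideal B M l, ∃ w ∉ t.map (algebraMap R B), w * x = 0) ∧
      ¬ Fitt.ideal B M k ≤ t.map (algebraMap R B) := by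
  let ξ := t.map (algebraMap R B)
  let S := ξ.primeCompl
  let L := Localization.AtPrime ξ
  haveI : Module.FinitePresentation L (LocalizedModule S M) := inferInstance
  constructor
  · intro hflat
    haveI : Module.Flat R (LocalizedModule S M) := hflat
    haveI : Module.Free L (LocalizedModule S M) := free_of_flat_of_map_eq t (map_atPrime_eq t) _
    let b := Module.finBasis L (LocalizedModule S M)
    refine ⟨Module.finrank L (LocalizedModule S M), fun l hl x hx => ?_, ?_⟩
    · exact Groth.L13.Fitting.killed_of_localization_bot S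
        (by rw [Groth.L13.Fitting.ideal_of_basis b, if_neg (by omega)]) hx
    · exact (Groth.L13.Fitting.not_le_iff_gens ξ _).2 ⟨b, b.span_eq⟩
  · rintro ⟨k, hk, hle⟩
    obtain ⟨g, hg⟩ := (Groth.L13.Fitting.not_le_iff_gens ξ k).1 hle
    let b := Module.Basis.mk (Groth.L13.Fitting.linearIndependent_of_bot g hg fun l hl => by
      rw [Groth.L13.Fitting.map_ideal_localization, Ideal.map_eq_bot_iff_le_ker]
      intro x hx
      obtain ⟨w, hw, hwx⟩ := hk l hl x hx
      exact (IsLocalization.map_eq_zero_iff S L x).2 ⟨⟨w, hw⟩, hwx⟩) hg.ge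
    haveI : Module.Free L (LocalizedModule S M) := Module.Free.of_basis b
    haveI : Module.Flat B L := IsLocalization.flat L S
    haveI : Module.Flat R L := Module.Flat.trans R B L
    exact Module.Flat.trans R L (LocalizedModule S M)

end Groth.L20.RG
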