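import Groth.Agent.L20.RG.Nbhd
import Groth.Agent.L21.Smooth.SepPoints
import Mathlib.RingTheory.Etale.StandardEtale
import Mathlib.RingTheory.Etale.QuasiFinite
import Mathlib.RingTheory.Unramified.LocalStructure
import Mathlib.FieldTheory.PrimitiveElement
import Mathlib.Algebra.Polynomial.Lifts
import Mathlib.FieldTheory.SeparableClosure
import Mathlib.FieldTheory.Minpoly.IsIntegrallyClosed

/-!
# Points with separable residue fields of algebras etale over a polynomial ring
-/

set_option autoImplicit false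
set_option linter.style.haveILetI false
universe u

open TensorProduct

noncomputable section

namespace Groth.L20.RG

variable {R : Type u} [CommRing R]

/-- Elements of the residue field are quotients of elements of the ring. -/
theorem exists_mul_eq_residue (p : Ideal R) [p.IsPrime] (a : p.ResidueField) :
    ∃ u v : R, v ∉ p ∧ algebraMap R p.ResidueField v * a = algebraMap R p.ResidueField u := by
  obtain ⟨u, v, hv, rfl⟩ := IsFractionRing.div_surjective (A := R ⧸ p) a
  obtain ⟨u, rfl⟩ := Ideal.Quotient.mk_surjective u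
  obtain ⟨v, rfl⟩ := Ideal.Quotient.mk_surjective v
  have hv0 : v ∉ p := fun h => nonZeroDivisors.ne_zero hv (Ideal.Quotient.eq_zero_iff_mem.mpr h)
  refine ⟨u, v, hv0, ?_⟩
  rw [Ideal.algebraMap_quotient_residueField_mk, Ideal.algebraMap_quotient_residueField_mk, mul_div_cancel₀]
  exact fun h => hv0 (Ideal.algebraMap_residueField_eq_zero.mp h)

/-- A common denominator for finitely many elements of the residue field. -/
theorem exists_common_denom (p : Ideal R) [p.IsPrime] {ι : Type*} (s : Finset ι) (a : ι → p.ResidueField) :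
    ∃ (v : R) (u : ι → R), v ∉ p ∧ ∀ i ∈ s, algebraMap R p.ResidueField v * a i = algebraMap R p.ResidueField (u i) := by
  classical
  choose u v hv h using fun i => exists_mul_eq_residue p (a i)
  refine ⟨∏ i ∈ s, v i, fun i => u i * ∏ j ∈ s.erase i, v j, fun hp => ?_, fun i hi => ?_⟩
  · obtain ⟨i, -, hi⟩ := (Ideal.IsPrime.prod_mem_iff).mp hp
    exact hv i hi
  · rw [← Finset.mul_prod_erase s v hi, map_mul, map_mul, ← h i]
    ring

/-- A separable point over `p` of a polynomial ring lifts to an etale algebra over `R`. -/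
theorem exists_etale_lift (p : Ideal R) [p.IsPrime] {L : Type u} [Field L] [Algebra p.ResidueField L]
    [Algebra R L] [IsScalarTower R p.ResidueField L] [Algebra.IsSeparable p.ResidueField L] {n : ℕ} (t : Fin n → L) :
    ∃ (T : Type u) (_ : CommRing T) (_ : Algebra R T) (_ : Algebra.Etale R T) (χ : T →ₐ[R] L) (s : Fin n → T),
      ∀ i, χ (s i) = t i := by
  classical
  let k := p.ResidueField
  let K : IntermediateField k L := IntermediateField.adjoin k (Set.range t)
  haveI : FiniteDimensional k K :=
    IntermediateField.finiteDimensional_adjoin fun x _ => Algebra.IsIntegral.isIntegral x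
  obtain ⟨θ, hθ⟩ := Field.exists_primitive_element k K
  have hθi : IsIntegral k (θ : L) := Algebra.IsIntegral.isIntegral _
  let m := minpoly k (θ : L)
  obtain ⟨v, u₀, hv, hu₀⟩ := exists_common_denom p (Finset.range m.natDegree) fun i => m.coeff i
  let a : k := algebraMap R k v
  have ha : a ≠ 0 := fun h => hv (Ideal.algebraMap_residueField_eq_zero.mp h)
  let θ' : L := algebraMap k L a * θ
  have hθ'i : IsIntegral k θ' := Algebra.IsIntegral.isIntegral _
  -- a monic lift of a multiple-root-free equation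
  have hlift : m.scaleRoots a ∈ Polynomial.lifts (algebraMap R k) := by
    rw [Polynomial.lifts_iff_coeff_lifts]
    intro i
    rw [Polynomial.coeff_scaleRoots]
    rcases lt_trichotomy i m.natDegree with h | h | h
    · obtain ⟨j, hj⟩ : ∃ j, m.natDegree - i = j + 1 := ⟨m.natDegree - i - 1, by omega⟩
      refine ⟨u₀ i * v ^ j, ?_⟩
      rw [map_mul, ← hu₀ i (Finset.mem_range.mpr h), map_pow, hj]
      ring
    · exact ⟨1, by subst h; rw [(minpoly.monic hθi).coeff_natDegree, Nat.sub_self, pow_zero, one_mul, map_one]⟩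
    · exact ⟨0, by rw [Polynomial.coeff_eq_zero_of_natDegree_lt h, zero_mul, map_zero]⟩
  obtain ⟨F, hF, -, hFm⟩ :=
    Polynomial.lifts_and_degree_eq_and_monic hlift ((Polynomial.monic_scaleRoots_iff a).mpr (minpoly.monic hθi))
  have hmap : ∀ G : Polynomial R, Polynomial.aeval θ' G = Polynomial.aeval θ' (G.map (algebraMap R k)) :=
    fun G => (Polynomial.aeval_map_algebraMap k θ' G).symm
  have hFroot : Polynomial.aeval θ' F = 0 := by
    rw [hmap, hF]
    exact Polynomial.scaleRoots_aeval_eq_zero (minpoly.aeval k (θ : L))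
  have hFsep : Polynomial.aeval θ' (Polynomial.derivative F) ≠ 0 := by
    rw [hmap, ← Polynomial.derivative_map, hF, Polynomial.aeval_def]
    have hsep : (m.scaleRoots a).Separable := by
      have hmin : minpoly k θ' = m.scaleRoots a := by
        rw [show θ' = a • (θ : L) from (Algebra.smul_def a (θ : L)).symm]
        exact IsIntegrallyClosed.minpoly_smul ha hθi
      rw [← hmin]
      exact Algebra.IsSeparable.isSeparable k θ'
    refine Polynomial.Separable.eval₂_derivative_ne_zero _ hsep ?_
    rw [← Polynomial.aeval_def, ← hF, ← hmap]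
    exact hFroot
  -- the coordinates as polynomials in the primitive element
  have hgen : ∀ i, ∃ G : Polynomial k, Polynomial.aeval θ' G = t i := fun i => by
    have hti : (⟨t i, IntermediateField.subset_adjoin _ _ ⟨i, rfl⟩⟩ : K) ∈ Algebra.adjoin k {θ} := by
      rw [← IntermediateField.adjoin_simple_toSubalgebra_of_isAlgebraic (Algebra.IsAlgebraic.isAlgebraic θ), hθ]
      trivial
    rw [Algebra.adjoin_singleton_eq_range_aeval] at hti
    obtain ⟨G, hG⟩ := hti
    refine ⟨G.comp (Polynomial.C a⁻¹ * Polynomial.X), ?_⟩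
    rw [Polynomial.aeval_comp, map_mul, Polynomial.aeval_C, Polynomial.aeval_X,
      show algebraMap k L a⁻¹ * θ' = (θ : L) by rw [← mul_assoc, ← map_mul, inv_mul_cancel₀ ha, map_one, one_mul]]
    have h : K.val (Polynomial.aeval θ G) = t i := congrArg K.val hG
    rwa [← Polynomial.aeval_algHom_apply] at h
  choose G hG using hgen
  obtain ⟨w, u₁, hw, hu₁⟩ := exists_common_denom p (Finset.univ.sigma fun i => (G i).support)
    fun ij : (_ : Fin n) × ℕ => (G ij.1).coeff ij.2
  let H : Fin n → Polynomial R := fun i => ∑ j ∈ (G i).support, Polynomial.C (u₁ ⟨i, j⟩) * Polynomial.X ^ j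
  have hH : ∀ i, Polynomial.aeval θ' (H i) = algebraMap R L w * t i := fun i => by
    rw [hmap, show (H i).map (algebraMap R k) = Polynomial.C (algebraMap R k w) * G i from ?_, map_mul,
      Polynomial.aeval_C, hG, ← IsScalarTower.algebraMap_apply]
    conv_rhs => rw [(G i).as_sum_support_C_mul_X_pow, Finset.mul_sum]
    simp only [H, Polynomial.map_sum, Polynomial.map_mul, Polynomial.map_C, Polynomial.map_pow, Polynomial.map_X]
    refine Finset.sum_congr rfl fun j hj => ?_
    rw [← mul_assoc, ← Polynomial.C_mul, hu₁ ⟨i, j⟩ (Finset.mem_sigma.mpr ⟨Finset.mem_univ _, hj⟩)]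
  let SP : StandardEtalePair R :=
    { f := F
      monic_f := hFm
      g := Polynomial.derivative F * Polynomial.C w
      cond := ⟨Polynomial.C w, 0, 1, by rw [mul_zero, add_zero, pow_one]⟩ }
  have hw0 : algebraMap R L w ≠ 0 := by
    rw [IsScalarTower.algebraMap_apply R k L]
    exact (map_ne_zero _).mpr fun h => hw (Ideal.algebraMap_residueField_eq_zero.mp h)
  have hM : SP.HasMap θ' := ⟨hFroot, by
    rw [map_mul, Polynomial.aeval_C]; exact isUnit_iff_ne_zero.mpr (mul_ne_zero hFsep hw0)⟩
  let χ : SP.Ring →ₐ[R] L := SP.lift θ' hM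
  have hwu : IsUnit (algebraMap R SP.Ring w) := by
    have := (StandardEtalePair.hasMap_X (P := SP)).2
    rw [map_mul, Polynomial.aeval_C] at this
    exact isUnit_of_mul_isUnit_right this
  refine ⟨SP.Ring, inferInstance, inferInstance, inferInstance, χ,
    fun i => Polynomial.aeval SP.X (H i) * ((hwu.unit⁻¹ : SP.Ringˣ) : SP.Ring), fun i => ?_⟩
  refine mul_right_cancel₀ hw0 ?_
  rw [← χ.commutes w, ← map_mul, mul_assoc, IsUnit.val_inv_mul, mul_one, ← Polynomial.aeval_algHom_apply,
    show χ SP.X = θ' from SP.lift_X θ' hM, hH, χ.commutes, mul_comm]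

attribute [local instance] MvPolynomial.algebraMvPolynomial

/-- A separable point over `p` avoiding an element, of an algebra etale over a polynomial ring. -/
theorem exists_etale_point (p : Ideal R) [p.IsPrime] {n : ℕ} {P' : Type u} [CommRing P'] [Algebra R P']
    [Algebra (MvPolynomial (Fin n) R) P'] [IsScalarTower R (MvPolynomial (Fin n) R) P']
    [Algebra.Etale (MvPolynomial (Fin n) R) P'] (y₁ : Ideal P') [y₁.IsPrime] [y₁.LiesOver p] (b : P')
    (hb : b ∉ y₁) :
    ∃ (Z : Type u) (_ : CommRing Z) (_ : Algebra R Z) (_ : Algebra.Etale R Z) (ζ : Ideal Z) (_ : ζ.IsPrime)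
      (_ : ζ.LiesOver p) (η : P' →ₐ[R] Z), η b ∉ ζ := by
  classical
  let k := p.ResidueField
  let A := MvPolynomial (Fin n) R
  let B := MvPolynomial (Fin n) k ⊗[A] P'
  let bB : B := 1 ⊗ₜ b
  -- a point of `B` off `b`
  let κ₁ := y₁.ResidueField
  let κhom : k →ₐ[R] κ₁ := Ideal.ResidueField.mapₐ p y₁ (Algebra.ofId R P') (Ideal.over_def y₁ p)
  let ev : MvPolynomial (Fin n) k →+* κ₁ :=
    MvPolynomial.eval₂Hom κhom.toRingHom fun i => algebraMap P' κ₁ (algebraMap A P' (MvPolynomial.X i))
  have hev : ev.comp (algebraMap A (MvPolynomial (Fin n) k)) = (algebraMap P' κ₁).comp (algebraMap A P') := by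
    refine MvPolynomial.ringHom_ext (fun c => ?_) fun i => ?_
    · show ev (MvPolynomial.map (algebraMap R k) (MvPolynomial.C c)) = algebraMap P' κ₁ (algebraMap A P' _)
      rw [MvPolynomial.map_C, MvPolynomial.eval₂Hom_C, ← MvPolynomial.algebraMap_eq,
        ← IsScalarTower.algebraMap_apply R A P', ← IsScalarTower.algebraMap_apply R P' κ₁]
      exact κhom.commutes c
    · show ev (MvPolynomial.map (algebraMap R k) (MvPolynomial.X i)) = _
      rw [MvPolynomial.map_X, MvPolynomial.eval₂Hom_X']
      rfl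
  letI : Algebra (MvPolynomial (Fin n) k) κ₁ := ev.toAlgebra
  haveI : IsScalarTower A (MvPolynomial (Fin n) k) κ₁ := IsScalarTower.of_algebraMap_eq' (by
    rw [IsScalarTower.algebraMap_eq A P' κ₁]; exact hev.symm)
  let e₁ : B →ₐ[MvPolynomial (Fin n) k] κ₁ :=
    Algebra.TensorProduct.lift (Algebra.ofId _ κ₁) (IsScalarTower.toAlgHom A P' κ₁) fun _ _ => Commute.all _ _
  have he₁ : IsUnit (e₁.toRingHom bB) := isUnit_iff_ne_zero.mpr (by
    show e₁ (1 ⊗ₜ b) ≠ 0
    rw [Algebra.TensorProduct.lift_tmul, map_one, one_mul]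
    exact fun h => hb (Ideal.algebraMap_residueField_eq_zero.mp h))
  haveI : Nontrivial (Localization.Away bB) := (IsLocalization.Away.lift bB he₁).domain_nontrivial
  haveI : Algebra.Etale (MvPolynomial (Fin n) k) (Localization.Away bB) :=
    haveI : Algebra.Etale B (Localization.Away bB) := Algebra.Etale.of_isLocalizationAway bB
    Algebra.Etale.comp (MvPolynomial (Fin n) k) B (Localization.Away bB)
  let Ω := SeparableClosure k
  letI : Algebra R Ω := ((algebraMap k Ω).comp (algebraMap R k)).toAlgebra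
  haveI : IsScalarTower R k Ω := IsScalarTower.of_algebraMap_eq' rfl
  obtain ⟨ψ, hψ⟩ := Groth.L21.SepPoints.exists_hom_of_etale (k := k) Ω (B := Localization.Away bB) (n := n)
  let inP : P' →+* Localization.Away bB :=
    (algebraMap B (Localization.Away bB)).comp Algebra.TensorProduct.includeRight.toRingHom
  have hinA : ∀ G : A, ψ (inP (algebraMap A P' G)) =
      ψ (algebraMap (MvPolynomial (Fin n) k) (Localization.Away bB) (algebraMap A (MvPolynomial (Fin n) k) G)) := by
    intro G
    show ψ (algebraMap B _ (Algebra.TensorProduct.includeRight (R := A) (A := MvPolynomial (Fin n) k) _)) = _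
    rw [AlgHom.commutes, ← IsScalarTower.algebraMap_apply A B, IsScalarTower.algebraMap_apply A
      (MvPolynomial (Fin n) k) (Localization.Away bB)]
  let ψP : P' →ₐ[R] Ω :=
    { ψ.comp inP with
      commutes' := fun c => by
        show ψ (inP (algebraMap R P' c)) = _
        rw [IsScalarTower.algebraMap_apply R A P', hinA]
        show ψ (algebraMap _ _ (MvPolynomial.map (algebraMap R k) (MvPolynomial.C c))) = _
        rw [MvPolynomial.map_C]
        exact congrFun (congrArg DFunLike.coe hψ) (algebraMap R k c) }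
  have hψb : ψP b ≠ 0 := ((IsLocalization.Away.algebraMap_isUnit bB).map ψ).ne_zero
  obtain ⟨T, _, _, _, χ, s, hs⟩ :=
    exists_etale_lift p (L := Ω) fun i => ψP (algebraMap A P' (MvPolynomial.X i))
  letI : Algebra A T := (MvPolynomial.aeval (R := R) s).toRingHom.toAlgebra
  haveI : IsScalarTower R A T := IsScalarTower.of_algebraMap_eq' (MvPolynomial.aeval (R := R) s).comp_algebraMap.symm
  haveI : Algebra.Etale R (T ⊗[A] P') := Algebra.Etale.comp R T (T ⊗[A] P')
  letI : Algebra A Ω := (ψP.comp (IsScalarTower.toAlgHom R A P')).toRingHom.toAlgebra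
  haveI : IsScalarTower R A Ω :=
    IsScalarTower.of_algebraMap_eq' (ψP.comp (IsScalarTower.toAlgHom R A P')).comp_algebraMap.symm
  let χA : T →ₐ[A] Ω :=
    { χ.toRingHom with
      commutes' := fun G => by
        show χ (MvPolynomial.aeval s G) = ψP (algebraMap A P' G)
        rw [← AlgHom.comp_apply, ← IsScalarTower.toAlgHom_apply R A P', ← AlgHom.comp_apply]
        refine congrFun (congrArg DFunLike.coe (MvPolynomial.algHom_ext fun i => ?_)) G
        show χ (MvPolynomial.aeval s (MvPolynomial.X i)) = ψP (algebraMap A P' (MvPolynomial.X i))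
        rw [MvPolynomial.aeval_X]; exact hs i }
  let ψA : P' →ₐ[A] Ω := { ψP.toRingHom with commutes' := fun _ => rfl }
  let Φ : T ⊗[A] P' →ₐ[A] Ω := Algebra.TensorProduct.lift χA ψA fun _ _ => Commute.all _ _
  haveI hζ : (RingHom.ker Φ).IsPrime := RingHom.ker_isPrime Φ
  refine ⟨T ⊗[A] P', inferInstance, inferInstance, inferInstance, RingHom.ker Φ, hζ, ⟨Ideal.ext fun c => ?_⟩,
    (Algebra.TensorProduct.includeRight : P' →ₐ[A] T ⊗[A] P').restrictScalars R, ?_⟩
  · rw [Ideal.mem_comap, RingHom.mem_ker, IsScalarTower.algebraMap_apply R A (T ⊗[A] P'), AlgHom.commutes,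
      ← IsScalarTower.algebraMap_apply R A Ω, IsScalarTower.algebraMap_apply R k Ω, map_eq_zero,
      Ideal.algebraMap_residueField_eq_zero]
  · show ¬ Φ (1 ⊗ₜ b) = 0
    rw [Algebra.TensorProduct.lift_tmul, map_one, one_mul]
    exact hψb

/-- A point of an etale algebra becomes a finite etale point after an elementary etale base change. -/
theorem exists_isolate (p : Ideal R) [p.IsPrime] {Z : Type u} [CommRing Z] [Algebra R Z] [Algebra.Etale R Z]
    (ζ : Ideal Z) [ζ.IsPrime] [ζ.LiesOver p] :
    ∃ (R' : Type u) (_ : CommRing R') (_ : Algebra R R') (p' : Ideal R') (_ : p'.IsPrime),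
      FlatCA.IsEtaleNhd R R' p p' ∧
    ∃ (T : Type u) (_ : CommRing T) (_ : Algebra R' T) (_ : Algebra R T) (_ : IsScalarTower R R' T)
      (η : Z →ₐ[R] T) (τ : Ideal T) (_ : τ.IsPrime),
      Algebra.Etale R' T ∧ Module.Finite R' T ∧ τ.LiesOver p' ∧
      (∀ (τ₁ : Ideal T) [τ₁.IsPrime], τ₁.LiesOver p' → τ₁ = τ) ∧ τ.comap η = ζ := by
  haveI : Algebra.FiniteType R Z := inferInstance
  haveI : Algebra.QuasiFinite R Z := inferInstance
  obtain ⟨R', _, _, hR', p', _, hp', e, -, P₀, hP₀, hP₀p, hP₀ζ, heP, hbij, hfin, huniq⟩ :=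
    Algebra.exists_etale_isIdempotentElem_forall_liesOver_eq p ζ
  haveI : Algebra.Etale R' (Localization.Away e) :=
    haveI : Algebra.Etale (R' ⊗[R] Z) (Localization.Away e) := Algebra.Etale.of_isLocalizationAway e
    Algebra.Etale.comp R' (R' ⊗[R] Z) (Localization.Away e)
  obtain ⟨τ, hτ, hτP⟩ := exists_prime_away P₀ heP
  refine ⟨R', inferInstance, inferInstance, p', inferInstance, ⟨hR', hp', hbij⟩, Localization.Away e, inferInstance,
    inferInstance, inferInstance, inferInstance,
    (IsScalarTower.toAlgHom R (R' ⊗[R] Z) (Localization.Away e)).comp Algebra.TensorProduct.includeRight, τ, hτ,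
    inferInstance, hfin, Ideal.LiesOver.trans τ P₀ p', fun τ₁ _ hτ₁ => ?_, ?_⟩
  · have h1 : τ₁.comap (algebraMap (R' ⊗[R] Z) (Localization.Away e)) = P₀ := by
      refine huniq _ inferInstance ⟨?_⟩ fun h => ?_
      · rw [hτ₁.over, Ideal.under_def, Ideal.under_def, Ideal.comap_comap, ← IsScalarTower.algebraMap_eq]
      · exact ‹τ₁.IsPrime›.ne_top (Ideal.eq_top_of_isUnit_mem _ h (IsLocalization.Away.algebraMap_isUnit e))
    rw [← IsLocalization.map_under (Submonoid.powers e) (Localization.Away e) τ₁,
      ← IsLocalization.map_under (Submonoid.powers e) (Localization.Away e) τ, ← Ideal.over_def τ P₀,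
      Ideal.under_def, h1]
  · rw [← hP₀ζ, Ideal.over_def τ P₀, Ideal.under_def, Ideal.comap_comap]
    rfl

end Groth.L20.RG
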