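import Groth.Agent.L20.RG.GeomConn
import Groth.Agent.L20.RG.Point
import Groth.Agent.L20.RG.Smooth
import Groth.Agent.L20.RG.StepFacts
import Groth.Agent.L16.ProjSpace.StdSmooth
import Mathlib.AlgebraicGeometry.Morphisms.Etale

/-!
# Etale neighbourhoods with geometrically integral fibres
-/

set_option autoImplicit false
set_option linter.style.haveILetI false
universe u

open TensorProduct AlgebraicGeometry CategoryTheory Limits

noncomputable section

namespace Groth.L20.RG

attribute [local instance] Algebra.TensorProduct.rightAlgebra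

variable {R : Type u} [CommRing R]

/-- An algebra etale over a polynomial ring is smooth of that relative dimension. -/
theorem smoothRelDim_of_etale (n : ℕ) {P' : Type u} [CommRing P'] [Algebra R P']
    [Algebra (MvPolynomial (Fin n) R) P'] [IsScalarTower R (MvPolynomial (Fin n) R) P']
    [Algebra.Etale (MvPolynomial (Fin n) R) P'] : FlatCA.SmoothRelDim n R P' := by
  let f := Spec.map (CommRingCat.ofHom (algebraMap (MvPolynomial (Fin n) R) P'))
  let g := Spec.map (CommRingCat.ofHom (MvPolynomial.C : R →+* MvPolynomial (Fin n) R))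
  haveI : AlgebraicGeometry.Etale f := by
    rw [HasRingHomProperty.Spec_iff (P := @AlgebraicGeometry.Etale), CommRingCat.hom_ofHom, RingHom.etale_algebraMap]
    infer_instance
  haveI : SmoothOfRelativeDimension n g := by
    rw [HasRingHomProperty.Spec_iff (P := @SmoothOfRelativeDimension n), CommRingCat.hom_ofHom]
    have h := Groth.L16.isStandardSmoothOfRelativeDimension_C R (Fin n)
    rw [Nat.card_fin] at h
    exact RingHom.locally_of RingHom.isStandardSmoothOfRelativeDimension_respectsIso _ h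
  have : SmoothOfRelativeDimension (0 + n) (f ≫ g) := inferInstance
  rw [zero_add] at this
  show SmoothOfRelativeDimension n (Spec.map (CommRingCat.ofHom (algebraMap R P')))
  rw [IsScalarTower.algebraMap_eq R (MvPolynomial (Fin n) R) P', CommRingCat.ofHom_comp, Spec.map_comp]
  exact this

/-- An elementary etale base change identifies the fibres. -/
theorem mem_component_baseChange {R' P' : Type u} [CommRing R'] [CommRing P'] [Algebra R R'] [Algebra R P']
    [Algebra.Etale R R'] (p : Ideal R) [p.IsPrime] (p' : Ideal R') [p'.IsPrime] (hp : TrivRes R p p')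
    (ξ η : PrimeSpectrum (R' ⊗[R] P'))
    (hξ : ξ ∈ PrimeSpectrum.comap (algebraMap R' (R' ⊗[R] P')) ⁻¹' {⟨p', inferInstance⟩})
    (hη : η ∈ PrimeSpectrum.comap (algebraMap R' (R' ⊗[R] P')) ⁻¹' {⟨p', inferInstance⟩})
    (h : PrimeSpectrum.comap (algebraMap P' (R' ⊗[R] P')) η ∈
      connectedComponentIn (PrimeSpectrum.comap (algebraMap R P') ⁻¹' {⟨p, inferInstance⟩})
        (PrimeSpectrum.comap (algebraMap P' (R' ⊗[R] P')) ξ)) :
    η ∈ connectedComponentIn (PrimeSpectrum.comap (algebraMap R' (R' ⊗[R] P')) ⁻¹' {⟨p', inferInstance⟩}) ξ := by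
  let cP := PrimeSpectrum.comap (algebraMap R P')
  let cA := PrimeSpectrum.comap (algebraMap R' (R' ⊗[R] P'))
  let π := PrimeSpectrum.comap (algebraMap P' (R' ⊗[R] P'))
  let cR := PrimeSpectrum.comap (algebraMap R R')
  let p₀ : PrimeSpectrum R := ⟨p, inferInstance⟩
  let p₁ : PrimeSpectrum R' := ⟨p', inferInstance⟩
  have hcomm : ∀ Q, cP (π Q) = cR (cA Q) := fun Q => PrimeSpectrum.ext (by
    show (Q.asIdeal.comap _).comap _ = (Q.asIdeal.comap _).comap _
    rw [Ideal.comap_comap, Ideal.comap_comap, ← IsScalarTower.algebraMap_eq, ← IsScalarTower.algebraMap_eq])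
  have hpp : cR p₁ = p₀ := PrimeSpectrum.ext hp.liesOver.over.symm
  -- the points of the fibre
  have huniq : ∀ z : PrimeSpectrum P', cP z = p₀ → ∃ Q, cA Q = p₁ ∧ π Q = z ∧
      ∀ Q', cA Q' = p₁ → π Q' = z → Q' = Q := by
    intro z hz
    haveI : z.asIdeal.LiesOver p := ⟨(congrArg PrimeSpectrum.asIdeal hz).symm⟩
    obtain ⟨Q, hQ, h1, ⟨h2, -⟩, h3⟩ := exists_point_pushout p z.asIdeal p' hp
    refine ⟨⟨Q, hQ⟩, PrimeSpectrum.ext h1.over.symm, PrimeSpectrum.ext h2.over.symm, fun Q' e1 e2 => ?_⟩
    exact PrimeSpectrum.ext (h3 Q'.asIdeal ⟨(congrArg PrimeSpectrum.asIdeal e1).symm⟩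
      ⟨(congrArg PrimeSpectrum.asIdeal e2).symm⟩)
  let φ : ↥(cA ⁻¹' {p₁}) → ↥(cP ⁻¹' {p₀}) := fun Q => ⟨π Q.1, by
    show cP (π Q.1) = p₀
    rw [hcomm, show cA Q.1 = p₁ from Q.2, hpp]⟩
  have hbij : Function.Bijective φ := by
    refine ⟨fun a b hab => Subtype.ext ?_, fun z => ?_⟩
    · obtain ⟨Q, -, -, hu⟩ := huniq (π a.1) (φ a).2
      exact (hu a.1 a.2 rfl).trans (hu b.1 b.2 (congrArg Subtype.val hab).symm).symm
    · obtain ⟨Q, h1, h2, -⟩ := huniq z.1 z.2
      exact ⟨⟨Q, h1⟩, Subtype.ext h2⟩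
  have hcont : Continuous φ := ((PrimeSpectrum.continuous_comap _).comp continuous_subtype_val).subtype_mk _
  -- `p'` is isolated in the fibre over `p`
  have hdisc := Algebra.QuasiFinite.isDiscrete_comap_preimage_singleton (R := R) (S := R') p₀
  obtain ⟨O, hO, hOp⟩ : ∃ O : Set (PrimeSpectrum R'), IsOpen O ∧
      Subtype.val ⁻¹' O = ({⟨p₁, hpp⟩} : Set ↥(cR ⁻¹' {p₀})) := by
    haveI : DiscreteTopology ↥(cR ⁻¹' {p₀}) := hdisc.to_subtype
    exact isOpen_induced_iff.mp (isOpen_discrete _)
  have hp₁O : p₁ ∈ O := by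
    have : (⟨p₁, hpp⟩ : ↥(cR ⁻¹' {p₀})) ∈ Subtype.val ⁻¹' O := by rw [hOp]; rfl
    exact this
  haveI : Algebra.Etale P' (R' ⊗[R] P') := etale_pushout
  have hπo : IsOpenMap π :=
    PrimeSpectrum.isOpenMap_comap_of_hasGoingDown_of_finitePresentation (R := P') (S := R' ⊗[R] P')
  have hopen : IsOpenMap φ := by
    intro W hW
    obtain ⟨W', hW', rfl⟩ := isOpen_induced_iff.mp hW
    have hopen' := hπo _ (hW'.inter (hO.preimage (PrimeSpectrum.continuous_comap (algebraMap R' (R' ⊗[R] P')))))
    refine isOpen_induced_iff.mpr ⟨_, hopen', ?_⟩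
    ext z
    constructor
    · rintro ⟨Q, ⟨hQW, hQO⟩, hQz⟩
      have hQ : cA Q = p₁ := by
        have h1 : cR (cA Q) = p₀ := by
          rw [← hcomm, show π Q = z.1 from hQz]; exact z.2
        have h2 : (⟨cA Q, h1⟩ : ↥(cR ⁻¹' {p₀})) ∈ Subtype.val ⁻¹' O := hQO
        rw [hOp] at h2
        exact congrArg Subtype.val h2
      exact ⟨⟨Q, hQ⟩, hQW, Subtype.ext hQz⟩
    · rintro ⟨Q, hQW, rfl⟩
      exact ⟨Q.1, ⟨hQW, by show cA Q.1 ∈ O; rw [show cA Q.1 = p₁ from Q.2]; exact hp₁O⟩, rfl⟩
  let e : ↥(cA ⁻¹' {p₁}) ≃ₜ ↥(cP ⁻¹' {p₀}) :=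
    (Equiv.ofBijective φ hbij).toHomeomorphOfContinuousOpen hcont hopen
  rw [connectedComponentIn_eq_image (show π ξ ∈ cP ⁻¹' {p₀} from (φ ⟨ξ, hξ⟩).2)] at h
  obtain ⟨z, hz, hzη⟩ := h
  rw [connectedComponentIn_eq_image hξ]
  refine ⟨⟨η, hη⟩, ?_, rfl⟩
  have hzeq : z = e ⟨η, hη⟩ := Subtype.ext hzη
  have hmem := (isPreconnected_connectedComponent.image e.symm e.symm.continuous.continuousOn).subset_connectedComponent
    (x := ⟨ξ, hξ⟩) ⟨e ⟨ξ, hξ⟩, mem_connectedComponent, e.symm_apply_apply _⟩
  exact hmem ⟨z, hz, by rw [hzeq, e.symm_apply_apply]⟩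

/-- Geometric irreducibility from the fibres over algebraically closed fields. -/
theorem geomIrredFibres_of_algClosed {R' D : Type u} [CommRing R'] [CommRing D] [Algebra R' D]
    (hsurj : Function.Surjective (PrimeSpectrum.comap (algebraMap R' D)))
    (h : ∀ (K : Type u) [Field K] [IsAlgClosed K] (q : Spec (CommRingCat.of K) ⟶ Spec (CommRingCat.of R')),
      PreirreducibleSpace ↥(pullback (Spec.map (CommRingCat.ofHom (algebraMap R' D))) q)) :
    FlatCA.GeomIrredFibres R' D := by
  let f := Spec.map (CommRingCat.ofHom (algebraMap R' D))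
  haveI : Surjective f := ⟨hsurj⟩
  refine ⟨geometrically_iff_of_isClosedUnderIsomorphisms.mpr fun K _ q => ?_⟩
  let Kb := AlgebraicClosure K
  let r : Spec (CommRingCat.of Kb) ⟶ Spec (CommRingCat.of K) := Spec.map (CommRingCat.ofHom (algebraMap K Kb))
  haveI : Surjective r := ⟨fun z => ⟨IsLocalRing.closedPoint Kb, Subsingleton.elim (α := PrimeSpectrum K) _ _⟩⟩
  haveI := h Kb (r ≫ q)
  haveI : Surjective (pullback.fst (pullback.snd f q) r) := inferInstance
  haveI : Surjective (pullback.snd f q) := inferInstance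
  haveI : Nonempty ↥(pullback f q) := ⟨((pullback.snd f q).surjective (IsLocalRing.closedPoint K)).choose⟩
  let ψ : pullback f (r ≫ q) ⟶ pullback f q :=
    (pullbackLeftPullbackSndIso f q r).inv ≫ pullback.fst (pullback.snd f q) r
  haveI : Surjective ψ := inferInstance
  have := (PreirreducibleSpace.isPreirreducible_univ (X := ↥(pullback f (r ≫ q)))).image ψ ψ.continuous.continuousOn
  rw [Set.image_univ, ψ.surjective.range_eq] at this
  exact { toPreirreducibleSpace := ⟨this⟩, toNonempty := inferInstance }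

/-- Shrinking to geometrically integral fibres. -/
theorem exists_shrink {R' A T : Type u} [CommRing R'] [CommRing A] [CommRing T] [Algebra R' A] [Algebra R' T]
    [Algebra.Smooth R' A] [Algebra.Etale R' T] [Module.Finite R' T] (p' : Ideal R') [p'.IsPrime]
    (y : Ideal A) [y.IsPrime] [y.LiesOver p'] (τ : Ideal T) [τ.IsPrime] [τ.LiesOver p'] (g : A) (hg : g ∉ y)
    (hgK : ∀ (U : Scheme.{u}) (j : U ⟶ Spec (CommRingCat.of A)) [IsOpenImmersion j],
      Set.range j ⊆ (PrimeSpectrum.basicOpen g : Set (PrimeSpectrum A)) →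
      ∀ (K : Type u) [Field K] (t : Spec (CommRingCat.of K) ⟶ Spec (CommRingCat.of T)),
        PreirreducibleSpace ↥(pullback (j ≫ Spec.map (CommRingCat.ofHom (algebraMap R' A)))
          (t ≫ Spec.map (CommRingCat.ofHom (algebraMap R' T))))) :
    ∃ f : R', f ∉ p' ∧ g * algebraMap R' A f ∉ y ∧
      ∀ [Algebra (Localization.Away f) (Localization.Away (g * algebraMap R' A f))]
        [IsScalarTower R' (Localization.Away f) (Localization.Away (g * algebraMap R' A f))],
        FlatCA.GeomIrredFibres (Localization.Away f) (Localization.Away (g * algebraMap R' A f)) := by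
  have hU : IsOpen (PrimeSpectrum.comap (algebraMap R' A) '' (PrimeSpectrum.basicOpen g : Set (PrimeSpectrum A)) ∩
      Set.range (PrimeSpectrum.comap (algebraMap R' T))) := by
    refine IsOpen.inter (PrimeSpectrum.isOpenMap_comap_of_hasGoingDown_of_finitePresentation (R := R') (S := A) _
      (PrimeSpectrum.basicOpen g).isOpen) ?_
    rw [← Set.image_univ]
    exact PrimeSpectrum.isOpenMap_comap_of_hasGoingDown_of_finitePresentation (R := R') (S := T) _ isOpen_univ
  obtain ⟨_, ⟨_, ⟨f, rfl⟩, rfl⟩, hfp, hfU⟩ := PrimeSpectrum.isBasis_basic_opens.exists_subset_of_mem_open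
    (show (⟨p', inferInstance⟩ : PrimeSpectrum R') ∈ PrimeSpectrum.comap (algebraMap R' A) ''
      (PrimeSpectrum.basicOpen g : Set (PrimeSpectrum A)) ∩ Set.range (PrimeSpectrum.comap (algebraMap R' T)) from
      ⟨⟨⟨y, inferInstance⟩, hg, PrimeSpectrum.ext (Ideal.over_def y p').symm⟩,
        ⟨⟨τ, inferInstance⟩, PrimeSpectrum.ext (Ideal.over_def τ p').symm⟩⟩) hU
  have hfy : algebraMap R' A f ∉ y := fun h => hfp ((Ideal.mem_of_liesOver y p' f).mpr h)
  refine ⟨f, hfp, fun h => (Ideal.IsPrime.mem_or_mem' h).elim hg hfy, ?_⟩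
  intro _ _
  let R'' := Localization.Away f
  let d := g * algebraMap R' A f
  let D := Localization.Away d
  let j₁ : Spec (CommRingCat.of R'') ⟶ Spec (CommRingCat.of R') := Spec.map (CommRingCat.ofHom (algebraMap R' R''))
  haveI : IsOpenImmersion j₁ := IsOpenImmersion.of_isLocalization f
  let jd : Spec (CommRingCat.of D) ⟶ Spec (CommRingCat.of A) := Spec.map (CommRingCat.ofHom (algebraMap A D))
  haveI : IsOpenImmersion jd := IsOpenImmersion.of_isLocalization d
  have hrangeR : ∀ x : PrimeSpectrum R'', PrimeSpectrum.comap (algebraMap R' R'') x ∈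
      (PrimeSpectrum.basicOpen f : Set (PrimeSpectrum R')) := fun x => by
    rw [← PrimeSpectrum.localization_away_comap_range R'' f]; exact ⟨x, rfl⟩
  have hjd : Set.range jd ⊆ (PrimeSpectrum.basicOpen g : Set (PrimeSpectrum A)) := by
    rintro _ ⟨x, rfl⟩
    have : PrimeSpectrum.comap (algebraMap A D) x ∈ (PrimeSpectrum.basicOpen d : Set (PrimeSpectrum A)) := by
      rw [← PrimeSpectrum.localization_away_comap_range D d]; exact ⟨x, rfl⟩
    exact fun h => this (Ideal.mul_mem_right _ _ h)
  refine geomIrredFibres_of_algClosed (fun x => ?_) fun K _ _ q => ?_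
  · obtain ⟨⟨Q, hQg, hQ⟩, -⟩ := hfU (hrangeR x)
    have hQd : Q ∈ (PrimeSpectrum.basicOpen d : Set (PrimeSpectrum A)) := fun h =>
      (Q.isPrime.mem_or_mem h).elim hQg fun h' => hrangeR x (by
        rw [← hQ]; exact h')
    rw [← PrimeSpectrum.localization_away_comap_range D d] at hQd
    obtain ⟨Qd, rfl⟩ := hQd
    refine ⟨Qd, PrimeSpectrum.localization_comap_injective R'' (Submonoid.powers f) ?_⟩
    rw [← hQ]
    refine PrimeSpectrum.ext ?_
    show (Qd.asIdeal.comap _).comap _ = (Qd.asIdeal.comap _).comap _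
    rw [Ideal.comap_comap, Ideal.comap_comap, ← IsScalarTower.algebraMap_eq, ← IsScalarTower.algebraMap_eq]
  · let fD := Spec.map (CommRingCat.ofHom (algebraMap R'' D))
    have hfD : fD ≫ j₁ = jd ≫ Spec.map (CommRingCat.ofHom (algebraMap R' A)) := by
      rw [← Spec.map_comp, ← Spec.map_comp, ← CommRingCat.ofHom_comp, ← CommRingCat.ofHom_comp,
        ← IsScalarTower.algebraMap_eq, ← IsScalarTower.algebraMap_eq]
    obtain ⟨φ, hφ⟩ : ∃ φ : R' →+* K, Spec.map (CommRingCat.ofHom φ) = q ≫ j₁ :=
      ⟨(Spec.preimage (q ≫ j₁)).hom, by rw [CommRingCat.ofHom_hom, Spec.map_preimage]⟩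
    haveI : (RingHom.ker φ).IsPrime := RingHom.ker_isPrime φ
    have hker : (⟨RingHom.ker φ, inferInstance⟩ : PrimeSpectrum R') ∈
        (PrimeSpectrum.basicOpen f : Set (PrimeSpectrum R')) := by
      let z : Spec (CommRingCat.of K) := IsLocalRing.closedPoint K
      have he : (⟨RingHom.ker φ, inferInstance⟩ : PrimeSpectrum R') = (q ≫ j₁) z := by
        rw [← hφ]
        refine PrimeSpectrum.ext ?_
        show RingHom.ker φ = Ideal.comap φ (IsLocalRing.maximalIdeal K)
        rw [IsLocalRing.maximalIdeal_eq_bot]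
        rfl
      rw [he, Scheme.Hom.comp_apply]
      exact hrangeR _
    obtain ⟨-, P, hP⟩ := hfU hker
    haveI : Algebra.IsIntegral R' T := Algebra.IsIntegral.of_finite R' T
    obtain ⟨ρ, hρ, -⟩ := Groth.L07.QuasiSection.exists_hom_of_integral φ P.asIdeal
      (congrArg PrimeSpectrum.asIdeal hP)
    haveI := hgK _ jd hjd K (Spec.map (CommRingCat.ofHom ρ))
    let e : pullback (jd ≫ Spec.map (CommRingCat.ofHom (algebraMap R' A)))
        (Spec.map (CommRingCat.ofHom ρ) ≫ Spec.map (CommRingCat.ofHom (algebraMap R' T))) ≅ pullback fD q :=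
      pullback.congrHom hfD.symm (by rw [← Spec.map_comp, ← CommRingCat.ofHom_comp, hρ, hφ]) ≪≫
        { hom := pullback.lift (pullback.fst (fD ≫ j₁) (q ≫ j₁)) (pullback.snd (fD ≫ j₁) (q ≫ j₁)) (by
            rw [← cancel_mono j₁, Category.assoc, Category.assoc]; exact pullback.condition)
          inv := pullback.lift (pullback.fst fD q) (pullback.snd fD q) (by rw [pullback.condition_assoc])
          hom_inv_id := pullback.hom_ext
            ((Category.assoc _ _ _).trans ((congrArg _ (pullback.lift_fst _ _ _)).trans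
              ((pullback.lift_fst _ _ _).trans (Category.id_comp _).symm)))
            ((Category.assoc _ _ _).trans ((congrArg _ (pullback.lift_snd _ _ _)).trans
              ((pullback.lift_snd _ _ _).trans (Category.id_comp _).symm)))
          inv_hom_id := pullback.hom_ext
            ((Category.assoc _ _ _).trans ((congrArg _ (pullback.lift_fst _ _ _)).trans
              ((pullback.lift_fst _ _ _).trans (Category.id_comp _).symm)))
            ((Category.assoc _ _ _).trans ((congrArg _ (pullback.lift_snd _ _ _)).trans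
              ((pullback.lift_snd _ _ _).trans (Category.id_comp _).symm))) }
    have := (PreirreducibleSpace.isPreirreducible_univ (X := ↥(pullback
      (jd ≫ Spec.map (CommRingCat.ofHom (algebraMap R' A)))
      (Spec.map (CommRingCat.ofHom ρ) ≫ Spec.map (CommRingCat.ofHom (algebraMap R' T)))))).image
      e.hom.homeomorph e.hom.homeomorph.continuous.continuousOn
    rw [Set.image_univ, e.hom.homeomorph.surjective.range_eq] at this
    exact ⟨this⟩

/-- The basic open set of the base change with geometrically irreducible fibres. -/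
theorem exists_data (p : Ideal R) [p.IsPrime] {n : ℕ} {P' : Type u} [CommRing P'] [Algebra R P']
    [Algebra (MvPolynomial (Fin n) R) P'] [IsScalarTower R (MvPolynomial (Fin n) R) P']
    [Algebra.Etale (MvPolynomial (Fin n) R) P'] (y₁ : Ideal P') [y₁.IsPrime] [y₁.LiesOver p]
    (hpt : FlatCA.PurelyTranscendental p y₁) :
    ∃ (R' : Type u) (_ : CommRing R') (_ : Algebra R R') (p' : Ideal R') (_ : p'.IsPrime),
      FlatCA.IsEtaleNhd R R' p p' ∧
    ∃ (g : R' ⊗[R] P') (f : R'), f ∉ p' ∧
      (∀ (y : Ideal (R' ⊗[R] P')) [y.IsPrime], y.LiesOver y₁ → y.LiesOver p' →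
        g * algebraMap R' (R' ⊗[R] P') f ∉ y) ∧
      ∀ [Algebra (Localization.Away f) (Localization.Away (g * algebraMap R' (R' ⊗[R] P') f))]
        [IsScalarTower R' (Localization.Away f) (Localization.Away (g * algebraMap R' (R' ⊗[R] P') f))],
        FlatCA.GeomIrredFibres (Localization.Away f) (Localization.Away (g * algebraMap R' (R' ⊗[R] P') f)) := by
  haveI : Algebra.FiniteType R P' :=
    Algebra.FiniteType.trans (inferInstance : Algebra.FiniteType R (MvPolynomial (Fin n) R))
      (inferInstance : Algebra.FiniteType (MvPolynomial (Fin n) R) P')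
  haveI := noetherianSpace_fibre (R := R) (S := P') ⟨p, inferInstance⟩
  -- an element cutting out the component of the point
  obtain ⟨b, hb, hbC⟩ : ∃ b ∉ y₁, ∀ z ∈ PrimeSpectrum.comap (algebraMap R P') ⁻¹' {⟨p, inferInstance⟩},
      b ∉ z.asIdeal → z ∈ connectedComponentIn (PrimeSpectrum.comap (algebraMap R P') ⁻¹' {⟨p, inferInstance⟩})
        ⟨y₁, inferInstance⟩ := by
    have hy₁ : (⟨y₁, inferInstance⟩ : PrimeSpectrum P') ∈
        PrimeSpectrum.comap (algebraMap R P') ⁻¹' {⟨p, inferInstance⟩} :=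
      PrimeSpectrum.ext (Ideal.over_def y₁ p).symm
    obtain ⟨O, hO, hOC⟩ := isOpen_induced_iff.mp (Groth.L04.SupportSh.isOpen_connectedComponent_of_noetherianSpace
      (⟨_, hy₁⟩ : ↥(PrimeSpectrum.comap (algebraMap R P') ⁻¹' {⟨p, inferInstance⟩})))
    obtain ⟨_, ⟨_, ⟨b, rfl⟩, rfl⟩, hb, hbO⟩ := PrimeSpectrum.isBasis_basic_opens.exists_subset_of_mem_open
      (show (⟨y₁, inferInstance⟩ : PrimeSpectrum P') ∈ O from (Set.ext_iff.mp hOC ⟨_, hy₁⟩).mpr mem_connectedComponent) hO
    refine ⟨b, hb, fun z hz hbz => ?_⟩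
    rw [connectedComponentIn_eq_image hy₁]
    exact ⟨⟨z, hz⟩, (Set.ext_iff.mp hOC ⟨z, hz⟩).mp (hbO hbz), rfl⟩
  -- a finite etale point in that component
  obtain ⟨Z, _, _, _, ζ, _, _, η₀, hη₀⟩ := exists_etale_point p (n := n) y₁ b hb
  obtain ⟨R', _, _, p', _, hR', T, _, _, _, _, η₁, τ, _, hTe, hTf, hτp, hτu, hτζ⟩ := exists_isolate p ζ
  haveI := hR'.1
  haveI := hTe
  haveI := hTf
  haveI := hτp
  let η : P' →ₐ[R] T := η₁.comp η₀
  let A := R' ⊗[R] P'
  let θ : A →ₐ[R'] T := Algebra.TensorProduct.lift (Algebra.ofId R' T) η fun _ _ => Commute.all _ _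
  obtain ⟨y, _, hyp, hyn, hyu⟩ := exists_nbhd_pushout p y₁ p' hR'
  haveI := hyp
  haveI := hR'.2.1
  have hptA : FlatCA.PurelyTranscendental p' y := purelyTranscendental_transport hR'.2 hyn.2 hpt
  haveI : Algebra.Smooth R P' := smooth_of_relDim (smoothRelDim_of_etale (R := R) (P' := P') n)
  -- the component condition
  let ξ : PrimeSpectrum A := PrimeSpectrum.comap θ.toRingHom ⟨τ, inferInstance⟩
  have hξp : ξ ∈ PrimeSpectrum.comap (algebraMap R' A) ⁻¹' {⟨p', inferInstance⟩} := by
    refine PrimeSpectrum.ext ?_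
    show (τ.comap θ.toRingHom).comap (algebraMap R' A) = p'
    rw [Ideal.comap_comap, show θ.toRingHom.comp (algebraMap R' A) = algebraMap R' T from θ.comp_algebraMap]
    exact hτp.over.symm
  have hξ₁ : (PrimeSpectrum.comap (algebraMap P' A) ξ).asIdeal = τ.comap η := by
    show (τ.comap θ.toRingHom).comap (algebraMap P' A) = _
    rw [Ideal.comap_comap]
    refine Ideal.ext fun x => ?_
    rw [Ideal.mem_comap, Ideal.mem_comap, RingHom.comp_apply, Algebra.TensorProduct.right_algebraMap_apply]
    show θ ((1 : R') ⊗ₜ[R] x) ∈ τ ↔ η x ∈ τ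
    rw [Algebra.TensorProduct.lift_tmul, map_one, one_mul]
  have hcomp : (⟨y, inferInstance⟩ : PrimeSpectrum A) ∈
      connectedComponentIn (PrimeSpectrum.comap (algebraMap R' A) ⁻¹' {⟨p', inferInstance⟩}) ξ := by
    refine mem_component_baseChange p p' hR'.2 ξ ⟨y, inferInstance⟩ hξp (PrimeSpectrum.ext hyp.over.symm) ?_
    have hbξ : b ∉ (PrimeSpectrum.comap (algebraMap P' A) ξ).asIdeal := by
      rw [hξ₁]
      intro hmem
      refine hη₀ ?_
      rw [← hτζ]
      exact hmem
    have hξfib : PrimeSpectrum.comap (algebraMap P' A) ξ ∈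
        PrimeSpectrum.comap (algebraMap R P') ⁻¹' {⟨p, inferInstance⟩} := by
      refine PrimeSpectrum.ext ?_
      show ((PrimeSpectrum.comap (algebraMap P' A) ξ).asIdeal).comap (algebraMap R P') = p
      rw [hξ₁]
      refine Ideal.ext fun c => ?_
      rw [Ideal.mem_comap, Ideal.mem_comap, AlgHom.commutes, IsScalarTower.algebraMap_apply R R' T,
        ← Ideal.mem_of_liesOver τ p', ← Ideal.mem_of_liesOver p' p]
    have hmem := hbC _ hξfib hbξ
    rw [show PrimeSpectrum.comap (algebraMap P' A) ⟨y, inferInstance⟩ = ⟨y₁, inferInstance⟩ from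
      PrimeSpectrum.ext hyn.2.1.over.symm, ← connectedComponentIn_eq hmem]
    exact mem_connectedComponentIn (PrimeSpectrum.ext (Ideal.over_def y₁ p).symm)
  have hsub : letI : Algebra p'.ResidueField τ.ResidueField :=
        (Ideal.ResidueField.mapₐ p' τ (Algebra.ofId R' T) hτp.over).toRingHom.toAlgebra
      letI : Algebra p'.ResidueField y.ResidueField :=
        (Ideal.ResidueField.mapₐ p' y (Algebra.ofId R' A) hyp.over).toRingHom.toAlgebra
      Subsingleton (PrimeSpectrum (τ.ResidueField ⊗[p'.ResidueField] y.ResidueField)) := by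
    letI : Algebra p'.ResidueField τ.ResidueField :=
      (Ideal.ResidueField.mapₐ p' τ (Algebra.ofId R' T) hτp.over).toRingHom.toAlgebra
    letI : Algebra p'.ResidueField y.ResidueField :=
      (Ideal.ResidueField.mapₐ p' y (Algebra.ofId R' A) hyp.over).toRingHom.toAlgebra
    haveI : Algebra.IsIntegral p'.ResidueField τ.ResidueField := ⟨fun z => by
      obtain ⟨a, c, hc, rfl⟩ := IsFractionRing.div_surjective (A := T ⧸ τ) z
      obtain ⟨a, rfl⟩ := Ideal.Quotient.mk_surjective a
      obtain ⟨c, rfl⟩ := Ideal.Quotient.mk_surjective c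
      have hT : ∀ t : T, IsIntegral p'.ResidueField (algebraMap T τ.ResidueField t) := fun t =>
        (Algebra.IsIntegral.isIntegral (R := R') t).map_of_comp_eq (algebraMap R' p'.ResidueField)
          (algebraMap T τ.ResidueField) (RingHom.ext fun x => by
            show Ideal.ResidueField.mapₐ p' τ (Algebra.ofId R' T) hτp.over (algebraMap R' _ x) = _
            rw [AlgHom.commutes, IsScalarTower.algebraMap_apply R' T τ.ResidueField]
            rfl)
      rw [Ideal.algebraMap_quotient_residueField_mk, Ideal.algebraMap_quotient_residueField_mk, div_eq_mul_inv]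
      exact (hT a).mul (hT c).inv⟩
    obtain ⟨ι, x, hx, hadj⟩ := hptA
    exact subsingleton_spec_tensor x hx.1 hadj
  haveI : Algebra.Smooth R' A := inferInstanceAs (Algebra.Smooth R' (R' ⊗[R] P'))
  obtain ⟨g, hgy, hgK⟩ := exists_basicOpen_irreducible p' τ hτu θ y hcomp hsub
  obtain ⟨f, hf, hd, hirr⟩ := exists_shrink p' y τ g hgy hgK
  exact ⟨R', inferInstance, inferInstance, p', inferInstance, hR', g, f, hf,
    fun y' _ h1 h2 => (hyu y' h2 h1).symm ▸ hd, hirr⟩

/-- After an elementary etale localisation, a point with purely transcendental residue field has a neighbourhood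
with geometrically integral fibres. -/
theorem exists_geomIntegral_nhd (p : Ideal R) [p.IsPrime] {n : ℕ} {P' : Type u} [CommRing P'] [Algebra R P']
    [Algebra (MvPolynomial (Fin n) R) P'] [IsScalarTower R (MvPolynomial (Fin n) R) P']
    [Algebra.Etale (MvPolynomial (Fin n) R) P'] (y₁ : Ideal P') [y₁.IsPrime] [y₁.LiesOver p]
    (hpt : FlatCA.PurelyTranscendental p y₁) :
    ∃ (R' : Type u) (_ : CommRing R') (_ : Algebra R R') (p' : Ideal R') (_ : p'.IsPrime),
      FlatCA.IsEtaleNhd R R' p p' ∧
    ∃ (D : Type u) (_ : CommRing D) (_ : Algebra R' D) (_ : Algebra P' D) (_ : Algebra R D)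
      (_ : IsScalarTower R R' D) (_ : IsScalarTower R P' D) (y : Ideal D) (_ : y.IsPrime) (hy : y.LiesOver p'),
      FlatCA.IsEtaleNhd P' D y₁ y ∧ FlatCA.PurelyTranscendental p' y (h := hy) ∧ FlatCA.SmoothRelDim n R' D ∧
      FlatCA.GeomIntegralFibres R' D := by
  obtain ⟨R', _, _, p', _, hR', g, f, hf, hd', hirr⟩ := exists_data p (n := n) y₁ hpt
  haveI := hR'.1
  haveI := hR'.2.1
  let A := R' ⊗[R] P'
  obtain ⟨y, _, hyp, hyn, -⟩ := exists_nbhd_pushout p y₁ p' hR'
  haveI := hyp
  have hd := hd' y hyn.2.1 hyp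
  -- the localisations
  let R'' := Localization.Away f
  let d := g * algebraMap R' A f
  let D := Localization.Away d
  have hfu : IsUnit (algebraMap R' D f) := by
    rw [IsScalarTower.algebraMap_apply R' A D]
    exact isUnit_of_mul_isUnit_right (x := algebraMap A D g)
      (by rw [← map_mul]; exact IsLocalization.Away.algebraMap_isUnit d)
  letI : Algebra R'' D := (IsLocalization.Away.lift f hfu).toAlgebra
  haveI : IsScalarTower R' R'' D :=
    IsScalarTower.of_algebraMap_eq fun x => (IsLocalization.Away.lift_eq f hfu x).symm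
  haveI : IsScalarTower R R'' D := IsScalarTower.of_algebraMap_eq fun x => by
    rw [IsScalarTower.algebraMap_apply R R' R'', ← IsScalarTower.algebraMap_apply R' R'' D,
      ← IsScalarTower.algebraMap_apply R R' D]
  obtain ⟨p'', _, hp''⟩ := exists_prime_away p' hf
  obtain ⟨y'', _, hy''⟩ := exists_prime_away y hd
  haveI := hp''
  haveI := hy''
  haveI : y''.LiesOver p'' := by
    refine ⟨?_⟩
    rw [← IsLocalization.map_under (Submonoid.powers f) R'' p'', ← IsLocalization.map_under (Submonoid.powers f) R''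
      (y''.under R''), Ideal.under_under, ← hp''.over]
    congr 1
    rw [← Ideal.under_under (B := A) y'', ← hy''.over]
    exact hyp.over
  have hR'' : FlatCA.IsEtaleNhd R R'' p p'' := isEtaleNhd_trans hR' (isEtaleNhd_away p' hf p'')
  have hD : FlatCA.IsEtaleNhd P' D y₁ y'' := isEtaleNhd_trans hyn (isEtaleNhd_away y hd y'')
  haveI := hR''.2.1
  have hrel : FlatCA.SmoothRelDim n R'' D := by
    let j₁ : Spec (CommRingCat.of R'') ⟶ Spec (CommRingCat.of R') := Spec.map (CommRingCat.ofHom (algebraMap R' R''))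
    haveI : IsOpenImmersion j₁ := IsOpenImmersion.of_isLocalization f
    let jd : Spec (CommRingCat.of D) ⟶ Spec (CommRingCat.of A) := Spec.map (CommRingCat.ofHom (algebraMap A D))
    haveI : IsOpenImmersion jd := IsOpenImmersion.of_isLocalization d
    haveI hP : SmoothOfRelativeDimension n (Spec.map (CommRingCat.ofHom (algebraMap R P'))) := smoothRelDim_of_etale n
    haveI hA : SmoothOfRelativeDimension n (Spec.map (CommRingCat.ofHom (algebraMap R' A))) := by
      have sq : IsPullback (Spec.map (CommRingCat.ofHom (algebraMap R' A)))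
          (Spec.map (CommRingCat.ofHom (Algebra.TensorProduct.includeRight : P' →ₐ[R] R' ⊗[R] P').toRingHom))
          (Spec.map (CommRingCat.ofHom (algebraMap R R'))) (Spec.map (CommRingCat.ofHom (algebraMap R P'))) := by
        refine IsPullback.of_iso (IsPullback.of_hasPullback _ _) (pullbackSpecIso R R' P') (Iso.refl _) (Iso.refl _)
          (Iso.refl _) ?_ ?_ (by simp) (by simp)
        · rw [Iso.refl_hom, Category.comp_id]; exact (pullbackSpecIso_hom_fst' R R' P').symm
        · rw [Iso.refl_hom, Category.comp_id]; exact (pullbackSpecIso_hom_snd R R' P').symm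
      exact (smoothOfRelativeDimension_isStableUnderBaseChange n).of_isPullback sq.flip hP
    have hcomp' : SmoothOfRelativeDimension (0 + n) (jd ≫ Spec.map (CommRingCat.ofHom (algebraMap R' A))) :=
      inferInstance
    rw [zero_add] at hcomp'
    have hfD : Spec.map (CommRingCat.ofHom (algebraMap R'' D)) ≫ j₁ =
        jd ≫ Spec.map (CommRingCat.ofHom (algebraMap R' A)) := by
      rw [← Spec.map_comp, ← Spec.map_comp, ← CommRingCat.ofHom_comp, ← CommRingCat.ofHom_comp,
        ← IsScalarTower.algebraMap_eq, ← IsScalarTower.algebraMap_eq]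
    rw [← hfD] at hcomp'
    exact (smoothOfRelativeDimension_isStableUnderBaseChange n).of_isPullback
      (g' := Spec.map (CommRingCat.ofHom (algebraMap R'' D))) (g := Spec.map (CommRingCat.ofHom (algebraMap R'' D)) ≫ j₁)
      (f := j₁) (f' := 𝟙 _) (IsPullback.of_isLimit' ⟨by simp⟩ (PullbackCone.IsLimit.mk _
        (fun s => s.fst) (fun s => Category.comp_id _) (fun s => by
          rw [← cancel_mono j₁, Category.assoc, ← s.condition])
        (fun s m h1 _ => by simpa using h1))) hcomp'
  haveI : Algebra.Smooth R'' D := smooth_of_relDim hrel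
  refine ⟨R'', inferInstance, inferInstance, p'', inferInstance, hR'', D, inferInstance, inferInstance, inferInstance,
    inferInstance, inferInstance, inferInstance, y'', inferInstance, inferInstance, hD, ?_, hrel,
    geomIntegralFibres_of_smooth hirr⟩
  exact purelyTranscendental_transport hR''.2 hD.2 hpt

end Groth.L20.RG
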