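import Groth.Agent.L20.RG.Split
import Groth.Agent.L20.RG.GeomIntNhd
import Mathlib.Algebra.Module.Torsion.Basic

/-!
# Existence of elementary dévissages
-/

set_option autoImplicit false
set_option linter.style.haveILetI false
set_option backward.isDefEq.respectTransparency.types false
universe u

open TensorProduct

noncomputable section

namespace Groth.L20.RG

attribute [local instance] Algebra.TensorProduct.rightAlgebra

variable {R S : Type u} [CommRing R] [CommRing S] [Algebra R S] [Algebra.FiniteType R S]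

/-- The identity has trivial residue field extensions. -/
theorem trivRes_self {A : Type u} [CommRing A] (a : Ideal A) [a.IsPrime] : TrivRes A a a := by
  refine ⟨⟨Ideal.comap_id a |>.symm⟩, ?_⟩
  have : Ideal.ResidueField.mapₐ a a (Algebra.ofId A A) (Ideal.comap_id a).symm = AlgHom.id A _ := by
    ext
  rw [this]
  exact Function.bijective_id

/-- Existence of elementary dévissages, with the smooth algebra mapping to the neighbourhood. -/
theorem exists_elemDevissage' (N : Type u) [AddCommGroup N] [Module S N] [Module R N] [IsScalarTower R S N]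
    [Module.Finite S N] (p : Ideal R) [p.IsPrime] (q : Ideal S) [q.IsPrime] [q.LiesOver p] (n : ℕ)
    (x : PrimeSpectrum (p.Fiber S)) (hxq : x.asIdeal = FlatCA.fiberIdeal p q)
    (hx : x ∈ Module.support (p.Fiber S) (FlatCA.fiberMod p S N))
    (hn : FlatMor.localDim (Module.support (p.Fiber S) (FlatCA.fiberMod p S N)) ⟨x, hx⟩ = n) :
    ∃ (E : FlatCA.ElemDevissage R S N p q n) (_ : Algebra E.D E.S') (_ : IsScalarTower E.R' E.D E.S'),
      IsScalarTower E.D E.S' E.C := by
  classical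
  obtain ⟨a, hafg, haann, r, _, hrq, φ, ⟨hy₀p, hpt⟩, hqf⟩ := exists_cut_coords N p q n x hxq hx hn
  let P := MvPolynomial (Fin n) R
  letI : Algebra P S := φ.toRingHom.toAlgebra
  haveI : IsScalarTower R P S := IsScalarTower.of_algebraMap_eq' φ.comp_algebraMap.symm
  haveI : Algebra.FiniteType P S := Algebra.FiniteType.of_restrictScalars_finiteType R _ _
  let y₀ : Ideal P := q.comap φ
  haveI : y₀.LiesOver p := hy₀p
  haveI : q.LiesOver y₀ := ⟨rfl⟩
  haveI : Algebra.QuasiFiniteAt P r := hqf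
  obtain ⟨P', _, _, y₁, _, hy₁, S', _, _, _, _, _, _, q', _, hq', hq'y, haq', hfin, huniq⟩ :=
    exists_split (P := P) a r q hrq y₀
  letI : Algebra R P' := ((algebraMap P P').comp (algebraMap R P)).toAlgebra
  haveI : IsScalarTower R P P' := IsScalarTower.of_algebraMap_eq' rfl
  haveI := hy₁.1
  haveI := hy₁.2.1
  haveI : y₁.LiesOver p := Ideal.LiesOver.trans y₁ y₀ p
  have hpt₁ : FlatCA.PurelyTranscendental p y₁ := purelyTranscendental_transport (trivRes_self p) hy₁.2 hpt
  obtain ⟨R', _, _, p', _, hR', D, _, _, _, _, _, _, y, _, hyp', hD, hptD, hrel, hgeom⟩ :=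
    exists_geomIntegral_nhd p (n := n) y₁ hpt₁
  haveI := hq'y
  haveI := hyp'
  haveI := hq'.2.1
  obtain ⟨Q, _, hQy, hQn, hQu⟩ := exists_nbhd_pushout y₁ q' y hD
  haveI := hQy
  letI : Algebra S (D ⊗[P'] S') := ((algebraMap S' (D ⊗[P'] S')).comp (algebraMap S S')).toAlgebra
  haveI : IsScalarTower S S' (D ⊗[P'] S') := IsScalarTower.of_algebraMap_eq' rfl
  haveI : IsScalarTower R S (D ⊗[P'] S') := IsScalarTower.of_algebraMap_eq fun c => by
    show (algebraMap R D c) ⊗ₜ[P'] (1 : S') = (1 : D) ⊗ₜ[P'] algebraMap S S' (algebraMap R S c)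
    rw [IsScalarTower.algebraMap_apply R P' D, IsScalarTower.algebraMap_apply R P S,
      ← IsScalarTower.algebraMap_apply P S S', IsScalarTower.algebraMap_apply P P' S',
      ← IsScalarTower.algebraMap_apply R P P']
    exact Algebra.TensorProduct.tmul_one_eq_one_tmul (R := P') (A := D) (B := S') (algebraMap R P' c)
  let aa : Ideal (D ⊗[P'] S') := a.map (algebraMap S (D ⊗[P'] S'))
  have hmap : aa = (a.map (algebraMap S S')).map (algebraMap S' (D ⊗[P'] S')) := by
    rw [Ideal.map_map]; rfl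
  have haQ : aa ≤ Q := by
    rw [hmap, Ideal.map_le_iff_le_comap]
    exact haq'.trans hQn.2.1.over.le
  have htor : Module.IsTorsionBySet (D ⊗[P'] S') ((D ⊗[P'] S') ⊗[S] N) (aa : Set (D ⊗[P'] S')) := by
    rintro m ⟨t, ht⟩
    have hker : aa ≤ Module.annihilator (D ⊗[P'] S') ((D ⊗[P'] S') ⊗[S] N) :=
      Ideal.map_le_iff_le_comap.mpr fun c hc => Module.mem_annihilator.mpr fun w => by
        show algebraMap S (D ⊗[P'] S') c • w = 0
        refine (algebraMap_smul (D ⊗[P'] S') c w).trans ?_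
        induction w using TensorProduct.induction_on with
        | zero => rw [smul_zero]
        | add u v hu hv => rw [smul_add, hu, hv, add_zero]
        | tmul s m => rw [← TensorProduct.tmul_smul, Module.mem_annihilator.mp (haann hc), TensorProduct.tmul_zero]
    exact Module.mem_annihilator.mp (hker ht) m
  letI : Module ((D ⊗[P'] S') ⧸ aa) ((D ⊗[P'] S') ⊗[S] N) := htor.module
  haveI : IsScalarTower (D ⊗[P'] S') ((D ⊗[P'] S') ⧸ aa) ((D ⊗[P'] S') ⊗[S] N) := htor.isScalarTower
  haveI : IsScalarTower D ((D ⊗[P'] S') ⧸ aa) ((D ⊗[P'] S') ⊗[S] N) :=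
    IsScalarTower.of_algebraMap_smul fun d (m : (D ⊗[P'] S') ⊗[S] N) => by
      rw [IsScalarTower.algebraMap_apply D (D ⊗[P'] S') ((D ⊗[P'] S') ⧸ aa), algebraMap_smul ((D ⊗[P'] S') ⧸ aa) _ m]
      exact algebraMap_smul _ d m
  haveI : IsScalarTower R' ((D ⊗[P'] S') ⧸ aa) ((D ⊗[P'] S') ⊗[S] N) :=
    IsScalarTower.of_algebraMap_smul fun d (m : (D ⊗[P'] S') ⊗[S] N) => by
      rw [IsScalarTower.algebraMap_apply R' (D ⊗[P'] S') ((D ⊗[P'] S') ⧸ aa), algebraMap_smul ((D ⊗[P'] S') ⧸ aa) _ m]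
      exact algebraMap_smul _ d m
  haveI : Module.Finite ((D ⊗[P'] S') ⧸ aa) ((D ⊗[P'] S') ⊗[S] N) :=
    Module.Finite.of_restrictScalars_finite (D ⊗[P'] S') _ _
  have hfinDC : Module.Finite D ((D ⊗[P'] S') ⧸ aa) := by
    let a' := a.map (algebraMap S S')
    let ι : S' ⧸ a' →ₐ[P'] (D ⊗[P'] S') ⧸ aa :=
      { Ideal.quotientMap aa (algebraMap S' (D ⊗[P'] S')) (by rw [hmap]; exact Ideal.le_comap_map) with
        commutes' := fun c => by
          show Ideal.Quotient.mk aa (algebraMap S' (D ⊗[P'] S') (algebraMap P' S' c)) = _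
          rw [← IsScalarTower.algebraMap_apply P' S' (D ⊗[P'] S')]
          rfl }
    let ψ : D ⊗[P'] (S' ⧸ a') →ₐ[D] (D ⊗[P'] S') ⧸ aa :=
      Algebra.TensorProduct.lift (Algebra.ofId D _) ι fun _ _ => Commute.all _ _
    haveI : Module.Finite P' (S' ⧸ a') := hfin
    refine Module.Finite.of_surjective ψ.toLinearMap fun z => ?_
    obtain ⟨z, rfl⟩ := Ideal.Quotient.mk_surjective z
    induction z using TensorProduct.induction_on with
    | zero => exact ⟨0, by simp⟩
    | add u v hu hv =>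
      obtain ⟨u', hu⟩ := hu
      obtain ⟨v', hv⟩ := hv
      exact ⟨u' + v', by rw [map_add, map_add, hu, hv]⟩
    | tmul d s =>
      refine ⟨d ⊗ₜ Ideal.Quotient.mk a' s, ?_⟩
      rw [AlgHom.toLinearMap_apply, Algebra.TensorProduct.lift_tmul]
      show Ideal.Quotient.mk aa (algebraMap D (D ⊗[P'] S') d) * Ideal.Quotient.mk aa (algebraMap S' _ s) = _
      rw [← map_mul, Algebra.TensorProduct.algebraMap_apply, Algebra.TensorProduct.right_algebraMap_apply]
      simp
  let z : Ideal ((D ⊗[P'] S') ⧸ aa) := Q.map (Ideal.Quotient.mk aa)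
  haveI hzp : z.IsPrime := Ideal.map_isPrime_of_surjective Ideal.Quotient.mk_surjective (by rwa [Ideal.mk_ker])
  have hzQ : z.comap (Ideal.Quotient.mk aa) = Q := by
    rw [Ideal.comap_map_of_surjective _ Ideal.Quotient.mk_surjective, ← RingHom.ker_eq_comap_bot, Ideal.mk_ker,
      sup_eq_left]
    exact haQ
  haveI : z.LiesOver Q := ⟨hzQ.symm⟩
  haveI : Q.LiesOver p' := Ideal.LiesOver.trans Q y p'
  haveI : z.LiesOver y := Ideal.LiesOver.trans z Q y
  refine ⟨{
    R' := R'
    S' := D ⊗[P'] S'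
    C := (D ⊗[P'] S') ⧸ aa
    D := D
    N' := (D ⊗[P'] S') ⊗[S] N
    G := (D ⊗[P'] S') ⊗[S] N
    p' := p'
    q' := Q
    z := z
    y := y
    etaleR := hR'
    etaleS := isEtaleNhd_trans hq' hQn
    f := TensorProduct.mk S (D ⊗[P'] S') N 1
    isBaseChange := TensorProduct.isBaseChange S N (D ⊗[P'] S')
    surjC := Ideal.Quotient.mk_surjective
    fpC := Algebra.FinitePresentation.quotient (hafg.map _)
    iso := LinearEquiv.refl _ _
    finiteDC := hfinDC
    finiteG := inferInstance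
    uniq := ?_
    pureTrans := hptD
    smooth := hrel
    geomInt := hgeom }, (inferInstance : Algebra D (D ⊗[P'] S')), (inferInstance : IsScalarTower R' D (D ⊗[P'] S')),
    (inferInstance : IsScalarTower D (D ⊗[P'] S') ((D ⊗[P'] S') ⧸ aa))⟩
  intro z₁ _ hz₁
  let Z := z₁.comap (Ideal.Quotient.mk aa)
  haveI hZy : Z.LiesOver y := ⟨by
    rw [hz₁.over]
    exact (Ideal.comap_comap (algebraMap D (D ⊗[P'] S')) (Ideal.Quotient.mk aa)).symm⟩
  haveI := hD.2.1
  haveI : Z.LiesOver y₁ := Ideal.LiesOver.trans Z y y₁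
  haveI : (Z.comap (algebraMap S' (D ⊗[P'] S'))).LiesOver y₁ := ⟨by
    rw [Ideal.under_def, Ideal.comap_comap, ← IsScalarTower.algebraMap_eq]
    exact Ideal.over_def Z y₁⟩
  have hZq : Z.comap (algebraMap S' (D ⊗[P'] S')) = q' := by
    refine huniq _ ?_ inferInstance
    rw [← Ideal.map_le_iff_le_comap, ← hmap]
    intro t ht
    show Ideal.Quotient.mk aa t ∈ z₁
    rw [Ideal.Quotient.eq_zero_iff_mem.mpr ht]
    exact zero_mem z₁
  have hZ : Z = Q := hQu Z hZy ⟨hZq.symm⟩
  show z₁ = Q.map (Ideal.Quotient.mk aa)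
  rw [← hZ, Ideal.map_comap_of_surjective _ Ideal.Quotient.mk_surjective]

/-- **Existence of elementary dévissages.** -/
theorem exists_elemDevissage (N : Type u) [AddCommGroup N] [Module S N] [Module R N] [IsScalarTower R S N]
    [Module.Finite S N] (p : Ideal R) [p.IsPrime] (q : Ideal S) [q.IsPrime] [q.LiesOver p] (n : ℕ)
    (x : PrimeSpectrum (p.Fiber S)) (hxq : x.asIdeal = FlatCA.fiberIdeal p q)
    (hx : x ∈ Module.support (p.Fiber S) (FlatCA.fiberMod p S N))
    (hn : FlatMor.localDim (Module.support (p.Fiber S) (FlatCA.fiberMod p S N)) ⟨x, hx⟩ = n) :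
    Nonempty (FlatCA.ElemDevissage R S N p q n) := by
  obtain ⟨E, -, -, -⟩ := exists_elemDevissage' N p q n x hxq hx hn
  exact ⟨E⟩

end Groth.L20.RG
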