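import Groth.Agent.L20.RG.Global
import Groth.Agent.L20.RG.Iterate
import Groth.Agent.L20.RG.StepFacts
import Mathlib.RingTheory.Spectrum.Prime.Chevalley

/-!
# Spreading out one step from a prime of the base
-/

set_option autoImplicit false
set_option linter.style.haveILetI false
universe u

open TensorProduct

noncomputable section

namespace Groth.L20.RG

attribute [local instance] Algebra.TensorProduct.rightAlgebra

variable {R B G : Type u} [CommRing R] [CommRing B] [Algebra R B] [AddCommGroup G] [Module B G] [Module R G]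
  [IsScalarTower R B G] {r : ℕ} (α : (Fin r → B) →ₗ[B] G)

omit [Module R G] [IsScalarTower R B G] [Algebra R B] in
/-- Localised bijectivity is bijectivity after base change. -/
theorem bijective_baseChange_of_localized (t : B)
    (h : Function.Bijective (LocalizedModule.map (Submonoid.powers t) α)) :
    Function.Bijective (α.baseChange (Localization.Away t)) := by
  let T := Submonoid.powers t
  let L := Localization.Away t
  haveI : IsLocalizedModule T (TensorProduct.mk B L (Fin r → B) 1) :=
    (isLocalizedModule_iff_isBaseChange T L _).mpr (TensorProduct.isBaseChange B _ L)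
  haveI : IsLocalizedModule T (TensorProduct.mk B L G 1) :=
    (isLocalizedModule_iff_isBaseChange T L _).mpr (TensorProduct.isBaseChange B _ L)
  let eP := IsLocalizedModule.iso T (TensorProduct.mk B L (Fin r → B) 1)
  let eG := IsLocalizedModule.iso T (TensorProduct.mk B L G 1)
  have hc : (α.baseChange L).restrictScalars B ∘ₗ eP.toLinearMap =
      eG.toLinearMap ∘ₗ (LocalizedModule.map T α).restrictScalars B := by
    refine IsLocalizedModule.linearMap_ext T (LocalizedModule.mkLinearMap T _) (TensorProduct.mk B L G 1) ?_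
    ext v
    simp [eP, eG, IsLocalizedModule.iso_apply_mk, LocalizedModule.map_mk]
  have h2 : ⇑(α.baseChange L) ∘ eP = eG ∘ (LocalizedModule.map T α) := congrArg DFunLike.coe hc
  rw [← Function.Bijective.of_comp_iff _ eP.bijective, h2]
  exact eG.bijective.comp h

/-- One step over a local base, from bijectivity on the residue field of the generic point. -/
theorem step_residue {A D H : Type u} [CommRing A] [IsLocalRing A] [CommRing D] [Algebra A D] [Algebra.Smooth A D]
    [AddCommGroup H] [Module D H] [Module A H] [IsScalarTower A D H] [Module.Finite D H] [Module.Flat A H]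
    (β : (Fin r → D) →ₗ[D] H) (h : DomFib A D)
    (hb : ∀ (ξ : Ideal D) [ξ.IsPrime], ξ = (IsLocalRing.maximalIdeal A).map (algebraMap A D) →
      Function.Bijective (β.baseChange ξ.ResidueField)) :
    Function.Injective β ∧ Module.Flat A (H ⧸ LinearMap.range β) := by
  let ξ := (IsLocalRing.maximalIdeal A).map (algebraMap A D)
  haveI : ξ.IsPrime := isPrime_map_maximalIdeal h
  have hu := univInj_of_flatAt β h rfl (hb ξ rfl) (FibreCrit.flat_localizedModule_of_flat ξ.primeCompl)
  have h1 := flat_quotient_range_of_lTensor_injective (β.restrictScalars A) fun I => hu (A ⧸ I)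
  exact ⟨Groth.L20.injective_of_lTensor_self (β.restrictScalars A) (hu A),
    @Module.Flat.of_linearEquiv _ _ _ _ _ _ _ _ h1 (Submodule.Quotient.restrictScalarsEquiv A (LinearMap.range β)).symm⟩

omit [Module R G] [IsScalarTower R B G] [Algebra R B] in
/-- One step after a base change to a local ring. -/
theorem step_residue_baseChange [Module.Finite B G] (A' D' : Type u) [CommRing A'] [IsLocalRing A'] [CommRing D']
    [Algebra B D'] [Algebra A' D'] [Algebra.Smooth A' D'] [Module.Flat A' (D' ⊗[B] G)] (h' : DomFib A' D')
    (hb : ∀ (ξ : Ideal D') [ξ.IsPrime], ξ = (IsLocalRing.maximalIdeal A').map (algebraMap A' D') →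
      Function.Bijective ((baseChangeFree α D').baseChange ξ.ResidueField)) :
    Function.Injective (α.baseChange D') ∧ Module.Flat A' (D' ⊗[B] (G ⧸ LinearMap.range α)) :=
  of_baseChangeFree α A' D' (step_residue (baseChangeFree α D') h' hb)

section Local

variable (rr : Ideal R) [rr.IsPrime]

/-- The base ring localised at `rr`, acting on `B`. -/
abbrev locB (rr : Ideal R) [rr.IsPrime] (B : Type u) [CommRing B] [Algebra R B] : Type u :=
  Localization.AtPrime rr ⊗[R] B

instance isPushout_locB : Algebra.IsPushout R B (Localization.AtPrime rr) (locB rr B) :=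
  Algebra.IsPushout.symm inferInstance

omit [Module R G] [IsScalarTower R B G] in
theorem bijective_residue_locB [(rr.map (algebraMap R B)).IsPrime] [Algebra.Smooth R B] (h : DomFib R B)
    (hbij : Function.Bijective (α.baseChange (rr.map (algebraMap R B)).ResidueField))
    (ξ' : Ideal (locB rr B)) [ξ'.IsPrime]
    (hξ' : ξ' = (IsLocalRing.maximalIdeal (Localization.AtPrime rr)).map (algebraMap _ (locB rr B))) :
    Function.Bijective ((baseChangeFree α (locB rr B)).baseChange ξ'.ResidueField) := by
  let ξ := rr.map (algebraMap R B)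
  haveI : Algebra.IsPushout R (Localization.AtPrime rr) B (locB rr B) := Algebra.IsPushout.symm inferInstance
  haveI : IsLocalization (Algebra.algebraMapSubmonoid B rr.primeCompl) (locB rr B) :=
    (Algebra.isLocalization_iff_isPushout rr.primeCompl (Localization.AtPrime rr)).mpr inferInstance
  have hmap : ξ' = ξ.map (algebraMap B (locB rr B)) := by
    rw [hξ', ← Localization.AtPrime.map_eq_maximalIdeal, Ideal.map_map, ← IsScalarTower.algebraMap_eq,
      IsScalarTower.algebraMap_eq R B (locB rr B), ← Ideal.map_map]
  haveI := liesOver_map rr h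
  have hdis : Disjoint (Algebra.algebraMapSubmonoid B rr.primeCompl : Set B) (ξ : Set B) := by
    rw [Set.disjoint_left]
    rintro _ ⟨s, hs, rfl⟩ hmem
    exact hs ((Ideal.mem_of_liesOver ξ rr s).mpr hmem)
  have hcomap : ξ'.comap (algebraMap B (locB rr B)) = ξ := by
    rw [hmap]
    exact IsLocalization.comap_map_of_isPrime_disjoint (Algebra.algebraMapSubmonoid B rr.primeCompl) _ ‹_› hdis
  haveI : ξ'.LiesOver ξ := ⟨hcomap.symm⟩
  letI : Algebra ξ.ResidueField ξ'.ResidueField :=
    (Ideal.ResidueField.map ξ ξ' (algebraMap B (locB rr B)) hcomap.symm).toAlgebra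
  haveI : IsScalarTower B ξ.ResidueField ξ'.ResidueField := IsScalarTower.of_algebraMap_eq fun b => by
    rw [RingHom.algebraMap_toAlgebra, Ideal.ResidueField.map_algebraMap,
      ← IsScalarTower.algebraMap_apply B (locB rr B) ξ'.ResidueField]
  exact bijective_baseChangeFree α _ _ (bijective_baseChange_of_bijective α ξ.ResidueField _ hbij)

omit [Module R G] [IsScalarTower R B G] in
theorem flat_coker_locB [Module.Finite B G] [Algebra.Smooth R B] [(rr.map (algebraMap R B)).IsPrime]
    (h : DomFib R B) (hbij : Function.Bijective (α.baseChange (rr.map (algebraMap R B)).ResidueField))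
    [Module.Flat (Localization.AtPrime rr) (locB rr B ⊗[B] G)] :
    Function.Injective (α.baseChange (locB rr B)) ∧
      Module.Flat (Localization.AtPrime rr) (locB rr B ⊗[B] (G ⧸ LinearMap.range α)) := by
  exact step_residue_baseChange α (Localization.AtPrime rr) (locB rr B) (h.baseChange _)
    fun ξ' _ hξ' => bijective_residue_locB α rr h hbij ξ' hξ'

omit [Module R G] [IsScalarTower R B G] in
/-- A basic open meeting the fibre over `rr` on which `α` is bijective. -/
theorem exists_bijective_away [Module.Finite B G] [Module.FinitePresentation B G] [Algebra.Smooth R B]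
    [(rr.map (algebraMap R B)).IsPrime] (h : DomFib R B)
    (hbij : Function.Bijective (α.baseChange (rr.map (algebraMap R B)).ResidueField))
    (hinj : Function.Injective (α.baseChange (locB rr B))) :
    ∃ t : B, t ∉ rr.map (algebraMap R B) ∧ Function.Bijective (α.baseChange (Localization.Away t)) := by
  let ξ := rr.map (algebraMap R B)
  haveI := liesOver_map rr h
  let S := ξ.primeCompl
  let fP := LocalizedModule.mkLinearMap S (Fin r → B)
  let fG := LocalizedModule.mkLinearMap S G
  have hloc : Function.Bijective (IsLocalizedModule.map S fP fG α) := by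
    refine ⟨(injective_iff_map_eq_zero _).mpr fun x hx => ?_, fun x => ?_⟩
    · obtain ⟨⟨v, s⟩, hs⟩ := IsLocalizedModule.surj S fP x
      have h1 : fG (α v) = 0 := by
        rw [← IsLocalizedModule.map_apply S fP fG α, ← hs, Submonoid.smul_def, map_smul, hx, smul_zero]
      obtain ⟨⟨c, hc⟩, hcv⟩ := (IsLocalizedModule.eq_zero_iff S fG).mp h1
      have h2 : (1 : locB rr B) ⊗ₜ[B] (c • v) = 0 := hinj (by
        rw [LinearMap.baseChange_tmul, map_smul, show c • α v = 0 from hcv, TensorProduct.tmul_zero, map_zero])
      haveI := (isLocalizedModule_iff_isBaseChange rr.primeCompl (Localization.AtPrime rr) _).mpr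
        (isBaseChange_mk_of_isPushout (A := R) (D := B) (Localization.AtPrime rr) (locB rr B) (Fin r → B))
      obtain ⟨⟨t, ht⟩, htv⟩ := (IsLocalizedModule.eq_zero_iff rr.primeCompl
        ((TensorProduct.mk B (locB rr B) (Fin r → B) 1).restrictScalars R)).mp h2
      have h3 : fP v = 0 := (IsLocalizedModule.eq_zero_iff S fP).mpr
        ⟨⟨algebraMap R B t, fun hm => ht ((Ideal.mem_of_liesOver ξ rr t).mpr hm)⟩ * ⟨c, hc⟩, by
          rw [mul_smul]
          show algebraMap R B t • c • v = 0
          rw [algebraMap_smul]
          exact htv⟩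
      rw [h3] at hs
      exact IsLocalizedModule.smul_injective fP s (hs.trans (smul_zero _).symm)
    · obtain ⟨⟨m, s⟩, hs⟩ := IsLocalizedModule.surj S fG x
      obtain ⟨t, ht, v, hv⟩ := exists_smul_mem_range α hbij.surjective m
      let ts : S := ⟨t, ht⟩ * s
      refine ⟨IsLocalizedModule.mk' fP v ts, IsLocalizedModule.smul_injective fG ts ?_⟩
      show ts • IsLocalizedModule.map S fP fG α (IsLocalizedModule.mk' fP v ts) = ts • x
      rw [Submonoid.smul_def, ← map_smul, ← Submonoid.smul_def, IsLocalizedModule.mk'_cancel', IsLocalizedModule.map_apply,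
        hv, map_smul, ← hs, mul_smul]
      rfl
  obtain ⟨t, ht, hb⟩ := Module.FinitePresentation.exists_notMem_bijective α ξ fP fG hloc
  exact ⟨t, ht, bijective_baseChange_of_localized α t hb⟩

end Local

/-- A basic open of the base over which `t` is nonzero on every fibre. -/
theorem exists_base_open [Algebra.Smooth R B] (rr : Ideal R) [rr.IsPrime] (h : DomFib R B) {t : B}
    (ht : t ∉ rr.map (algebraMap R B)) [(rr.map (algebraMap R B)).IsPrime] :
    ∃ f ∉ rr, ∀ (K : Type u) [Field K] [Algebra R K], algebraMap R K f ≠ 0 → (1 : K) ⊗ₜ[R] t ≠ 0 := by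
  haveI := liesOver_map rr h
  haveI : Module.Flat R B := Algebra.Smooth.flat R B
  have hopen := (PrimeSpectrum.isOpenMap_comap_of_hasGoingDown_of_finitePresentation (R := R) (S := B))
    _ (PrimeSpectrum.basicOpen t).isOpen
  have hmem : (⟨rr, inferInstance⟩ : PrimeSpectrum R) ∈
      PrimeSpectrum.comap (algebraMap R B) '' (PrimeSpectrum.basicOpen t : Set (PrimeSpectrum B)) :=
    ⟨⟨rr.map (algebraMap R B), inferInstance⟩, ht,
      PrimeSpectrum.ext (Ideal.LiesOver.over (P := rr.map (algebraMap R B)) (p := rr)).symm⟩
  obtain ⟨_, ⟨f, rfl⟩, hf, hsub⟩ := PrimeSpectrum.isTopologicalBasis_basic_opens.exists_subset_of_mem_open hmem hopen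
  refine ⟨f, hf, fun K _ _ hfK h0 => ?_⟩
  let p : Ideal R := RingHom.ker (algebraMap R K)
  haveI : p.IsPrime := RingHom.ker_isPrime _
  obtain ⟨Q, hQt, hQ⟩ := hsub (show (⟨p, inferInstance⟩ : PrimeSpectrum R) ∈ PrimeSpectrum.basicOpen f from hfK)
  haveI : Q.asIdeal.LiesOver p := ⟨(congrArg PrimeSpectrum.asIdeal hQ).symm⟩
  let j : p.ResidueField →ₐ[R] K := Ideal.ResidueField.liftₐ p (Algebra.ofId R K) le_rfl fun x hx => by
    exact isUnit_iff_ne_zero.mpr fun h' => hx h'
  have hj : Function.Injective (j.toLinearMap.rTensor B) :=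
    Module.Flat.rTensor_preserves_injective_linearMap j.toLinearMap j.toRingHom.injective
  have h1 : ((1 : p.ResidueField) ⊗ₜ[R] t : p.Fiber B) = 0 := hj (by
    rw [LinearMap.rTensor_tmul, map_zero, AlgHom.toLinearMap_apply, map_one]
    exact h0)
  let φ : p.Fiber B →ₐ[R] Q.asIdeal.ResidueField :=
    Algebra.TensorProduct.lift (Ideal.ResidueField.mapₐ p Q.asIdeal (Algebra.ofId R B) (Ideal.LiesOver.over (P := Q.asIdeal) (p := p)))
      (IsScalarTower.toAlgHom R B Q.asIdeal.ResidueField) fun _ _ => Commute.all _ _
  have h2 := congrArg φ h1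
  rw [map_zero, Algebra.TensorProduct.lift_tmul, map_one, one_mul] at h2
  exact hQt (Ideal.algebraMap_residueField_eq_zero.mp h2)

end Groth.L20.RG
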