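import Groth.Agent.L20.RG.Extend
import Groth.Agent.L20.RG.Devissage
import Groth.Agent.L20.RG.Spread
import Groth.Agent.L20.FiberAss
import Groth.Agent.L20.FibreSupport

/-!
# Existence of dévissages by induction on the dimension of the support
-/

set_option autoImplicit false
set_option linter.style.haveILetI false
set_option backward.isDefEq.respectTransparency.types false
universe u

open TensorProduct

noncomputable section

namespace Groth.L20.RG

attribute [local instance] Algebra.TensorProduct.rightAlgebra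

/-- A dévissage exists after passing to elementary étale neighbourhoods. -/
def HasDev (R S N : Type u) [CommRing R] [CommRing S] [Algebra R S] [AddCommGroup N] [Module S N]
    (p : Ideal R) [p.IsPrime] (q : Ideal S) [q.IsPrime] : Prop :=
  ∃ (R' S' : Type u) (_ : CommRing R') (_ : CommRing S') (_ : Algebra R R') (_ : Algebra S S') (_ : Algebra R' S')
    (_ : Algebra R S') (_ : IsScalarTower R R' S') (_ : IsScalarTower R S S')
    (p' : Ideal R') (q' : Ideal S') (_ : p'.IsPrime) (_ : q'.IsPrime),
    FlatCA.IsEtaleNhd R R' p p' ∧ FlatCA.IsEtaleNhd S S' q q' ∧ q'.LiesOver p' ∧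
    ∀ (N' : Type u) [AddCommGroup N'] [Module S' N'] [Module S N'] [IsScalarTower S S' N'] (f : N →ₗ[S] N'),
      IsBaseChange S' f → Dev R' p' S' N' q'

/-- Transport along elementary étale neighbourhoods. -/
theorem HasDev.of_nhd {R S N : Type u} [CommRing R] [CommRing S] [Algebra R S] [AddCommGroup N] [Module S N]
    {p : Ideal R} [p.IsPrime] {q : Ideal S} [q.IsPrime] {R₁ S₁ : Type u} [CommRing R₁] [CommRing S₁] [Algebra R R₁]
    [Algebra S S₁] [Algebra R₁ S₁] [Algebra R S₁] [IsScalarTower R R₁ S₁] [IsScalarTower R S S₁]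
    {p₁ : Ideal R₁} [p₁.IsPrime] {q₁ : Ideal S₁} [q₁.IsPrime] (hp : FlatCA.IsEtaleNhd R R₁ p p₁)
    (hq : FlatCA.IsEtaleNhd S S₁ q q₁) {N₁ : Type u} [AddCommGroup N₁] [Module S₁ N₁] [Module S N₁]
    [IsScalarTower S S₁ N₁] (f₁ : N →ₗ[S] N₁) (hf₁ : IsBaseChange S₁ f₁) (h : HasDev R₁ S₁ N₁ p₁ q₁) :
    HasDev R S N p q := by
  obtain ⟨R', S', _, _, _, _, _, _, _, _, p', q', _, _, hp', hq', hqp, H⟩ := h
  letI : Algebra R R' := ((algebraMap R₁ R').comp (algebraMap R R₁)).toAlgebra
  haveI : IsScalarTower R R₁ R' := IsScalarTower.of_algebraMap_eq' rfl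
  letI : Algebra S S' := ((algebraMap S₁ S').comp (algebraMap S S₁)).toAlgebra
  haveI : IsScalarTower S S₁ S' := IsScalarTower.of_algebraMap_eq' rfl
  letI : Algebra R S' := ((algebraMap R' S').comp (algebraMap R R')).toAlgebra
  haveI : IsScalarTower R R' S' := IsScalarTower.of_algebraMap_eq' rfl
  haveI : IsScalarTower R S S' := IsScalarTower.of_algebraMap_eq fun r => by
    rw [IsScalarTower.algebraMap_apply R R' S', IsScalarTower.algebraMap_apply R R₁ R',
      ← IsScalarTower.algebraMap_apply R₁ R' S', IsScalarTower.algebraMap_apply R₁ S₁ S',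
      ← IsScalarTower.algebraMap_apply R R₁ S₁, IsScalarTower.algebraMap_apply R S S₁,
      ← IsScalarTower.algebraMap_apply S S₁ S']
  refine ⟨R', S', inferInstance, inferInstance, inferInstance, inferInstance, inferInstance, inferInstance,
    inferInstance, inferInstance, p', q', inferInstance, inferInstance, isEtaleNhd_trans hp hp',
    isEtaleNhd_trans hq hq', hqp, ?_⟩
  intro N' _ _ _ _ f hf
  letI : Module S₁ N' := Module.compHom N' (algebraMap S₁ S')
  haveI : IsScalarTower S₁ S' N' := IsScalarTower.of_algebraMap_smul fun _ _ => rfl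
  haveI : IsScalarTower S S₁ N' := IsScalarTower.of_algebraMap_smul fun s m => by
    show algebraMap S₁ S' (algebraMap S S₁ s) • m = s • m
    rw [← IsScalarTower.algebraMap_apply, algebraMap_smul]
  refine H N' (hf₁.lift f) (IsBaseChange.of_comp hf₁ ?_)
  have : (hf₁.lift f).restrictScalars S ∘ₗ f₁ = f := hf₁.lift_comp f
  rw [this]
  exact hf

/-- The dimension of the support as a space. -/
theorem topologicalKrullDim_support (F M : Type u) [CommRing F] [AddCommGroup M] [Module F M] [Module.Finite F M] :
    topologicalKrullDim (Module.support F M) = Module.supportDim F M := by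
  rw [Module.supportDim_eq_ringKrullDim_quotient_annihilator,
    ← PrimeSpectrum.topologicalKrullDim_eq_ringKrullDim]
  let I : Ideal F := Module.annihilator F M
  have hrange : Set.range (PrimeSpectrum.comap (Ideal.Quotient.mk I)) = Module.support F M := by
    rw [range_comap_of_surjective _ _ Ideal.Quotient.mk_surjective, Ideal.mk_ker, Module.support_eq_zeroLocus]
  let e := (PrimeSpectrum.isClosedEmbedding_comap_of_surjective _ (Ideal.Quotient.mk I)
    Ideal.Quotient.mk_surjective).isEmbedding.toHomeomorph.trans (Homeomorph.setCongr hrange)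
  exact (IsHomeomorph.topologicalKrullDim_eq e e.isHomeomorph).symm

section Dim

variable {R S : Type u} [CommRing R] [CommRing S] [Algebra R S] (N : Type u) [AddCommGroup N] [Module S N]
  [Module R N] [IsScalarTower R S N] [Module.Finite S N] (p : Ideal R) [p.IsPrime]

/-- The point of the fibre in the support. -/
theorem exists_mem_support (q : Ideal S) [q.IsPrime] [q.LiesOver p]
    (hq : (⟨q, inferInstance⟩ : PrimeSpectrum S) ∈ Module.support S N) :
    ∃ (x : PrimeSpectrum (p.Fiber S)), x.asIdeal = FlatCA.fiberIdeal p q ∧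
      x ∈ Module.support (p.Fiber S) (FlatCA.fiberMod p S N) := by
  refine ⟨⟨_, Groth.L20.isPrime_fiberIdeal p q⟩, rfl, ?_⟩
  refine (Groth.L20.FibreSupport.mem_support_baseChange S (p.Fiber S) N _).mpr ?_
  convert hq using 1
  exact PrimeSpectrum.ext (Groth.L20.comap_fiberIdeal p q)

/-- The local dimension of the support is at most its dimension. -/
theorem localDim_support_le (x : Module.support (p.Fiber S) (FlatCA.fiberMod p S N)) :
    FlatMor.localDim (Module.support (p.Fiber S) (FlatCA.fiberMod p S N)) x ≤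
        Module.supportDim (p.Fiber S) (FlatCA.fiberMod p S N) ∧
      0 ≤ FlatMor.localDim (Module.support (p.Fiber S) (FlatCA.fiberMod p S N)) x := by
  constructor
  · exact (iInf_le_of_le ⟨⊤, trivial⟩ (topologicalKrullDim_subspace_le _ _)).trans
      (topologicalKrullDim_support _ _).le
  · refine le_iInf fun U => ?_
    haveI : Nonempty (TopologicalSpace.IrreducibleCloseds (U.1 : Set (Module.support (p.Fiber S) (FlatCA.fiberMod p S N)))) :=
      ⟨⟨closure {⟨x, U.2⟩}, isIrreducible_singleton.closure, isClosed_closure⟩⟩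
    exact Order.krullDim_nonneg

/-- The fibre has finite dimension. -/
theorem exists_supportDim_lt [Algebra.FiniteType R S] :
    ∃ n : ℕ, Module.supportDim (p.Fiber S) (FlatCA.fiberMod p S N) < (n : WithBot ℕ∞) := by
  obtain ⟨k, φ, hφ⟩ := Algebra.FiniteType.iff_quotient_mvPolynomial''.mp
    (inferInstance : Algebra.FiniteType p.ResidueField (p.Fiber S))
  refine ⟨k + 1, lt_of_le_of_lt ((Module.supportDim_le_ringKrullDim _ _).trans
    (ringKrullDim_le_of_surjective φ.toRingHom hφ)) ?_⟩
  rw [MvPolynomial.ringKrullDim_of_isNoetherianRing, ringKrullDim_eq_zero_of_field, zero_add, Nat.card_fin]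
  exact_mod_cast Nat.lt_succ_self k

end Dim

/-- A finite module killed at a prime. -/
theorem exists_smul_eq_zero_of_subsingleton {D G : Type u} [CommRing D] [AddCommGroup G] [Module D G] [Module.Finite D G]
    (ξ : Ideal D) [ξ.IsPrime] (h : Subsingleton (ξ.ResidueField ⊗[D] G)) (m : G) : ∃ t ∉ ξ, t • m = 0 := by
  have : (⟨ξ, inferInstance⟩ : PrimeSpectrum D) ∉ Module.support D G := by
    rw [Module.mem_support_iff_nontrivial_residueField_tensorProduct, not_nontrivial_iff_subsingleton]
    exact h
  exact Module.notMem_support_iff'.mp this m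

/-- A map from a free module which is bijective at a prime. -/
theorem exists_bijective_residueField {D G : Type u} [CommRing D] [AddCommGroup G] [Module D G] [Module.Finite D G]
    (ξ : Ideal D) [ξ.IsPrime] :
    ∃ (r : ℕ) (α : (Fin r → D) →ₗ[D] G), Function.Bijective (α.baseChange ξ.ResidueField) ∧
      (r = 0 → Subsingleton (ξ.ResidueField ⊗[D] G)) := by
  classical
  let κ := ξ.ResidueField
  obtain ⟨s, hs, hspan, hli⟩ := exists_linearIndependent κ (Set.range fun g : G => (1 : κ) ⊗ₜ[D] g)
  have htop : Submodule.span κ (Set.range fun g : G => (1 : κ) ⊗ₜ[D] g) = ⊤ := by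
    rw [eq_top_iff]
    intro x hx
    clear hx
    induction x using TensorProduct.induction_on with
    | zero => exact zero_mem _
    | add a b ha hb => exact add_mem ha hb
    | tmul c g =>
      rw [show c ⊗ₜ[D] g = c • ((1 : κ) ⊗ₜ[D] g) by rw [TensorProduct.smul_tmul', smul_eq_mul, mul_one]]
      exact Submodule.smul_mem _ _ (Submodule.subset_span ⟨g, rfl⟩)
  let b₀ : Module.Basis s κ (κ ⊗[D] G) := Module.Basis.mk hli (by
    rw [Subtype.range_coe_subtype, Set.setOf_mem_eq, hspan, htop])
  haveI : Finite s := Module.Finite.finite_basis b₀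
  haveI := Fintype.ofFinite s
  let b := b₀.reindex (Fintype.equivFin s)
  choose g hg using fun i : Fin (Fintype.card s) => hs ((Fintype.equivFin s).symm i).2
  simp only at hg
  refine ⟨Fintype.card s, (Pi.basisFun D (Fin (Fintype.card s))).constr D g, ?_, fun h0 => ?_⟩
  · let e := (TensorProduct.piScalarRight D κ κ (Fin (Fintype.card s))).trans b.equivFun.symm
    convert e.bijective
    funext x
    refine LinearMap.congr_fun (f := ((Pi.basisFun D (Fin (Fintype.card s))).constr D g).baseChange κ)
      (g := e.toLinearMap) ?_ x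
    refine ((Pi.basisFun D (Fin (Fintype.card s))).baseChange κ).ext fun i => ?_
    rw [Module.Basis.baseChange_apply, LinearMap.baseChange_tmul, Module.Basis.constr_basis, hg]
    have : e ((1 : κ) ⊗ₜ[D] Pi.basisFun D (Fin (Fintype.card s)) i) = b i := by
      rw [LinearEquiv.trans_apply, LinearEquiv.symm_apply_eq]
      ext j
      simp [Pi.single_apply, Finsupp.single_apply, eq_comm]
    refine Eq.trans ?_ this.symm
    simp [b, b₀]
  · haveI : IsEmpty s := Fintype.card_eq_zero_iff.mp h0
    exact b₀.repr.toEquiv.subsingleton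

section Algebra

/-- A localisation inside a localisation. -/
theorem exists_away_of_dvd {X : Type u} [CommRing X] (v h : X) (hd : v ∣ h) :
    ∃ (c : X) (B : Type u) (_ : CommRing B) (_ : Algebra (Localization.Away v) B) (_ : Algebra X B)
      (_ : IsScalarTower X (Localization.Away v) B),
      IsLocalization.Away (algebraMap X (Localization.Away v) c) B ∧ IsLocalization.Away h B := by
  obtain ⟨c, rfl⟩ := hd
  exact ⟨c, Localization.Away (algebraMap X (Localization.Away v) c), inferInstance, inferInstance, inferInstance,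
    inferInstance, inferInstance, IsLocalization.Away.mul' (Localization.Away v) _ v c⟩

theorem exists_prime_of_isLocalization {X P : Type u} [CommRing X] [CommRing P] [Algebra X P] {h : X}
    [IsLocalization.Away h P] (y : Ideal X) [y.IsPrime] (hy : h ∉ y) :
    ∃ (y' : Ideal P) (_ : y'.IsPrime), y'.LiesOver y ∧ TrivRes X y y' := by
  have hd : Disjoint (Submonoid.powers h : Set X) ↑y := (Ideal.disjoint_powers_iff_notMem_of_isPrime h).mpr hy
  haveI := IsLocalization.isPrime_of_isPrime_disjoint (Submonoid.powers h) P _ ‹_› hd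
  haveI := IsLocalization.liesOver_map_of_isPrime_disjoint (Submonoid.powers h) P (I := y) hd
  exact ⟨y.map (algebraMap X P), inferInstance, inferInstance, inferInstance,
    (RingHom.surjectiveOnStalks_of_isLocalization (Submonoid.powers h) P).residueFieldMap_bijective _ _ _⟩

end Algebra

set_option maxHeartbeats 400000 in
/-- A dévissage over a neighbourhood which is étale over affine space. -/
theorem exists_standard_nhd {R D : Type u} [CommRing R] [CommRing D] [Algebra R D] [Algebra.Smooth R D]
    (Q : Type u) [AddCommGroup Q] [Module D Q] (p : Ideal R) [p.IsPrime] (y : Ideal D) [y.IsPrime] [y.LiesOver p]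
    (h : HasDev R D Q p y) :
    ∃ (R₂ : Type u) (_ : CommRing R₂) (_ : Algebra R R₂) (p₂ : Ideal R₂) (_ : p₂.IsPrime),
      FlatCA.IsEtaleNhd R R₂ p p₂ ∧
    ∃ (k : ℕ) (P : Type u) (_ : CommRing P) (_ : Algebra R₂ P) (_ : Algebra (MvPolynomial (Fin k) R₂) P)
      (_ : IsScalarTower R₂ (MvPolynomial (Fin k) R₂) P) (_ : Algebra R P) (_ : IsScalarTower R R₂ P)
      (_ : Algebra D P) (_ : IsScalarTower R D P) (yP : Ideal P) (_ : yP.IsPrime) (_ : yP.LiesOver p₂),
      Algebra.Etale D P ∧ Algebra.Etale (MvPolynomial (Fin k) R₂) P ∧ TrivRes D y yP ∧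
        Dev R₂ p₂ P (P ⊗[D] Q) yP := by
  obtain ⟨R₂, D₂, _, _, _, _, _, _, _, _, p₂, y₂, _, _, hp₂, hy₂, hy₂p, H⟩ := h
  haveI := hp₂.1
  haveI := hy₂.1
  haveI := hy₂p
  haveI : Algebra.Smooth R D₂ := Algebra.Smooth.comp R D D₂
  haveI : Algebra.Smooth R₂ D₂ := smooth_over_etale R R₂ D₂
  have hdev₂ := H (D₂ ⊗[D] Q) (TensorProduct.mk D D₂ Q 1) (TensorProduct.isBaseChange D Q D₂)
  obtain ⟨v, hv, hstd⟩ := Algebra.IsSmoothAt.exists_notMem_isStandardSmooth R₂ y₂
  haveI := hstd
  obtain ⟨h, hh, hvh, Hh⟩ := hdev₂.shrink v hv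
  obtain ⟨c, P, _, _, _, _, hcv, hc⟩ := exists_away_of_dvd v h hvh
  haveI := hcv
  haveI := hc
  letI : Algebra R₂ P := ((algebraMap D₂ P).comp (algebraMap R₂ D₂)).toAlgebra
  haveI : IsScalarTower R₂ D₂ P := IsScalarTower.of_algebraMap_eq' rfl
  haveI : IsScalarTower R₂ (Localization.Away v) P := IsScalarTower.of_algebraMap_eq fun x => by
    rw [IsScalarTower.algebraMap_apply R₂ D₂ P, IsScalarTower.algebraMap_apply D₂ (Localization.Away v) P,
      ← IsScalarTower.algebraMap_apply R₂ D₂ (Localization.Away v)]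
  letI : Algebra D P := ((algebraMap D₂ P).comp (algebraMap D D₂)).toAlgebra
  haveI : IsScalarTower D D₂ P := IsScalarTower.of_algebraMap_eq' rfl
  letI : Algebra R P := ((algebraMap D₂ P).comp (algebraMap R D₂)).toAlgebra
  haveI : IsScalarTower R D₂ P := IsScalarTower.of_algebraMap_eq' rfl
  obtain ⟨g₂, hg₂⟩ := exists_isBaseChange_tensor D D₂ P Q
  obtain ⟨yP, _, hyP, hyPt⟩ := exists_prime_of_isLocalization (P := P) y₂ hh
  haveI := hyP
  haveI : yP.LiesOver p₂ := Ideal.LiesOver.trans yP y₂ p₂
  have hdevP : Dev R₂ p₂ P (P ⊗[D] Q) yP := Hh P (P ⊗[D] Q) g₂ hg₂ yP hyP.over.symm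
  haveI : Algebra.Etale D₂ P := Algebra.Etale.of_isLocalizationAway h
  haveI : Algebra.IsStandardSmooth (Localization.Away v) P :=
    Algebra.IsStandardSmooth.localization_away (algebraMap D₂ (Localization.Away v) c)
  haveI : Algebra.IsStandardSmooth R₂ P := Algebra.IsStandardSmooth.trans R₂ (Localization.Away v) P
  obtain ⟨k, φ, hφC, hφ⟩ := RingHom.IsStandardSmooth.exists_etale_mvPolynomial
    (f := algebraMap R₂ P) (by rwa [RingHom.isStandardSmooth_algebraMap])
  letI : Algebra (MvPolynomial (Fin k) R₂) P := φ.toAlgebra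
  haveI : Algebra.Etale (MvPolynomial (Fin k) R₂) P := hφ
  have t1 : IsScalarTower R D P := IsScalarTower.of_algebraMap_eq fun r => by
    rw [IsScalarTower.algebraMap_apply R D₂ P, IsScalarTower.algebraMap_apply R D D₂,
      ← IsScalarTower.algebraMap_apply D D₂ P]
  have t2 : IsScalarTower R R₂ P := IsScalarTower.of_algebraMap_eq fun r => by
    rw [IsScalarTower.algebraMap_apply R D₂ P, IsScalarTower.algebraMap_apply R R₂ D₂,
      ← IsScalarTower.algebraMap_apply R₂ D₂ P]
  exact ⟨R₂, inferInstance, inferInstance, p₂, inferInstance, hp₂, k, P, inferInstance, inferInstance, inferInstance,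
    IsScalarTower.of_algebraMap_eq' hφC.symm, inferInstance, t2, inferInstance, t1, yP, inferInstance, inferInstance,
    Algebra.Etale.comp D D₂ P, inferInstance, TrivRes.trans hy₂.2 hyPt, hdevP⟩

set_option maxHeartbeats 400000 in
/-- The neighbourhood of the smooth algebra at a point of the support of the cokernel. -/
theorem exists_nhd_of_hasDev {R D : Type u} [CommRing R] [CommRing D] [Algebra R D] [Algebra.Smooth R D]
    (Q : Type u) [AddCommGroup Q] [Module D Q] (p : Ideal R) [p.IsPrime] (y : Ideal D) [y.IsPrime] [y.LiesOver p]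
    (hpure : FlatCA.PurelyTranscendental p y) (h : HasDev R D Q p y) :
    ∃ (R' : Type u) (_ : CommRing R') (_ : Algebra R R') (p' : Ideal R') (_ : p'.IsPrime),
      FlatCA.IsEtaleNhd R R' p p' ∧
    ∃ (B' : Type u) (_ : CommRing B') (_ : Algebra R' B') (_ : Algebra D B') (_ : Algebra R B')
      (_ : IsScalarTower R R' B') (_ : IsScalarTower R D B') (_ : Algebra.Etale D B') (y' : Ideal B') (_ : y'.IsPrime)
      (_ : y'.LiesOver p'), TrivRes D y y' ∧ ∃ d, FlatCA.SmoothRelDim d R' B' ∧ NZFib R' B' ∧
        Dev R' p' B' (B' ⊗[D] Q) y' := by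
  obtain ⟨R₂, _, _, p₂, _, hp₂, k, P, _, _, _, _, _, _, _, _, yP, _, _, hDP, hPk, htP, hdevP⟩ :=
    exists_standard_nhd Q p y h
  haveI := hDP
  haveI := hPk
  haveI := hp₂.2.1
  haveI := htP.liesOver
  have hpt : FlatCA.PurelyTranscendental p₂ yP := purelyTranscendental_transport hp₂.2 htP hpure
  obtain ⟨R₃, _, _, p₃, _, hp₃, g, hg, hnz⟩ := exists_nzFib_nhd p₂ (n := k) yP hpt
  haveI := hp₃.1
  haveI := hp₃.2.1
  letI : Algebra R R₃ := ((algebraMap R₂ R₃).comp (algebraMap R R₂)).toAlgebra
  haveI : IsScalarTower R R₂ R₃ := IsScalarTower.of_algebraMap_eq' rfl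
  let Y := R₃ ⊗[R₂] P
  letI : Algebra D Y := ((algebraMap P Y).comp (algebraMap D P)).toAlgebra
  haveI : IsScalarTower D P Y := IsScalarTower.of_algebraMap_eq' rfl
  obtain ⟨Qy, _, hQ₃, hQP, hQu⟩ := exists_nbhd_pushout p₂ yP p₃ hp₃
  haveI := hQ₃
  haveI := hQP.1
  haveI := hQP.2.1
  obtain ⟨g₃, hg₃⟩ := exists_isBaseChange_tensor D P Y Q
  have hdevY : Dev R₃ p₃ Y (Y ⊗[D] Q) Qy :=
    hdevP.baseChange hp₃.2 Y (Y ⊗[D] Q) g₃ hg₃ Qy hQP.2.1.over.symm
  have hgQ : g ∉ Qy := hg Qy inferInstance inferInstance
  obtain ⟨h', hh', hgh, Hh'⟩ := hdevY.shrink g hgQ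
  obtain ⟨c', B, _, _, _, _, hcg, hc'⟩ := exists_away_of_dvd g h' hgh
  haveI := hcg
  haveI := hc'
  letI : Algebra R₃ B := ((algebraMap Y B).comp (algebraMap R₃ Y)).toAlgebra
  haveI : IsScalarTower R₃ Y B := IsScalarTower.of_algebraMap_eq' rfl
  haveI : IsScalarTower R₃ (Localization.Away g) B := IsScalarTower.of_algebraMap_eq fun x => by
    rw [IsScalarTower.algebraMap_apply R₃ Y B, IsScalarTower.algebraMap_apply Y (Localization.Away g) B,
      ← IsScalarTower.algebraMap_apply R₃ Y (Localization.Away g)]
  obtain ⟨yB, _, hyB, hyBt⟩ := exists_prime_of_isLocalization (P := B) Qy hh'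
  haveI := hyB
  haveI : yB.LiesOver p₃ := Ideal.LiesOver.trans yB Qy p₃
  letI : Algebra R B := ((algebraMap R₃ B).comp (algebraMap R R₃)).toAlgebra
  haveI : IsScalarTower R R₃ B := IsScalarTower.of_algebraMap_eq' rfl
  letI : Algebra D B := ((algebraMap Y B).comp (algebraMap D Y)).toAlgebra
  haveI : IsScalarTower D Y B := IsScalarTower.of_algebraMap_eq' rfl
  haveI : IsScalarTower R D B := IsScalarTower.of_algebraMap_eq fun r => by
    rw [IsScalarTower.algebraMap_apply R R₃ B, IsScalarTower.algebraMap_apply R₃ Y B,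
      IsScalarTower.algebraMap_apply D Y B, IsScalarTower.algebraMap_apply D P Y,
      ← IsScalarTower.algebraMap_apply R D P, IsScalarTower.algebraMap_apply R R₂ P,
      IsScalarTower.algebraMap_apply R R₂ R₃, ← IsScalarTower.algebraMap_apply R₂ R₃ Y,
      ← IsScalarTower.algebraMap_apply R₂ P Y]
  haveI : Algebra.Etale Y B := Algebra.Etale.of_isLocalizationAway h'
  haveI : Algebra.Etale D Y := Algebra.Etale.comp D P Y
  obtain ⟨g₄, hg₄⟩ := exists_isBaseChange_tensor D Y B Q
  refine ⟨R₃, inferInstance, inferInstance, p₃, inferInstance, isEtaleNhd_trans hp₂ hp₃, B, inferInstance,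
    inferInstance, inferInstance, inferInstance, inferInstance, inferInstance, Algebra.Etale.comp D Y B, yB,
    inferInstance, inferInstance, TrivRes.trans (TrivRes.trans htP hQP.2) hyBt, k,
    smoothRelDim_away h' (smoothRelDim_baseChange (R := R₂) (B := P) (smoothRelDim_of_etale k)),
    hnz.away (algebraMap Y (Localization.Away g) c') B, Hh' B (B ⊗[D] Q) g₄ hg₄ yB hyB.over.symm⟩

set_option maxHeartbeats 800000 in
theorem hasDev_aux : ∀ (n : ℕ) (R S : Type u) [CommRing R] [CommRing S] [Algebra R S] [Algebra.FiniteType R S]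
    (N : Type u) [AddCommGroup N] [Module S N] [Module R N] [IsScalarTower R S N] [Module.Finite S N]
    (p : Ideal R) [p.IsPrime] (q : Ideal S) [q.IsPrime] [q.LiesOver p],
    (⟨q, inferInstance⟩ : PrimeSpectrum S) ∈ Module.support S N →
    Module.supportDim (p.Fiber S) (FlatCA.fiberMod p S N) < (n : WithBot ℕ∞) → HasDev R S N p q := by
  intro n
  induction n with
  | zero =>
    intro R S _ _ _ _ N _ _ _ _ _ p _ q _ _ hq hdim
    obtain ⟨x, hxq, hx⟩ := exists_mem_support N p q hq
    obtain ⟨h1, h2⟩ := localDim_support_le N p ⟨x, hx⟩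
    exact absurd (h2.trans h1) (not_le.mpr (by simpa using hdim))
  | succ n ih =>
    intro R S _ _ _ _ N _ _ _ _ _ p _ q _ _ hq hdim
    obtain ⟨x, hxq, hx⟩ := exists_mem_support N p q hq
    obtain ⟨h1, h2⟩ := localDim_support_le N p ⟨x, hx⟩
    obtain ⟨m, hm, hmn⟩ : ∃ m : ℕ,
        FlatMor.localDim (Module.support (p.Fiber S) (FlatCA.fiberMod p S N)) ⟨x, hx⟩ = m ∧ m ≤ n := by
      have h3 := lt_of_le_of_lt h1 hdim
      revert h2 h3
      generalize FlatMor.localDim (Module.support (p.Fiber S) (FlatCA.fiberMod p S N)) ⟨x, hx⟩ = l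
      intro h2 h3
      cases l with
      | bot => exact absurd h2 (by simp)
      | coe l =>
        cases l with
        | top => exact absurd h3 (by simp)
        | coe m => exact ⟨m, rfl, Nat.lt_succ_iff.mp (by exact_mod_cast h3)⟩
    have hmn' : (m : WithBot ℕ∞) ≤ n := by exact_mod_cast hmn
    obtain ⟨E, _, _, _⟩ := exists_elemDevissage' N p q m x hxq hx hm
    haveI := E.etaleR.1
    haveI := E.etaleS.1
    haveI := E.finiteDC
    haveI := E.finiteG
    haveI := E.fpC
    haveI : Module.Finite E.D E.G := Module.Finite.trans E.C E.G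
    haveI : Algebra.Smooth E.R' E.D := smooth_of_relDim E.smooth
    have hdom : DomFib E.R' E.D := DomFib.of_geomIntegralFibres E.geomInt
    obtain ⟨hξp, hξ0⟩ := isPrime_map_of_nzFib hdom.nzFib (p := E.p') E.y
    haveI := hξp
    haveI : Algebra.FiniteType R E.S' := Algebra.FiniteType.trans (R := R) (S := S) (A := E.S') inferInstance inferInstance
    haveI : Algebra.FiniteType E.R' E.S' := Algebra.FiniteType.of_restrictScalars_finiteType R E.R' E.S'
    letI : Module E.R' E.N' := Module.compHom E.N' (algebraMap E.R' E.S')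
    haveI : IsScalarTower E.R' E.S' E.N' := IsScalarTower.of_algebraMap_smul fun _ _ => rfl
    haveI : Module.Finite E.S' E.N' := Module.Finite.equiv E.isBaseChange.equiv
    haveI : Module.Finite E.S' E.G := Module.Finite.equiv E.iso
    haveI := (show Algebra.IsIntegral E.S' E.C from
      haveI : Module.Finite E.S' E.C := Module.Finite.of_surjective (Algebra.linearMap E.S' E.C) E.surjC
      Algebra.IsIntegral.of_finite E.S' E.C)
    haveI : IsScalarTower E.R' E.S' E.G := IsScalarTower.of_algebraMap_smul fun r g => by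
      rw [← algebraMap_smul E.C (algebraMap E.R' E.S' r) g, ← IsScalarTower.algebraMap_apply, algebraMap_smul]
    refine HasDev.of_nhd E.etaleR E.etaleS E.f E.isBaseChange ?_
    obtain ⟨r, α, hα, hr0⟩ := exists_bijective_residueField (G := E.G) (E.p'.map (algebraMap E.R' E.D))
    by_cases hr : r = 0
    · -- the module is already small
      have hlt := supportDim_fiberMod_lt E.p' E.smooth hdom E.G
        (exists_smul_eq_zero_of_subsingleton _ (hr0 hr))
      refine ih E.R' E.S' E.N' E.p' E.q' ?_ ?_
      · have hQ : (⟨E.q', inferInstance⟩ : PrimeSpectrum E.S') ∈ Module.support E.S' (E.S' ⊗[S] N) :=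
          (Groth.L20.FibreSupport.mem_support_baseChange S E.S' N _).mpr (by
            convert hq using 1
            exact PrimeSpectrum.ext E.etaleS.2.1.over.symm)
        rwa [LinearEquiv.support_eq E.isBaseChange.equiv] at hQ
      · have e1 : Module.supportDim (E.p'.Fiber E.S') (FlatCA.fiberMod E.p' E.S' E.N') =
            Module.supportDim (E.p'.Fiber E.S') (FlatCA.fiberMod E.p' E.S' E.G) :=
          Module.supportDim_eq_of_equiv (E.iso.baseChange E.S' (E.p'.Fiber E.S') _ _)
        rw [e1, supportDim_fiberMod (C := E.C) E.p' E.G, ← supportDim_fiberMod (S := E.D) (C := E.C) E.p' E.G]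
        exact lt_of_lt_of_le hlt hmn'
    · let st : Step E.R' E.p' E.S' E.N' E.q' := {
        A := E.C
        B := E.D
        M := E.G
        d := m
        r := r
        α := α
        y := E.y
        z := E.z
        r_pos := Nat.pos_of_ne_zero hr
        surj := E.surjC
        fp := E.fpC
        finBA := E.finiteDC
        finM := E.finiteG
        iso := E.iso
        relDim := E.smooth
        nz := hdom.nzFib
        pure := E.pureTrans
        uniq := E.uniq
        zq := E.zOver.over.symm
        bij := fun K _ _ hK => by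
          let ξ := E.p'.map (algebraMap E.R' E.D)
          let j : ξ.ResidueField →ₐ[E.D] K := Ideal.ResidueField.liftₐ ξ (Algebra.ofId E.D K) hK.ge
            (fun a ha => isUnit_iff_ne_zero.mpr fun h => ha (hK.le (RingHom.mem_ker.mpr h)))
          letI := j.toRingHom.toAlgebra
          haveI : IsScalarTower E.D ξ.ResidueField K := IsScalarTower.of_algebraMap_eq fun a => (j.commutes a).symm
          exact bijective_baseChange_of_bijective α ξ.ResidueField K hα }
      haveI : Subsingleton ((E.p'.map (algebraMap E.R' E.D)).ResidueField ⊗[E.D] (E.G ⧸ LinearMap.range α)) := by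
        have hz : Function.Surjective ((LinearMap.range α).mkQ.baseChange (E.p'.map (algebraMap E.R' E.D)).ResidueField) :=
          LinearMap.lTensor_surjective _ (Submodule.mkQ_surjective _)
        refine subsingleton_of_forall_eq 0 fun w => ?_
        obtain ⟨w, rfl⟩ := hz w
        obtain ⟨w, rfl⟩ := hα.2 w
        rw [← LinearMap.comp_apply, ← LinearMap.baseChange_comp, show (LinearMap.range α).mkQ ∘ₗ α = 0 from
          LinearMap.ext fun v => (Submodule.Quotient.mk_eq_zero _).mpr ⟨v, rfl⟩, LinearMap.baseChange_zero,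
          LinearMap.zero_apply]
      have hkill := exists_smul_eq_zero_of_subsingleton (G := E.G ⧸ LinearMap.range α) _ this
      have hlt := supportDim_fiberMod_lt E.p' E.smooth hdom (E.G ⧸ LinearMap.range α) hkill
      by_cases hy : (⟨E.y, inferInstance⟩ : PrimeSpectrum E.D) ∈ Module.support E.D (E.G ⧸ LinearMap.range α)
      · obtain ⟨R', _, _, p', _, hp', B', _, _, _, _, _, _, _, y', _, _, hy', d, hd, hnz, hdev⟩ :=
          exists_nhd_of_hasDev (E.G ⧸ LinearMap.range α) E.p' E.y E.pureTrans
            (ih E.R' E.D (E.G ⧸ LinearMap.range α) E.p' E.y hy (lt_of_lt_of_le hlt hmn'))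
        haveI := hp'.1
        obtain ⟨S', _, _, _, _, _, _, q', _, hq', hqp, H⟩ :=
          st.exists_extend p' hp'.2 B' y' hy' hd hnz (Or.inr hdev)
        exact ⟨R', S', inferInstance, inferInstance, inferInstance, inferInstance, inferInstance, inferInstance,
          inferInstance, inferInstance, p', q', inferInstance, inferInstance, hp', hq', hqp, H⟩
      · obtain ⟨v, hv, hsub⟩ : ∃ v ∉ E.y, Subsingleton (LocalizedModule (Submonoid.powers v) (E.G ⧸ LinearMap.range α)) :=
          haveI := Module.notMem_support_iff.mp hy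
          LocalizedModule.exists_subsingleton_away (M := E.G ⧸ LinearMap.range α) E.y
        obtain ⟨yB, _, hyB, hyBt⟩ := exists_prime_of_isLocalization (P := Localization.Away v) E.y hv
        haveI := hyB
        haveI : yB.LiesOver E.p' := Ideal.LiesOver.trans yB E.y E.p'
        haveI : Algebra.Etale E.D (Localization.Away v) := Algebra.Etale.of_isLocalizationAway v
        have hsub' : Subsingleton (Localization.Away v ⊗[E.D] (E.G ⧸ LinearMap.range α)) :=
          haveI := hsub
          (LocalizedModule.equivTensorProduct (Submonoid.powers v) (E.G ⧸ LinearMap.range α)).symm.toEquiv.subsingleton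
        obtain ⟨S', i1, i2, i3, i4, i5, i6, q', _, hq', hqp, H⟩ :=
          st.exists_extend E.p' (trivRes_id E.p') (Localization.Away v) yB hyBt (smoothRelDim_away v E.smooth)
            (hdom.nzFib.away v (Localization.Away v)) (Or.inl hsub')
        exact ⟨E.R', S', inferInstance, i1, inferInstance, i2, i3, i4,
          i5, i6, E.p', q', inferInstance, inferInstance,
          ⟨inferInstance, trivRes_id E.p'⟩, hq', hqp, H⟩

/-- **Existence of dévissages** at every point of the support. -/
theorem exists_hasDev {R S : Type u} [CommRing R] [CommRing S] [Algebra R S] [Algebra.FiniteType R S]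
    (N : Type u) [AddCommGroup N] [Module S N] [Module R N] [IsScalarTower R S N] [Module.Finite S N]
    (p : Ideal R) [p.IsPrime] (q : Ideal S) [q.IsPrime] [q.LiesOver p]
    (hq : (⟨q, inferInstance⟩ : PrimeSpectrum S) ∈ Module.support S N) : HasDev R S N p q :=
  let ⟨n, hn⟩ := exists_supportDim_lt N p
  hasDev_aux n R S N p q hq hn

end Groth.L20.RG
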