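import Groth.Agent.L20.RG.WeakAssFlat
import Mathlib.RingTheory.LocalProperties.FinitePresentation

/-!
# Openness of the flat locus and finite presentation, given few weakly associated points
-/

set_option autoImplicit false
set_option linter.style.haveILetI false
set_option backward.isDefEq.respectTransparency.types false
universe u

open TensorProduct IsLocalRing

noncomputable section

namespace Groth.L20.RG

open Groth.L03.WeakAss

/-- If the localisation of the target is finitely presented, finitely many elements generate the kernel up to the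
localisation. -/
theorem exists_finset_ker {S X Y : Type u} [CommRing S] [AddCommGroup X] [Module S X] [AddCommGroup Y] [Module S Y]
    [Module.Finite S X] (π : X →ₗ[S] Y) (hπ : Function.Surjective π) (T : Submonoid S)
    (hfp : Module.FinitePresentation (Localization T) (LocalizedModule T Y)) :
    ∃ F : Finset X, (∀ x ∈ F, π x = 0) ∧ ∀ x, π x = 0 → ∃ t ∈ T, t • x ∈ Submodule.span S (F : Set X) := by
  classical
  let fX := LocalizedModule.mkLinearMap T X
  let fY := LocalizedModule.mkLinearMap T Y
  let πT : LocalizedModule T X →ₗ[Localization T] LocalizedModule T Y := LocalizedModule.map T π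
  have hcomm : ∀ x, πT (fX x) = fY (π x) := fun x => by
    show LocalizedModule.map T π (LocalizedModule.mk x 1) = LocalizedModule.mk (π x) 1
    exact LocalizedModule.map_mk T π x 1
  have hsurj : Function.Surjective πT := LocalizedModule.map_surjective T π hπ
  have hfg := Module.FinitePresentation.fg_ker πT hsurj
  have hspan : LinearMap.ker πT = Submodule.span (Localization T) (fX '' {x | π x = 0}) := by
    refine le_antisymm (fun y hy => ?_) (Submodule.span_le.mpr ?_)
    · obtain ⟨⟨x, t⟩, hx⟩ := IsLocalizedModule.surj T fX y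
      have h1 : fY (π x) = 0 := by
        rw [← hcomm, ← hx, Submonoid.smul_def, LinearMap.map_smul_of_tower, LinearMap.mem_ker.mp hy, smul_zero]
      obtain ⟨c, hc⟩ := (IsLocalizedModule.eq_zero_iff T fY).mp h1
      have h2 : fX ((c : S) • x) ∈ Submodule.span (Localization T) (fX '' {x | π x = 0}) :=
        Submodule.subset_span ⟨_, by show π ((c : S) • x) = 0; rw [map_smul]; exact hc, rfl⟩
      rw [map_smul, ← hx, Submonoid.smul_def, smul_smul, ← algebraMap_smul (Localization T) ((c : S) * (t : S))] at h2
      obtain ⟨e, he⟩ := (IsLocalization.map_units (Localization T) (c * t : T)).exists_left_inv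
      have := Submodule.smul_mem _ e h2
      rwa [smul_smul, show e * algebraMap S (Localization T) ((c : S) * (t : S)) = 1 from he, one_smul] at this
    · rintro _ ⟨x, hx, rfl⟩
      rw [SetLike.mem_coe, LinearMap.mem_ker, hcomm, show π x = 0 from hx, map_zero]
  rw [hspan] at hfg
  obtain ⟨F', hF', hF⟩ := (Submodule.fg_span_iff_fg_span_finset_subset _).mp hfg
  choose pre hpre hpre' using fun y : F' => hF' y.2
  refine ⟨Finset.univ.image pre, fun x hx => ?_, fun x hx => ?_⟩
  · obtain ⟨y, -, rfl⟩ := Finset.mem_image.mp hx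
    exact hpre y
  · have h1 : fX x ∈ Submodule.span (Localization T) (F' : Set (LocalizedModule T X)) := by
      rw [← hF]; exact Submodule.subset_span ⟨x, hx, rfl⟩
    have h2 : ∀ y ∈ Submodule.span (Localization T) (F' : Set (LocalizedModule T X)),
        ∃ t : T, ∃ k ∈ Submodule.span S ((Finset.univ.image pre : Finset X) : Set X), t • y = fX k := by
      intro y hy
      induction hy using Submodule.span_induction with
      | mem y hy => exact ⟨1, pre ⟨y, hy⟩, Submodule.subset_span (by simp), by rw [one_smul, hpre']⟩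
      | zero => exact ⟨1, 0, zero_mem _, by simp⟩
      | add a b _ _ ha hb =>
        obtain ⟨t, k, hk, h⟩ := ha
        obtain ⟨t', k', hk', h'⟩ := hb
        refine ⟨t * t', (t' : S) • k + (t : S) • k', add_mem (Submodule.smul_mem _ _ hk) (Submodule.smul_mem _ _ hk'), ?_⟩
        rw [smul_add, map_add, map_smul, map_smul, ← h, ← h', Submonoid.smul_def, Submonoid.smul_def, Submonoid.smul_def,
          Submonoid.smul_def, Submonoid.coe_mul, smul_smul, smul_smul, mul_comm (t' : S) (t : S)]
      | smul a y _ hy =>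
        obtain ⟨t, k, hk, h⟩ := hy
        obtain ⟨⟨a₀, s⟩, hs⟩ := IsLocalization.surj T a
        refine ⟨s * t, a₀ • k, Submodule.smul_mem _ _ hk, ?_⟩
        rw [map_smul, ← h, Submonoid.smul_def, Submonoid.smul_def, Submonoid.coe_mul, mul_smul,
          ← algebraMap_smul (Localization T) (s : S), ← algebraMap_smul (Localization T) a₀, ← hs,
          smul_comm (t : S) a y, smul_smul, mul_comm (algebraMap S (Localization T) (s : S)) a]
    obtain ⟨t, k, hk, htk⟩ := h2 _ h1
    have h3 : fX ((t : S) • x) = fX k := by rw [map_smul]; exact htk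
    obtain ⟨c, hc⟩ := IsLocalizedModule.exists_of_eq (S := T) h3
    refine ⟨(c * t : T), (c * t).2, ?_⟩
    rw [Submonoid.coe_mul, mul_smul]
    exact (show (c : S) • (t : S) • x = (c : S) • k from hc) ▸ Submodule.smul_mem _ _ hk

/-- A finitely presented model, flat near the point, agreeing at the point. -/
theorem exists_model {R S : Type u} [CommRing R] [CommRing S] [Algebra R S] [Algebra.FinitePresentation R S]
    (N : Type u) [AddCommGroup N] [Module S N] [Module R N] [IsScalarTower R S N] [Module.Finite S N]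
    (q : Ideal S) [q.IsPrime] (hflat : FlatCA.FlatAt R q N) :
    ∃ (N₀ : Type u) (_ : AddCommGroup N₀) (_ : Module S N₀) (_ : Module R N₀) (_ : IsScalarTower R S N₀)
      (_ : Module.FinitePresentation S N₀) (π : N₀ →ₗ[S] N),
      Function.Surjective π ∧ (∀ x, π x = 0 → ∃ s ∉ q, s • x = 0) ∧
      ∃ a ∉ q, ∀ (P : Ideal S) [P.IsPrime], a ∉ P → FlatCA.FlatAt R P N₀ := by
  classical
  obtain ⟨n, π₀, hπ₀⟩ := Module.Finite.exists_fin' S N
  obtain ⟨F, hF, hFgen⟩ := exists_finset_ker π₀ hπ₀ q.primeCompl
    ((fpLoc_iff q.primeCompl).mpr (fp_atPrime_of_flatAt N q hflat))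
  let K₀ : Submodule S (Fin n → S) := Submodule.span S (F : Set (Fin n → S))
  haveI : Module.FinitePresentation S ((Fin n → S) ⧸ K₀) :=
    Module.finitePresentation_of_surjective K₀.mkQ K₀.mkQ_surjective (by rw [Submodule.ker_mkQ]; exact ⟨F, rfl⟩)
  let π : ((Fin n → S) ⧸ K₀) →ₗ[S] N := Submodule.liftQ K₀ π₀ (Submodule.span_le.mpr hF)
  have hsurj : Function.Surjective π := fun y => by
    obtain ⟨v, hv⟩ := hπ₀ y
    exact ⟨K₀.mkQ v, hv⟩
  have hker : ∀ x, π x = 0 → ∃ s ∉ q, s • x = 0 := by
    intro x hx
    obtain ⟨v, rfl⟩ := K₀.mkQ_surjective x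
    obtain ⟨t, ht, htv⟩ := hFgen v hx
    refine ⟨t, ht, ?_⟩
    rw [← map_smul, Submodule.mkQ_apply, Submodule.Quotient.mk_eq_zero]
    exact htv
  let T := q.primeCompl
  let fX := LocalizedModule.mkLinearMap T ((Fin n → S) ⧸ K₀)
  let fY := LocalizedModule.mkLinearMap T N
  let πT := IsLocalizedModule.map T fX fY π
  have hbij : Function.Bijective πT := by
    refine ⟨(injective_iff_map_eq_zero _).mpr fun y hy => ?_, IsLocalizedModule.map_surjective T fX fY π hsurj⟩
    obtain ⟨⟨x, t⟩, hx⟩ := IsLocalizedModule.surj T fX y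
    have h1 : fY (π x) = 0 := by
      rw [← IsLocalizedModule.map_apply T fX fY π, ← hx, Submonoid.smul_def, map_smul, hy, smul_zero]
    obtain ⟨c, hc⟩ := (IsLocalizedModule.eq_zero_iff T fY).mp h1
    obtain ⟨s, hs, hsx⟩ := hker ((c : S) • x) (by rw [map_smul]; exact hc)
    refine IsLocalizedModule.smul_injective fX (⟨s, hs⟩ * c * t) ?_
    show (⟨s, hs⟩ * c * t : T) • y = (⟨s, hs⟩ * c * t : T) • 0
    rw [smul_zero, mul_smul, mul_smul, hx, Submonoid.smul_def, Submonoid.smul_def, ← map_smul, ← map_smul, hsx, map_zero]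
  haveI : Module.Flat R (LocalizedModule T N) := hflat
  haveI : Module.Flat R (LocalizedModule T ((Fin n → S) ⧸ K₀)) :=
    Module.Flat.of_linearEquiv ((LinearEquiv.ofBijective πT hbij).restrictScalars R)
  obtain ⟨a, ha, hflata⟩ := Groth.L20.exists_flat_away T (R := R) (M := (Fin n → S) ⧸ K₀)
  exact ⟨_, inferInstance, inferInstance, inferInstance, inferInstance, inferInstance, π, hsurj, hker, a, ha,
    fun P _ hP => (flat_away_iff a).mp hflata P hP⟩

/-- Bijectivity on a basic open set carries finite presentation and flatness over. -/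
theorem fp_flat_of_ker {R S : Type u} [CommRing R] [CommRing S] [Algebra R S]
    {N₀ N : Type u} [AddCommGroup N₀] [Module S N₀] [Module R N₀] [IsScalarTower R S N₀] [Module.FinitePresentation S N₀]
    [AddCommGroup N] [Module S N] [Module R N] [IsScalarTower R S N] (π : N₀ →ₗ[S] N) (hπ : Function.Surjective π)
    {a g : S} (hag : a ∣ g) (hflat : ∀ (P : Ideal S) [P.IsPrime], a ∉ P → FlatCA.FlatAt R P N₀)
    (hg : ∀ x, π x = 0 → ∃ k : ℕ, g ^ k • x = 0) :
    Module.FinitePresentation (Localization.Away g) (LocalizedModule (Submonoid.powers g) N) ∧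
      Module.Flat R (LocalizedModule (Submonoid.powers g) N) := by
  let T := Submonoid.powers g
  let fX := LocalizedModule.mkLinearMap T N₀
  let fY := LocalizedModule.mkLinearMap T N
  let πT := LocalizedModule.map T π
  have hbij : Function.Bijective πT := by
    refine ⟨(injective_iff_map_eq_zero _).mpr fun y hy => ?_, LocalizedModule.map_surjective T π hπ⟩
    induction y using LocalizedModule.induction_on with
    | h x t =>
      rw [LocalizedModule.map_mk, ← LocalizedModule.zero_mk (S := T) t, LocalizedModule.mk_eq] at hy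
      obtain ⟨c, hc⟩ := hy
      simp only [smul_zero, Submonoid.smul_def] at hc
      rw [smul_smul, ← map_smul] at hc
      obtain ⟨k, hk⟩ := hg _ hc
      rw [← LocalizedModule.zero_mk (S := T) t, LocalizedModule.mk_eq]
      refine ⟨⟨g ^ k, k, rfl⟩ * c, ?_⟩
      simp only [smul_zero, Submonoid.smul_def, Submonoid.coe_mul]
      rw [smul_smul, mul_assoc, mul_smul, hk]
  let e := LinearEquiv.ofBijective πT hbij
  refine ⟨Module.FinitePresentation.of_equiv e, ?_⟩
  haveI : Module.Flat R (LocalizedModule T N₀) := (flat_away_iff g).mpr fun P _ hP =>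
    hflat P fun h => hP (Ideal.mem_of_dvd P hag h)
  have he : ∀ (r : R) (x : LocalizedModule T N₀), e (r • x) = r • e x := fun r x => by
    rw [← algebraMap_smul (Localization T) r x, e.map_smul, algebraMap_smul]
  exact Module.Flat.of_linearEquiv
    ({ e.toAddEquiv with map_smul' := he } : LocalizedModule T N₀ ≃ₗ[R] LocalizedModule T N).symm

/-- Kernels die on a basic open set avoiding the finitely many relevant primes. -/
theorem exists_pow_smul_of_weakAss {S X : Type*} [CommRing S] [AddCommGroup X] [Module S X] {g : S} {x : X}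
    (h : ∀ P ∈ FlatCA.weakAss S X, annE S x ≤ P → g ∈ P) : ∃ k : ℕ, g ^ k • x = 0 := by
  have : g ∈ (annE S x).radical := by
    rw [← Ideal.sInf_minimalPrimes]
    exact Submodule.mem_sInf.2 fun P hP => h P ⟨x, hP⟩ hP.le
  obtain ⟨k, hk⟩ := Ideal.mem_radical_iff.1 this
  exact ⟨k, mem_annE.1 hk⟩

/-- **Finite presentation near a flat point** over a base with finitely many weakly associated primes. -/
theorem exists_fp_flat_away {R S : Type u} [CommRing R] [CommRing S] [Algebra R S] [Algebra.FinitePresentation R S]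
    (hR : (FlatCA.weakAss R R).Finite)
    (N : Type u) [AddCommGroup N] [Module S N] [Module R N] [IsScalarTower R S N] [Module.Finite S N]
    (q : Ideal S) [q.IsPrime] (hflat : FlatCA.FlatAt R q N) :
    ∃ g : S, g ∉ q ∧ Module.FinitePresentation (Localization.Away g) (LocalizedModule (Submonoid.powers g) N) ∧
      Module.Flat R (LocalizedModule (Submonoid.powers g) N) := by
  classical
  obtain ⟨N₀, _, _, _, _, _, π, hπ, hker, a, ha, hflat₀⟩ := exists_model N q hflat
  obtain ⟨g₁, hg₁, hg₁W⟩ := exists_notMem_mem_of_not_le (finite_weakAss_flat hR (S := S) N₀) q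
  refine ⟨a * g₁, fun h => (Ideal.IsPrime.mem_or_mem ‹_› h).elim ha hg₁,
    fp_flat_of_ker π hπ (Dvd.intro g₁ rfl) hflat₀ fun x hx => exists_pow_smul_of_weakAss fun P hP hle => ?_⟩
  haveI := isPrime_of_mem_weakAss hP
  by_cases haP : a ∈ P
  · exact P.mul_mem_right _ haP
  · obtain ⟨s, hs, hsx⟩ := hker x hx
    refine P.mul_mem_left _ (hg₁W P ⟨hP, fun {_} => hflat₀ P haP⟩ fun hPq => hs (hPq (hle (mem_annE.2 hsx))))

theorem isOpen_flatLocus {R S : Type u} [CommRing R] [CommRing S] [Algebra R S]
    (N : Type u) [AddCommGroup N] [Module S N] [Module R N] [IsScalarTower R S N]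
    (h : ∀ (q : Ideal S) [q.IsPrime], FlatCA.FlatAt R q N →
      ∃ g : S, g ∉ q ∧ Module.Flat R (LocalizedModule (Submonoid.powers g) N)) :
    IsOpen {q : PrimeSpectrum S | FlatCA.FlatAt R q.asIdeal N} := by
  refine isOpen_iff_forall_mem_open.2 fun q hq => ?_
  obtain ⟨g, hg, hfl⟩ := h q.asIdeal hq
  exact ⟨PrimeSpectrum.basicOpen g, fun P hP => (flat_away_iff g).mp hfl P.asIdeal hP,
    (PrimeSpectrum.basicOpen g).isOpen, hg⟩

end Groth.L20.RG
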