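import Groth.Agent.L20.RG.InjModFlat
import Groth.Agent.L20.RG.AssCover

/-!
# Flatness at a point from flatness at the associated points of the fibre
-/

set_option autoImplicit false
set_option linter.style.haveILetI false
set_option backward.isDefEq.respectTransparency.types false
universe u

open TensorProduct

noncomputable section

namespace Groth.L20.RG

open Groth.L03.WeakAss

/-- Membership in `I • M_T` comes from membership in `I • M`. -/
theorem exists_smul_mem_of_mk_mem {S N L : Type u} [CommRing S] [AddCommGroup N] [Module S N] [AddCommGroup L] [Module S L]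
    (T : Submonoid S) (f : N →ₗ[S] L) [IsLocalizedModule T f] (I : Ideal S) {x : N}
    (hx : f x ∈ (I • ⊤ : Submodule S L)) : ∃ t ∈ T, t • x ∈ (I • ⊤ : Submodule S N) := by
  have h : ∀ y ∈ (I • ⊤ : Submodule S L), ∃ t ∈ T, ∃ n ∈ (I • ⊤ : Submodule S N), t • y = f n := fun y hy => by
    refine Submodule.smul_induction_on hy (fun a ha w _ => ?_) fun a b ha hb => ?_
    · obtain ⟨⟨n, t⟩, hn⟩ := IsLocalizedModule.surj T f w
      exact ⟨t, t.2, a • n, Submodule.smul_mem_smul ha trivial, by rw [smul_comm, map_smul]; exact congrArg (a • ·) hn⟩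
    · obtain ⟨s, hs, m, hm, hsm⟩ := ha
      obtain ⟨t, ht, n, hn, htn⟩ := hb
      refine ⟨s * t, T.mul_mem hs ht, t • m + s • n, add_mem (Submodule.smul_mem _ _ hm) (Submodule.smul_mem _ _ hn), ?_⟩
      rw [smul_add, map_add, map_smul, map_smul, ← hsm, ← htn, smul_smul, smul_smul, mul_comm t s]
  obtain ⟨t, ht, n, hn, htn⟩ := h _ hx
  rw [← map_smul] at htn
  obtain ⟨c, hc⟩ := IsLocalizedModule.exists_of_eq (S := T) (f := f) htn
  exact ⟨c * t, T.mul_mem c.2 ht, by rw [mul_smul]; exact hc.symm ▸ Submodule.smul_mem _ (c : S) hn⟩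

variable {R S : Type u} [CommRing R] [CommRing S] [Algebra R S] [Algebra.FiniteType R S]
  (N : Type u) [AddCommGroup N] [Module S N] [Module R N] [IsScalarTower R S N] [Module.Finite S N]

/-- Flatness at the associated points of the fibre specialising to a point gives flatness at that point. -/
theorem flatAt_of_weakAss_fibre (p : Ideal R) [p.IsPrime] (q : Ideal S) [q.IsPrime] [q.LiesOver p]
    (H : ∀ (P : Ideal S) [P.IsPrime], P ∈ FlatCA.weakAss S (N ⊗[R] p.ResidueField) → P ≤ q → FlatCA.FlatAt R P N) :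
    FlatCA.FlatAt R q N := by
  classical
  let W := {P : PrimeSpectrum S // P.asIdeal ∈ FlatCA.weakAss S (N ⊗[R] p.ResidueField) ∧ P.asIdeal ≤ q}
  haveI : Finite W := by
    haveI := (finite_weakAss_fibre (S := S) p N).to_subtype
    exact Finite.of_injective (fun P : W => (⟨P.1.asIdeal, P.2.1⟩ : FlatCA.weakAss S (N ⊗[R] p.ResidueField)))
      fun P P' h => Subtype.ext (PrimeSpectrum.ext (congrArg Subtype.val h))
  haveI := Fintype.ofFinite W
  haveI : ∀ P : W, Module.Flat R (LocalizedModule P.1.asIdeal.primeCompl N) := fun P => H P.1.asIdeal P.2.1 P.2.2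
  let M := ∀ P : W, LocalizedModule P.1.asIdeal.primeCompl N
  haveI : Module.Flat R M :=
    Module.Flat.of_linearEquiv (DirectSum.linearEquivFunOnFintype R W fun P : W => LocalizedModule P.1.asIdeal.primeCompl N).symm
  let u : N →ₗ[S] M := LinearMap.pi fun P => LocalizedModule.mkLinearMap P.1.asIdeal.primeCompl N
  refine (flat_univInj_of_injMod_prime q N p u fun x hx => ?_).1
  let I := p.map (algebraMap R S)
  have hP : ∀ P : W, ∃ s ∉ P.1.asIdeal, s • x ∈ (I • ⊤ : Submodule S N) := fun P => by
    refine exists_smul_mem_of_mk_mem P.1.asIdeal.primeCompl (LocalizedModule.mkLinearMap P.1.asIdeal.primeCompl N) I ?_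
    let pr : M →ₗ[S] LocalizedModule P.1.asIdeal.primeCompl N := LinearMap.proj P
    have h := Submodule.mem_map_of_mem (f := pr) hx
    rw [Submodule.map_smul''] at h
    exact Submodule.smul_mono le_rfl le_top h
  have hI : ∀ w ∈ (I • ⊤ : Submodule S N), w ⊗ₜ[R] (1 : p.ResidueField) = 0 := fun w hw => by
    refine Submodule.smul_induction_on hw (fun e he n _ => ?_) fun a b ha hb => by rw [TensorProduct.add_tmul, ha, hb, add_zero]
    induction he using Submodule.span_induction generalizing n with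
    | mem e he =>
      obtain ⟨a, ha, rfl⟩ := he
      rw [← TensorProduct.smul_tmul', smul_fibre_eq_zero p N ha]
    | zero => rw [zero_smul, TensorProduct.zero_tmul]
    | add e e' _ _ h h' => rw [add_smul, TensorProduct.add_tmul, h n trivial, h' n trivial, add_zero]
    | smul c e _ h => rw [smul_eq_mul, mul_smul, ← TensorProduct.smul_tmul', h n trivial, smul_zero]
  by_cases h0 : ∃ s ∉ q, (s • x) ⊗ₜ[R] (1 : p.ResidueField) = 0
  · obtain ⟨s, hs, h0⟩ := h0
    obtain ⟨r, hr, hrs⟩ := exists_smul_mem_of_tmul_one_eq_zero p (x := s • x) h0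
    refine ⟨algebraMap R S r * s, fun h => (Ideal.IsPrime.mem_or_mem ‹q.IsPrime› h).elim
      (fun h' => hr ((Ideal.mem_of_liesOver q p r).mpr h')) hs, ?_⟩
    rw [mul_smul, algebraMap_smul]
    refine Submodule.smul_induction_on hrs (fun a ha n _ => ?_) fun a b ha hb => add_mem ha hb
    rw [← algebraMap_smul S a n]
    exact Submodule.smul_mem_smul (Ideal.mem_map_of_mem _ ha) trivial
  · exfalso
    let z := x ⊗ₜ[R] (1 : p.ResidueField)
    have hle : annE S z ≤ q := fun s hs => by
      by_contra hsq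
      exact h0 ⟨s, hsq, by rw [← TensorProduct.smul_tmul']; exact mem_annE.1 hs⟩
    obtain ⟨P₀, hP₀, hP₀q⟩ := Ideal.exists_minimalPrimes_le hle
    haveI := hP₀.1.1
    obtain ⟨s, hs, hsx⟩ := hP ⟨⟨P₀, inferInstance⟩, ⟨z, hP₀⟩, hP₀q⟩
    exact hs (hP₀.1.2 (mem_annE.2 (by rw [TensorProduct.smul_tmul']; exact hI _ hsx)))

/-- Flatness at a point is flatness at the associated points of the fibre specialising to it. -/
theorem flatAt_iff_weakAss_fibre (p : Ideal R) [p.IsPrime] (q : Ideal S) [q.IsPrime] [q.LiesOver p] :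
    FlatCA.FlatAt R q N ↔
      ∀ (P : Ideal S) [P.IsPrime], P ∈ FlatCA.weakAss S (N ⊗[R] p.ResidueField) → P ≤ q → FlatCA.FlatAt R P N :=
  ⟨fun h P _ _ hPq => Groth.L20.flat_localizedModule_of_le (fun (s : S) (hs : s ∉ q) h' => hs (hPq h')) h,
    flatAt_of_weakAss_fibre N p q⟩

end Groth.L20.RG
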