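import Groth.Agent.L20.RG.Spread

/-!
# A complete dévissage of a flat finitely presented module, after localising the base
-/

set_option autoImplicit false
set_option linter.style.haveILetI false
universe u

open TensorProduct

noncomputable section

namespace Groth.L20.RG

attribute [local instance] Algebra.TensorProduct.rightAlgebra

section Pushout

variable {R B X : Type u} [CommRing R] [CommRing B] [Algebra R B] [AddCommGroup X] [Module B X] [Module R X]
  [IsScalarTower R B X]

theorem flat_pushout_iff (A D : Type u) [CommRing A] [CommRing D] [Algebra R A] [Algebra A D] [Algebra B D]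
    [Algebra R D] [IsScalarTower R A D] [IsScalarTower R B D] [Algebra.IsPushout R B A D] :
    Module.Flat A (D ⊗[B] X) ↔ Module.Flat A (A ⊗[R] X) :=
  let e := (isBaseChange_mk_of_isPushout (A := R) (D := B) A D X).equiv
  ⟨fun _ => Module.Flat.of_linearEquiv e, fun _ => Module.Flat.of_linearEquiv e.symm⟩

/-- Injectivity on the pushout is injectivity after base change of the base. -/
theorem injective_baseChange_of_pushout {G : Type u} [AddCommGroup G] [Module B G] [Module R G] [IsScalarTower R B G]
    (u : X →ₗ[B] G) (A D : Type u) [CommRing A] [CommRing D] [Algebra R A] [Algebra A D] [Algebra B D]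
    [Algebra R D] [IsScalarTower R A D] [IsScalarTower R B D] [Algebra.IsPushout R B A D]
    (h : Function.Injective (u.baseChange D)) : Function.Injective ((u.restrictScalars R).baseChange A) := by
  let eX := (isBaseChange_mk_of_isPushout (A := R) (D := B) A D X).equiv
  let eG := (isBaseChange_mk_of_isPushout (A := R) (D := B) A D G).equiv
  have hc : ∀ z, eG ((u.restrictScalars R).baseChange A z) = u.baseChange D (eX z) := fun z => by
    induction z using TensorProduct.induction_on with
    | zero => simp
    | tmul a x => simp [eX, eG, IsBaseChange.equiv_tmul, LinearMap.map_smul_of_tower]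
    | add a b ha hb => simp only [map_add, ha, hb]
  intro x y hxy
  apply eX.injective
  apply h
  rw [← hc, ← hc, hxy]

end Pushout

theorem genIso_pushout {R B G : Type u} [CommRing R] [CommRing B] [Algebra R B] [AddCommGroup G] [Module B G]
    {r : ℕ} (α : (Fin r → B) →ₗ[B] G) (A : Type u) [CommRing A] [Algebra R A] (t : B)
    (hbij : Function.Bijective (α.baseChange (Localization.Away t)))
    (hK : ∀ (K : Type u) [Field K] [Algebra A K] [Algebra R K] [IsScalarTower R A K], (1 : K) ⊗ₜ[R] t ≠ 0) :
    GenIso A (baseChangeFree α (A ⊗[R] B)) := by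
  let D' := A ⊗[R] B
  let t' : D' := (1 : A) ⊗ₜ t
  refine ⟨t', fun K _ _ h0 => ?_, ?_⟩
  · letI : Algebra R K := ((algebraMap A K).comp (algebraMap R A)).toAlgebra
    haveI : IsScalarTower R A K := IsScalarTower.of_algebraMap_eq' rfl
    have h1 := congrArg (Algebra.TensorProduct.cancelBaseChange R A K K B) h0
    rw [map_zero, Algebra.TensorProduct.cancelBaseChange_tmul, one_smul] at h1
    exact hK K h1
  · letI : Algebra (Localization.Away t) (Localization.Away t') := (IsLocalization.Away.lift t
      (g := algebraMap B (Localization.Away t')) (by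
        rw [IsScalarTower.algebraMap_apply B D' (Localization.Away t')]
        exact IsLocalization.Away.algebraMap_isUnit t')).toAlgebra
    haveI : IsScalarTower B (Localization.Away t) (Localization.Away t') :=
      IsScalarTower.of_algebraMap_eq fun x => (IsLocalization.Away.lift_eq t _ x).symm
    exact bijective_baseChangeFree α D' _ (bijective_baseChange_of_bijective α (Localization.Away t) _ hbij)

/-- One step after a base change, globally. -/
theorem step_global_baseChange {B G : Type u} [CommRing B] [AddCommGroup G] [Module B G] [Module.Finite B G] {r : ℕ}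
    (α : (Fin r → B) →ₗ[B] G) (A D : Type u) [CommRing A] [CommRing D] [Algebra B D] [Algebra A D]
    [Algebra.Smooth A D] [Module.Flat A (D ⊗[B] G)] (h : DomFib A D) (hgen : GenIso A (baseChangeFree α D)) :
    Function.Injective (α.baseChange D) ∧ Module.Flat A (D ⊗[B] (G ⧸ LinearMap.range α)) := by
  obtain ⟨hinj, hflat⟩ := injective_and_flat_of_genIso (baseChangeFree α D) h hgen
  exact of_baseChangeFree α A D ⟨hinj, hflat⟩

section Devissage

variable {R S : Type u} [CommRing R] [CommRing S] [Algebra R S] {N : Type u} [AddCommGroup N] [Module S N]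
  [Module R N] [IsScalarTower R S N] {rr : Ideal R} [rr.IsPrime] (D : FlatCA.CompleteDevissage R S N rr)

theorem finitePresentation_M [Algebra.FinitePresentation R S] [Module.FinitePresentation S N] :
    ∀ i, i < D.n → Module.FinitePresentation (D.B i) (D.M i) := by
  intro i
  induction i with
  | zero =>
    intro hi
    haveI : Module.FinitePresentation S (D.M 0) := Module.FinitePresentation.of_equiv D.isoN
    haveI : Module.Finite S (D.A 0) := Module.Finite.of_surjective (Algebra.linearMap S (D.A 0)) D.surjSA
    haveI := finitePresentation_of_finite_algebra S (D.A 0) (D.M 0)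
    haveI := D.finiteBA 0 hi
    haveI := (finitePresentation_B D 0 hi).2
    haveI := Module.FinitePresentation.of_finite_of_finitePresentation (D.B 0) (D.A 0)
    exact Module.FinitePresentation.trans (D.B 0) (D.M 0) (D.A 0)
  | succ j ih =>
    intro hi
    haveI := ih (by omega)
    haveI : Module.FinitePresentation (D.B j) (D.M j ⧸ LinearMap.range (D.α j)) :=
      Module.finitePresentation_of_surjective (LinearMap.range (D.α j)).mkQ (Submodule.mkQ_surjective _)
        (by rw [Submodule.ker_mkQ]; exact Submodule.fg_range _)
    haveI : Module.FinitePresentation (D.B j) (D.M (j + 1)) := Module.FinitePresentation.of_equiv (D.isoCoker j hi)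
    haveI : Module.Finite (D.B j) (D.A (j + 1)) :=
      Module.Finite.of_surjective (Algebra.linearMap (D.B j) (D.A (j + 1))) (D.surjBA' j hi)
    haveI := finitePresentation_of_finite_algebra (D.B j) (D.A (j + 1)) (D.M (j + 1))
    haveI := D.finiteBA (j + 1) hi
    haveI := (finitePresentation_B D (j + 1) hi).2
    haveI := Module.FinitePresentation.of_finite_of_finitePresentation (D.B (j + 1)) (D.A (j + 1))
    exact Module.FinitePresentation.trans (D.B (j + 1)) (D.M (j + 1)) (D.A (j + 1))

/-- Flatness after a base change passes to the next module. -/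
theorem flat_next (A : Type u) [CommRing A] [Algebra R A] (j : ℕ) (hj : j + 1 < D.n)
    (h : Module.Flat A ((A ⊗[R] D.B j) ⊗[D.B j] (D.M j ⧸ LinearMap.range (D.α j)))) :
    Module.Flat A (A ⊗[R] D.M (j + 1)) := by
  haveI := isScalarTower_succ D j
  haveI : Algebra.IsPushout R (D.B j) A (A ⊗[R] D.B j) := Algebra.IsPushout.symm inferInstance
  haveI := (flat_pushout_iff (R := R) (B := D.B j) (X := D.M j ⧸ LinearMap.range (D.α j)) A (A ⊗[R] D.B j)).mp h
  exact Module.Flat.of_linearEquiv (((D.isoCoker j hj).restrictScalars R).baseChange R A _ _).symm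

theorem flat_start (A : Type u) [CommRing A] [Algebra R A] [Module.Flat R N] :
    Module.Flat A (A ⊗[R] D.M 0) := by
  haveI := isScalarTower_zero D
  haveI : Module.Flat R (D.M 0) := Module.Flat.of_linearEquiv (D.isoN.restrictScalars R).symm
  infer_instance

variable [Algebra.FinitePresentation R S] [Module.FinitePresentation S N] [Module.Flat R N]

theorem step_at_rr (i : ℕ) (hi : i < D.n) :
    Function.Injective ((D.α i).baseChange (locB rr (D.B i))) ∧
      Module.Flat (Localization.AtPrime rr) (locB rr (D.B i) ⊗[D.B i] (D.M i ⧸ LinearMap.range (D.α i))) := by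
  have hflat : ∀ i, i < D.n → Module.Flat (Localization.AtPrime rr) (Localization.AtPrime rr ⊗[R] D.M i) := by
    intro i
    induction i with
    | zero => exact fun _ => flat_start D _
    | succ j ih =>
      intro hj
      haveI := finite_B D j (by omega)
      haveI := D.smooth j (by omega)
      haveI := (flat_pushout_iff (R := R) (B := D.B j) (X := D.M j) (Localization.AtPrime rr) (locB rr (D.B j))).mpr (ih (by omega))
      exact flat_next D _ j hj (flat_coker_locB (D.α j) rr (DomFib.of_smooth_geomIrredFibres (D.geomIrred j (by omega)))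
        (D.fibreIso j (by omega))).2
  haveI := finite_B D i hi
  haveI := D.smooth i hi
  haveI := (flat_pushout_iff (R := R) (B := D.B i) (X := D.M i) (Localization.AtPrime rr) (locB rr (D.B i))).mpr (hflat i hi)
  exact flat_coker_locB (D.α i) rr (DomFib.of_smooth_geomIrredFibres (D.geomIrred i hi)) (D.fibreIso i hi)

/-- A single basic open of the base working for all steps. -/
theorem exists_good : ∃ f ∉ rr, ∀ i, i < D.n → ∃ t : D.B i,
    Function.Bijective ((D.α i).baseChange (Localization.Away t)) ∧
      ∀ (K : Type u) [Field K] [Algebra R K], algebraMap R K f ≠ 0 → (1 : K) ⊗ₜ[R] t ≠ 0 := by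
  classical
  have h1 : ∀ i : Fin D.n, ∃ f ∉ rr, ∃ t : D.B i,
      Function.Bijective ((D.α i).baseChange (Localization.Away t)) ∧
        ∀ (K : Type u) [Field K] [Algebra R K], algebraMap R K f ≠ 0 → (1 : K) ⊗ₜ[R] t ≠ 0 := fun i => by
    haveI := finite_B D i i.2
    haveI := D.smooth i i.2
    haveI := finitePresentation_M D i i.2
    have hdom := DomFib.of_smooth_geomIrredFibres (D.geomIrred i i.2)
    obtain ⟨t, ht, hb⟩ := exists_bijective_away (D.α i) rr hdom (D.fibreIso i i.2) (step_at_rr D i i.2).1
    obtain ⟨f, hf, hK⟩ := exists_base_open rr hdom ht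
    exact ⟨f, hf, t, hb, hK⟩
  choose f hf t hb hK using h1
  refine ⟨∏ i, f i, fun h => ?_, fun i hi => ⟨t ⟨i, hi⟩, hb ⟨i, hi⟩, fun K _ _ hne => hK ⟨i, hi⟩ K fun h0 => hne ?_⟩⟩
  · obtain ⟨i, -, hi⟩ := (Ideal.IsPrime.prod_mem_iff).mp h
    exact hf i hi
  · rw [map_prod]
    exact Finset.prod_eq_zero (Finset.mem_univ (⟨i, hi⟩ : Fin D.n)) h0

/-- All steps are injective after base change to `R_f`, with flat modules. -/
theorem injective_step (f : R) (hgood : ∀ i, i < D.n → ∃ t : D.B i,
    Function.Bijective ((D.α i).baseChange (Localization.Away t)) ∧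
      ∀ (K : Type u) [Field K] [Algebra R K], algebraMap R K f ≠ 0 → (1 : K) ⊗ₜ[R] t ≠ 0) (i : ℕ) (hi : i < D.n) :
    Function.Injective (((D.α i).restrictScalars R).baseChange (Localization.Away f)) := by
  let A := Localization.Away f
  have hpo : ∀ j, Algebra.IsPushout R (D.B j) A (A ⊗[R] D.B j) := fun j => Algebra.IsPushout.symm inferInstance
  have key : ∀ j, j < D.n → Module.Flat A (A ⊗[R] D.M j) →
      Function.Injective ((D.α j).baseChange (A ⊗[R] D.B j)) ∧
        Module.Flat A ((A ⊗[R] D.B j) ⊗[D.B j] (D.M j ⧸ LinearMap.range (D.α j))) := fun j hj hfl => by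
    haveI := hpo j
    haveI := finite_B D j hj
    haveI := D.smooth j hj
    haveI := (flat_pushout_iff (R := R) (B := D.B j) (X := D.M j) A (A ⊗[R] D.B j)).mpr hfl
    obtain ⟨t, hb, hK⟩ := hgood j hj
    refine step_global_baseChange (D.α j) A (A ⊗[R] D.B j)
      ((DomFib.of_smooth_geomIrredFibres (D.geomIrred j hj)).baseChange A) (genIso_pushout (D.α j) A t hb ?_)
    intro K _ _ _ _
    refine hK K ?_
    rw [IsScalarTower.algebraMap_apply R A K]
    exact ((IsLocalization.Away.algebraMap_isUnit f).map (algebraMap A K)).ne_zero
  have hflat : ∀ j, j < D.n → Module.Flat A (A ⊗[R] D.M j) := by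
    intro j
    induction j with
    | zero => exact fun _ => flat_start D A
    | succ k ih => exact fun hk => flat_next D A k hk (key k (by omega) (ih (by omega))).2
  haveI := hpo i
  exact injective_baseChange_of_pushout (D.α i) A (A ⊗[R] D.B i) (key i hi (hflat i hi)).1

end Devissage

end Groth.L20.RG
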