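import Groth.Agent.L20.RG.RepStep

/-!
# The condition cut out near a point by charts of one affine piece
-/

set_option autoImplicit false
set_option linter.style.haveILetI false
set_option backward.isDefEq.respectTransparency.types false
universe u

open TensorProduct

noncomputable section

namespace Groth.L20.RG

attribute [local instance] Algebra.TensorProduct.rightAlgebra

/-- Flatness at a point of an étale chart and below it. -/
theorem flatAt_iff_etale {T BT CT : Type u} [CommRing T] [CommRing BT] [CommRing CT] [Algebra T BT] [Algebra T CT]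
    [Algebra BT CT] [IsScalarTower T BT CT] [Module.Flat BT CT] [Algebra.QuasiFinite BT CT]
    {NT MT : Type u} [AddCommGroup NT] [Module BT NT] [Module T NT] [IsScalarTower T BT NT] [AddCommGroup MT]
    [Module CT MT] [Module BT MT] [IsScalarTower BT CT MT] [Module T MT] [IsScalarTower T CT MT]
    (f : NT →ₗ[BT] MT) (hf : IsBaseChange CT f) (t : Ideal T) [t.IsPrime] (q : Ideal BT) [q.IsPrime]
    (W : Ideal CT) [W.IsPrime] [q.LiesOver t] [W.LiesOver t] [hWq : W.LiesOver q] :
    relTrdeg t W = relTrdeg t q ∧ (FlatCA.FlatAt T q NT ↔ FlatCA.FlatAt T W MT) := by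
  haveI : IsScalarTower T BT MT := IsScalarTower.of_algebraMap_smul fun r x => by
    rw [← algebraMap_smul CT (algebraMap T BT r) x, ← IsScalarTower.algebraMap_apply, algebraMap_smul]
  refine ⟨relTrdeg_eq_of_quasiFinite t q W, fun h => ?_, fun h => flatAt_of_flat_above f hf W h q hWq.over.le⟩
  haveI : Module.Flat T (LocalizedModule (W.comap (algebraMap BT CT)).primeCompl NT) := by
    have e : q = W.comap (algebraMap BT CT) := hWq.over
    subst e
    exact h
  exact Groth.L20.AboveClosed.flat_of_flat_below f hf W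

section Core

variable {A' T BA BT C CT : Type u} [CommRing A'] [CommRing T] [CommRing BA] [CommRing BT] [CommRing C] [CommRing CT]
  [Algebra A' T] [Algebra BA BT] [Algebra T BT] [Algebra BA C] [Algebra A' C] [Algebra C CT] [Algebra BA CT]
  [Algebra BT CT] [Algebra T CT] [Algebra A' CT] [IsScalarTower BA BT CT] [IsScalarTower BA C CT]
  [IsScalarTower T BT CT] [IsScalarTower A' T CT] [IsScalarTower A' C CT]
  [Algebra.IsPushout A' C T CT] [Algebra.IsPushout BA BT C CT] [Algebra.Etale BT CT]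
  {NA NT Nc MT : Type u} [AddCommGroup NA] [Module BA NA] [AddCommGroup NT] [Module BT NT] [Module BA NT]
  [IsScalarTower BA BT NT] [Module T NT] [IsScalarTower T BT NT]
  [AddCommGroup Nc] [Module C Nc] [Module BA Nc] [IsScalarTower BA C Nc]
  [AddCommGroup MT] [Module CT MT] [Module BT MT] [IsScalarTower BT CT MT] [Module C MT] [IsScalarTower C CT MT]
  [Module BA MT] [IsScalarTower BA BT MT] [IsScalarTower BA C MT] [Module T MT] [IsScalarTower T CT MT]

/-- The two directions on a chart, for any models. -/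
theorem chart_core (ι : NA →ₗ[BA] NT) (hι : IsBaseChange BT ι) (g : NA →ₗ[BA] Nc) (hg : IsBaseChange C g)
    (m : Nc →ₗ[C] MT) (hm : IsBaseChange CT m) (n : ℕ) :
    (FlatCA.FlatInDimGE n T BT NT → FlatBC A' n T C Nc) ∧
    (FlatBC A' n T C Nc → ∀ (t : Ideal T) (Q : Ideal BT) [t.IsPrime] [Q.IsPrime] [Q.LiesOver t],
      (∃ Q₀ : Ideal C, Q₀.IsPrime ∧ Q₀.comap (algebraMap BA C) = Q.comap (algebraMap BA BT)) →
      (n : Cardinal.{u}) ≤ relTrdeg t Q → FlatCA.FlatAt T Q NT) := by
  let gT : NT →ₗ[BT] MT := hι.lift ((m.restrictScalars BA) ∘ₗ g)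
  haveI : IsScalarTower BA CT MT := IsScalarTower.of_algebraMap_smul fun b x => by
    rw [IsScalarTower.algebraMap_apply BA C CT, algebraMap_smul, algebraMap_smul]
  have hgT : IsBaseChange CT gT := IsBaseChange.of_comp hι (by
    rw [show gT.restrictScalars BA ∘ₗ ι = (m.restrictScalars BA) ∘ₗ g from hι.lift_comp _]
    exact hg.comp hm)
  have hmodel : FlatBC A' n T C Nc ↔ FlatCA.FlatInDimGE n T CT MT :=
    flatBC_iff_model (A := A') (T := T) m hm n
  refine ⟨fun h => hmodel.2 (flatInDimGE_of_chart NT gT hgT h), fun h t Q _ _ _ ⟨Q₀, hQ₀, e⟩ hd => ?_⟩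
  haveI := hQ₀
  obtain ⟨W, hW, e₁, -⟩ := Groth.L20.exists_prime_isPushout (R := BA) (S := BT) (R' := C) (S' := CT) Q Q₀ e.symm
  haveI := hW
  haveI : W.LiesOver Q := ⟨e₁.symm⟩
  haveI : W.LiesOver t := Ideal.LiesOver.trans W Q t
  obtain ⟨e₂, e₃⟩ := flatAt_iff_etale gT hgT t Q W
  exact e₃.2 ((flatInDimGE_iff_relTrdeg n MT).1 (hmodel.1 h) t W (by rw [e₂]; exact hd))

end Core

variable {A B : Type u} [CommRing A] [CommRing B] [Algebra A B] (N : Type u) [AddCommGroup N] [Module B N]

set_option maxHeartbeats 2000000 in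
/-- One chart and its consequences for any change of the base. -/
theorem chart_flatBC (A' : Type u) [CommRing A'] [Algebra A A'] {C : Type u} [CommRing C] [Algebra A' C]
    [Algebra (A' ⊗[A] B) C] [IsScalarTower A' (A' ⊗[A] B) C] [Algebra.Etale (A' ⊗[A] B) C]
    {Nc : Type u} [AddCommGroup Nc] [Module C Nc] [Module (A' ⊗[A] B) Nc] [IsScalarTower (A' ⊗[A] B) C Nc]
    (g : (A' ⊗[A] B) ⊗[B] N →ₗ[A' ⊗[A] B] Nc) (hg : IsBaseChange C g)
    (T : Type u) [CommRing T] [Algebra A T] [Algebra A' T] [IsScalarTower A A' T] (n : ℕ) :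
    (FlatBC A n T B N → FlatBC A' n T C Nc) ∧
    (FlatBC A' n T C Nc → ∀ (t : Ideal T) (Q : Ideal (T ⊗[A] B)) [t.IsPrime] [Q.IsPrime] [Q.LiesOver t],
      (∃ Q₀ : Ideal C, Q₀.IsPrime ∧ Q₀.comap (algebraMap (A' ⊗[A] B) C) =
        Q.comap (Algebra.TensorProduct.map (Algebra.ofId A' T |>.restrictScalars A) (AlgHom.id A B))) →
      (n : Cardinal.{u}) ≤ relTrdeg t Q → FlatCA.FlatAt T Q ((T ⊗[A] B) ⊗[B] N)) := by
  let BA := A' ⊗[A] B
  let NA := BA ⊗[B] N
  let BT := T ⊗[A] B
  let NT := BT ⊗[B] N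
  let χ : BA →ₐ[A] BT := Algebra.TensorProduct.map ((Algebra.ofId A' T).restrictScalars A) (AlgHom.id A B)
  letI : Algebra BA BT := χ.toRingHom.toAlgebra
  haveI : IsScalarTower A BA BT := IsScalarTower.of_algebraMap_eq (R := A) (S := BA) (A := BT) fun a => (χ.commutes a).symm
  haveI : IsScalarTower A' BA BT := IsScalarTower.of_algebraMap_eq (R := A') (S := BA) (A := BT) fun a => by
    show algebraMap A' T a ⊗ₜ[A] (1 : B) = χ (a ⊗ₜ[A] (1 : B))
    refine Eq.trans ?_ (Algebra.TensorProduct.map_tmul _ _ _ _).symm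
    simp
  haveI : IsScalarTower B BA BT := IsScalarTower.of_algebraMap_eq (R := B) (S := BA) (A := BT) fun b => by
    show (1 : T) ⊗ₜ[A] b = χ ((1 : A') ⊗ₜ[A] b)
    refine Eq.trans ?_ (Algebra.TensorProduct.map_tmul _ _ _ _).symm
    simp
  haveI : Algebra.IsPushout A B A' BA := Algebra.IsPushout.symm inferInstance
  haveI : Algebra.IsPushout A' BA T BT := by
    haveI : Algebra.IsPushout A A' B BA := Algebra.IsPushout.symm inferInstance
    haveI : Algebra.IsPushout A T B BT := inferInstance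
    exact Algebra.IsPushout.symm ((Algebra.IsPushout.comp_iff (R := A) (S := A') (T := T) (R' := B) BA (T' := BT)).1 inferInstance)
  let ι : NA →ₗ[BA] NT := (TensorProduct.isBaseChange B N BA).lift (TensorProduct.mk B BT N 1)
  have hι : IsBaseChange BT ι := IsBaseChange.of_comp (TensorProduct.isBaseChange B N BA) (by
    rw [show ι.restrictScalars B ∘ₗ TensorProduct.mk B BA N 1 = TensorProduct.mk B BT N 1 from
      (TensorProduct.isBaseChange B N BA).lift_comp _]
    exact TensorProduct.isBaseChange B N BT)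
  -- the chart over `T`
  let CT := BT ⊗[BA] C
  haveI : Algebra.IsPushout BA C BT CT := Algebra.IsPushout.symm inferInstance
  haveI : IsScalarTower A' BT CT := inferInstance
  haveI : IsScalarTower A' C CT := IsScalarTower.of_algebraMap_eq (R := A') (S := C) (A := CT) fun a => by
    rw [IsScalarTower.algebraMap_apply A' BA C, ← IsScalarTower.algebraMap_apply BA C CT,
      IsScalarTower.algebraMap_apply BA BT CT, ← IsScalarTower.algebraMap_apply A' BA BT]
    rfl
  haveI : IsScalarTower A' T CT := IsScalarTower.of_algebraMap_eq (R := A') (S := T) (A := CT) fun a => by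
    rw [IsScalarTower.algebraMap_apply A' BT CT, IsScalarTower.algebraMap_apply A' T BT]
    rfl
  haveI : Algebra.IsPushout A' C T CT :=
    (Algebra.IsPushout.comp_iff (R := A') (S := BA) (T := C) (R' := T) BT (T' := CT)).2 inferInstance
  haveI : Algebra.Etale BT CT := inferInstance
  let MT := CT ⊗[C] Nc
  haveI : IsScalarTower BA BT MT := IsScalarTower.of_algebraMap_smul fun b x => by
    rw [← algebraMap_smul CT (algebraMap BA BT b) x, ← IsScalarTower.algebraMap_apply BA BT CT, algebraMap_smul]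
  haveI : Algebra.IsPushout BA BT C CT := Algebra.IsPushout.symm inferInstance
  clear_value ι
  have h := chart_core (A' := A') (T := T) (BA := BA) (BT := BT) (C := C) (CT := CT) (NA := NA) (NT := NT) (Nc := Nc)
    (MT := CT ⊗[C] Nc) ι hι g hg
  have h2 := h (TensorProduct.mk C CT Nc 1) (TensorProduct.isBaseChange C Nc CT) n
  refine ⟨fun hB => h2.1 hB, fun hC t Q _ _ _ hQ hd => ?_⟩
  obtain ⟨Q₀, hQ₀, e⟩ := hQ
  exact h2.2 hC t Q ⟨Q₀, hQ₀, e⟩ hd

set_option maxHeartbeats 2000000 in
/-- Near a prime, a representable condition between flatness in high dimensions of the piece and flatness at the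
points over an open containing the fibre. -/
theorem exists_chart_cond [Algebra.FinitePresentation A B] [Module.FinitePresentation B N]
    (R : Type u) [CommRing R] [Algebra A R] (P : Ideal R) [P.IsPrime] {n : ℕ}
    (hflat : FlatBC A (n + 1) R B N) :
    ∃ (A' : Type u) (_ : CommRing A') (_ : Algebra R A') (_ : Algebra A A') (_ : IsScalarTower A R A') (p' : Ideal A'),
      ∃ (_ : p'.IsPrime), FlatCA.IsEtaleNhd R A' P p' ∧
      ∃ (U : Set (PrimeSpectrum (A' ⊗[A] B))) (x : A') (Ψ : Cond A'), IsOpen U ∧ x ∉ p' ∧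
        (∀ Q : PrimeSpectrum (A' ⊗[A] B), Q.asIdeal.LiesOver p' → Q ∈ U) ∧ Rep Ψ ∧
        ∀ (T : Type u) [CommRing T] [Algebra A T] [Algebra A' T] [IsScalarTower A A' T], IsUnit (algebraMap A' T x) →
          (FlatBC A n T B N → Ψ T (algebraMap A' T)) ∧
          (Ψ T (algebraMap A' T) → ∀ (t : Ideal T) (Q : PrimeSpectrum (T ⊗[A] B)) [t.IsPrime] [Q.asIdeal.LiesOver t],
            PrimeSpectrum.comap (Algebra.TensorProduct.map (Algebra.ofId A' T |>.restrictScalars A)
              (AlgHom.id A B)).toRingHom Q ∈ U →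
            (n : Cardinal.{u}) ≤ relTrdeg t Q.asIdeal → FlatCA.FlatAt T Q.asIdeal ((T ⊗[A] B) ⊗[B] N)) := by
  classical
  let BR := R ⊗[A] B
  let NR := BR ⊗[B] N
  haveI : Algebra.IsPushout A B R BR := Algebra.IsPushout.symm inferInstance
  obtain ⟨A', _, _, p', _, hA', H⟩ := exists_dim_cover (A := R) (B := BR) NR P
  letI : Algebra A A' := ((algebraMap R A').comp (algebraMap A R)).toAlgebra
  haveI : IsScalarTower A R A' := IsScalarTower.of_algebraMap_eq' rfl
  let BA := A' ⊗[A] B
  let NA := BA ⊗[B] N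
  let χ : BR →ₐ[A] BA := Algebra.TensorProduct.map ((Algebra.ofId R A').restrictScalars A) (AlgHom.id A B)
  letI : Algebra BR BA := χ.toRingHom.toAlgebra
  haveI : IsScalarTower A BR BA := IsScalarTower.of_algebraMap_eq (R := A) (S := BR) (A := BA) fun a => (χ.commutes a).symm
  haveI : IsScalarTower R BR BA := IsScalarTower.of_algebraMap_eq (R := R) (S := BR) (A := BA) fun a => by
    show algebraMap R A' a ⊗ₜ[A] (1 : B) = χ (a ⊗ₜ[A] (1 : B))
    refine Eq.trans ?_ (Algebra.TensorProduct.map_tmul _ _ _ _).symm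
    simp
  haveI : IsScalarTower B BR BA := IsScalarTower.of_algebraMap_eq (R := B) (S := BR) (A := BA) fun b => by
    show (1 : A') ⊗ₜ[A] b = χ ((1 : R) ⊗ₜ[A] b)
    refine Eq.trans ?_ (Algebra.TensorProduct.map_tmul _ _ _ _).symm
    simp
  haveI : Algebra.IsPushout R BR A' BA := by
    haveI : Algebra.IsPushout A R B BR := Algebra.IsPushout.symm inferInstance
    exact Algebra.IsPushout.symm ((Algebra.IsPushout.comp_iff (R := A) (S := R) (T := A') (R' := B) BR (T' := BA)).1 inferInstance)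
  let fA : NR →ₗ[BR] NA := (TensorProduct.isBaseChange B N BR).lift (TensorProduct.mk B BA N 1)
  have hfA : IsBaseChange BA fA := IsBaseChange.of_comp (TensorProduct.isBaseChange B N BR) (by
    rw [show fA.restrictScalars B ∘ₗ TensorProduct.mk B BR N 1 = TensorProduct.mk B BA N 1 from
      (TensorProduct.isBaseChange B N BR).lift_comp _]
    exact TensorProduct.isBaseChange B N BA)
  obtain ⟨k, C, cC, aBC, aAC, tABC, Nc, gNc, mCN, mBN, tBCN, g, hg, hcov⟩ := H BA NA fA hfA
  haveI : ∀ i, Algebra.Etale BA (C i) := fun i => (hg i).1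
  haveI : Algebra.FinitePresentation A' BA := inferInstance
  haveI : Module.FinitePresentation BA NA := inferInstance
  haveI : ∀ i, Algebra.FinitePresentation A' (C i) := fun i => Algebra.FinitePresentation.trans A' BA (C i)
  letI : ∀ i, Module A' (Nc i) := fun i => Module.compHom (Nc i) (algebraMap A' (C i))
  haveI : ∀ i, IsScalarTower A' (C i) (Nc i) := fun i => IsScalarTower.of_algebraMap_smul fun _ _ => rfl
  have hflatA : FlatCA.FlatInDimGE (n + 1) A' BA NA := flatBC_comp N R A' hflat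
  have hnear : ∀ i, ∃ x : A', x ∉ p' ∧ ∃ Ψ : Cond A', Rep Ψ ∧ ∀ (T : Type u) [CommRing T] (φ : A' →+* T),
      IsUnit (φ x) → (Ψ T φ ↔ FCond A' (C i) (Nc i) n T φ) := fun i => by
    haveI : Module.FinitePresentation (C i) (Nc i) :=
      Module.FinitePresentation.of_equiv (hg i).2.1.equiv
    obtain ⟨D, hD⟩ := (hg i).2.2
    exact exists_repr_near (Nc i) p' D hD n (flatInDimGE_of_chart (A := A') NA (g i) (hg i).2.1 hflatA)
  choose x hx Ψ hΨ hiff using hnear
  refine ⟨A', inferInstance, inferInstance, inferInstance, inferInstance, p', inferInstance, hA',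
    ⋃ i, Set.range (PrimeSpectrum.comap (algebraMap BA (C i))), ∏ i, x i, _,
    isOpen_iUnion fun i => (PrimeSpectrum.isOpenMap_comap_of_hasGoingDown_of_finitePresentation
      (R := BA) (S := C i)).isOpen_range, ?_, ?_, rep_forall Ψ hΨ, ?_⟩
  · intro h
    obtain ⟨i, -, hi⟩ := (Ideal.IsPrime.prod_mem_iff).mp h
    exact hx i hi
  · intro Q hQ
    obtain ⟨i, Q', hQ', e⟩ := hcov Q.asIdeal hQ
    exact Set.mem_iUnion.2 ⟨i, ⟨Q', hQ'⟩, PrimeSpectrum.ext e⟩
  · intro T _ _ _ _ hu
    have hi : ∀ i, Ψ i T (algebraMap A' T) ↔ FlatBC A' n T (C i) (Nc i) := fun i =>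
      (hiff i T _ (isUnit_of_dvd_unit (map_dvd _ (Finset.dvd_prod_of_mem x (Finset.mem_univ i))) hu)).trans
        (fcond_algebraMap (Nc i) n T)
    refine ⟨fun h i => (hi i).2 ((chart_flatBC (A := A) N A' (g i) (hg i).2.1 T n).1 h), fun h t Q _ _ hQ hd => ?_⟩
    obtain ⟨i, Q₀, e⟩ := Set.mem_iUnion.1 hQ
    exact (chart_flatBC (A := A) N A' (g i) (hg i).2.1 T n).2 ((hi i).1 (h i)) t Q.asIdeal
      ⟨Q₀.asIdeal, Q₀.2, congrArg PrimeSpectrum.asIdeal e⟩ hd

end Groth.L20.RG
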