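import Groth.Agent.L20.RG.FreeNhd
import Groth.Agent.L20.RG.TransferFp
import Groth.Agent.L20.FibreFT

/-!
# Consequences on the base change to the local ring of a neighbourhood
-/

set_option autoImplicit false
set_option linter.style.haveILetI false
set_option backward.isDefEq.respectTransparency.types false
universe u

open TensorProduct IsLocalRing

noncomputable section

namespace Groth.L20.RG

/-- Base change in two steps. -/
theorem exists_isBaseChange_comp {S SA C N NA : Type u} [CommRing S] [CommRing SA] [CommRing C] [Algebra S SA]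
    [Algebra SA C] [Algebra S C] [IsScalarTower S SA C] [AddCommGroup N] [Module S N] [AddCommGroup NA] [Module SA NA]
    [Module S NA] [IsScalarTower S SA NA] (f : N →ₗ[S] NA) (hf : IsBaseChange SA f) :
    ∃ g : N →ₗ[S] C ⊗[SA] NA, IsBaseChange C g :=
  ⟨_, hf.comp (TensorProduct.isBaseChange SA NA C)⟩

/-- Freeness for the restricted scalars. -/
theorem free_restrictScalars {A C M : Type u} [CommRing A] [CommRing C] [Algebra A C] [AddCommGroup M] [Module C M]
    [Module A M] [IsScalarTower A C M] (h : Module.Free A M) : Module.Free A (RestrictScalars A C M) := by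
  haveI := h
  let e : RestrictScalars A C M ≃ₗ[A] M :=
    { RestrictScalars.addEquiv A C M with
      map_smul' := fun a x => by
        show RestrictScalars.addEquiv A C M (a • x) = a • RestrictScalars.addEquiv A C M x
        rw [RestrictScalars.addEquiv_map_smul, algebraMap_smul] }
  exact Module.Free.of_equiv e.symm

variable {A SA C NA : Type u} [CommRing A] [CommRing SA] [CommRing C] [Algebra A SA] [Algebra SA C] [Algebra A C]
  [IsScalarTower A SA C] [Algebra.Etale SA C] [AddCommGroup NA] [Module SA NA]

/-- A chart on which the module is flat gives a flat basic open set. -/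
theorem exists_flat_open [Module A NA] [IsScalarTower A SA NA] (h : Module.Free A (C ⊗[SA] NA)) (Q : Ideal SA)
    [Q.IsPrime] (x : Ideal C) [x.IsPrime] [x.LiesOver Q] :
    ∃ g : SA, g ∉ Q ∧ Module.Flat A (LocalizedModule (Submonoid.powers g) NA) ∧
      ∀ (P : Ideal SA) [P.IsPrime], g ∉ P → ∃ (P' : Ideal C) (_ : P'.IsPrime), P'.LiesOver P ∧ (1 : C) ∉ P' := by
  haveI := h
  obtain ⟨g, hg, himg⟩ := exists_basicOpen_image Q x (g := (1 : C))
    fun h1 => Ideal.IsPrime.ne_top' ((Ideal.eq_top_iff_one x).mpr h1)
  refine ⟨g, hg, (flat_away_iff g).mpr fun P _ hP => ?_, himg⟩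
  obtain ⟨P', _, hP', -⟩ := himg P hP
  haveI : Module.Flat SA C := Algebra.Smooth.flat SA C
  haveI : Module.Flat A (LocalizedModule P'.primeCompl (C ⊗[SA] NA)) :=
    FibreCrit.flat_localizedModule_of_flat P'.primeCompl
  exact Groth.L20.AboveClosed.flat_of_flat_above (TensorProduct.mk SA C NA 1) (TensorProduct.isBaseChange SA NA C) P' P
    hP'.over.symm

/-- A chart on which the module is finitely presented. -/
theorem fp_open (h : Module.FinitePresentation C (C ⊗[SA] NA)) (g : SA)
    (himg : ∀ (P : Ideal SA) [P.IsPrime], g ∉ P → ∃ (P' : Ideal C) (_ : P'.IsPrime), P'.LiesOver P ∧ (1 : C) ∉ P') :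
    Module.FinitePresentation (Localization.Away g) (LocalizedModule (Submonoid.powers g) NA) := by
  haveI : Module.Flat SA C := Algebra.Smooth.flat SA C
  exact (fpLoc_iff (Submonoid.powers g)).mpr
    (fp_away_descent (1 : C) g himg (fp_of_algebra C (Localization.Away (1 : C)) h))

omit [CommRing C] in
/-- The prime over a point and the maximal ideal is unique. -/
theorem unique_over {R S : Type u} [CommRing R] [CommRing S] [Algebra R S] [Algebra R A] [Algebra R SA] [Algebra S SA]
    [IsScalarTower R S SA] [IsScalarTower R A SA] [Algebra.IsPushout R S A SA] (p : Ideal R) [p.IsPrime]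
    (q : Ideal S) [q.IsPrime] [q.LiesOver p] (m : Ideal A) [m.IsPrime] (hm : TrivRes R p m) (Q Q' : Ideal SA)
    [Q.IsPrime] [Q'.IsPrime] (h : Q.LiesOver q) (h' : Q.LiesOver m) (g : Q'.LiesOver q) (g' : Q'.LiesOver m) : Q = Q' := by
  haveI : Algebra.IsPushout R A S SA := Algebra.IsPushout.symm inferInstance
  obtain ⟨Q₀, _, -, -, hu⟩ := exists_point_of_isPushout (B := R) (A := S) (B' := A) (A' := SA) p q m hm
  exact (hu Q h' h).trans (hu Q' g' g).symm

end Groth.L20.RG
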