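import Groth.Agent.L02.CAlg.AdicDecay.UnivInj
import Groth.Agent.L10.DRing.AdicFlatTensor
import Groth.Agent.L03.ComplExact
import Groth.Agent.L01.ProjML
import Groth.Agent.L02.Pi
import Groth.Agent.S6347
import Mathlib.RingTheory.Flat.Basic
import Groth.Prelude.Def_CAlgX

/-!
Over a Noetherian ring complete along `I`: the completion of a flat module with projective reduction is a
retract of the completion of a free module, hence flat and Mittag-Leffler.
-/

set_option autoImplicit false

universe u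

open TensorProduct

namespace Groth.L20.RG.ComplML

variable {R : Type u} [CommRing R] (I : Ideal R)

theorem flat_and_ml_finsupp [IsNoetherianRing R] [IsAdicComplete I R] (α : Type u) :
    Module.Flat R (AdicCompletion I (α →₀ R)) ∧
      CAlg.IsMittagLeffler R (AdicCompletion I (α →₀ R)) := by
  refine ⟨Groth.L10.AdicFlatTensor.flat_completion I _, ?_⟩
  let f : AdicCompletion I (α →₀ R) →ₗ[R] (α → AdicCompletion I R) :=
    LinearMap.pi fun a : α => AdicCompletion.map I (Finsupp.lapply a : (α →₀ R) →ₗ[R] R)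
  let e : (α → AdicCompletion I R) ≃ₗ[R] (α → R) :=
    LinearEquiv.piCongrRight fun _ => (AdicCompletion.ofLinearEquiv I R).symm
  refine Groth.L02.isMittagLeffler_of_universallyInjective (e.toLinearMap ∘ₗ f) ?_
    (Groth.Agent.S6347.result R α).2
  intro Q _ _
  rw [LinearMap.rTensor_comp, LinearMap.coe_comp]
  exact (LinearEquiv.rTensor Q e).injective.comp
    (L02.CAlg.AdicDecay.universallyInjective_coords I α Q)

variable {M : Type u} [AddCommGroup M] [Module R M]

/-- Maps out of a flat module with projective reduction lift along surjections whose kernel is killed by `I`. -/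
theorem exists_lift_of_smul_ker [Module.Flat R M] [Module.Projective (R ⧸ I) (M ⧸ (I • ⊤ : Submodule R M))]
    {X Y : Type u} [AddCommGroup X] [Module R X] [AddCommGroup Y] [Module R Y] (g : X →ₗ[R] Y)
    (hg : Function.Surjective g) (hK : ∀ a ∈ I, ∀ x, g x = 0 → a • x = 0) (f : M →ₗ[R] Y) :
    ∃ h : M →ₗ[R] X, g ∘ₗ h = f := by
  classical
  let p : (M →₀ R) →ₗ[R] M := Finsupp.linearCombination R (id : M → M)
  have hp : Function.Surjective p := fun m => ⟨Finsupp.single m 1, by simp [p]⟩
  obtain ⟨v, hv⟩ := Module.projective_lifting_property g (f ∘ₗ p) hg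
  let i : LinearMap.ker p →ₗ[R] (M →₀ R) := (LinearMap.ker p).subtype
  have hex : Function.Exact i p := LinearMap.exact_subtype_ker_map p
  -- reductions
  let F₀ := (M →₀ R) ⧸ (I • ⊤ : Submodule R (M →₀ R))
  let M₀ := M ⧸ (I • ⊤ : Submodule R M)
  let p₀ : F₀ →ₗ[R] M₀ := Submodule.mapQ _ _ p (Submodule.smul_top_le_comap_smul_top I p)
  have hp₀ : Function.Surjective p₀ := fun z => by
    obtain ⟨m, rfl⟩ := Submodule.Quotient.mk_surjective _ z
    obtain ⟨c, rfl⟩ := hp m
    exact ⟨Submodule.Quotient.mk c, rfl⟩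
  obtain ⟨s, hs⟩ := Module.projective_lifting_property
    (LinearMap.extendScalarsOfSurjective (Ideal.Quotient.mk_surjective (I := I)) p₀)
    (LinearMap.id : M₀ →ₗ[R ⧸ I] M₀) hp₀
  have hs' : ∀ z : M₀, p₀ (s z) = z := fun z => LinearMap.congr_fun hs z
  have hKer : ∀ x : LinearMap.ker p, g (v (i x)) = 0 := fun x => by
    have := LinearMap.congr_fun hv (i x)
    simp only [LinearMap.comp_apply] at this
    rw [this, show p (i x) = 0 from x.2, map_zero]
  let u : LinearMap.ker p →ₗ[R] LinearMap.ker g := LinearMap.codRestrict _ (v ∘ₗ i) hKer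
  have hu0 : ∀ x ∈ (I • ⊤ : Submodule R (LinearMap.ker p)), u x = 0 := fun x hx => by
    refine Submodule.smul_induction_on hx (fun a ha y _ => ?_)
      (fun y z hy hz => by rw [map_add, hy, hz, add_zero])
    rw [map_smul]
    exact Subtype.ext (hK a ha _ (u y).2)
  letI : AddCommGroup (LinearMap.ker p) := Submodule.addCommGroup _
  let L₀ := (LinearMap.ker p) ⧸ (I • ⊤ : Submodule R (LinearMap.ker p))
  let i₀ : L₀ →ₗ[R] F₀ := Submodule.mapQ _ _ i (Submodule.smul_top_le_comap_smul_top I i)
  let u₀ : L₀ →ₗ[R] LinearMap.ker g := Submodule.liftQ _ u hu0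
  have hi₀ : Function.Injective i₀ := by
    rw [injective_iff_map_eq_zero]
    intro z hz
    obtain ⟨x, rfl⟩ := Submodule.Quotient.mk_surjective _ z
    exact (Submodule.Quotient.mk_eq_zero _).mpr (Groth.L03.ComplExact.mem_smul_top_of_flat
      (Submodule.injective_subtype _) hp hex I x ((Submodule.Quotient.mk_eq_zero _).mp hz))
  let mk₀ : (M →₀ R) →ₗ[R] F₀ := Submodule.mkQ _
  let T : (M →₀ R) →ₗ[R] F₀ := mk₀ - (s.restrictScalars R) ∘ₗ p₀ ∘ₗ mk₀
  have hT : ∀ c, T c ∈ LinearMap.range i₀ := fun c => by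
    have hz : p₀ (T c) = 0 := by
      simp only [T, LinearMap.sub_apply, LinearMap.comp_apply, LinearMap.restrictScalars_apply,
        map_sub, hs', sub_self]
    obtain ⟨c', hc'⟩ := Submodule.Quotient.mk_surjective _ (T c)
    rw [← hc'] at hz ⊢
    have hmem : p c' ∈ (I • ⊤ : Submodule R M) := (Submodule.Quotient.mk_eq_zero _).mp hz
    rw [← LinearMap.range_eq_top.mpr hp, ← Submodule.map_top, ← Submodule.map_smul''] at hmem
    obtain ⟨d, hd, hd'⟩ := hmem
    obtain ⟨x, hx⟩ := (hex (c' - d)).mp (by rw [map_sub, hd', sub_self])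
    refine ⟨Submodule.Quotient.mk x, ?_⟩
    show Submodule.Quotient.mk (i x) = _
    rw [hx, Submodule.Quotient.eq]
    simpa using (Submodule.neg_mem _ hd)
  let E := LinearEquiv.ofInjective i₀ hi₀
  let ρ : (M →₀ R) →ₗ[R] LinearMap.ker g :=
    u₀ ∘ₗ E.symm.toLinearMap ∘ₗ (LinearMap.codRestrict _ T hT)
  let v' : (M →₀ R) →ₗ[R] X := v - (LinearMap.ker g).subtype ∘ₗ ρ
  have hker : LinearMap.ker p ≤ LinearMap.ker v' := fun c hc => by
    have h1 : T c = i₀ (Submodule.Quotient.mk ⟨c, hc⟩) := by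
      simp only [T, LinearMap.sub_apply, LinearMap.comp_apply, LinearMap.restrictScalars_apply]
      show mk₀ c - s (Submodule.Quotient.mk (p c)) = mk₀ c
      rw [show p c = 0 from hc, Submodule.Quotient.mk_zero, map_zero, sub_zero]
    have h2 : E.symm ⟨T c, hT c⟩ = Submodule.Quotient.mk ⟨c, hc⟩ := by
      rw [LinearEquiv.symm_apply_eq]
      exact Subtype.ext h1
    show v c - (ρ c : X) = 0
    have h3 : ρ c = u ⟨c, hc⟩ := by
      show u₀ (E.symm ⟨T c, hT c⟩) = _
      rw [h2]; rfl
    rw [h3]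
    exact sub_self _
  refine ⟨(LinearMap.ker p).liftQ v' hker ∘ₗ (p.quotKerEquivOfSurjective hp).symm.toLinearMap,
    LinearMap.ext fun m => ?_⟩
  obtain ⟨c, rfl⟩ := hp m
  have h4 : (p.quotKerEquivOfSurjective hp).symm (p c) = Submodule.Quotient.mk c := by
    rw [LinearEquiv.symm_apply_eq]; rfl
  rw [LinearMap.comp_apply, LinearMap.comp_apply, LinearEquiv.coe_coe, h4, Submodule.liftQ_apply]
  have h5 : g (v c) = f (p c) := LinearMap.congr_fun hv c
  show g (v c - (ρ c : X)) = _
  rw [map_sub, h5, (ρ c).2, sub_zero]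

/-- Maps out of a flat module with projective reduction lift along surjections with source killed by `I ^ n`. -/
theorem exists_lift [Module.Flat R M] [Module.Projective (R ⧸ I) (M ⧸ (I • ⊤ : Submodule R M))]
    (n : ℕ) {X Y : Type u} [AddCommGroup X] [Module R X] [AddCommGroup Y] [Module R Y] (g : X →ₗ[R] Y)
    (hg : Function.Surjective g) (hX : (I ^ n • ⊤ : Submodule R X) = ⊥) (f : M →ₗ[R] Y) :
    ∃ h : M →ₗ[R] X, g ∘ₗ h = f := by
  induction n generalizing X Y with
  | zero =>
    refine ⟨0, LinearMap.ext fun m => ?_⟩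
    obtain ⟨x, hx⟩ := hg (f m)
    have hx0 : x = 0 := by
      rw [pow_zero, Ideal.one_eq_top, Submodule.top_smul] at hX
      exact (Submodule.mem_bot R).mp (hX ▸ Submodule.mem_top)
    simp [← hx, hx0]
  | succ n ih =>
    let W : Submodule R X := I ^ n • LinearMap.ker g
    have hW : W ≤ LinearMap.ker g := Submodule.smul_le_right
    let g₁ : (X ⧸ W) →ₗ[R] Y := W.liftQ g hW
    have hg₁ : Function.Surjective g₁ := fun y => by
      obtain ⟨x, rfl⟩ := hg y
      exact ⟨Submodule.Quotient.mk x, rfl⟩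
    -- first lift to the quotient, where the kernel is killed by `I ^ n`
    let W₀ : Submodule R X := I ^ n • ⊤
    obtain ⟨f₁, hf₁⟩ : ∃ f₁ : M →ₗ[R] X ⧸ W, g₁ ∘ₗ f₁ = f := by
      let W' : Submodule R (X ⧸ W) := I ^ n • ⊤
      let Y' := Y ⧸ (I ^ n • ⊤ : Submodule R Y)
      let gY : ((X ⧸ W) ⧸ W') →ₗ[R] Y' :=
        Submodule.mapQ _ _ g₁ (Submodule.smul_top_le_comap_smul_top _ g₁)
      have hgY : Function.Surjective gY := fun z => by
        obtain ⟨y, rfl⟩ := Submodule.Quotient.mk_surjective _ z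
        obtain ⟨x, rfl⟩ := hg₁ y
        exact ⟨Submodule.Quotient.mk x, rfl⟩
      have hbot : (I ^ n • ⊤ : Submodule R ((X ⧸ W) ⧸ W')) = ⊥ := by
        rw [← Submodule.range_mkQ W', ← Submodule.map_top, ← Submodule.map_smul'']
        exact (Submodule.eq_bot_iff _).mpr fun z ⟨x, hx, hxz⟩ =>
          hxz ▸ (Submodule.Quotient.mk_eq_zero _).mpr hx
      obtain ⟨a, ha⟩ := ih gY hgY hbot (Submodule.mkQ _ ∘ₗ f)
      -- the fibre product
      let Q : (X ⧸ W) →ₗ[R] ((X ⧸ W) ⧸ W') × Y := LinearMap.prod W'.mkQ g₁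
      have hmem : ∀ m, (a m, f m) ∈ LinearMap.range Q := fun m => by
        obtain ⟨x, hx⟩ := Submodule.Quotient.mk_surjective _ (a m)
        have h1 : gY (Submodule.Quotient.mk x) = Submodule.Quotient.mk (f m) := by
          rw [hx]; exact LinearMap.congr_fun ha m
        have h2 : f m - g₁ x ∈ (I ^ n • ⊤ : Submodule R Y) :=
          (Submodule.Quotient.eq _).mp h1.symm
        rw [← LinearMap.range_eq_top.mpr hg₁, ← Submodule.map_top, ← Submodule.map_smul''] at h2
        obtain ⟨d, hd, hd'⟩ := h2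
        refine ⟨x + d, Prod.ext ?_ ?_⟩
        · show Submodule.Quotient.mk (x + d) = a m
          rw [← hx, Submodule.Quotient.eq]
          simpa using hd
        · show g₁ (x + d) = f m
          rw [map_add, hd', add_sub_cancel]
      have hkill : ∀ b ∈ I, ∀ z, (Q.rangeRestrict) z = 0 → b • z = 0 := by
        intro b hb z hz
        have hz' : Q z = 0 := congrArg Subtype.val hz
        have hz1 : z ∈ W' := (Submodule.Quotient.mk_eq_zero _).mp (congrArg Prod.fst hz')
        have hb2 : b • z ∈ (I ^ (n + 1) • ⊤ : Submodule R (X ⧸ W)) := by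
          rw [pow_succ', Submodule.mul_smul]
          exact Submodule.smul_mem_smul hb hz1
        rw [← Submodule.range_mkQ W, ← Submodule.map_top, ← Submodule.map_smul'', hX,
          Submodule.map_bot, Submodule.mem_bot] at hb2
        exact hb2
      obtain ⟨h, hh⟩ := exists_lift_of_smul_ker I Q.rangeRestrict Q.surjective_rangeRestrict hkill
        (LinearMap.codRestrict _ (a.prod f) hmem)
      refine ⟨h, LinearMap.ext fun m => ?_⟩
      exact congrArg (fun z => z.1.2) (LinearMap.congr_fun hh m)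
    -- then lift along `X → X ⧸ W`
    obtain ⟨h, hh⟩ := exists_lift_of_smul_ker I W.mkQ W.mkQ_surjective
      (fun b hb x hx => by
        have hxW : x ∈ W := (Submodule.Quotient.mk_eq_zero _).mp hx
        have : b • x ∈ (I ^ (n + 1) • ⊤ : Submodule R X) := by
          rw [pow_succ', Submodule.mul_smul]
          exact Submodule.smul_mem_smul hb (Submodule.smul_mono le_rfl le_top hxW)
        rwa [hX, Submodule.mem_bot] at this) f₁
    refine ⟨h, ?_⟩
    rw [← hf₁, ← hh]
    exact LinearMap.ext fun m => rfl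

/-- The completion of a flat module with projective reduction is a retract of the completion of a free one. -/
theorem exists_retract_finsupp [Module.Flat R M]
    [Module.Projective (R ⧸ I) (M ⧸ (I • ⊤ : Submodule R M))] :
    ∃ (s : AdicCompletion I M →ₗ[R] AdicCompletion I (M →₀ R))
      (r : AdicCompletion I (M →₀ R) →ₗ[R] AdicCompletion I M), r ∘ₗ s = LinearMap.id := by
  classical
  let F := M →₀ R
  let p : F →ₗ[R] M := Finsupp.linearCombination R (id : M → M)
  have hp : Function.Surjective p := fun m => ⟨Finsupp.single m 1, by simp [p, F]⟩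
  let P : ∀ n, F ⧸ (I ^ n • ⊤ : Submodule R F) →ₗ[R] M ⧸ (I ^ n • ⊤ : Submodule R M) := fun n =>
    Submodule.mapQ _ _ p (Submodule.smul_top_le_comap_smul_top _ p)
  have hbot : ∀ (n : ℕ), (I ^ n • ⊤ : Submodule R (F ⧸ (I ^ n • ⊤ : Submodule R F))) = ⊥ := fun n => by
    rw [← Submodule.range_mkQ (I ^ n • ⊤ : Submodule R F), ← Submodule.map_top, ← Submodule.map_smul'']
    exact (Submodule.eq_bot_iff _).mpr fun z ⟨x, hx, hxz⟩ =>
      hxz ▸ (Submodule.Quotient.mk_eq_zero _).mpr hx
  have step : ∀ (n : ℕ) (σ : M →ₗ[R] F ⧸ (I ^ n • ⊤ : Submodule R F)),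
      P n ∘ₗ σ = Submodule.mkQ _ →
      ∃ τ : M →ₗ[R] F ⧸ (I ^ (n + 1) • ⊤ : Submodule R F), P (n + 1) ∘ₗ τ = Submodule.mkQ _ ∧
        AdicCompletion.transitionMap I F n.le_succ ∘ₗ τ = σ := by
    intro n σ hσ
    let Q := LinearMap.prod (AdicCompletion.transitionMap I F n.le_succ) (P (n + 1))
    have hmem : ∀ m, (σ m, (Submodule.Quotient.mk m : M ⧸ (I ^ (n + 1) • ⊤ : Submodule R M)))
        ∈ LinearMap.range Q := fun m => by
      obtain ⟨c, hc⟩ := Submodule.Quotient.mk_surjective _ (σ m)
      have h1 : P n (Submodule.Quotient.mk c) = Submodule.Quotient.mk m := by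
        rw [hc]; exact LinearMap.congr_fun hσ m
      have h2 : m - p c ∈ (I ^ n • ⊤ : Submodule R M) := (Submodule.Quotient.eq _).mp h1.symm
      rw [← LinearMap.range_eq_top.mpr hp, ← Submodule.map_top, ← Submodule.map_smul''] at h2
      obtain ⟨d, hd, hd'⟩ := h2
      refine ⟨Submodule.Quotient.mk (c + d), Prod.ext ?_ ?_⟩
      · show Submodule.Quotient.mk (c + d) = σ m
        rw [← hc, Submodule.Quotient.eq]
        simpa using hd
      · show Submodule.Quotient.mk (p (c + d)) = _
        rw [map_add, hd', add_sub_cancel]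
    obtain ⟨h, hh⟩ := exists_lift I (n + 1) Q.rangeRestrict Q.surjective_rangeRestrict (hbot (n + 1))
      (LinearMap.codRestrict _ (σ.prod (Submodule.mkQ _)) hmem)
    exact ⟨h, LinearMap.ext fun m => congrArg (fun z => z.1.2) (LinearMap.congr_fun hh m),
      LinearMap.ext fun m => congrArg (fun z => z.1.1) (LinearMap.congr_fun hh m)⟩
  choose τ hτ hτ' using step
  have h0 : P 0 ∘ₗ (0 : M →ₗ[R] F ⧸ (I ^ 0 • ⊤ : Submodule R F)) = Submodule.mkQ _ :=
    LinearMap.ext fun m => by
      rw [LinearMap.comp_apply, LinearMap.zero_apply, map_zero]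
      refine ((Submodule.Quotient.mk_eq_zero _).mpr ?_).symm
      rw [pow_zero, Ideal.one_eq_top, Submodule.top_smul]
      exact Submodule.mem_top
  let S : ∀ n, {σ : M →ₗ[R] F ⧸ (I ^ n • ⊤ : Submodule R F) // P n ∘ₗ σ = Submodule.mkQ _} :=
    fun n => Nat.rec (motive := fun k => {σ : M →ₗ[R] F ⧸ (I ^ k • ⊤ : Submodule R F) //
      P k ∘ₗ σ = Submodule.mkQ _}) ⟨0, h0⟩ (fun k σ => ⟨τ k σ.1 σ.2, hτ k σ.1 σ.2⟩) n
  have hker : ∀ n, (I ^ n • ⊤ : Submodule R M) ≤ LinearMap.ker (S n).1 := fun n => by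
    intro x hx
    have := Submodule.smul_top_le_comap_smul_top (I ^ n) (S n).1 hx
    rw [Submodule.mem_comap, hbot n, Submodule.mem_bot] at this
    exact this
  let Sb : ∀ n, M ⧸ (I ^ n • ⊤ : Submodule R M) →ₗ[R] F ⧸ (I ^ n • ⊤ : Submodule R F) := fun n =>
    Submodule.liftQ _ (S n).1 (hker n)
  have hSb : ∀ {m n : ℕ} (hmn : m ≤ n) (z : M ⧸ (I ^ n • ⊤ : Submodule R M)),
      AdicCompletion.transitionMap I F hmn (Sb n z) =
        Sb m (AdicCompletion.transitionMap I M hmn z) := by
    intro m n hmn z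
    obtain ⟨x, rfl⟩ := Submodule.Quotient.mk_surjective _ z
    show AdicCompletion.transitionMap I F hmn ((S n).1 x) = (S m).1 x
    induction n, hmn using Nat.le_induction with
    | base =>
      obtain ⟨c, hc⟩ := Submodule.Quotient.mk_surjective _ ((S m).1 x)
      rw [← hc]; rfl
    | succ k hk ihk =>
      have hfac : ∀ w, AdicCompletion.transitionMap I F (hk.trans k.le_succ) w =
          AdicCompletion.transitionMap I F hk (AdicCompletion.transitionMap I F k.le_succ w) := fun w => by
        obtain ⟨c, rfl⟩ := Submodule.Quotient.mk_surjective _ w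
        rfl
      have h1 : AdicCompletion.transitionMap I F k.le_succ ((S (k + 1)).1 x) = (S k).1 x :=
        LinearMap.congr_fun (hτ' k (S k).1 (S k).2) x
      refine (hfac _).trans ?_
      rw [h1]
      exact ihk
  let s : AdicCompletion I M →ₗ[R] AdicCompletion I F :=
    AdicCompletion.lift I (fun n => Sb n ∘ₗ AdicCompletion.eval I M n) (fun {m n} hmn =>
      LinearMap.ext fun x => by
        simp only [LinearMap.comp_apply]
        rw [hSb hmn]
        exact congrArg (Sb m) (x.2 hmn))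
  refine ⟨s, (AdicCompletion.map I p).restrictScalars R, LinearMap.ext fun x => AdicCompletion.ext fun n => ?_⟩
  show P n (Sb n (x.val n)) = x.val n
  obtain ⟨m, hm⟩ := Submodule.Quotient.mk_surjective _ (x.val n)
  rw [← hm]
  exact LinearMap.congr_fun (S n).2 m

theorem flat_and_ml [IsNoetherianRing R] [IsAdicComplete I R] [Module.Flat R M]
    [Module.Projective (R ⧸ I) (M ⧸ (I • ⊤ : Submodule R M))] :
    Module.Flat R (AdicCompletion I M) ∧ CAlg.IsMittagLeffler R (AdicCompletion I M) := by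
  obtain ⟨s, r, h⟩ := exists_retract_finsupp I (M := M)
  obtain ⟨h1, h2⟩ := flat_and_ml_finsupp I M
  exact ⟨Module.Flat.of_retract s r h, Groth.L02.isMittagLeffler_of_universallyInjective s
    (Groth.L01.ProjML.universallyInjective_of_leftInverse s r h) h2⟩

end Groth.L20.RG.ComplML
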