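import Groth.Agent.L13.BlowUp.Exists
import Groth.Agent.L22.Ideal
import Groth.Agent.L01.CompletionExt
import Mathlib.RingTheory.DiscreteValuationRing.Basic
import Mathlib.RingTheory.IsTensorProduct

/-!
# Ideal sheaves over a completion supported in the closed fibre descend
-/

set_option autoImplicit false
set_option linter.style.haveILetI false
set_option backward.isDefEq.respectTransparency.types false
universe u

open CategoryTheory CategoryTheory.Limits AlgebraicGeometry

noncomputable section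

namespace Groth.L20.RG.ComplIdeal

/-- An ideal containing a power of `z` comes from below when `z`-adically approximations exist. -/
theorem map_comap_eq {R Rh B Bh : CommRingCat.{u}} {a : R ⟶ B} {σ : R ⟶ Rh} {l : B ⟶ Bh} {r : Rh ⟶ Bh}
    (h : IsPushout σ a r l) (J : Ideal Bh) (e : R) (he : r (σ e) ∈ J)
    (h' : ∀ c : Rh, ∃ (x : R) (d : Rh), c - σ x = σ e * d) :
    (J.comap l.hom).map l.hom = J := by
  refine le_antisymm Ideal.map_comap_le fun x hx => ?_
  letI : Algebra R Rh := σ.hom.toAlgebra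
  letI : Algebra R B := a.hom.toAlgebra
  letI : Algebra Rh Bh := r.hom.toAlgebra
  letI : Algebra B Bh := l.hom.toAlgebra
  letI : Algebra R Bh := (σ ≫ r).hom.toAlgebra
  haveI : IsScalarTower R Rh Bh := IsScalarTower.of_algebraMap_eq fun _ => rfl
  haveI : IsScalarTower R B Bh := IsScalarTower.of_algebraMap_eq fun x => ConcreteCategory.congr_hom h.w x
  haveI : Algebra.IsPushout R Rh B Bh := CommRingCat.isPushout_iff_isPushout.1 h
  let K : Ideal Bh := (J.comap l.hom).map l.hom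
  have hre : r (σ e) = l (a e) := ConcreteCategory.congr_hom h.w e
  have heK : r (σ e) ∈ K := hre ▸ Ideal.mem_map_of_mem _ (show l (a e) ∈ J from hre ▸ he)
  have key : ∀ y : Bh, ∃ b : B, y - l b ∈ K := fun y => by
    induction y using (Algebra.IsPushout.out (R := R) (S := Rh) (R' := B) (S' := Bh)).inductionOn with
    | zero => exact ⟨0, by simp⟩
    | tmul b => exact ⟨b, by show l b - l b ∈ K; simp⟩
    | smul c y hy =>
      obtain ⟨b, hb⟩ := hy
      obtain ⟨x, d, hx⟩ := h' c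
      refine ⟨a x * b, ?_⟩
      rw [Algebra.smul_def, map_mul]
      show r c * y - l (a x) * l b ∈ K
      rw [show r c * y - l (a x) * l b = r c * (y - l b) + r (c - σ x) * l b by
        rw [map_sub, show r (σ x) = l (a x) from ConcreteCategory.congr_hom h.w x]; ring]
      rw [hx, map_mul]
      exact add_mem (K.mul_mem_left _ hb) (K.mul_mem_right _ (K.mul_mem_right _ heK))
    | add y₁ y₂ h₁ h₂ =>
      obtain ⟨b₁, hb₁⟩ := h₁
      obtain ⟨b₂, hb₂⟩ := h₂
      exact ⟨b₁ + b₂, by rw [map_add, add_sub_add_comm]; exact add_mem hb₁ hb₂⟩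
  obtain ⟨b, hb⟩ := key x
  have hlb : l b ∈ J := by simpa using J.sub_mem hx (Ideal.map_comap_le hb)
  simpa using add_mem hb (Ideal.mem_map_of_mem l.hom (show b ∈ J.comap l.hom from hlb))

/-- The sections of a cartesian square over affine opens form a pushout. -/
theorem isPushout_appLE {X S T P : Scheme.{u}} {f : X ⟶ S} {g : T ⟶ S} {p : P ⟶ X} {p' : P ⟶ T}
    (hP : IsPullback p p' f g) [IsAffineHom g] {W : X.Opens} (hW : IsAffineOpen W) [IsAffine S] :
    IsPushout (f.appLE ⊤ W le_top) (g.appLE ⊤ ⊤ le_top) (p.app W) (p'.appLE ⊤ (p ⁻¹ᵁ W) le_top) := by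
  haveI : IsAffineHom p := MorphismProperty.of_isPullback hP.flip ‹_›
  haveI : IsAffine T := isAffine_of_isAffineHom g
  have hR := Scheme.Hom.isPullback_resLE (US := ⊤) (UT := ⊤) (UX := W) hP le_top le_top
    (UY := p ⁻¹ᵁ W) (by simp)
  haveI : IsAffine (W : Scheme.{u}) := hW
  haveI : IsAffine ((⊤ : S.Opens) : Scheme.{u}) := isAffineOpen_top S
  haveI : IsAffine ((⊤ : T.Opens) : Scheme.{u}) := isAffineOpen_top T
  have hh := isPushout_appTop_of_isPullback hR
  rw [Scheme.Hom.app_eq_appLE]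
  refine hh.of_iso (⊤ : S.Opens).topIso W.topIso (⊤ : T.Opens).topIso (Scheme.Opens.topIso (p ⁻¹ᵁ W)) ?_ ?_ ?_ ?_
  · exact (Arrow.w (arrowResLEAppIso f ⊤ W le_top).hom).symm
  · exact (Arrow.w (arrowResLEAppIso g ⊤ ⊤ le_top).hom).symm
  · exact (Arrow.w (arrowResLEAppIso p W (p ⁻¹ᵁ W) le_rfl).hom).symm
  · exact (Arrow.w (arrowResLEAppIso p' ⊤ (p ⁻¹ᵁ W) le_top).hom).symm

/-- An ideal sheaf over the completion with support in the closed fibre descends. -/
theorem map_comap_eq_sheaf {R : Type u} [CommRing R] [IsDomain R] [IsDiscreteValuationRing R] {Y : Scheme.{u}}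
    (q : Y ⟶ Spec (CommRingCat.of R))
    (I : (pullback q (Spec.map (CommRingCat.ofHom (algebraMap R
      (AdicCompletion (IsLocalRing.maximalIdeal R) R))))).IdealSheafData)
    (hI : (I.support : Set ↥(pullback q (Spec.map (CommRingCat.ofHom (algebraMap R
      (AdicCompletion (IsLocalRing.maximalIdeal R) R)))))) ⊆
      (pullback.fst q (Spec.map (CommRingCat.ofHom (algebraMap R
        (AdicCompletion (IsLocalRing.maximalIdeal R) R)))) ≫ q).base ⁻¹' {IsLocalRing.closedPoint R}) :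
    (I.map (pullback.fst q (Spec.map (CommRingCat.ofHom (algebraMap R
        (AdicCompletion (IsLocalRing.maximalIdeal R) R)))))).comap (pullback.fst q (Spec.map (CommRingCat.ofHom (algebraMap R
        (AdicCompletion (IsLocalRing.maximalIdeal R) R))))) = I := by
  let Rh := AdicCompletion (IsLocalRing.maximalIdeal R) R
  let σ := CommRingCat.ofHom (algebraMap R Rh)
  let π := pullback.fst q (Spec.map σ)
  haveI : IsAffineHom π := MorphismProperty.pullback_fst _ _ inferInstance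
  refine Scheme.IdealSheafData.ext_of_iSup_eq_top
    (fun W : Y.affineOpens => (⟨π ⁻¹ᵁ W.1, W.2.preimage π⟩ : (pullback q (Spec.map σ)).affineOpens)) ?_ fun W => ?_
  · rw [← Scheme.Hom.preimage_iSup, iSup_affineOpens_eq_top]
    rfl
  have hV := W.2.preimage π
  rw [Groth.L22.Ideals.comap_ideal π _ W ⟨_, hV⟩ le_rfl, ← Scheme.Hom.app_eq_appLE,
    Scheme.IdealSheafData.ideal_map_of_isAffineHom]
  have h0 := isPushout_appLE (IsPullback.of_hasPullback q (Spec.map σ)) W.2
  have h1 : IsPushout σ ((Scheme.ΓSpecIso (CommRingCat.of R)).inv ≫ q.appLE ⊤ W.1 le_top)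
      ((Scheme.ΓSpecIso (CommRingCat.of Rh)).inv ≫ (pullback.snd q (Spec.map σ)).appLE ⊤ (π ⁻¹ᵁ W.1) le_top)
      (π.app W.1) := by
    refine h0.flip.of_iso (Scheme.ΓSpecIso _) (Scheme.ΓSpecIso _) (Iso.refl _) (Iso.refl _) ?_ ?_ ?_ ?_
    · rw [show (Spec.map σ).appLE ⊤ ⊤ le_top = (Spec.map σ).appTop from (Scheme.Hom.app_eq_appLE _).symm]
      exact Scheme.ΓSpecIso_naturality σ
    · exact (Category.comp_id _).trans (Iso.hom_inv_id_assoc _ _).symm
    · exact (Category.comp_id _).trans (Iso.hom_inv_id_assoc _ _).symm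
    · exact (Category.comp_id _).trans (Category.id_comp _).symm
  obtain ⟨ϖ, hϖ⟩ := IsDiscreteValuationRing.exists_irreducible R
  set J := I.ideal ⟨π ⁻¹ᵁ W.1, hV⟩ with hJ
  let z := π.app W.1 (q.appLE ⊤ W.1 le_top ((Scheme.ΓSpecIso (CommRingCat.of R)).inv ϖ))
  have hz : z ∈ J.radical := by
    rw [Ideal.radical_eq_sInf, Ideal.mem_sInf]
    rintro P ⟨hJP, hP⟩
    let t := hV.fromSpec ⟨P, hP⟩
    have htV : t ∈ π ⁻¹ᵁ W.1 := by
      rw [← SetLike.mem_coe, ← hV.range_fromSpec]; exact ⟨_, rfl⟩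
    have hmem : ∀ b, t ∈ (pullback q (Spec.map σ)).basicOpen b ↔ b ∉ P := fun b => by
      exact (Set.ext_iff.1 (congrArg SetLike.coe (hV.fromSpec_preimage_basicOpen b)) ⟨P, hP⟩)
    have hsupp : t ∈ I.support := by
      rw [Scheme.IdealSheafData.mem_support_iff_of_mem (U := ⟨π ⁻¹ᵁ W.1, hV⟩) htV, Scheme.mem_zeroLocus_iff]
      exact fun b hb => fun h => (hmem b).1 h (hJP hb)
    have hcl : q (π t) = IsLocalRing.closedPoint R := hI hsupp
    by_contra hzP
    have h2 := (hmem z).2 hzP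
    rw [← π.preimage_basicOpen, Scheme.basicOpen_appLE] at h2
    have h3 := h2.2
    have h4 : q (π t) ∈ PrimeSpectrum.basicOpen ϖ :=
      (congrArg (fun O : (Spec (CommRingCat.of R)).Opens => q (π t) ∈ O) (basicOpen_eq_of_affine (R := CommRingCat.of R) ϖ)).mp
        (show q (π t) ∈ (Spec (CommRingCat.of R)).basicOpen ((Scheme.ΓSpecIso (CommRingCat.of R)).inv ϖ) from h3)
    rw [hcl] at h4
    exact h4 hϖ.not_isUnit
  obtain ⟨N, hN⟩ := Ideal.mem_radical_iff.1 hz
  refine map_comap_eq h1 J (ϖ ^ N) ?_ fun c => ?_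
  · rw [show ((Scheme.ΓSpecIso (CommRingCat.of Rh)).inv ≫ (pullback.snd q (Spec.map σ)).appLE ⊤ (π ⁻¹ᵁ W.1) le_top)
      (σ (ϖ ^ N)) = π.app W.1 (((Scheme.ΓSpecIso (CommRingCat.of R)).inv ≫ q.appLE ⊤ W.1 le_top) (ϖ ^ N)) from
      ConcreteCategory.congr_hom h1.w (ϖ ^ N), map_pow, map_pow]
    exact hN
  · obtain ⟨x, hx⟩ := Groth.L01.CompletionExt.exists_sub_mem_pow (R := R) N c
    rw [← Groth.L01.AnalUnram.completion_map_maximalIdeal, ← Ideal.map_pow] at hx
    have e : (IsLocalRing.maximalIdeal R ^ N).map (algebraMap R Rh) = Ideal.span {algebraMap R Rh (ϖ ^ N)} :=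
      (congrArg (Ideal.map (algebraMap R Rh)) (show IsLocalRing.maximalIdeal R ^ N = Ideal.span {ϖ ^ N} by
        rw [(IsDiscreteValuationRing.irreducible_iff_uniformizer ϖ).1 hϖ, Ideal.span_singleton_pow])).trans
        (by rw [Ideal.map_span, Set.image_singleton])
    replace hx := Ideal.mem_span_singleton'.1 (e ▸ hx)
    obtain ⟨d, hd⟩ := hx
    exact ⟨x, d, hd.symm.trans (mul_comm _ _)⟩

/-- Blow-ups may be transported along isomorphisms of the source. -/
theorem isBlowUp_of_source_iso {B B' X : Scheme.{u}} (e : B' ≅ B) {b : B ⟶ X} {b' : B' ⟶ X} (he : e.hom ≫ b = b')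
    {I : X.IdealSheafData} (hb : BlowUp.IsBlowUp b I) : BlowUp.IsBlowUp b' I := by
  subst he
  refine ⟨?_, fun T g hg => ?_⟩
  · rw [Scheme.IdealSheafData.comap_comp]
    exact Groth.L22.Ideals.isEffCartier_comap_of_flat e.hom hb.1
  · obtain ⟨k, hk, hu⟩ := hb.2 T g hg
    refine ⟨k ≫ e.inv, by show (k ≫ e.inv) ≫ e.hom ≫ b = g; simp [hk], fun l hl => ?_⟩
    rw [← hu (l ≫ e.hom) (by show (l ≫ e.hom) ≫ b = g; rw [Category.assoc]; exact hl)]
    simp

end Groth.L20.RG.ComplIdeal
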