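import Groth.Prelude.Def_FlatCA
import Groth.Agent.S2141
import Groth.Agent.L06.SupportDim
import Mathlib.RingTheory.ZariskisMainTheorem
import Mathlib.RingTheory.AlgebraicIndependent.TranscendenceBasis

/-!
# Coordinates near a point of a fibre
-/

set_option autoImplicit false
set_option linter.style.haveILetI false
universe u

open TensorProduct

noncomputable section

namespace Groth.L20.RG

variable {R C : Type u} [CommRing R] [CommRing C] [Algebra R C] [Algebra.FiniteType R C]

/-- The reduced image of the algebra generates the residue field algebraically. -/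
theorem isAlgebraic_adjoin_range {k F : Type u} [Field k] [CommRing F] [Algebra k F] (P : Ideal F) [P.IsPrime]
    (s : Set F) (hs : Algebra.adjoin k s = ⊤) :
    Algebra.IsAlgebraic (Algebra.adjoin k (algebraMap F P.ResidueField '' s)) P.ResidueField := by
  set A0 := Algebra.adjoin k (algebraMap F P.ResidueField '' s)
  have hmem : ∀ x : F, algebraMap F P.ResidueField x ∈ A0 := fun x => by
    have : (⊤ : Subalgebra k F).map (IsScalarTower.toAlgHom k F P.ResidueField) = A0 := by
      rw [← hs, AlgHom.map_adjoin]; rfl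
    rw [← this]; exact ⟨x, Algebra.mem_top, rfl⟩
  refine ⟨fun z => ?_⟩
  obtain ⟨u, v, hv, rfl⟩ := IsFractionRing.div_surjective (A := F ⧸ P) z
  obtain ⟨u, rfl⟩ := Ideal.Quotient.mk_surjective u
  obtain ⟨v, rfl⟩ := Ideal.Quotient.mk_surjective v
  have hv0 : algebraMap (F ⧸ P) P.ResidueField (Ideal.Quotient.mk P v) ≠ 0 :=
    IsFractionRing.to_map_ne_zero_of_mem_nonZeroDivisors hv
  rw [Ideal.algebraMap_quotient_residueField_mk, Ideal.algebraMap_quotient_residueField_mk]
  rw [Ideal.algebraMap_quotient_residueField_mk] at hv0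
  refine ⟨Polynomial.C (⟨_, hmem v⟩ : A0) * Polynomial.X - Polynomial.C ⟨_, hmem u⟩, fun h => ?_, ?_⟩
  · have := congrArg (fun q => Polynomial.coeff q 1) h
    simp at this
    exact hv0 (congrArg Subtype.val this)
  · simp only [map_sub, map_mul, Polynomial.aeval_C, Polynomial.aeval_X]
    show algebraMap F P.ResidueField v * _ - algebraMap F P.ResidueField u = 0
    rw [mul_div_cancel₀ _ hv0, sub_self]

theorem adjoin_range_includeRight (p : Ideal R) [p.IsPrime] :
    Algebra.adjoin p.ResidueField (Set.range fun c : C => ((1 : p.ResidueField) ⊗ₜ[R] c : p.Fiber C)) = ⊤ := by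
  refine top_le_iff.mp fun x _ => ?_
  induction x using TensorProduct.induction_on with
  | zero => exact zero_mem _
  | add x y hx hy => exact add_mem (hx trivial) (hy trivial)
  | tmul a c =>
    rw [← mul_one a, ← smul_eq_mul, ← TensorProduct.smul_tmul']
    exact Subalgebra.smul_mem _ (Algebra.subset_adjoin (Set.mem_range_self c)) _

/-- A transcendence basis of a residue field made of generators. -/
theorem exists_basis_of_generators {k F : Type u} [Field k] [CommRing F] [Algebra k F] [Algebra.FiniteType k F]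
    (P : Ideal F) [P.IsPrime] (T : Set F) (hT : Algebra.adjoin k T = ⊤) (n : ℕ)
    (hn : FlatMor.localDim (PrimeSpectrum F) ⟨P, inferInstance⟩ = n) :
    ∃ (a b : ℕ), n = b + a ∧ ringKrullDim (Localization.AtPrime P) = (b : WithBot ℕ∞) ∧
      ∃ x : Fin a → F, (∀ i, x i ∈ T) ∧ IsTranscendenceBasis k fun i => algebraMap F P.ResidueField (x i) := by
  classical
  haveI := isAlgebraic_adjoin_range P T hT
  obtain ⟨t, hts, ht⟩ := exists_isTranscendenceBasis_subset (R := k) (A := P.ResidueField)
    (algebraMap F P.ResidueField '' T)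
  have hcard := ht.cardinalMk_eq_trdeg
  obtain ⟨a₀, b₀, ha₀, hb₀, hab⟩ := Groth.L03.MiracleQF.exists_localDim_eq k F P
  haveI : IsScalarTower k (F ⧸ P) P.ResidueField := IsScalarTower.of_algebraMap_eq' rfl
  have htr : Algebra.trdeg k P.ResidueField = (a₀ : Cardinal.{u}) :=
    Groth.L22.AffineDim.trdeg_fractionRing k (F ⧸ P) P.ResidueField ha₀
  have hdim := Groth.Agent.S2141.result (k := k) (S := F) P a₀ htr
  rw [hn, hb₀] at hdim
  obtain rfl : n = b₀ + a₀ := by exact_mod_cast hdim
  haveI : Finite t := Cardinal.lt_aleph0_iff_finite.mp (by rw [hcard, htr]; exact Cardinal.natCast_lt_aleph0)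
  haveI := Fintype.ofFinite t
  have htc : Fintype.card t = a₀ := by
    have := hcard.trans htr
    rwa [Cardinal.mk_fintype, Nat.cast_inj] at this
  let et : Fin a₀ ≃ t := (Fintype.equivFinOfCardEq htc).symm
  choose x hxT hx using fun i : Fin a₀ => hts (et i).2
  refine ⟨a₀, b₀, rfl, hb₀, x, hxT, ?_⟩
  have : (fun i => algebraMap F P.ResidueField (x i)) = Subtype.val ∘ et := funext hx
  rw [this]
  exact ht.comp_equiv et

/-- Parameters of a local ring, chosen in the ring. -/
theorem exists_minimal_over_parameters {F : Type u} [CommRing F] [IsNoetherianRing F] (P : Ideal F) [P.IsPrime]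
    (b : ℕ) (hb : ringKrullDim (Localization.AtPrime P) = (b : WithBot ℕ∞)) :
    ∃ x : Fin b → F, (∀ j, x j ∈ P) ∧ P ∈ (Ideal.span (Set.range x)).minimalPrimes := by
  classical
  let A := Localization.AtPrime P
  obtain ⟨l, hl, hlm, hl0⟩ := Groth.L06.SupportDim.exists_parameters (A := A) b ⊥
    (by rw [← hb]; exact ringKrullDim_eq_of_ringEquiv (RingEquiv.quotientBot A))
  choose x v hxv using fun j : Fin b => IsLocalization.exists_mk'_eq P.primeCompl (l.get (j.cast hl.symm))
  have hx : ∀ j, x j ∈ P := fun j => by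
    have := hlm (l.get (j.cast hl.symm)) (List.get_mem _ _)
    rw [Ring.jacobson_eq_sInf_isMaximal] at this
    have h2 : l.get (j.cast hl.symm) ∈ IsLocalRing.maximalIdeal A :=
      Ideal.mem_sInf.mp this (IsLocalRing.maximalIdeal.isMaximal A)
    rw [← hxv j] at h2
    exact (IsLocalization.AtPrime.mk'_mem_maximal_iff A P _ _).mp h2
  refine ⟨x, hx, ⟨inferInstance, Ideal.span_le.mpr (Set.range_subset_iff.mpr hx)⟩, fun P' ⟨hP', hJP⟩ hPP => ?_⟩
  have hd : Disjoint (P.primeCompl : Set F) (P' : Set F) :=
    Set.disjoint_left.mpr fun z hz hzP => hz (hPP hzP)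
  haveI := IsLocalization.isPrime_of_isPrime_disjoint P.primeCompl A P' hP' hd
  have hle : Ideal.ofList l ≤ P'.map (algebraMap F A) := Ideal.span_le.mpr fun z hz => by
    obtain ⟨i, rfl⟩ := List.get_of_mem hz
    obtain ⟨j, rfl⟩ : ∃ j : Fin b, j.cast hl.symm = i := ⟨i.cast hl, by simp⟩
    rw [SetLike.mem_coe, ← hxv, IsLocalization.mk'_eq_mul_mk'_one]
    exact Ideal.mul_mem_right _ _ (Ideal.mem_map_of_mem _ (hJP (Ideal.subset_span ⟨j, rfl⟩)))
  have hmax : (P'.map (algebraMap F A)).IsMaximal :=
    (Groth.L06.SupportDim.le_zero_iff_forall_isMaximal _).mp hl0 _ inferInstance (sup_le bot_le hle)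
  intro z hz
  rw [← IsLocalization.comap_map_of_isPrime_disjoint P.primeCompl A hP' hd]
  show algebraMap F A z ∈ P'.map (algebraMap F A)
  rw [IsLocalRing.eq_maximalIdeal hmax]
  exact (IsLocalization.AtPrime.to_map_mem_maximal_iff A P z).mpr hz

/-- An element outside a minimal prime, in all the other ones. -/
theorem exists_mem_other_minimalPrimes {F : Type u} [CommRing F] [IsNoetherianRing F] (J P : Ideal F) [P.IsPrime]
    (hP : P ∈ J.minimalPrimes) : ∃ c ∉ P, ∀ P' ∈ J.minimalPrimes, P' ≠ P → c ∈ P' := by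
  classical
  have hfin : (J.minimalPrimes \ {P}).Finite := (J.finite_minimalPrimes_of_isNoetherianRing).diff
  by_contra hne
  push Not at hne
  have hle : hfin.toFinset.inf id ≤ P := fun z hz => by
    by_contra hzP
    obtain ⟨P', hP', hP'P, hzP'⟩ := hne z hzP
    exact hzP' (Finset.inf_le (f := id) (hfin.mem_toFinset.mpr ⟨hP', hP'P⟩) hz)
  obtain ⟨P', hP', hle'⟩ := (Ideal.IsPrime.inf_le' (inferInstance : P.IsPrime)).mp hle
  obtain ⟨hPJ, hPne⟩ := hfin.mem_toFinset.mp hP'
  exact hPne (le_antisymm hle' (hP.2 hPJ.1 hle'))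

/-- A point is the only point above it where a transcendence basis stays independent. -/
theorem eq_of_le_of_algebraicIndependent {k F : Type u} [Field k] [CommRing F] [Algebra k F] {a : ℕ} (P P' : Ideal F)
    [P.IsPrime] [P'.IsPrime] (h : P ≤ P') (x : Fin a → F)
    (hx : IsTranscendenceBasis k fun i => algebraMap F P.ResidueField (x i))
    (hx' : AlgebraicIndependent k fun i => algebraMap F P'.ResidueField (x i)) : P' = P := by
  refine le_antisymm (fun z hz => ?_) h
  by_contra hzQ
  let θ : MvPolynomial (Fin a) k →ₐ[k] F := MvPolynomial.aeval x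
  haveI : Algebra.IsAlgebraic (Algebra.adjoin k (Set.range fun i => algebraMap F P.ResidueField (x i))) P.ResidueField :=
    hx.isAlgebraic
  obtain ⟨G, hG0, hG⟩ := (Algebra.IsAlgebraic.isAlgebraic
    (R := Algebra.adjoin k (Set.range fun i => algebraMap F P.ResidueField (x i)))
    (algebraMap F P.ResidueField z)).exists_nonzero_coeff_and_aeval_eq_zero
      (mem_nonZeroDivisors_of_ne_zero fun hz0 => hzQ (Ideal.algebraMap_residueField_eq_zero.mp hz0))
  have hlift : ∀ i, ∃ g : MvPolynomial (Fin a) k, MvPolynomial.aeval (fun i => algebraMap F P.ResidueField (x i)) g =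
      (G.coeff i : P.ResidueField) := fun i =>
    (SetLike.ext_iff.mp (Algebra.adjoin_range_eq_range_aeval k _) _).mp (G.coeff i).2
  choose g hg using hlift
  let w : F := ∑ i ∈ Finset.range (G.natDegree + 1), θ (g i) * z ^ i
  have hθ : ∀ (P : Ideal F) [P.IsPrime] (u : MvPolynomial (Fin a) k),
      algebraMap F P.ResidueField (θ u) = MvPolynomial.aeval (fun i => algebraMap F P.ResidueField (x i)) u :=
    fun P _ u => (MvPolynomial.aeval_algebraMap_apply P.ResidueField x u).symm
  have hwQ : w ∈ P := by
    rw [← Ideal.algebraMap_residueField_eq_zero, map_sum, ← hG, Polynomial.aeval_eq_sum_range]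
    refine Finset.sum_congr rfl fun i _ => ?_
    rw [map_mul, map_pow, hθ, hg, Algebra.smul_def]
    rfl
  have hw' : algebraMap F P'.ResidueField w = 0 := Ideal.algebraMap_residueField_eq_zero.mpr (h hwQ)
  rw [map_sum, Finset.sum_range_succ', pow_zero, mul_one, Finset.sum_eq_zero fun i _ => by
    rw [map_mul, map_pow, Ideal.algebraMap_residueField_eq_zero.mpr hz, zero_pow (Nat.succ_ne_zero i), mul_zero],
    zero_add, hθ] at hw'
  have hg0 : g 0 = 0 := hx' (hw'.trans (map_zero _).symm)
  apply hG0
  have h0 := hg 0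
  rw [hg0, map_zero] at h0
  exact Subtype.ext h0.symm

/-- A point is quasi-finite if it is the only point of its fibre in a basic open set. -/
theorem quasiFiniteAt_of_isolated {A C : Type u} [CommRing A] [CommRing C] [Algebra A C] [Algebra.FiniteType A C]
    (r : Ideal C) [r.IsPrime] (c : C) (hc : c ∉ r)
    (h : ∀ r' : PrimeSpectrum C, r'.asIdeal.comap (algebraMap A C) = r.comap (algebraMap A C) → c ∉ r'.asIdeal →
      r'.asIdeal = r) : Algebra.QuasiFiniteAt A r := by
  refine Algebra.QuasiFiniteAt.of_isOpen_singleton_fiber (⟨r, inferInstance⟩ : PrimeSpectrum C) ?_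
  have hset : ({⟨⟨r, inferInstance⟩, rfl⟩} : Set ↑(PrimeSpectrum.comap (algebraMap A C) ⁻¹'
      {PrimeSpectrum.comap (algebraMap A C) ⟨r, inferInstance⟩})) =
      Subtype.val ⁻¹' (PrimeSpectrum.basicOpen c : Set (PrimeSpectrum C)) := by
    ext ⟨r', hr'⟩
    constructor
    · rintro ⟨⟩; exact hc
    · intro hcr'
      exact Subtype.ext (PrimeSpectrum.ext (h r' (congrArg PrimeSpectrum.asIdeal hr') hcr'))
  rw [hset]
  exact (PrimeSpectrum.basicOpen c).isOpen.preimage continuous_subtype_val

section Residue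

variable {A F : Type u} [CommRing A] [Algebra R A] [CommRing F] [Algebra R F]

/-- The residue field of the image of a point of the fibre maps to the residue field of the point. -/
theorem exists_residueHom (p : Ideal R) [p.IsPrime] [Algebra p.ResidueField F] [IsScalarTower R p.ResidueField F]
    (ι : C →ₐ[R] F) (P : Ideal F) [P.IsPrime] (φ : A →ₐ[R] C)
    (y : Ideal A) [y.IsPrime] [hy : y.LiesOver p]
    (hP : ∀ G, G ∈ y ↔ ι (φ G) ∈ P) :
    letI : Algebra p.ResidueField y.ResidueField :=
      (Ideal.ResidueField.mapₐ p y (Algebra.ofId R A) hy.over).toRingHom.toAlgebra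
    ∃ j : y.ResidueField →ₐ[p.ResidueField] P.ResidueField, ∀ G,
      j (algebraMap A y.ResidueField G) = algebraMap F P.ResidueField (ι (φ G)) := by
  letI : Algebra p.ResidueField y.ResidueField :=
    (Ideal.ResidueField.mapₐ p y (Algebra.ofId R A) hy.over).toRingHom.toAlgebra
  let χ : A →ₐ[R] F := ι.comp φ
  let g : y.ResidueField →+* P.ResidueField := Ideal.ResidueField.map y P χ.toRingHom (Ideal.ext hP)
  have hg : ∀ G, g (algebraMap A y.ResidueField G) = algebraMap F P.ResidueField (ι (φ G)) := fun G =>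
    Ideal.ResidueField.map_algebraMap _ _ _ _ _
  have : g.comp (algebraMap p.ResidueField y.ResidueField) = algebraMap p.ResidueField P.ResidueField := by
    refine Ideal.ResidueField.ringHom_ext ?_
    ext c
    show g (Ideal.ResidueField.mapₐ p y (Algebra.ofId R A) hy.over (algebraMap R p.ResidueField c)) = _
    rw [AlgHom.commutes, IsScalarTower.algebraMap_apply R A y.ResidueField, hg, AlgHom.commutes,
      AlgHom.commutes, RingHom.comp_apply, IsScalarTower.algebraMap_apply p.ResidueField F P.ResidueField,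
      ← IsScalarTower.algebraMap_apply R p.ResidueField F]
  exact ⟨{ g with commutes' := fun c => congrFun (congrArg DFunLike.coe this) c }, hg⟩

/-- Independence can be read in any point over the image. -/
theorem algebraicIndependent_residue_iff (p : Ideal R) [p.IsPrime] [Algebra p.ResidueField F]
    [IsScalarTower R p.ResidueField F] (ι : C →ₐ[R] F) (P : Ideal F) [P.IsPrime]
    (φ : A →ₐ[R] C) (y : Ideal A) [y.IsPrime] [hy : y.LiesOver p]
    (hP : ∀ G, G ∈ y ↔ ι (φ G) ∈ P) {a : ℕ} (X : Fin a → A) :
    (letI : Algebra p.ResidueField y.ResidueField :=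
      (Ideal.ResidueField.mapₐ p y (Algebra.ofId R A) hy.over).toRingHom.toAlgebra
    AlgebraicIndependent p.ResidueField fun i => algebraMap A y.ResidueField (X i)) ↔
      AlgebraicIndependent p.ResidueField fun i => algebraMap F P.ResidueField (ι (φ (X i))) := by
  letI : Algebra p.ResidueField y.ResidueField :=
    (Ideal.ResidueField.mapₐ p y (Algebra.ofId R A) hy.over).toRingHom.toAlgebra
  obtain ⟨j, hj⟩ := exists_residueHom p ι P φ y hP
  have hfun : (fun i => algebraMap F P.ResidueField (ι (φ (X i)))) =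
      j ∘ fun i => algebraMap A y.ResidueField (X i) := funext fun i => (hj _).symm
  rw [hfun]
  exact ⟨fun h => h.map' j.toRingHom.injective, fun h => h.of_comp j⟩

end Residue

/-- The residue field of a prime of a polynomial ring containing the first variables, with the last ones
independent, is purely transcendental. -/
theorem purelyTranscendental_of_append (p : Ideal R) [p.IsPrime] {b₀ a₀ : ℕ}
    (y : Ideal (MvPolynomial (Fin (b₀ + a₀)) R)) [y.IsPrime] [hy : y.LiesOver p]
    (hX : ∀ j : Fin b₀, MvPolynomial.X (Fin.castAdd a₀ j) ∈ y)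
    (hind : letI : Algebra p.ResidueField y.ResidueField :=
      (Ideal.ResidueField.mapₐ p y (Algebra.ofId R (MvPolynomial (Fin (b₀ + a₀)) R)) hy.over).toRingHom.toAlgebra
      AlgebraicIndependent p.ResidueField fun i =>
        algebraMap _ y.ResidueField (MvPolynomial.X (Fin.natAdd b₀ i) : MvPolynomial (Fin (b₀ + a₀)) R)) :
    FlatCA.PurelyTranscendental p y := by
  let k := p.ResidueField
  letI : Algebra k y.ResidueField :=
    (Ideal.ResidueField.mapₐ p y (Algebra.ofId R (MvPolynomial (Fin (b₀ + a₀)) R)) hy.over).toRingHom.toAlgebra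
  let x : Fin a₀ → y.ResidueField := fun i =>
    algebraMap _ y.ResidueField (MvPolynomial.X (Fin.natAdd b₀ i) : MvPolynomial (Fin (b₀ + a₀)) R)
  have hadj : IntermediateField.adjoin k (Set.range x) = ⊤ := by
    refine top_le_iff.mp fun z _ => ?_
    obtain ⟨u, v, hv, rfl⟩ := IsFractionRing.div_surjective (A := MvPolynomial (Fin (b₀ + a₀)) R ⧸ y) z
    obtain ⟨u, rfl⟩ := Ideal.Quotient.mk_surjective u
    obtain ⟨v, rfl⟩ := Ideal.Quotient.mk_surjective v
    have : ∀ G : MvPolynomial (Fin (b₀ + a₀)) R,
        algebraMap _ y.ResidueField G ∈ IntermediateField.adjoin k (Set.range x) := fun G => by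
      induction G using MvPolynomial.induction_on with
      | C c =>
        have : algebraMap _ y.ResidueField (MvPolynomial.C c : MvPolynomial (Fin (b₀ + a₀)) R) =
            algebraMap k y.ResidueField (algebraMap R k c) := by
          show _ = Ideal.ResidueField.mapₐ p y (Algebra.ofId R _) hy.over (algebraMap R k c)
          rw [AlgHom.commutes, IsScalarTower.algebraMap_apply R (MvPolynomial (Fin (b₀ + a₀)) R) y.ResidueField]
          rfl
        rw [this]
        exact IntermediateField.algebraMap_mem _ _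
      | add G H hG hH => rw [map_add]; exact add_mem hG hH
      | mul_X G i hG =>
        rw [map_mul]
        refine mul_mem hG ?_
        refine Fin.addCases (fun j => ?_) (fun i => ?_) i
        · rw [Ideal.algebraMap_residueField_eq_zero.mpr (hX j)]; exact zero_mem _
        · exact IntermediateField.subset_adjoin _ _ ⟨i, rfl⟩
    rw [Ideal.algebraMap_quotient_residueField_mk, Ideal.algebraMap_quotient_residueField_mk]
    exact div_mem (this u) (this v)
  refine ⟨ULift.{u} (Fin a₀), x ∘ ULift.down, ?_, ?_⟩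
  · refine (hind.comp _ ULift.down_injective).isTranscendenceBasis_iff_isAlgebraic.mpr ?_
    rw [show (fun i => algebraMap _ y.ResidueField
      (MvPolynomial.X (Fin.natAdd b₀ i) : MvPolynomial (Fin (b₀ + a₀)) R)) = x from rfl,
      ULift.down_surjective.range_comp x]
    refine ⟨fun z => ?_⟩
    have hz : z ∈ IntermediateField.adjoin k (Set.range x) := hadj ▸ trivial
    rw [← IntermediateField.isAlgebraic_adjoin_iff]
    exact isAlgebraic_algebraMap (⟨z, hz⟩ : IntermediateField.adjoin k (Set.range x))
  · rw [ULift.down_surjective.range_comp]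
    exact hadj

set_option maxHeartbeats 400000 in
/-- **Coordinates**: near a point with local fibre dimension `n` there are `n` functions, quasi-finite at the
point, with purely transcendental residue field at the image. -/
theorem exists_coords (p : Ideal R) [p.IsPrime] (Q : PrimeSpectrum (p.Fiber C)) (r : Ideal C) [r.IsPrime]
    (hQ : Q.asIdeal.comap Algebra.TensorProduct.includeRight.toRingHom = r) (n : ℕ)
    (hn : FlatMor.localDim (PrimeSpectrum (p.Fiber C)) Q = n) :
    ∃ φ : MvPolynomial (Fin n) R →ₐ[R] C,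
      (∃ h : (r.comap φ).LiesOver p, FlatCA.PurelyTranscendental p (r.comap φ) (h := h)) ∧
      (letI := φ.toRingHom.toAlgebra; Algebra.QuasiFiniteAt (MvPolynomial (Fin n) R) r) := by
  classical
  haveI : IsNoetherianRing (p.Fiber C) := Algebra.FiniteType.isNoetherianRing p.ResidueField _
  obtain ⟨a₀, b₀, rfl, hb₀, xa, hxaT, htb⟩ := exists_basis_of_generators Q.asIdeal
    (Set.range fun c : C => ((1 : p.ResidueField) ⊗ₜ[R] c : p.Fiber C)) (adjoin_range_includeRight p) _ hn
  choose a ha using hxaT
  obtain ⟨xb, hxbQ, hminQ⟩ := exists_minimal_over_parameters Q.asIdeal b₀ hb₀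
  have hb : ∀ j : Fin b₀, ∃ c ∈ r, ∃ u : p.Fiber C, IsUnit u ∧ (1 : p.ResidueField) ⊗ₜ[R] c = u * xb j := by
    intro j
    obtain ⟨s', hs', c, hc⟩ := Ideal.Fiber.exists_smul_eq_one_tmul _ (xb j)
    refine ⟨c, ?_, algebraMap R _ s', ?_, ?_⟩
    · rw [← hQ, Ideal.mem_comap]
      show (1 : p.ResidueField) ⊗ₜ[R] c ∈ Q.asIdeal
      rw [← hc, Algebra.smul_def]
      exact Ideal.mul_mem_left _ _ (hxbQ j)
    · rw [IsScalarTower.algebraMap_apply R p.ResidueField]
      exact (isUnit_iff_ne_zero.mpr fun h0 => hs' (Ideal.algebraMap_residueField_eq_zero.mp h0)).map _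
    · rw [← hc, Algebra.smul_def]
  choose b hbr u hu hbu using hb
  obtain ⟨c₀, hc₀Q, hc₀⟩ := exists_mem_other_minimalPrimes _ Q.asIdeal hminQ
  obtain ⟨s', hs', c, hc⟩ := Ideal.Fiber.exists_smul_eq_one_tmul _ c₀
  have hcr : c ∉ r := by
    rw [← hQ, Ideal.mem_comap]
    show ¬ (1 : p.ResidueField) ⊗ₜ[R] c ∈ Q.asIdeal
    rw [← hc, Algebra.smul_def, Ideal.unit_mul_mem_iff_mem _ (by
      rw [IsScalarTower.algebraMap_apply R p.ResidueField]
      exact (isUnit_iff_ne_zero.mpr fun h0 => hs' (Ideal.algebraMap_residueField_eq_zero.mp h0)).map _)]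
    exact hc₀Q
  let f : Fin (b₀ + a₀) → C := Fin.append b a
  let φ : MvPolynomial (Fin (b₀ + a₀)) R →ₐ[R] C := MvPolynomial.aeval f
  haveI hrp : r.LiesOver p := by
    subst hQ
    exact ⟨Ideal.ext fun t => by
      rw [Ideal.mem_comap, Ideal.mem_comap]
      show t ∈ p ↔ (Algebra.TensorProduct.includeRight : C →ₐ[R] p.Fiber C) (algebraMap R C t) ∈ Q.asIdeal
      rw [AlgHom.commutes, IsScalarTower.algebraMap_apply R p.ResidueField (p.Fiber C)]
      constructor
      · intro h
        rw [Ideal.algebraMap_residueField_eq_zero.mpr h, map_zero]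
        exact zero_mem _
      · intro h
        by_contra hcp
        refine Q.isPrime.ne_top (Ideal.eq_top_of_isUnit_mem _ h ?_)
        exact (isUnit_iff_ne_zero.mpr fun h0 => hcp (Ideal.algebraMap_residueField_eq_zero.mp h0)).map
          (algebraMap p.ResidueField (p.Fiber C))⟩
  haveI hy : (r.comap φ).LiesOver p := ⟨Ideal.ext fun t => by
    rw [Ideal.mem_comap, Ideal.mem_comap, AlgHom.commutes]
    exact Ideal.mem_of_liesOver r p t⟩
  have hQy : ∀ G, G ∈ r.comap φ ↔ (1 : p.ResidueField) ⊗ₜ[R] φ G ∈ Q.asIdeal := fun G => by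
    rw [Ideal.mem_comap, ← hQ, Ideal.mem_comap]; rfl
  have hfun : ∀ i, φ (MvPolynomial.X (Fin.natAdd b₀ i)) = a i := fun i => by
    simp [φ, f]
  have hxind := (algebraicIndependent_residue_iff p Algebra.TensorProduct.includeRight Q.asIdeal φ (r.comap φ) hQy
    fun i => MvPolynomial.X (Fin.natAdd b₀ i)).mpr (by simpa only [hfun, Algebra.TensorProduct.includeRight_apply, ha] using htb.1)
  have hadj := purelyTranscendental_of_append p (r.comap φ) (fun j => by
    simpa [φ, f] using hbr j) hxind
  refine ⟨φ, ⟨hy, hadj⟩, ?_⟩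
  letI := φ.toRingHom.toAlgebra
  haveI : IsScalarTower R (MvPolynomial (Fin (b₀ + a₀)) R) C := IsScalarTower.of_algebraMap_eq' φ.comp_algebraMap.symm
  haveI : Algebra.FiniteType (MvPolynomial (Fin (b₀ + a₀)) R) C :=
    Algebra.FiniteType.of_restrictScalars_finiteType R _ _
  exact quasiFiniteAt_of_isolated r c hcr fun r' hr' hcr' => by
    have hover : r'.asIdeal.comap (algebraMap R C) = p := by
      rw [IsScalarTower.algebraMap_eq R (MvPolynomial (Fin (b₀ + a₀)) R) C, ← Ideal.comap_comap,
        show Ideal.comap (algebraMap (MvPolynomial (Fin (b₀ + a₀)) R) C) r'.asIdeal = r.comap φ from hr']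
      exact hy.over.symm
    let Q' := PrimeSpectrum.preimageEquivFiber R C ⟨p, inferInstance⟩ ⟨r', PrimeSpectrum.ext hover⟩
    have hQ' : Q'.asIdeal.comap Algebra.TensorProduct.includeRight.toRingHom = r'.asIdeal :=
      congrArg PrimeSpectrum.asIdeal (congrArg Subtype.val
        ((PrimeSpectrum.preimageEquivFiber R C ⟨p, inferInstance⟩).symm_apply_apply ⟨r', PrimeSpectrum.ext hover⟩))
    have hJQ' : Ideal.span (Set.range xb) ≤ Q'.asIdeal := Ideal.span_le.mpr (Set.range_subset_iff.mpr fun j => by
      rw [SetLike.mem_coe, ← Ideal.unit_mul_mem_iff_mem _ (hu j), ← hbu]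
      show b j ∈ Q'.asIdeal.comap Algebra.TensorProduct.includeRight.toRingHom
      rw [hQ']
      have : MvPolynomial.X (Fin.castAdd a₀ j) ∈ Ideal.comap φ r'.asIdeal := by
        rw [show Ideal.comap φ r'.asIdeal = r.comap φ from hr']
        simpa [φ, f] using hbr j
      simpa [φ, f] using this)
    obtain ⟨P, hP, hPQ'⟩ := Ideal.exists_minimalPrimes_le hJQ'
    obtain rfl : P = Q.asIdeal := by
      by_contra hPne
      refine hcr' ?_
      rw [← hQ', Ideal.mem_comap]
      show (1 : p.ResidueField) ⊗ₜ[R] c ∈ Q'.asIdeal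
      rw [← hc, Algebra.smul_def]
      exact Ideal.mul_mem_left _ _ (hPQ' (hc₀ P hP hPne))
    have := eq_of_le_of_algebraicIndependent Q.asIdeal Q'.asIdeal hPQ' xa htb
      (by
        have hQy' : ∀ G, G ∈ r.comap φ ↔ (1 : p.ResidueField) ⊗ₜ[R] φ G ∈ Q'.asIdeal := fun G => by
          rw [← show Ideal.comap φ r'.asIdeal = r.comap φ from hr', Ideal.mem_comap, ← hQ', Ideal.mem_comap]
          rfl
        simpa only [hfun, Algebra.TensorProduct.includeRight_apply, ha] using (algebraicIndependent_residue_iff p Algebra.TensorProduct.includeRight Q'.asIdeal φ (r.comap φ) hQy'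
          fun i => MvPolynomial.X (Fin.natAdd b₀ i)).mp hxind)
    rw [← hQ', this, hQ]

end Groth.L20.RG
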