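import Groth.Agent.L20.RG.Induction
import Groth.Agent.L20.RG.Complete

/-!
# Etale covers with complete dévissages
-/

set_option autoImplicit false
set_option linter.style.haveILetI false
set_option backward.isDefEq.respectTransparency.types false
universe u

open TensorProduct

noncomputable section

namespace Groth.L20.RG

attribute [local instance] Algebra.TensorProduct.rightAlgebra

theorem domFib_self (A : Type u) [CommRing A] : DomFib A A := fun K _ _ =>
  (Algebra.TensorProduct.rid A K K).toRingEquiv.toMulEquiv.isDomain _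

/-- The complete dévissage of the zero module. -/
theorem exists_completeDevissage_zero_dim (A C N : Type u) [CommRing A] [CommRing C] [Algebra A C] [AddCommGroup N]
    [Module C N] [Subsingleton N] (p : Ideal A) [p.IsPrime] : ∃ D : FlatCA.CompleteDevissage A C N p, ∀ i, i < D.n →
      letI := D.cB; letI := D.aRB; FlatCA.SmoothRelDim 0 A (D.B i) := by
  haveI : Subsingleton (C ⧸ (⊤ : Ideal C)) := Ideal.Quotient.subsingleton_iff.mpr rfl
  haveI hpA : (p.map (algebraMap A A)).IsPrime := by rw [Algebra.algebraMap_self, Ideal.map_id]; infer_instance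
  let e : N ≃ₗ[C] PUnit.{u + 1} := LinearEquiv.ofSubsingleton N PUnit
  refine ⟨{
    n := 1
    pos := Nat.one_pos
    A := fun _ => C ⧸ (⊤ : Ideal C)
    B := fun _ => A
    M := fun _ => PUnit
    r := fun _ => 0
    tRBM := fun _ => IsScalarTower.of_algebraMap_smul fun _ _ => Subsingleton.elim _ _
    tBAM := fun _ => IsScalarTower.of_algebraMap_smul fun _ _ => Subsingleton.elim _ _
    tSAM := IsScalarTower.of_algebraMap_smul fun _ _ => Subsingleton.elim _ _
    tB'AM := fun _ => IsScalarTower.of_algebraMap_smul fun _ _ => Subsingleton.elim _ _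
    hp := fun _ => hpA
    α := fun _ => 0
    surjSA := Ideal.Quotient.mk_surjective
    fpSA := Algebra.FinitePresentation.quotient ⟨{1}, by simp⟩
    surjBA' := fun i h => absurd h (by omega)
    fpBA' := fun i h => absurd h (by omega)
    finiteBA := fun _ _ => Module.Finite.of_finite
    smooth := fun _ _ => inferInstance
    geomIrred := fun _ _ => geomIrredFibres_of_domFib (domFib_self A)
    finiteM := fun _ _ => Module.Finite.of_finite
    isoN := e
    isoCoker := fun i h => absurd h (by omega)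
    fibreIso := fun _ _ => ⟨fun a b _ => Subsingleton.elim a b, fun a => ⟨0, Subsingleton.elim _ a⟩⟩
    cokerLast := fun a => ⟨0, Subsingleton.elim _ a⟩ }, fun i _ => ?_⟩
  show AlgebraicGeometry.SmoothOfRelativeDimension 0
    (AlgebraicGeometry.Spec.map (CommRingCat.ofHom (algebraMap A A)))
  rw [Algebra.algebraMap_self, CommRingCat.ofHom_id, AlgebraicGeometry.Spec.map_id]
  infer_instance

/-- The complete dévissage of the zero module. -/
theorem exists_completeDevissage_zero (A C N : Type u) [CommRing A] [CommRing C] [Algebra A C] [AddCommGroup N]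
    [Module C N] [Subsingleton N] (p : Ideal A) [p.IsPrime] : Nonempty (FlatCA.CompleteDevissage A C N p) :=
  let ⟨D, _⟩ := exists_completeDevissage_zero_dim A C N p
  ⟨D⟩

variable {A B : Type u} [CommRing A] [CommRing B] [Algebra A B]

/-- Isolating a point of the fibre of a quasi-finite algebra. -/
theorem exists_isolating {R : Type u} [CommRing R] [Algebra A R] [Algebra.QuasiFinite A R] (p : Ideal A)
    (p' : Ideal R) [p'.IsPrime] [p'.LiesOver p] :
    ∃ g ∉ p', ∀ P : Ideal R, P.IsPrime → P.LiesOver p → g ∉ P → P = p' := by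
  classical
  have hfin := Algebra.QuasiFinite.finite_primesOver (R := A) (S := R) p
  let s := hfin.toFinset.erase p'
  have hs : ∀ P ∈ s, ∃ t ∈ P, t ∉ p' := by
    intro P hP
    rw [Finset.mem_erase, Set.Finite.mem_toFinset] at hP
    obtain ⟨hne, hPp, hPo⟩ := hP
    refine Set.not_subset.mp fun hle => hne ?_
    haveI := hPp
    exact Algebra.QuasiFinite.eq_of_le_of_under_eq (R := A) P p' hle (hPo.over.symm.trans (Ideal.over_def p' p))
  choose t htP htp using hs
  refine ⟨∏ P ∈ s.attach, t P.1 P.2, fun h => ?_, fun P hP hPp hg => ?_⟩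
  · obtain ⟨P, -, hP⟩ := (Ideal.IsPrime.prod_mem_iff (p := p')).mp h
    exact htp _ _ hP
  · by_contra hne
    have hmem : P ∈ s := by
      rw [Finset.mem_erase, Set.Finite.mem_toFinset]
      exact ⟨hne, hP, hPp⟩
    exact hg (Ideal.mem_of_dvd _ (Finset.dvd_prod_of_mem _ (Finset.mem_attach _ ⟨P, hmem⟩)) (htP P hmem))

/-- The local pieces of the cover. -/
theorem exists_local [Algebra.FiniteType A B] (N : Type u) [AddCommGroup N] [Module B N] [Module.Finite B N]
    (p : Ideal A) [p.IsPrime] (q : Ideal B) [q.IsPrime] [q.LiesOver p] :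
    ∃ (R S : Type u) (_ : CommRing R) (_ : CommRing S) (_ : Algebra A R) (_ : Algebra B S) (_ : Algebra R S)
      (_ : Algebra A S) (_ : IsScalarTower A R S) (_ : IsScalarTower A B S) (p' : Ideal R) (_ : p'.IsPrime) (f : R),
      FlatCA.IsEtaleNhd A R p p' ∧ Algebra.Etale B S ∧ f ∉ p' ∧
      (∃ U : Set (PrimeSpectrum B), IsOpen U ∧ (⟨q, inferInstance⟩ : PrimeSpectrum B) ∈ U ∧
        ∀ q₁ ∈ U, q₁.asIdeal.LiesOver p →
          ∃ Qs : Ideal S, Qs.IsPrime ∧ Qs.comap (algebraMap B S) = q₁.asIdeal ∧ Qs.LiesOver p') ∧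
      ∀ (A' : Type u) [CommRing A'] [Algebra R A'] (p'' : Ideal A') [p''.IsPrime], TrivRes R p' p'' →
        IsUnit (algebraMap R A' f) →
        ∀ (C : Type u) [CommRing C] [Algebra A' C] [Algebra S C] [Algebra R C] [IsScalarTower R A' C]
          [IsScalarTower R S C] [Algebra.IsPushout R A' S C] [Algebra B C] [IsScalarTower B S C]
          (Nc : Type u) [AddCommGroup Nc] [Module C Nc] [Module B Nc] [IsScalarTower B C Nc] (g : N →ₗ[B] Nc),
          IsBaseChange C g → ∃ D : FlatCA.CompleteDevissage A' C Nc p'', ∀ i, i < D.n →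
            ∃ e : ℕ, letI := D.cB; letI := D.aRB; FlatCA.SmoothRelDim e A' (D.B i) := by
  classical
  letI : Module A N := Module.compHom N (algebraMap A B)
  haveI : IsScalarTower A B N := IsScalarTower.of_algebraMap_smul fun _ _ => rfl
  by_cases hq : (⟨q, inferInstance⟩ : PrimeSpectrum B) ∈ Module.support B N
  · obtain ⟨R, S, _, _, _, _, _, _, _, _, p', q', _, _, hp, hq', hqp, H⟩ := exists_hasDev N p q hq
    haveI := hp.1
    haveI := hp.2.1
    haveI := hq'.1
    haveI := hqp
    obtain ⟨f, hf, Hf⟩ := (H (S ⊗[B] N) (TensorProduct.mk B S N 1) (TensorProduct.isBaseChange B N S)).exists_complete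
    obtain ⟨g, hg, hiso⟩ := exists_isolating (A := A) p p'
    refine ⟨R, S, inferInstance, inferInstance, inferInstance, inferInstance, inferInstance, inferInstance,
      inferInstance, inferInstance, p', inferInstance, f, hp, inferInstance, hf,
      ⟨PrimeSpectrum.comap (algebraMap B S) '' (PrimeSpectrum.basicOpen (algebraMap R S g) : Set (PrimeSpectrum S)),
        ?_, ?_, ?_⟩, ?_⟩
    · haveI : Module.Flat B S := inferInstance
      exact PrimeSpectrum.isOpenMap_comap_of_hasGoingDown_of_finitePresentation (R := B) (S := S) _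
        (PrimeSpectrum.basicOpen _).isOpen
    · exact ⟨⟨q', inferInstance⟩, fun h => hg ((Ideal.mem_of_liesOver q' p' g).mpr h),
        PrimeSpectrum.ext hq'.2.1.over.symm⟩
    · rintro _ ⟨Qs, hQs, rfl⟩ hover
      refine ⟨Qs.asIdeal, Qs.isPrime, rfl, ⟨(hiso (Qs.asIdeal.comap (algebraMap R S)) inferInstance ⟨?_⟩ hQs).symm⟩⟩
      rw [Ideal.under_def, Ideal.comap_comap, ← IsScalarTower.algebraMap_eq, IsScalarTower.algebraMap_eq A B S,
        ← Ideal.comap_comap]
      exact hover.over
    · intro A' _ _ p'' _ hp'' hu C _ _ _ _ _ _ _ _ _ Nc _ _ _ _ gN hgN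
      letI : Module S Nc := Module.compHom Nc (algebraMap S C)
      haveI : IsScalarTower S C Nc := IsScalarTower.of_algebraMap_smul fun _ _ => rfl
      haveI : IsScalarTower B S Nc := IsScalarTower.of_algebraMap_smul fun s m => by
        show algebraMap S C (algebraMap B S s) • m = s • m
        rw [← IsScalarTower.algebraMap_apply, algebraMap_smul]
      have h0 := TensorProduct.isBaseChange B N S
      obtain ⟨Qc, _, hQp, hQq, -⟩ := exists_point_of_isPushout (B := R) (A := S) (B' := A') (A' := C) p' q' p'' hp''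
      haveI := hQp
      have hbc : IsBaseChange C (h0.lift gN) := IsBaseChange.of_comp h0 (by
        have : (h0.lift gN).restrictScalars B ∘ₗ TensorProduct.mk B S N 1 = gN := h0.lift_comp gN
        rw [this]; exact hgN)
      obtain ⟨D, ⟨E⟩⟩ := Hf A' p'' hp'' hu C Nc (h0.lift gN) hbc Qc hQq.over.symm
      exact ⟨D, fun i hi => ⟨E.d i, E.relDim i hi⟩⟩
  · haveI := Module.notMem_support_iff.mp hq
    obtain ⟨v, hv, hsub⟩ := LocalizedModule.exists_subsingleton_away (M := N) q
    haveI := hsub
    haveI : Subsingleton (Localization.Away v ⊗[B] N) :=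
      (LocalizedModule.equivTensorProduct (Submonoid.powers v) N).symm.toEquiv.subsingleton
    refine ⟨A, Localization.Away v, inferInstance, inferInstance, inferInstance, inferInstance, inferInstance,
      inferInstance, inferInstance, inferInstance, p, inferInstance, 1, ⟨inferInstance, trivRes_id p⟩,
      Algebra.Etale.of_isLocalizationAway v, fun h => Ideal.IsPrime.ne_top' ((Ideal.eq_top_iff_one p).mpr h),
      ⟨(PrimeSpectrum.basicOpen v : Set (PrimeSpectrum B)), (PrimeSpectrum.basicOpen v).isOpen, hv, ?_⟩, ?_⟩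
    · intro q₁ hq₁ hover
      obtain ⟨Qs, hQs, hQs'⟩ := exists_prime_away q₁.asIdeal (hq₁ : v ∉ q₁.asIdeal)
      haveI := hQs'
      haveI := hover
      exact ⟨Qs, hQs, hQs'.over.symm, Ideal.LiesOver.trans Qs q₁.asIdeal p⟩
    · intro A' _ _ p'' _ _ _ C _ _ _ _ _ _ _ _ _ Nc _ _ _ _ gN hgN
      haveI : Subsingleton (C ⊗[B] N) := by
        let e := TensorProduct.AlgebraTensorModule.cancelBaseChange B (Localization.Away v) C C N
        exact e.symm.toEquiv.subsingleton
      haveI : Subsingleton Nc := hgN.equiv.symm.toEquiv.subsingleton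
      obtain ⟨D, hD⟩ := exists_completeDevissage_zero_dim A' C Nc p''
      exact ⟨D, fun i hi => ⟨0, hD i hi⟩⟩

theorem TrivRes.cancel {R R' R'' : Type u} [CommRing R] [CommRing R'] [CommRing R''] [Algebra R R'] [Algebra R' R'']
    [Algebra R R''] [IsScalarTower R R' R''] {p : Ideal R} {p' : Ideal R'} {p'' : Ideal R''}
    [p.IsPrime] [p'.IsPrime] [p''.IsPrime] (h : TrivRes R p p') (h' : TrivRes R p p'') (hl : p''.LiesOver p') :
    TrivRes R' p' p'' := by
  obtain ⟨h1, hb⟩ := h
  obtain ⟨h2, hb'⟩ := h'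
  refine ⟨hl, (Function.Bijective.of_comp_iff _ hb).mp ?_⟩
  convert hb'
  rw [← @AlgHom.coe_restrictScalars' R R', ← AlgHom.coe_comp]
  congr 1
  ext

/-- Common refinement of finitely many elementary étale neighbourhoods. -/
theorem exists_common_aux (p : Ideal A) [p.IsPrime] : ∀ (k : ℕ) (R : Fin k → Type u) [∀ i, CommRing (R i)]
    [∀ i, Algebra A (R i)] (pr : ∀ i, Ideal (R i)) [∀ i, (pr i).IsPrime], (∀ i, FlatCA.IsEtaleNhd A (R i) p (pr i)) →
    ∃ (A' : Type u) (_ : CommRing A') (_ : Algebra A A') (p' : Ideal A') (_ : p'.IsPrime),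
      FlatCA.IsEtaleNhd A A' p p' ∧
      ∀ i, ∃ (_ : Algebra (R i) A') (_ : IsScalarTower A (R i) A'), p'.LiesOver (pr i) := by
  intro k
  induction k with
  | zero =>
    intro R _ _ pr _ _
    exact ⟨A, inferInstance, inferInstance, p, inferInstance, ⟨inferInstance, trivRes_id p⟩, fun i => i.elim0⟩
  | succ k ih =>
    intro R _ _ pr _ h
    obtain ⟨A₁, _, _, p₁, _, hA₁, H⟩ := ih (fun i => R i.succ) (fun i => pr i.succ) (fun i => h i.succ)
    haveI := hA₁.2.1
    obtain ⟨Q, _, hQy, hQn, -⟩ := exists_nbhd_pushout p p₁ (pr 0) (h 0)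
    haveI : IsScalarTower A A₁ (R 0 ⊗[A] A₁) := IsScalarTower.of_algebraMap_eq fun a => by
      exact Algebra.TensorProduct.tmul_one_eq_one_tmul (R := A) (A := R 0) (B := A₁) a
    refine ⟨R 0 ⊗[A] A₁, inferInstance, inferInstance, Q, inferInstance, isEtaleNhd_trans hA₁ hQn, fun i => ?_⟩
    induction i using Fin.cases with
    | zero => exact ⟨inferInstance, inferInstance, hQy⟩
    | succ i =>
      obtain ⟨a1, t1, l1⟩ := H i
      letI := a1
      letI : Algebra (R i.succ) (R 0 ⊗[A] A₁) :=
        ((algebraMap A₁ (R 0 ⊗[A] A₁)).comp (algebraMap (R i.succ) A₁)).toAlgebra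
      haveI : IsScalarTower (R i.succ) A₁ (R 0 ⊗[A] A₁) := IsScalarTower.of_algebraMap_eq' rfl
      haveI := l1
      haveI := hQn.2.1
      refine ⟨inferInstance, IsScalarTower.of_algebraMap_eq fun a => ?_, Ideal.LiesOver.trans Q p₁ (pr i.succ)⟩
      rw [IsScalarTower.algebraMap_apply A A₁ (R 0 ⊗[A] A₁), IsScalarTower.algebraMap_apply A (R i.succ) A₁,
        ← IsScalarTower.algebraMap_apply (R i.succ) A₁ (R 0 ⊗[A] A₁)]

/-- Common refinement in which given elements become units. -/
theorem exists_common (p : Ideal A) [p.IsPrime] (k : ℕ) (R : Fin k → Type u) [∀ i, CommRing (R i)]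
    [∀ i, Algebra A (R i)] (pr : ∀ i, Ideal (R i)) [∀ i, (pr i).IsPrime] (h : ∀ i, FlatCA.IsEtaleNhd A (R i) p (pr i))
    (f : ∀ i, R i) (hf : ∀ i, f i ∉ pr i) :
    ∃ (A' : Type u) (_ : CommRing A') (_ : Algebra A A') (p' : Ideal A') (_ : p'.IsPrime),
      FlatCA.IsEtaleNhd A A' p p' ∧
      ∀ i, ∃ (_ : Algebra (R i) A') (_ : IsScalarTower A (R i) A'),
        TrivRes (R i) (pr i) p' ∧ IsUnit (algebraMap (R i) A' (f i)) := by
  classical
  obtain ⟨A₁, _, _, p₁, _, hA₁, H⟩ := exists_common_aux p k R pr h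
  choose a₁ t₁ l₁ using H
  let F : A₁ := ∏ i, @algebraMap (R i) A₁ _ _ (a₁ i) (f i)
  have hF : F ∉ p₁ := by
    intro hmem
    obtain ⟨i, -, hi⟩ := (Ideal.IsPrime.prod_mem_iff (p := p₁)).mp hmem
    letI := a₁ i
    haveI := l₁ i
    exact hf i ((Ideal.mem_of_liesOver p₁ (pr i) (f i)).mpr hi)
  obtain ⟨p', _, hp'⟩ := exists_prime_away p₁ hF
  haveI := hp'
  have hn := isEtaleNhd_away p₁ hF p'
  haveI : IsScalarTower A A₁ (Localization.Away F) := inferInstance
  refine ⟨Localization.Away F, inferInstance, inferInstance, p', inferInstance, isEtaleNhd_trans hA₁ hn, fun i => ?_⟩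
  letI := a₁ i
  haveI := t₁ i
  haveI := l₁ i
  haveI : IsScalarTower (R i) A₁ (Localization.Away F) := inferInstance
  have htow : IsScalarTower A (R i) (Localization.Away F) := IsScalarTower.of_algebraMap_smul fun a m => by
    rw [← algebraMap_smul A₁ (algebraMap A (R i) a) m, ← IsScalarTower.algebraMap_apply, algebraMap_smul]
  haveI := htow
  refine ⟨inferInstance, htow, TrivRes.cancel (h i).2 (isEtaleNhd_trans hA₁ hn).2 (Ideal.LiesOver.trans p' p₁ (pr i)), ?_⟩
  rw [IsScalarTower.algebraMap_apply (R i) A₁ (Localization.Away F)]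
  exact IsLocalization.Away.isUnit_of_dvd F (Finset.dvd_prod_of_mem _ (Finset.mem_univ i))

set_option maxHeartbeats 400000 in
/-- One chart of the cover over the refined base. -/
theorem exists_chart {R S A' BA : Type u} [CommRing R] [CommRing S] [CommRing A'] [CommRing BA] [Algebra A R]
    [Algebra B S] [Algebra R S] [Algebra A S] [IsScalarTower A R S] [IsScalarTower A B S] [Algebra A A'] [Algebra R A']
    [IsScalarTower A R A'] [Algebra B BA] [Algebra A' BA] [Algebra A BA] [IsScalarTower A B BA]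
    [IsScalarTower A A' BA] [Algebra.IsPushout A B A' BA] [Algebra.Etale A R] [Algebra.Etale A A'] [Algebra.Etale B S]
    (p : Ideal A) [p.IsPrime] (pR : Ideal R) [pR.IsPrime] (p' : Ideal A') [p'.IsPrime] (hp : TrivRes A p p')
    (hp' : TrivRes R pR p') :
    ∃ (C : Type u) (_ : CommRing C) (_ : Algebra BA C) (_ : Algebra A' C) (_ : Algebra S C) (_ : Algebra R C)
      (_ : Algebra B C) (_ : IsScalarTower A' BA C) (_ : IsScalarTower R A' C) (_ : IsScalarTower R S C)
      (_ : IsScalarTower B S C) (_ : IsScalarTower B BA C),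
      Algebra.IsPushout R A' S C ∧ Algebra.Etale BA C ∧
      ∀ (Q : Ideal BA) [Q.IsPrime], Q.LiesOver p' → ∀ (Qs : Ideal S), Qs.IsPrime →
        Qs.comap (algebraMap B S) = Q.comap (algebraMap B BA) → Qs.LiesOver pR →
        ∃ Q' : Ideal C, Q'.IsPrime ∧ Q'.comap (algebraMap BA C) = Q := by
  haveI hBA : Algebra.IsPushout A A' B BA := Algebra.IsPushout.symm inferInstance
  let C := A' ⊗[R] S
  letI : Algebra B C := ((algebraMap S C).comp (algebraMap B S)).toAlgebra
  haveI : IsScalarTower B S C := IsScalarTower.of_algebraMap_eq' rfl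
  haveI : IsScalarTower A B C := IsScalarTower.of_algebraMap_eq fun a => by
    show algebraMap A A' a ⊗ₜ[R] (1 : S) = (1 : A') ⊗ₜ[R] algebraMap B S (algebraMap A B a)
    rw [← IsScalarTower.algebraMap_apply A B S, IsScalarTower.algebraMap_apply A R S,
      IsScalarTower.algebraMap_apply A R A']
    exact Algebra.TensorProduct.tmul_one_eq_one_tmul (R := R) (A := A') (B := S) (algebraMap A R a)
  let φ₀ : A' ⊗[A] B →ₐ[A'] C :=
    Algebra.TensorProduct.lift (Algebra.ofId A' C) (IsScalarTower.toAlgHom A B C) fun _ _ => Commute.all _ _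
  let φ : BA →ₐ[A'] C := φ₀.comp (Algebra.IsPushout.equiv A A' B BA).symm.toAlgHom
  letI : Algebra BA C := φ.toRingHom.toAlgebra
  haveI : IsScalarTower A' BA C := IsScalarTower.of_algebraMap_eq' φ.comp_algebraMap.symm
  haveI : IsScalarTower B BA C := IsScalarTower.of_algebraMap_eq fun b => by
    show algebraMap B C b = φ (algebraMap B BA b)
    simp [φ, φ₀, Algebra.IsPushout.equiv_symm_algebraMap_right]
  haveI : Algebra.Etale R A' := Algebra.Etale.of_restrictScalars A R A'
  haveI : Algebra.Etale S C := etale_pushout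
  haveI : Algebra.Etale B C := Algebra.Etale.comp B S C
  haveI : Algebra.Etale B BA := Algebra.Etale.of_equiv
    ((Algebra.IsPushout.equiv A B A' BA))
  haveI : Algebra.Etale BA C := Algebra.Etale.of_restrictScalars B BA C
  refine ⟨C, inferInstance, inferInstance, inferInstance, inferInstance, inferInstance, inferInstance, inferInstance,
    inferInstance, inferInstance, inferInstance, inferInstance, inferInstance, inferInstance, ?_⟩
  intro Q _ hQ Qs hQs hQQ hQsR
  haveI := hQs
  haveI := hQsR
  obtain ⟨Q', _, hQ'p, hQ'n, -⟩ := exists_point_pushout pR Qs p' hp'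
  have hle : (Q.comap (algebraMap B BA)).LiesOver p := ⟨by
    rw [Ideal.under_def, Ideal.comap_comap, ← IsScalarTower.algebraMap_eq, IsScalarTower.algebraMap_eq A A' BA,
      ← Ideal.comap_comap, ← Ideal.under_def (A := A'), ← hQ.over]
    exact hp.liesOver.over⟩
  obtain ⟨Q₀, _, -, -, hu⟩ := exists_point_of_isPushout (B := A) (A := B) (B' := A') (A' := BA) p
    (Q.comap (algebraMap B BA)) p' hp
  refine ⟨Q', inferInstance, ?_⟩
  rw [hu (Q'.comap (algebraMap BA C)) ⟨?_⟩ ⟨?_⟩, hu Q hQ ⟨rfl⟩]
  · rw [Ideal.under_def, Ideal.comap_comap, ← IsScalarTower.algebraMap_eq]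
    exact hQ'p.over
  · rw [Ideal.under_def, Ideal.comap_comap, ← IsScalarTower.algebraMap_eq, IsScalarTower.algebraMap_eq B S C,
      ← Ideal.comap_comap, ← Ideal.under_def (A := S), ← hQ'n.1.over]
    exact hQQ.symm

end Groth.L20.RG
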