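import Groth.Agent.L20.SchDesc.Ind
import Groth.Agent.L20.SchDesc.AffineReduce
import Groth.Agent.L23.Descent
import Groth.Agent.S1402
import Mathlib.AlgebraicGeometry.EffectiveEpi
import Mathlib.AlgebraicGeometry.Morphisms.Etale
import Mathlib.AlgebraicGeometry.Morphisms.LocalFlatDescent
import Mathlib.AlgebraicGeometry.Morphisms.Affine

/-!
# Conditions on ring maps represented by monomorphisms of finite presentation, and their descent
-/

set_option autoImplicit false
set_option linter.style.haveILetI false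
set_option backward.isDefEq.respectTransparency.types false
universe u

open CategoryTheory CategoryTheory.Limits AlgebraicGeometry Groth.L20.SchDesc

noncomputable section

namespace Groth.L20.RG

/-- A condition on ring maps out of `A`. -/
abbrev Cond (A : Type u) [CommRing A] : Type (u + 1) := ∀ (T : Type u) [CommRing T], (A →+* T) → Prop

variable {A : Type u} [CommRing A]

/-- A monomorphism of finite presentation representing a condition. -/
structure RepBy (Φ : Cond A) (Z : Scheme.{u}) (i : Z ⟶ Spec (CommRingCat.of A)) : Prop where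
  mono : Mono i
  lfp : LocallyOfFinitePresentation i
  qc : QuasiCompact i
  qs : QuasiSeparated i
  iff : ∀ (T : Type u) [CommRing T] (φ : A →+* T),
    Φ T φ ↔ ∃ j : Spec (CommRingCat.of T) ⟶ Z, j ≫ i = Spec.map (CommRingCat.ofHom φ)

/-- The condition is represented by a monomorphism of finite presentation. -/
def Rep (Φ : Cond A) : Prop := ∃ (Z : Scheme.{u}) (i : Z ⟶ Spec (CommRingCat.of A)), RepBy Φ Z i

/-- The condition is inherited along further maps and is local for étale coverings. -/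
structure IsEtLocal (Φ : Cond A) : Prop where
  comp : ∀ (T T' : Type u) [CommRing T] [CommRing T'] (φ : A →+* T) (ψ : T →+* T'), Φ T φ → Φ T' (ψ.comp φ)
  descend : ∀ (T T' : Type u) [CommRing T] [CommRing T'] (φ : A →+* T) (ψ : T →+* T'), ψ.Etale →
    Function.Surjective (PrimeSpectrum.comap ψ) → Φ T' (ψ.comp φ) → Φ T φ

/-- The same condition after a change of the base. -/
def Cond.pull (Φ : Cond A) {R : Type u} [CommRing R] (ρ : A →+* R) : Cond R := fun T _ φ => Φ T (φ.comp ρ)

theorem Rep.congr {Φ Ψ : Cond A} (h : Rep Φ) (e : ∀ (T : Type u) [CommRing T] (φ : A →+* T), Φ T φ ↔ Ψ T φ) : Rep Ψ :=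
  let ⟨Z, i, hi⟩ := h
  ⟨Z, i, hi.mono, hi.lfp, hi.qc, hi.qs, fun T _ φ => (e T φ).symm.trans (hi.iff T φ)⟩

theorem rep_true : Rep (fun (_ : Type u) _ (_ : A →+* _) => True : Cond A) :=
  ⟨Spec (CommRingCat.of A), 𝟙 _, inferInstance, inferInstance, inferInstance, inferInstance, fun _ _ _ =>
    ⟨fun _ => ⟨_, Category.comp_id _⟩, fun _ => trivial⟩⟩

/-- Conjunctions of two represented conditions. -/
theorem Rep.and {Φ Ψ : Cond A} (hΦ : Rep Φ) (hΨ : Rep Ψ) : Rep (fun T _ φ => Φ T φ ∧ Ψ T φ : Cond A) := by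
  obtain ⟨Z, i, hi⟩ := hΦ
  obtain ⟨W, j, hj⟩ := hΨ
  haveI := hi.mono; haveI := hj.mono; haveI := hi.lfp; haveI := hj.lfp; haveI := hi.qc; haveI := hj.qc
  haveI := hi.qs; haveI := hj.qs
  refine ⟨pullback i j, pullback.fst i j ≫ i, inferInstance, inferInstance, inferInstance, inferInstance, fun T _ φ => ?_⟩
  rw [hi.iff, hj.iff]
  constructor
  · rintro ⟨⟨a, ha⟩, ⟨b, hb⟩⟩
    exact ⟨pullback.lift a b (ha.trans hb.symm), by rw [pullback.lift_fst_assoc, ha]⟩
  · rintro ⟨k, hk⟩
    exact ⟨⟨k ≫ pullback.fst i j, by rw [Category.assoc, hk]⟩,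
      ⟨k ≫ pullback.snd i j, by rw [Category.assoc, ← pullback.condition, hk]⟩⟩

/-- Conjunctions of finitely many represented conditions. -/
theorem rep_forall {ι : Type} [Finite ι] (Φ : ι → Cond A) (h : ∀ i, Rep (Φ i)) :
    Rep (fun T _ φ => ∀ i, Φ i T φ : Cond A) := by
  classical
  cases nonempty_fintype ι
  suffices H : ∀ s : Finset ι, Rep (fun T _ φ => ∀ i ∈ s, Φ i T φ : Cond A) from
    (H Finset.univ).congr fun T _ φ => ⟨fun hh i => hh i (Finset.mem_univ i), fun hh i _ => hh i⟩
  intro s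
  induction s using Finset.induction with
  | empty => exact rep_true.congr fun T _ φ => ⟨fun _ i hi => absurd hi (Finset.notMem_empty i), fun _ => trivial⟩
  | insert a s _ ih =>
    exact ((h a).and ih).congr fun T _ φ =>
      ⟨fun hh i hi => (Finset.mem_insert.1 hi).elim (fun e => e ▸ hh.1) (hh.2 i),
        fun hh => ⟨hh a (Finset.mem_insert_self a s), fun i hi => hh i (Finset.mem_insert_of_mem hi)⟩⟩

/-- Effectivity for monomorphisms of finite type. -/
theorem effective_of_mono {X S W : Scheme.{u}} {p : X ⟶ S} [Cov p] {f : W ⟶ X} (P : Pre p f) [Mono f]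
    [LocallyOfFiniteType f] [QuasiCompact f] : Effective P := by
  let Q : MorphismProperty Scheme.{u} :=
    MorphismProperty.monomorphisms Scheme.{u} ⊓ @LocallyOfFiniteType ⊓ @QuasiCompact
  refine effective_of_affine_descent Q (fun X S p hX hS hF hsu D hD => ?_)
    (fun Y h _ => ⟨⟨inferInstanceAs (Mono (pullback.snd f h)), inferInstanceAs (LocallyOfFiniteType (pullback.snd f h))⟩,
      inferInstanceAs (QuasiCompact (pullback.snd f h))⟩) P
  haveI : Mono D.obj.hom := hD.1.1
  haveI : LocallyOfFiniteType D.obj.hom := hD.1.2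
  haveI : QuasiCompact D.obj.hom := hD.2
  have hV : MoreMor.IsIndQuasiAffine D.obj.left := fun U hU => by
    have h1 := Groth.Agent.S1402.result D.obj.hom ⊤ (isAffineOpen_top X)
    let T : D.obj.left.Opens := D.obj.hom ⁻¹ᵁ ⊤
    have hle : U ≤ T := fun x _ => trivial
    let U' : (T : Scheme.{u}).Opens := T.ι ⁻¹ᵁ U
    have hU' : IsCompact (U' : Set (T : Scheme.{u})) := by
      rw [T.ι.isOpenEmbedding.isInducing.isCompact_iff]
      convert hU
      exact Set.image_preimage_eq_of_subset fun x hx => by rw [Scheme.Opens.range_ι]; exact hle hx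
    haveI := h1 U' hU'
    haveI : CompactSpace (U : Scheme.{u}) := isCompact_iff_compactSpace.1 hU
    exact Scheme.IsQuasiAffine.of_isImmersion ((T.ι.isoImage U' ≪≫ D.obj.left.isoOfEq
      (by rw [Scheme.Hom.image_preimage_eq_opensRange_inf, Scheme.Opens.opensRange_ι]; exact inf_eq_right.2 hle)).inv)
  exact exists_iso_toDD D (effective_of_isIndQuasiAffine _ hV)

/-- Ring maps are determined by their spectra. -/
theorem eq_of_specMap {X Y : Type u} [CommRing X] [CommRing Y] {a b : X →+* Y}
    (h : Spec.map (CommRingCat.ofHom a) = Spec.map (CommRingCat.ofHom b)) : a = b :=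
  congrArg CommRingCat.Hom.hom (Spec.map_injective h)

/-- The chosen factorisation of a point satisfying the condition. -/
theorem exists_factor {Φ : Cond A} {Z : Scheme.{u}} {i : Z ⟶ Spec (CommRingCat.of A)} (h : RepBy Φ Z i)
    {T : Scheme.{u}} (x : T ⟶ Spec (CommRingCat.of A))
    (hx : ∀ (B : Type u) [CommRing B] (u : Spec (CommRingCat.of B) ⟶ T),
      Φ B (Spec.preimage (u ≫ x)).hom) :
    ∃ z : T ⟶ Z, z ≫ i = x := by
  haveI := h.mono
  let 𝒰 := T.affineOpenCover
  have hloc : ∀ j, ∃ z : 𝒰.openCover.X j ⟶ Z, z ≫ i = 𝒰.openCover.f j ≫ x := fun j => by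
    obtain ⟨z, hz⟩ := (h.iff _ _).1 (hx (𝒰.X j) (𝒰.f j))
    exact ⟨z, hz.trans (by rw [CommRingCat.ofHom_hom, Spec.map_preimage]; rfl)⟩
  choose z hz using hloc
  refine ⟨𝒰.openCover.glueMorphisms z fun a b => ?_, ?_⟩
  · rw [← cancel_mono i, Category.assoc, Category.assoc, hz, hz, pullback.condition_assoc]
  · refine Scheme.Cover.hom_ext 𝒰.openCover _ _ fun a => ?_
    rw [Scheme.Cover.ι_glueMorphisms_assoc, hz]

set_option maxHeartbeats 1000000 in
/-- **Descent of representability** along an étale surjection of an affine scheme onto a monomorphism. -/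
theorem rep_of_chart {Φ : Cond A} (hΦ : IsEtLocal Φ) {Φ₁ : Cond A} {Z₁ : Scheme.{u}} {i₁ : Z₁ ⟶ Spec (CommRingCat.of A)}
    (h₁ : RepBy Φ₁ Z₁ i₁) (hle : ∀ (T : Type u) [CommRing T] (φ : A →+* T), Φ T φ → Φ₁ T φ)
    (R : Type u) [CommRing R] (π : Spec (CommRingCat.of R) ⟶ Z₁) [Etale π] [Surjective π]
    (hR : Rep (Φ.pull (Spec.preimage (π ≫ i₁)).hom)) : Rep Φ := by
  haveI := h₁.mono; haveI := h₁.lfp; haveI := h₁.qc; haveI := h₁.qs
  obtain ⟨W, w, hw⟩ := hR
  haveI := hw.mono; haveI := hw.lfp; haveI := hw.qc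
  let ρ := (Spec.preimage (π ≫ i₁)).hom
  have hρ : Spec.map (CommRingCat.ofHom ρ) = π ≫ i₁ := by rw [CommRingCat.ofHom_hom, Spec.map_preimage]
  haveI : QuasiCompact π := by
    haveI : QuasiCompact (π ≫ i₁) := inferInstance
    exact QuasiCompact.of_comp π i₁
  have hpre : ∀ {T : Scheme.{u}} (v : T ⟶ W) (x : T ⟶ Spec (CommRingCat.of R)), v ≫ w ≫ π = x ≫ π →
      ∃ z : T ⟶ W, z ≫ w = x := fun {T} v x e => exists_factor hw x fun B _ u => by
    show Φ B ((Spec.preimage (u ≫ x)).hom.comp ρ)
    have h2 : Φ B ((Spec.preimage (u ≫ v ≫ w)).hom.comp ρ) :=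
      (hw.iff B _).2 ⟨u ≫ v, by rw [CommRingCat.ofHom_hom, Spec.map_preimage, Category.assoc]⟩
    have key : Spec.map (CommRingCat.ofHom ((Spec.preimage (u ≫ x)).hom.comp ρ)) =
        Spec.map (CommRingCat.ofHom ((Spec.preimage (u ≫ v ≫ w)).hom.comp ρ)) := by
      rw [CommRingCat.ofHom_comp, CommRingCat.ofHom_comp, Spec.map_comp, Spec.map_comp, hρ, CommRingCat.ofHom_hom,
        CommRingCat.ofHom_hom, Spec.map_preimage, Spec.map_preimage]
      simp only [Category.assoc]
      rw [← reassoc_of% e]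
    rwa [eq_of_specMap key]
  let P : Pre π w :=
    { act := fun v x e => (hpre v x e).choose
      hom := fun v x e => (hpre v x e).choose_spec
      natural := fun g v x e e' => (cancel_mono w).1 (by rw [Category.assoc, (hpre v x e).choose_spec,
        (hpre (g ≫ v) (g ≫ x) e').choose_spec])
      self := fun v e => (cancel_mono w).1 (hpre v (v ≫ w) e).choose_spec
      comp := fun v x y e e' e'' => (cancel_mono w).1 ((hpre _ y e').choose_spec.trans (hpre v y e'').choose_spec.symm) }
  haveI : Cov π := Cov.of_quasiCompact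
  obtain ⟨d⟩ := effective_of_mono P
  have hπ : (@Surjective ⊓ @Flat ⊓ @QuasiCompact : MorphismProperty Scheme.{u}) π :=
    ⟨⟨inferInstance, inferInstance⟩, inferInstance⟩
  haveI : Mono d.a :=
    MorphismProperty.of_isPullback_of_descendsAlong (P := MorphismProperty.monomorphisms Scheme.{u}) d.isPullback hπ ‹_›
  haveI : LocallyOfFinitePresentation d.a :=
    MorphismProperty.of_isPullback_of_descendsAlong (P := @LocallyOfFinitePresentation) d.isPullback hπ ‹_›
  haveI : QuasiCompact d.a :=
    MorphismProperty.of_isPullback_of_descendsAlong (P := @QuasiCompact) d.isPullback hπ ‹_›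
  refine ⟨d.U, d.a ≫ i₁, inferInstance, inferInstance, inferInstance, inferInstance, fun T _ φ => ⟨fun hφ => ?_, ?_⟩⟩
  · obtain ⟨t, ht⟩ := (h₁.iff T φ).1 (hle T φ hφ)
    let q := pullback.fst t π
    let x := pullback.snd t π
    haveI : Etale q := inferInstance
    haveI : Surjective q := inferInstance
    haveI : QuasiCompact q := inferInstance
    obtain ⟨z, hz⟩ : ∃ z : pullback t π ⟶ W, z ≫ w = x := exists_factor hw x fun B _ u => by
      show Φ B ((Spec.preimage (u ≫ x)).hom.comp ρ)
      have := hΦ.comp T B φ (Spec.preimage (u ≫ q)).hom hφ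
      suffices e : (Spec.preimage (u ≫ x)).hom.comp ρ = (Spec.preimage (u ≫ q)).hom.comp φ by rwa [e]
      refine eq_of_specMap ?_
      rw [CommRingCat.ofHom_comp, CommRingCat.ofHom_comp, Spec.map_comp, Spec.map_comp, hρ, CommRingCat.ofHom_hom,
        CommRingCat.ofHom_hom, Spec.map_preimage, Spec.map_preimage, ← ht, Category.assoc, Category.assoc,
        pullback.condition_assoc]
    haveI : EffectiveEpi q := inferInstance
    have hcomm : (z ≫ d.q) ≫ d.a = q ≫ t := by
      rw [Category.assoc, ← d.isPullback.w, reassoc_of% hz, pullback.condition]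
    have hdesc : ∀ {Z' : Scheme.{u}} (g₁ g₂ : Z' ⟶ pullback t π), g₁ ≫ q = g₂ ≫ q → g₁ ≫ z ≫ d.q = g₂ ≫ z ≫ d.q :=
      fun g₁ g₂ e => (cancel_mono d.a).1 (by simp only [Category.assoc] at hcomm ⊢; rw [hcomm, reassoc_of% e])
    let k := EffectiveEpi.desc q (z ≫ d.q) hdesc
    have hk : q ≫ k = z ≫ d.q := EffectiveEpi.fac q (z ≫ d.q) hdesc
    refine ⟨k, ?_⟩
    have : k ≫ d.a = t := (cancel_epi q).1 (by rw [reassoc_of% hk]; simpa only [Category.assoc] using hcomm)
    rw [reassoc_of% this, ht]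
  · rintro ⟨k, hk⟩
    haveI : QuasiCompact (pullback.fst (k ≫ d.a) π) := inferInstance
    let E := pullback (k ≫ d.a) π
    let Γ' := Γ(E, ⊤)
    haveI : IsAffine E := by
      haveI : IsAffineHom (k ≫ d.a) := by
        haveI : IsSeparated i₁ := inferInstance
        haveI : IsAffineHom ((k ≫ d.a) ≫ i₁) := by rw [Category.assoc, hk]; infer_instance
        exact IsAffineHom.of_comp (k ≫ d.a) i₁
      exact isAffine_of_isAffineHom (pullback.snd (k ≫ d.a) π)
    let q := E.isoSpec.inv ≫ pullback.fst (k ≫ d.a) π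
    let x := E.isoSpec.inv ≫ pullback.snd (k ≫ d.a) π
    have hsq : q ≫ k ≫ d.a = x ≫ π := by simp only [q, x, Category.assoc, pullback.condition]
    let ψ := (Spec.preimage q).hom
    haveI : Etale q := inferInstance
    haveI : Surjective q := inferInstance
    have hq : Spec.map (CommRingCat.ofHom ψ) = q := by rw [CommRingCat.ofHom_hom, Spec.map_preimage]
    refine hΦ.descend T Γ' φ ψ ?_ ?_ ?_
    · have h2 : Etale (Spec.map (CommRingCat.ofHom ψ)) := by rw [hq]; infer_instance
      rwa [HasRingHomProperty.Spec_iff (P := @Etale), CommRingCat.hom_ofHom] at h2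
    · have h2 : Surjective (Spec.map (CommRingCat.ofHom ψ)) := by rw [hq]; infer_instance
      exact h2.surj
    · let z : Spec (CommRingCat.of Γ') ⟶ W := d.isPullback.lift x (q ≫ k) (by simpa only [Category.assoc] using hsq.symm)
      have hz : z ≫ w = x := d.isPullback.lift_fst _ _ _
      have h3 := (hw.iff Γ' (Spec.preimage x).hom).2 ⟨z, by rw [hz, CommRingCat.ofHom_hom, Spec.map_preimage]⟩
      show Φ Γ' (ψ.comp φ)
      suffices e : ψ.comp φ = (Spec.preimage x).hom.comp ρ by rw [e]; exact h3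
      refine eq_of_specMap ?_
      rw [CommRingCat.ofHom_comp, CommRingCat.ofHom_comp, Spec.map_comp, Spec.map_comp, hρ, hq, CommRingCat.ofHom_hom,
        Spec.map_preimage, ← hk, reassoc_of% hsq]

end Groth.L20.RG
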