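import Groth.Agent.L20.RG.Devissage
import Groth.Prelude.Def_Hens2
import Groth.Prelude.Def_Flat
import Groth.Agent.L03.FibreLocalDim
import Groth.Agent.L07.SyntDim
import Groth.Agent.L13.FppfLocal.NisRefine
import Mathlib.AlgebraicGeometry.Morphisms.Finite

/-!
# Local structure of morphisms of finite type
-/

set_option autoImplicit false
set_option linter.style.haveILetI false
set_option backward.isDefEq.respectTransparency.types false
universe u

open TensorProduct AlgebraicGeometry CategoryTheory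

noncomputable section

namespace Groth.L20.RG

attribute [local instance] Algebra.TensorProduct.rightAlgebra

/-- A prime of a fibre ring is generated by its contraction. -/
theorem asIdeal_eq_fiberIdeal {R B : Type u} [CommRing R] [CommRing B] [Algebra R B] (p : Ideal R) [p.IsPrime]
    (q : Ideal B) (Q : PrimeSpectrum (p.Fiber B))
    (h : Q.asIdeal.comap Algebra.TensorProduct.includeRight.toRingHom = q) : Q.asIdeal = FlatCA.fiberIdeal p q := by
  refine le_antisymm (fun z hz => ?_) (Ideal.map_le_iff_le_comap.mpr h.ge)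
  obtain ⟨s, hs, c, hc⟩ := Ideal.Fiber.exists_smul_eq_one_tmul _ z
  have hu : IsUnit (algebraMap R (p.Fiber B) s) := by
    rw [IsScalarTower.algebraMap_apply R p.ResidueField]
    exact (isUnit_iff_ne_zero.mpr fun h0 => hs (Ideal.algebraMap_residueField_eq_zero.mp h0)).map _
  have hcq : c ∈ q := by
    rw [← h, Ideal.mem_comap]
    show (1 : p.ResidueField) ⊗ₜ[R] c ∈ Q.asIdeal
    rw [← hc, Algebra.smul_def]
    exact Ideal.mul_mem_left _ _ hz
  rw [← Ideal.unit_mul_mem_iff_mem _ hu, ← Algebra.smul_def, hc]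
  exact Ideal.mem_map_of_mem _ hcq

/-- A ring etale neighbourhood gives one of spectra. -/
theorem isEtaleNbhd_spec {R R' : Type u} [CommRing R] [CommRing R'] [Algebra R R'] {p : Ideal R} {p' : Ideal R'}
    [hp : p.IsPrime] [hp' : p'.IsPrime] (h : FlatCA.IsEtaleNhd R R' p p') :
    Hens2.IsEtaleNbhd (Spec.map (CommRingCat.ofHom (algebraMap R R'))) (⟨p', hp'⟩ : PrimeSpectrum R')
      (⟨p, hp⟩ : PrimeSpectrum R) := by
  obtain ⟨he, hl, hb⟩ := h
  haveI := hl
  refine ⟨?_, PrimeSpectrum.ext hl.over.symm, ?_⟩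
  · rw [HasRingHomProperty.Spec_iff (P := @AlgebraicGeometry.Etale), CommRingCat.hom_ofHom, RingHom.etale_algebraMap]
    exact he
  · exact (ConcreteCategory.isIso_iff_bijective _).mp (Groth.Agent.L13.FppfLocal.isIso_residueFieldMap_spec p p' hb)

theorem isEtaleNbhd_comp {U V S : Scheme.{u}} {g : U ⟶ V} {u : U} {v : V} (hg : Hens2.IsEtaleNbhd g u v)
    (j : V ⟶ S) [IsOpenImmersion j] : Hens2.IsEtaleNbhd (g ≫ j) u (j v) := by
  obtain ⟨he, hb, hr⟩ := hg
  haveI := he
  refine ⟨inferInstance, by rw [Scheme.Hom.comp_apply, hb], ?_⟩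
  rw [Scheme.residueFieldMap_comp]
  exact hr.comp (ConcreteCategory.bijective_of_isIso (j.residueFieldMap (g u)))

/-- **Local structure of a morphism of finite type**: finite over smooth with geometrically integral fibres. -/
theorem local_structure {X S : Scheme.{u}} (f : X ⟶ S) [LocallyOfFiniteType f] (x : X) (n : ℕ)
    (hn : FlatMor.fibreDimAt f x = n) :
    ∃ (S' Y' X' : Scheme.{u}) (e : S' ⟶ S) (h : Y' ⟶ S') (π : X' ⟶ Y') (g : X' ⟶ X) (s' : S') (x' : X'),
      IsAffine S' ∧ IsAffine Y' ∧ IsAffine X' ∧ Hens2.IsEtaleNbhd e s' (f x) ∧ Hens2.IsEtaleNbhd g x' x ∧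
      g ≫ f = π ≫ h ≫ e ∧ SmoothOfRelativeDimension n h ∧ GeometricallyIntegral h ∧ IsFinite π ∧ h (π x') = s' ∧
      ∀ z : X', π z = π x' → z = x' := by
  obtain ⟨W₀, hW₀, hxW₀, -⟩ := exists_isAffineOpen_mem_and_subset (x := f x) (U := (⊤ : S.Opens)) trivial
  obtain ⟨U, hU, hxU, hUle⟩ := exists_isAffineOpen_mem_and_subset (x := x) (U := f ⁻¹ᵁ W₀) hxW₀
  let φ : Γ(S, W₀) ⟶ Γ(X, U) := f.appLE W₀ U hUle
  letI : Algebra Γ(S, W₀) Γ(X, U) := φ.hom.toAlgebra
  haveI : Algebra.FiniteType Γ(S, W₀) Γ(X, U) := f.finiteType_appLE hW₀ hU hUle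
  have hsq : Spec.map φ ≫ hW₀.fromSpec = hU.fromSpec ≫ f := IsAffineOpen.SpecMap_appLE_fromSpec f hW₀ hU hUle
  obtain ⟨q, rfl⟩ : x ∈ Set.range hU.fromSpec := by rw [hU.range_fromSpec]; exact hxU
  let qs : PrimeSpectrum Γ(X, U) := q
  let p : PrimeSpectrum Γ(S, W₀) := PrimeSpectrum.comap φ.hom qs
  haveI : qs.asIdeal.LiesOver p.asIdeal := ⟨rfl⟩
  have hfx : hW₀.fromSpec p = f (hU.fromSpec q) := by
    rw [← Scheme.Hom.comp_apply, ← hsq, Scheme.Hom.comp_apply]
    rfl
  -- the fibre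
  let eF := PrimeSpectrum.preimageHomeomorphFiber Γ(S, W₀) Γ(X, U) p
  let Q := eF ⟨qs, rfl⟩
  have hQq : Q.asIdeal.comap Algebra.TensorProduct.includeRight.toRingHom = qs.asIdeal :=
    congrArg PrimeSpectrum.asIdeal (congrArg Subtype.val (eF.symm_apply_apply ⟨qs, rfl⟩))
  have hQdim : FlatMor.localDim (PrimeSpectrum (p.asIdeal.Fiber Γ(X, U))) Q = n := by
    rw [Groth.L03.FibreLocalDim.localDim_fiber_eq p Q, eF.symm_apply_apply, ← hn]
    exact (Groth.L07.SyntDim.fibreDimAt_congr f (Spec.map φ) hU.fromSpec hW₀.fromSpec hsq.symm q).symm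
  have hsupp : Module.support (p.asIdeal.Fiber Γ(X, U)) (FlatCA.fiberMod p.asIdeal Γ(X, U) Γ(X, U)) = Set.univ :=
    Set.eq_univ_of_forall fun w => (Groth.L20.FibreSupport.mem_support_baseChange Γ(X, U) _ Γ(X, U) w).mpr (by
      rw [Module.mem_support_iff_exists_annihilator]
      exact ⟨1, fun r hr => by
        have : r = 0 := by simpa using (Submodule.mem_annihilator_span_singleton _ _).mp hr
        rw [this]; exact zero_mem _⟩)
  have hQs : Q ∈ Module.support (p.asIdeal.Fiber Γ(X, U)) (FlatCA.fiberMod p.asIdeal Γ(X, U) Γ(X, U)) :=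
    hsupp ▸ Set.mem_univ _
  have hdim : FlatMor.localDim
      (Module.support (p.asIdeal.Fiber Γ(X, U)) (FlatCA.fiberMod p.asIdeal Γ(X, U) Γ(X, U))) ⟨Q, hQs⟩ = n := by
    rw [← hQdim]
    exact (Groth.L03.FibreLocalDim.localDim_homeomorph ((Homeomorph.setCongr hsupp).trans (Homeomorph.Set.univ _))
      ⟨Q, hQs⟩).symm
  obtain ⟨E⟩ := exists_elemDevissage (R := Γ(S, W₀)) (S := Γ(X, U)) Γ(X, U) p.asIdeal qs.asIdeal n Q
    (asIdeal_eq_fiberIdeal _ _ Q hQq) hQs hdim
  -- the surjection onto the closed subscheme is bijective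
  have hinj : Function.Injective (algebraMap E.S' E.C) := by
    refine (injective_iff_map_eq_zero _).mpr fun s hs => ?_
    have h1 : s • E.f 1 = 0 := E.iso.injective (by
      rw [map_smul, map_zero, ← algebraMap_smul E.C s (E.iso (E.f 1)), hs, zero_smul])
    have h2 : E.isBaseChange.equiv (s ⊗ₜ[Γ(X, U)] (1 : Γ(X, U))) = 0 := by
      rw [IsBaseChange.equiv_tmul]; exact h1
    have h3 := congrArg (TensorProduct.rid Γ(X, U) E.S')
      ((E.isBaseChange.equiv.map_eq_zero_iff).mp h2)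
    simpa using h3
  let eC : E.S' ≃+* E.C := RingEquiv.ofBijective (algebraMap E.S' E.C) ⟨hinj, E.surjC⟩
  let iC : Spec (CommRingCat.of E.C) ⟶ Spec (CommRingCat.of E.S') :=
    Spec.map (CommRingCat.ofHom (algebraMap E.S' E.C))
  haveI : IsIso iC := by
    have : IsIso (CommRingCat.ofHom (algebraMap E.S' E.C)) :=
      (ConcreteCategory.isIso_iff_bijective _).mpr ⟨hinj, E.surjC⟩
    infer_instance
  let sS : Spec (CommRingCat.of E.S') ⟶ Spec (CommRingCat.of Γ(X, U)) :=
    Spec.map (CommRingCat.ofHom (algebraMap Γ(X, U) E.S'))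
  let eR : Spec (CommRingCat.of E.R') ⟶ Spec (CommRingCat.of Γ(S, W₀)) :=
    Spec.map (CommRingCat.ofHom (algebraMap Γ(S, W₀) E.R'))
  let g : Spec (CommRingCat.of E.C) ⟶ X := (iC ≫ sS) ≫ hU.fromSpec
  let zS : Spec (CommRingCat.of E.C) := (⟨E.z, inferInstance⟩ : PrimeSpectrum E.C)
  have hz : iC zS = (⟨E.q', inferInstance⟩ : PrimeSpectrum E.S') := PrimeSpectrum.ext E.zOver.over.symm
  refine ⟨Spec (CommRingCat.of E.R'), Spec (CommRingCat.of E.D), Spec (CommRingCat.of E.C), eR ≫ hW₀.fromSpec,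
    Spec.map (CommRingCat.ofHom (algebraMap E.R' E.D)), Spec.map (CommRingCat.ofHom (algebraMap E.D E.C)), g,
    (⟨E.p', inferInstance⟩ : PrimeSpectrum E.R'), zS, inferInstance, inferInstance, inferInstance, ?_, ?_, ?_,
    E.smooth, E.geomInt, ?_, ?_, ?_⟩
  · rw [← hfx]
    exact isEtaleNbhd_comp (isEtaleNbhd_spec E.etaleR) hW₀.fromSpec
  · have hS := isEtaleNbhd_spec E.etaleS
    have h1 : Hens2.IsEtaleNbhd (iC ≫ sS) zS q := by
      haveI := hS.etale
      refine ⟨inferInstance, ?_, ?_⟩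
      · rw [Scheme.Hom.comp_apply, hz]; exact hS.base_eq
      · rw [Scheme.residueFieldMap_comp]
        have h' : Function.Bijective (sS.residueFieldMap (iC zS)) := by rw [hz]; exact hS.residue_bijective
        exact (ConcreteCategory.bijective_of_isIso (iC.residueFieldMap zS)).comp h'
    exact isEtaleNbhd_comp h1 hU.fromSpec
  · have hφ : φ = CommRingCat.ofHom (algebraMap Γ(S, W₀) Γ(X, U)) := rfl
    have e1 : (iC ≫ sS) ≫ Spec.map φ =
        Spec.map (CommRingCat.ofHom (algebraMap E.D E.C)) ≫ Spec.map (CommRingCat.ofHom (algebraMap E.R' E.D)) ≫ eR := by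
      rw [hφ, ← Spec.map_comp, ← Spec.map_comp, ← Spec.map_comp, ← Spec.map_comp]
      congr 1
      ext c
      show algebraMap E.S' E.C (algebraMap Γ(X, U) E.S' (algebraMap Γ(S, W₀) Γ(X, U) c)) =
        algebraMap E.D E.C (algebraMap E.R' E.D (algebraMap Γ(S, W₀) E.R' c))
      rw [← IsScalarTower.algebraMap_apply Γ(S, W₀) Γ(X, U) E.S', ← IsScalarTower.algebraMap_apply E.R' E.D E.C,
        IsScalarTower.algebraMap_apply Γ(S, W₀) E.R' E.S', IsScalarTower.algebraMap_apply E.R' E.S' E.C]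
    calc g ≫ f = ((iC ≫ sS) ≫ Spec.map φ) ≫ hW₀.fromSpec := by
          simp only [g, Category.assoc, hsq]
      _ = _ := by rw [e1, Category.assoc, Category.assoc]
  · rw [IsFinite.SpecMap_iff, CommRingCat.hom_ofHom, RingHom.finite_algebraMap]
    exact E.finiteDC
  · refine PrimeSpectrum.ext ?_
    show (E.z.comap (algebraMap E.D E.C)).comap (algebraMap E.R' E.D) = E.p'
    rw [← Ideal.under_def, ← Ideal.under_def, ← E.zOverY.over, ← E.yOver.over]
  · intro w hw
    refine PrimeSpectrum.ext (E.uniq (w : PrimeSpectrum E.C).asIdeal ⟨?_⟩)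
    exact (E.zOverY.over).trans (congrArg PrimeSpectrum.asIdeal hw).symm

end Groth.L20.RG
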