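import Groth.Agent.L20.RG.Complete
import Groth.Agent.L20.RG.FlatPtsStep
import Groth.Agent.L20.RG.LocalStructure
import Groth.Agent.L21.CurvFib.DimExt

/-!
# The support of a fibre module under change of the base
-/

set_option autoImplicit false
set_option linter.style.haveILetI false
set_option backward.isDefEq.respectTransparency.types false
universe u

open TensorProduct

noncomputable section

namespace Groth.L20.RG

/-- The support of the base change of a finite module is the zero locus of its annihilator. -/
theorem support_baseChange_eq_zeroLocus {S : Type u} (F : Type u) [CommRing S] [CommRing F] [Algebra S F]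
    (N : Type u) [AddCommGroup N] [Module S N] [Module.Finite S N] :
    Module.support F (F ⊗[S] N) = PrimeSpectrum.zeroLocus ((Module.annihilator S N).map (algebraMap S F) : Set F) := by
  ext x
  rw [Groth.L20.FibreSupport.mem_support_baseChange, Module.mem_support_iff_of_finite, PrimeSpectrum.mem_zeroLocus,
    SetLike.coe_subset_coe, Ideal.map_le_iff_le_comap, PrimeSpectrum.comap_asIdeal]

/-- The dimension of the support of the base change of a finite module. -/
theorem supportDim_baseChange_eq {S : Type u} (F : Type u) [CommRing S] [CommRing F] [Algebra S F]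
    (N : Type u) [AddCommGroup N] [Module S N] [Module.Finite S N] :
    Module.supportDim F (F ⊗[S] N) = ringKrullDim (F ⧸ (Module.annihilator S N).map (algebraMap S F)) := by
  rw [← Module.supportDim_quotient_eq_ringKrullDim, Module.supportDim, Module.supportDim,
    support_baseChange_eq_zeroLocus F N, Module.support_eq_zeroLocus (M := F ⧸ _), Ideal.annihilator_quotient]

section

attribute [local instance] Algebra.TensorProduct.rightAlgebra

variable {R S : Type u} [CommRing R] [CommRing S] [Algebra R S]

theorem supportDim_fiberMod_eq (p : Ideal R) [p.IsPrime] (N : Type u) [AddCommGroup N] [Module S N] [Module.Finite S N] :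
    Module.supportDim (p.Fiber S) (FlatCA.fiberMod p S N) =
      ringKrullDim (p.ResidueField ⊗[R] (S ⧸ Module.annihilator S N)) :=
  (supportDim_baseChange_eq (p.Fiber S) N).trans (ringKrullDim_eq_of_ringEquiv
    (Algebra.TensorProduct.tensorQuotientEquiv (R := R) p.ResidueField S p.ResidueField _).toRingEquiv).symm

/-- The contraction of a point of a fibre lies over the base point. -/
theorem liesOver_fibre_point (p : Ideal R) [p.IsPrime] (x : PrimeSpectrum (p.Fiber S)) :
    (x.asIdeal.comap (algebraMap S (p.Fiber S))).LiesOver p := by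
  refine ⟨?_⟩
  rw [Ideal.under_def, Ideal.comap_comap]
  have hc : (algebraMap S (p.Fiber S)).comp (algebraMap R S) =
      (algebraMap p.ResidueField (p.Fiber S)).comp (algebraMap R p.ResidueField) := by
    refine RingHom.ext fun r => ?_
    show (1 : p.ResidueField) ⊗ₜ[R] algebraMap R S r = algebraMap R p.ResidueField r ⊗ₜ[R] (1 : S)
    rw [Algebra.algebraMap_eq_smul_one, Algebra.algebraMap_eq_smul_one, smul_tmul]
  rw [hc, ← Ideal.comap_comap, Ideal.eq_bot_of_prime (I := x.asIdeal.comap (algebraMap p.ResidueField (p.Fiber S))),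
    ← RingHom.ker_eq_comap_bot, Ideal.ker_algebraMap_residueField]

variable {R' S' : Type u} [CommRing R'] [CommRing S'] [Algebra R R'] [Algebra R' S'] [Algebra R S'] [Algebra S S']
  [IsScalarTower R R' S'] [IsScalarTower R S S'] [Algebra.IsPushout R R' S S'] (p' : Ideal R') [p'.IsPrime]

variable (S S') in
/-- The fibre of a base change. -/
def fibreEquiv : p'.Fiber S' ≃ₐ[R'] p'.ResidueField ⊗[R] S :=
  (Algebra.TensorProduct.congr (AlgEquiv.refl (R := R') (A₁ := p'.ResidueField))
    (Algebra.IsPushout.equiv R R' S S').symm).trans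
    ((Algebra.TensorProduct.cancelBaseChange R R' p'.ResidueField p'.ResidueField S).restrictScalars R')

theorem fibreEquiv_one_tmul (s : S) :
    fibreEquiv S S' p' ((1 : p'.ResidueField) ⊗ₜ[R'] algebraMap S S' s) = (1 : p'.ResidueField) ⊗ₜ[R] s := by
  simp [fibreEquiv, Algebra.IsPushout.equiv_symm_algebraMap_right]

theorem support_fiberMod_baseChange {N N' : Type u} [AddCommGroup N] [Module S N] [Module.Finite S N]
    [AddCommGroup N'] [Module S' N'] [Module S N'] [IsScalarTower S S' N'] {f : N →ₗ[S] N'} (hf : IsBaseChange S' f)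
    (x : PrimeSpectrum (p'.Fiber S')) :
    x ∈ Module.support (p'.Fiber S') (FlatCA.fiberMod p' S' N') ↔
      PrimeSpectrum.comap (algebraMap S S') (PrimeSpectrum.comap (algebraMap S' (p'.Fiber S')) x) ∈
        Module.support S N := by
  haveI : Module.Finite S' N' := Module.Finite.equiv hf.equiv
  refine (Groth.L20.FibreSupport.mem_support_baseChange S' (p'.Fiber S') N' x).trans ?_
  rw [← LinearEquiv.support_eq hf.equiv]
  exact Groth.L20.FibreSupport.mem_support_baseChange S S' N _

theorem supportDim_fiberMod_baseChange_eq {N N' : Type u} [AddCommGroup N] [Module S N] [Module.Finite S N]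
    [AddCommGroup N'] [Module S' N'] [Module S N'] [IsScalarTower S S' N'] {f : N →ₗ[S] N'} (hf : IsBaseChange S' f) :
    Module.supportDim (p'.Fiber S') (FlatCA.fiberMod p' S' N') =
      ringKrullDim (p'.ResidueField ⊗[R] (S ⧸ Module.annihilator S N)) := by
  haveI : Module.Finite S' N' := Module.Finite.equiv hf.equiv
  set J := ((Module.annihilator S N).map (algebraMap S S')).map (algebraMap S' (p'.Fiber S')) with hJ
  have h1 : Module.support (p'.Fiber S') (FlatCA.fiberMod p' S' N') = PrimeSpectrum.zeroLocus (J : Set (p'.Fiber S')) := by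
    ext x
    rw [support_fiberMod_baseChange p' hf, Module.mem_support_iff_of_finite, PrimeSpectrum.mem_zeroLocus,
      SetLike.coe_subset_coe, hJ, Ideal.map_le_iff_le_comap, Ideal.map_le_iff_le_comap]
    rfl
  have h2 : Module.supportDim (p'.Fiber S') (FlatCA.fiberMod p' S' N') = ringKrullDim (p'.Fiber S' ⧸ J) := by
    rw [← Module.supportDim_quotient_eq_ringKrullDim, Module.supportDim, Module.supportDim, h1,
      Module.support_eq_zeroLocus (M := p'.Fiber S' ⧸ J), Ideal.annihilator_quotient]
  rw [h2]
  let e := (fibreEquiv (R := R) S S' p').toRingEquiv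
  have h3 : (Module.annihilator S N).map
      (Algebra.TensorProduct.includeRight (A := p'.ResidueField) (R := R) : S →ₐ[R] p'.ResidueField ⊗[R] S) =
      J.map (e : p'.Fiber S' →+* p'.ResidueField ⊗[R] S) := by
    rw [hJ, Ideal.map_map, Ideal.map_map]
    refine congrArg (fun φ : S →+* p'.ResidueField ⊗[R] S => (Module.annihilator S N).map φ) ?_
    exact RingHom.ext fun s => (fibreEquiv_one_tmul (R := R) (S := S) (R' := R') (S' := S') p' s).symm
  exact (ringKrullDim_eq_of_ringEquiv (Ideal.quotientEquiv J _ e h3)).trans (ringKrullDim_eq_of_ringEquiv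
    (Algebra.TensorProduct.tensorQuotientEquiv (R := R) p'.ResidueField S p'.ResidueField
      (Module.annihilator S N)).toRingEquiv).symm

/-- **The dimension of the support of the fibre module is invariant under change of the base.** -/
theorem supportDim_fiberMod_baseChange (p : Ideal R) [p.IsPrime] [p'.LiesOver p] [Algebra.FiniteType R S]
    {N N' : Type u} [AddCommGroup N] [Module S N] [Module.Finite S N]
    [AddCommGroup N'] [Module S' N'] [Module S N'] [IsScalarTower S S' N'] {f : N →ₗ[S] N'} (hf : IsBaseChange S' f) :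
    Module.supportDim (p'.Fiber S') (FlatCA.fiberMod p' S' N') =
      Module.supportDim (p.Fiber S) (FlatCA.fiberMod p S N) := by
  rw [supportDim_fiberMod_baseChange_eq (R := R) p' hf, supportDim_fiberMod_eq]
  let i : p.ResidueField →ₐ[R] p'.ResidueField := Ideal.ResidueField.mapₐ p p' (Algebra.ofId R R') (Ideal.over_def p' p)
  letI : Algebra p.ResidueField p'.ResidueField := i.toRingHom.toAlgebra
  haveI : IsScalarTower R p.ResidueField p'.ResidueField := IsScalarTower.of_algebraMap_eq fun r => (i.commutes r).symm
  let T := S ⧸ Module.annihilator S N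
  haveI : Algebra.FiniteType R T := Algebra.FiniteType.of_surjective (Ideal.Quotient.mkₐ R _) Ideal.Quotient.mk_surjective
  calc ringKrullDim (p'.ResidueField ⊗[R] T)
      = ringKrullDim (p'.ResidueField ⊗[p.ResidueField] (p.ResidueField ⊗[R] T)) :=
        (ringKrullDim_eq_of_ringEquiv
          (Algebra.TensorProduct.cancelBaseChange R p.ResidueField p'.ResidueField p'.ResidueField T).toRingEquiv).symm
    _ = ringKrullDim ((p.ResidueField ⊗[R] T) ⊗[p.ResidueField] p'.ResidueField) :=
        ringKrullDim_eq_of_ringEquiv (Algebra.TensorProduct.comm p.ResidueField _ _).toRingEquiv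
    _ = ringKrullDim (p.ResidueField ⊗[R] T) :=
        Groth.L21.CurvFib.ringKrullDim_tensor_field p.ResidueField p'.ResidueField _

/-- A change of the base with trivial residue field extension does not change the fibre. -/
theorem exists_homeomorph_fibre (p : Ideal R) [p.IsPrime] (hp : TrivRes R p p') :
    ∃ h : PrimeSpectrum (p'.Fiber S') ≃ₜ PrimeSpectrum (p.Fiber S), ∀ x,
      PrimeSpectrum.comap (algebraMap S (p.Fiber S)) (h x) =
        PrimeSpectrum.comap (algebraMap S S') (PrimeSpectrum.comap (algebraMap S' (p'.Fiber S')) x) := by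
  obtain ⟨hl, hbij⟩ := hp
  let θ : p.ResidueField ≃ₐ[R] p'.ResidueField :=
    AlgEquiv.ofBijective (Ideal.ResidueField.mapₐ p p' (Algebra.ofId R R') hl.over) hbij
  let φ : p.Fiber S ≃+* p'.Fiber S' :=
    (Algebra.TensorProduct.congr θ (AlgEquiv.refl (R := R) (A₁ := S))).toRingEquiv.trans
      (fibreEquiv (R := R) S S' p').toRingEquiv.symm
  have hφ : ∀ s : S, φ (algebraMap S (p.Fiber S) s) = algebraMap S' (p'.Fiber S') (algebraMap S S' s) := fun s => by
    show (fibreEquiv (R := R) S S' p').symm
      (Algebra.TensorProduct.congr θ (AlgEquiv.refl (R := R) (A₁ := S)) ((1 : p.ResidueField) ⊗ₜ[R] s)) =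
        (1 : p'.ResidueField) ⊗ₜ[R'] algebraMap S S' s
    rw [Algebra.TensorProduct.congr_apply, Algebra.TensorProduct.map_tmul, map_one, AlgEquiv.symm_apply_eq,
      fibreEquiv_one_tmul]
    rfl
  refine ⟨PrimeSpectrum.homeomorphOfRingEquiv φ.symm, fun x => PrimeSpectrum.ext (Ideal.ext fun s => ?_)⟩
  show φ (algebraMap S (p.Fiber S) s) ∈ x.asIdeal ↔ _
  rw [hφ]
  rfl

/-- A change of the base with trivial residue field extension does not change the local dimension of the support. -/
theorem exists_localDim_baseChange (p : Ideal R) [p.IsPrime] (hp : TrivRes R p p') {N N' : Type u} [AddCommGroup N]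
    [Module S N] [Module.Finite S N] [AddCommGroup N'] [Module S' N'] [Module S N'] [IsScalarTower S S' N']
    {f : N →ₗ[S] N'} (hf : IsBaseChange S' f) (q : Ideal S) [q.IsPrime] [q.LiesOver p]
    (q' : Ideal S') [q'.IsPrime] [q'.LiesOver q] [q'.LiesOver p'] (d : WithBot ℕ∞)
    (h1 : ∃ (ξ : PrimeSpectrum (p.Fiber S)) (hξ : ξ ∈ Module.support (p.Fiber S) (FlatCA.fiberMod p S N)),
      ξ.asIdeal = FlatCA.fiberIdeal p q ∧
      FlatMor.localDim (Module.support (p.Fiber S) (FlatCA.fiberMod p S N)) ⟨ξ, hξ⟩ = d) :
    ∃ (ξ' : PrimeSpectrum (p'.Fiber S')) (hξ' : ξ' ∈ Module.support (p'.Fiber S') (FlatCA.fiberMod p' S' N')),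
      ξ'.asIdeal = FlatCA.fiberIdeal p' q' ∧
      FlatMor.localDim (Module.support (p'.Fiber S') (FlatCA.fiberMod p' S' N')) ⟨ξ', hξ'⟩ = d := by
  obtain ⟨ξ, hξ, hξq, hdim⟩ := h1
  obtain ⟨h, hh⟩ := exists_homeomorph_fibre (S := S) (S' := S') p' p hp
  have hs : ∀ x, x ∈ Module.support (p'.Fiber S') (FlatCA.fiberMod p' S' N') ↔
      h x ∈ Module.support (p.Fiber S) (FlatCA.fiberMod p S N) := fun x =>
    (support_fiberMod_baseChange p' hf x).trans
      ((hh x).symm ▸ (Groth.L20.FibreSupport.mem_support_baseChange S (p.Fiber S) N (h x)).symm)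
  refine ⟨h.symm ξ, (hs _).mpr (by rw [h.apply_symm_apply]; exact hξ), ?_, ?_⟩
  · set ξ' := h.symm ξ with hξ'
    have e1 := congrArg PrimeSpectrum.asIdeal (hh ξ')
    rw [hξ', h.apply_symm_apply, PrimeSpectrum.comap_asIdeal, PrimeSpectrum.comap_asIdeal,
      PrimeSpectrum.comap_asIdeal, hξq, ← hξ'] at e1
    have e2 : (ξ'.asIdeal.comap (algebraMap S' (p'.Fiber S'))).LiesOver q :=
      ⟨(Groth.L20.comap_fiberIdeal p q).symm.trans e1⟩
    obtain ⟨Q, _, -, -, hQu⟩ := exists_point_of_isPushout (B := R) (A := S) (B' := R') (A' := S') p q p' hp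
    refine asIdeal_eq_fiberIdeal p' q' ξ' ?_
    exact (hQu _ (liesOver_fibre_point p' ξ') e2).trans (hQu q' inferInstance inferInstance).symm
  · rw [← hdim, ← Groth.L03.FibreLocalDim.localDim_homeomorph
      (h.subtype hs : {x // x ∈ Module.support (p'.Fiber S') (FlatCA.fiberMod p' S' N')} ≃ₜ
        {x // x ∈ Module.support (p.Fiber S) (FlatCA.fiberMod p S N)}) _]
    congr 1
    exact Subtype.ext (h.apply_symm_apply ξ)

/-- The residue extension of a point of a base change over a point with trivial extension is trivial. -/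
theorem trivRes_of_isPushout (p : Ideal R) [p.IsPrime] (hp : TrivRes R p p') (q : Ideal S) [q.IsPrime]
    [q.LiesOver p] (q' : Ideal S') [q'.IsPrime] [hq' : q'.LiesOver q] [q'.LiesOver p'] : TrivRes S q q' := by
  obtain ⟨hl, hbij⟩ := hp
  refine ⟨hq', RingHom.injective _, ?_⟩
  let i := Ideal.ResidueField.mapₐ q q' (Algebra.ofId S S') hq'.over
  let K0 := i.toRingHom.fieldRange
  have hR : ∀ r : R', algebraMap S' q'.ResidueField (algebraMap R' S' r) ∈ K0 := by
    intro r
    obtain ⟨a, ha⟩ := hbij.2 (algebraMap R' p'.ResidueField r)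
    let j := Ideal.ResidueField.map p' q' (algebraMap R' S') (Ideal.over_def q' p')
    let k := Ideal.ResidueField.map p q (algebraMap R S) (Ideal.over_def q p)
    refine ⟨k a, ?_⟩
    have hcomm : i.toRingHom.comp k = j.comp (Ideal.ResidueField.mapₐ p p' (Algebra.ofId R R') hl.over).toRingHom := by
      refine Ideal.ResidueField.ringHom_ext (RingHom.ext fun x => ?_)
      show i (k (algebraMap R p.ResidueField x)) = j (Ideal.ResidueField.mapₐ p p' _ _ (algebraMap R p.ResidueField x))
      rw [AlgHom.commutes, IsScalarTower.algebraMap_apply R R' p'.ResidueField, Ideal.ResidueField.map_algebraMap,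
        Ideal.ResidueField.map_algebraMap, AlgHom.commutes, IsScalarTower.algebraMap_apply S S' q'.ResidueField,
        ← IsScalarTower.algebraMap_apply R S S', IsScalarTower.algebraMap_apply R R' S']
    show i.toRingHom (k a) = _
    rw [← RingHom.comp_apply, hcomm, RingHom.comp_apply]
    exact (congrArg j ha).trans (Ideal.ResidueField.map_algebraMap _ _ _ _ _)
  have hS : ∀ s : S', algebraMap S' q'.ResidueField s ∈ K0 := by
    intro s
    induction s using (Algebra.IsPushout.out : IsBaseChange R' (IsScalarTower.toAlgHom R S S').toLinearMap).inductionOn with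
    | zero => rw [map_zero]; exact zero_mem _
    | tmul a =>
      refine ⟨algebraMap S q.ResidueField a, ?_⟩
      show i (algebraMap S q.ResidueField a) = _
      rw [AlgHom.commutes, IsScalarTower.algebraMap_apply S S' q'.ResidueField]
      rfl
    | smul r a ha => rw [Algebra.smul_def, map_mul]; exact mul_mem (hR r) ha
    | add a b ha hb => rw [map_add]; exact add_mem ha hb
  intro z
  obtain ⟨a, b, -, rfl⟩ := IsFractionRing.div_surjective (A := S' ⧸ q') z
  obtain ⟨a, rfl⟩ := Ideal.Quotient.mk_surjective a
  obtain ⟨b, rfl⟩ := Ideal.Quotient.mk_surjective b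
  exact div_mem (hS a) (hS b)

end

end Groth.L20.RG
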