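import Groth.Agent.L20.RG.DevBaseChange
import Groth.Agent.L20.RG.FlatPtsStep

/-!
# Base change of complete dévissages
-/

set_option autoImplicit false
set_option linter.style.haveILetI false
set_option backward.isDefEq.respectTransparency.types false
universe u

open TensorProduct

noncomputable section

namespace Groth.L20.RG

variable {R : Type u} [CommRing R] {R' : Type u} [CommRing R'] [Algebra R R']

/-- An additive map semilinear along a ring map, seen as a linear map. -/
def linMap {A A' M M' : Type u} [CommRing A] [CommRing A'] [AddCommGroup M] [AddCommGroup M'] [Module A M]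
    [Module A' M'] (φ : A →+* A') (g : M →+ M') (h : ∀ a m, g (a • m) = φ a • g m) :
    letI := Module.compHom M' φ
    M →ₗ[A] M' :=
  letI := Module.compHom M' φ
  { g with map_smul' := h }

/-- Compatibility of one step of a dévissage with a base change. -/
structure StepBC (A A' : Type u) {B B' M M' : Type u} [CommRing A] [CommRing A'] [CommRing B] [CommRing B'] [AddCommGroup M]
    [AddCommGroup M'] [Algebra R A] [Algebra R' A'] [Algebra R B] [Algebra R' B'] [Algebra B A] [Algebra B' A']
    [Module A M] [Module A' M'] [Module B M] [Module B' M'] {r r' : ℕ} (α : (Fin r → B) →ₗ[B] M)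
    (α' : (Fin r' → B') →ₗ[B'] M') where
  /-- the map of the rings carrying the modules -/
  φA : A →+* A'
  /-- the map of the smooth algebras -/
  φB : B →+* B'
  /-- the map of the modules -/
  g : M →+ M'
  commA : φA.comp (algebraMap R A) = (algebraMap R' A').comp (algebraMap R R')
  commB : φB.comp (algebraMap R B) = (algebraMap R' B').comp (algebraMap R R')
  commBA : φA.comp (algebraMap B A) = (algebraMap B' A').comp φB
  semilin : ∀ a m, g (a • m) = φA a • g m
  pushA : letI := φA.toAlgebra
    letI : Algebra R A' := ((algebraMap R' A').comp (algebraMap R R')).toAlgebra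
    letI : IsScalarTower R A A' := IsScalarTower.of_algebraMap_eq' commA.symm
    letI : IsScalarTower R R' A' := IsScalarTower.of_algebraMap_eq' rfl
    Algebra.IsPushout R R' A A'
  pushB : letI := φB.toAlgebra
    letI : Algebra R B' := ((algebraMap R' B').comp (algebraMap R R')).toAlgebra
    letI : IsScalarTower R B B' := IsScalarTower.of_algebraMap_eq' commB.symm
    letI : IsScalarTower R R' B' := IsScalarTower.of_algebraMap_eq' rfl
    Algebra.IsPushout R R' B B'
  isBC : letI := φA.toAlgebra
    letI := Module.compHom M' φA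
    haveI : IsScalarTower A A' M' := IsScalarTower.of_algebraMap_smul fun _ _ => rfl
    IsBaseChange A' (linMap φA g semilin)
  range : LinearMap.range α' = Submodule.span B' (g '' (LinearMap.range α : Set M))

theorem isBaseChange_linMap {A A' M M' : Type u} [CommRing A] [CommRing A'] [Algebra A A'] [AddCommGroup M]
    [AddCommGroup M'] [Module A M] [Module A' M'] [iM : Module A M'] [IsScalarTower A A' M'] {l : M →ₗ[A] M'}
    (hl : IsBaseChange A' l) (h : ∀ a m, l.toAddMonoidHom (a • m) = algebraMap A A' a • l.toAddMonoidHom m) :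
    letI := (algebraMap A A').toAlgebra
    letI := Module.compHom M' (algebraMap A A')
    haveI : IsScalarTower A A' M' := IsScalarTower.of_algebraMap_smul fun _ _ => rfl
    IsBaseChange A' (linMap (algebraMap A A') l.toAddMonoidHom h) := by
  have e1 : iM = Module.compHom M' (algebraMap A A') := Module.ext' _ _ fun a x => (algebraMap_smul A' a x).symm
  have e2 : ‹Algebra A A'› = (algebraMap A A').toAlgebra := Algebra.algebra_ext _ _ fun _ => rfl
  subst e1
  convert hl
  · exact e2.symm
  · rfl

variable (R') in
/-- A complete dévissage and a base change of it. -/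
structure DevBC {p : Ideal R} [p.IsPrime] {p' : Ideal R'} [p'.IsPrime] {S : Type u} [CommRing S] [Algebra R S]
    {N : Type u} [AddCommGroup N] [Module S N] (𝒟 : FlatCA.CompleteDevissage R S N p)
    {S' : Type u} [CommRing S'] [Algebra R' S'] [Algebra S S'] {N' : Type u} [AddCommGroup N'] [Module S' N']
    (f : N → N') (𝒟' : FlatCA.CompleteDevissage R' S' N' p') where
  /-- the steps -/
  steps : ∀ i, i < 𝒟.n → StepBC (R := R) (R' := R') (𝒟.A i) (𝒟'.A i) (𝒟.α i) (𝒟'.α i)
  len : 𝒟'.n = 𝒟.n
  rank : ∀ i, i < 𝒟.n → 𝒟'.r i = 𝒟.r i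
  tail : ∀ i, 𝒟.n ≤ i → 𝒟'.r i = 𝒟.r i
  src : (steps 0 𝒟.pos).φA.comp (algebraMap S (𝒟.A 0)) = (algebraMap S' (𝒟'.A 0)).comp (algebraMap S S')
  isoN : ∀ x : N, 𝒟'.isoN (f x) = (steps 0 𝒟.pos).g (𝒟.isoN x)
  link : ∀ (i : ℕ) (h : i + 1 < 𝒟.n),
    (steps (i + 1) h).φA.comp (algebraMap (𝒟.B i) (𝒟.A (i + 1))) =
      (algebraMap (𝒟'.B i) (𝒟'.A (i + 1))).comp (steps i (Nat.lt_of_succ_lt h)).φB

/-- The dévissage of the first cokernel. -/
@[reducible] def devTail {p : Ideal R} [p.IsPrime] {S : Type u} [CommRing S] [Algebra R S]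
    {N : Type u} [AddCommGroup N] [Module S N] (D : FlatCA.CompleteDevissage R S N p) (h : 1 < D.n) :
    FlatCA.CompleteDevissage R (D.B 0) (D.M 0 ⧸ LinearMap.range (D.α 0)) p where
  n := D.n - 1
  pos := by omega
  A i := D.A (i + 1)
  B i := D.B (i + 1)
  M i := D.M (i + 1)
  r i := D.r (i + 1)
  α i := D.α (i + 1)
  surjSA := D.surjBA' 0 h
  fpSA := D.fpBA' 0 h
  surjBA' i hi := D.surjBA' (i + 1) (by omega)
  fpBA' i hi := D.fpBA' (i + 1) (by omega)
  finiteBA i hi := D.finiteBA (i + 1) (by omega)
  smooth i hi := D.smooth (i + 1) (by omega)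
  geomIrred i hi := D.geomIrred (i + 1) (by omega)
  finiteM i hi := D.finiteM (i + 1) (by omega)
  isoN := D.isoCoker 0 h
  isoCoker i hi := D.isoCoker (i + 1) (by omega)
  fibreIso i hi := D.fibreIso (i + 1) (by omega)
  cokerLast := by
    have H : ∀ k, k = D.n - 1 → Function.Surjective (D.α k) := by rintro _ rfl; exact D.cokerLast
    exact H _ (by omega)

set_option maxHeartbeats 1000000 in
/-- **Base change of complete dévissages.** -/
theorem exists_devBC {p : Ideal R} [p.IsPrime] {p' : Ideal R'} [p'.IsPrime] [p'.LiesOver p] :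
    ∀ (m : ℕ) {S : Type u} [CommRing S] [Algebra R S] {N : Type u} [AddCommGroup N] [Module S N]
      (𝒟 : FlatCA.CompleteDevissage R S N p), 𝒟.n = m + 1 →
      ∀ (S' : Type u) [CommRing S'] [Algebra R' S'] [Algebra R S'] [Algebra S S'] [IsScalarTower R R' S']
        [IsScalarTower R S S'] [Algebra.IsPushout R R' S S'] (N' : Type u) [AddCommGroup N'] [Module S' N'] [Module S N']
        [IsScalarTower S S' N'] (f : N →ₗ[S] N'), IsBaseChange S' f →
        ∃ 𝒟' : FlatCA.CompleteDevissage R' S' N' p', Nonempty (DevBC R' 𝒟 f 𝒟') := by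
  intro m
  induction m with
  | zero => ?_
  | succ m ih => ?_
  all_goals
    intro S _ _ N _ _ 𝒟 hn S' _ _ _ _ _ _ _ N' _ _ _ _ f hf
    have h0 : 0 < 𝒟.n := 𝒟.pos
    let A' := R' ⊗[R] 𝒟.A 0
    let B' := R' ⊗[R] 𝒟.B 0
    letI : Algebra (𝒟.A 0) A' := Algebra.TensorProduct.rightAlgebra
    letI : Algebra (𝒟.B 0) B' := Algebra.TensorProduct.rightAlgebra
    let φBA : B' →ₐ[R'] A' := Algebra.TensorProduct.map (AlgHom.id R' R') (IsScalarTower.toAlgHom R (𝒟.B 0) (𝒟.A 0))
    letI : Algebra B' A' := φBA.toRingHom.toAlgebra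
    haveI : IsScalarTower R' B' A' := IsScalarTower.of_algebraMap_eq' φBA.comp_algebraMap.symm
    let φSA : S' →ₐ[R'] A' :=
      (Algebra.TensorProduct.map (AlgHom.id R' R') (IsScalarTower.toAlgHom R S (𝒟.A 0))).comp
        (Algebra.IsPushout.equiv R R' S S').symm.toAlgHom
    letI : Algebra S' A' := φSA.toRingHom.toAlgebra
    haveI : IsScalarTower R' S' A' := IsScalarTower.of_algebraMap_eq' φSA.comp_algebraMap.symm
    letI : Algebra (𝒟.B 0) A' := ((algebraMap (𝒟.A 0) A').comp (algebraMap (𝒟.B 0) (𝒟.A 0))).toAlgebra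
    haveI : IsScalarTower (𝒟.B 0) (𝒟.A 0) A' := IsScalarTower.of_algebraMap_eq' rfl
    haveI : IsScalarTower (𝒟.B 0) B' A' := IsScalarTower.of_algebraMap_eq fun b => by
      show (1 : R') ⊗ₜ[R] algebraMap (𝒟.B 0) (𝒟.A 0) b = φBA ((1 : R') ⊗ₜ[R] b)
      show _ = Algebra.TensorProduct.map _ _ _
      rw [Algebra.TensorProduct.map_tmul]
      rfl
    letI : Algebra S A' := ((algebraMap (𝒟.A 0) A').comp (algebraMap S (𝒟.A 0))).toAlgebra
    haveI : IsScalarTower S (𝒟.A 0) A' := IsScalarTower.of_algebraMap_eq' rfl
    haveI : IsScalarTower S S' A' := IsScalarTower.of_algebraMap_eq fun s => by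
      show (1 : R') ⊗ₜ[R] algebraMap S (𝒟.A 0) s = φSA (algebraMap S S' s)
      simp [φSA, Algebra.IsPushout.equiv_symm_algebraMap_right]
    haveI : IsScalarTower R S' A' := IsScalarTower.of_algebraMap_eq fun r => by
      rw [IsScalarTower.algebraMap_apply R R' S', ← IsScalarTower.algebraMap_apply R' S' A',
        ← IsScalarTower.algebraMap_apply R R' A']
    haveI : IsScalarTower R B' A' := IsScalarTower.of_algebraMap_eq fun r => by
      rw [IsScalarTower.algebraMap_apply R R' B', ← IsScalarTower.algebraMap_apply R' B' A',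
        ← IsScalarTower.algebraMap_apply R R' A']
    haveI : Algebra.IsPushout R R' (𝒟.A 0) A' := inferInstance
    haveI : Algebra.IsPushout R R' (𝒟.B 0) B' := inferInstance
    haveI : Algebra.IsPushout (𝒟.B 0) B' (𝒟.A 0) A' := by
      haveI : Algebra.IsPushout R (𝒟.B 0) R' B' := Algebra.IsPushout.symm inferInstance
      exact Algebra.IsPushout.symm ((Algebra.IsPushout.comp_iff R (𝒟.B 0) R' B').mp (Algebra.IsPushout.symm inferInstance))
    haveI : Algebra.IsPushout S S' (𝒟.A 0) A' := by
      haveI : Algebra.IsPushout R S R' S' := Algebra.IsPushout.symm inferInstance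
      exact Algebra.IsPushout.symm ((Algebra.IsPushout.comp_iff R S R' S').mp (Algebra.IsPushout.symm inferInstance))
    let M' := A' ⊗[𝒟.A 0] 𝒟.M 0
    have hB : IsBaseChange B' ((TensorProduct.mk (𝒟.A 0) A' (𝒟.M 0) 1).restrictScalars (𝒟.B 0)) :=
      haveI : Algebra.IsPushout (𝒟.B 0) (𝒟.A 0) B' A' := Algebra.IsPushout.symm inferInstance
      isBaseChange_mk_of_isPushout (A := 𝒟.B 0) (D := 𝒟.A 0) B' A' (𝒟.M 0)
    have hS : IsBaseChange S' ((TensorProduct.mk (𝒟.A 0) A' (𝒟.M 0) 1).restrictScalars S) :=
      haveI : Algebra.IsPushout S (𝒟.A 0) S' A' := Algebra.IsPushout.symm inferInstance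
      isBaseChange_mk_of_isPushout (A := S) (D := 𝒟.A 0) S' A' (𝒟.M 0)
    let α' : (Fin (𝒟.r 0) → B') →ₗ[B'] M' := mapFree (𝒟.α 0) hB
    haveI := 𝒟.finiteBA 0 h0
    haveI := 𝒟.finiteM 0 h0
    haveI := 𝒟.smooth 0 h0
    haveI := 𝒟.fpSA
    have hdom : DomFib R' B' :=
      (DomFib.of_smooth_geomIrredFibres (𝒟.geomIrred 0 h0)).of_isPushout R' B'
    haveI : Algebra.Smooth R' B' := smooth_of_isPushout R (𝒟.B 0) R' B'
    have hp0 : (p'.map (algebraMap R' B')).IsPrime := isPrime_map_of_domFib hdom p'
    have hsurjS : Function.Surjective (algebraMap S' A') := by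
      intro a
      induction a using (Algebra.IsPushout.out : IsBaseChange S' (IsScalarTower.toAlgHom S (𝒟.A 0) A').toLinearMap).inductionOn with
      | zero => exact ⟨0, map_zero _⟩
      | tmul a =>
        obtain ⟨s, rfl⟩ := 𝒟.surjSA a
        exact ⟨algebraMap S S' s, by
          show _ = algebraMap (𝒟.A 0) A' (algebraMap S (𝒟.A 0) s)
          rw [← IsScalarTower.algebraMap_apply, ← IsScalarTower.algebraMap_apply]⟩
      | smul s a ha =>
        obtain ⟨t, ht⟩ := ha
        exact ⟨s * t, by rw [map_mul, ht, Algebra.smul_def]⟩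
      | add a b ha hb =>
        obtain ⟨t, ht⟩ := ha
        obtain ⟨t', ht'⟩ := hb
        exact ⟨t + t', by rw [map_add, ht, ht']⟩
    have hfpS : Algebra.FinitePresentation S' A' :=
      Algebra.FinitePresentation.equiv (Algebra.IsPushout.equiv S S' (𝒟.A 0) A')
    have hfin : Module.Finite B' A' := Module.Finite.equiv (Algebra.IsPushout.equiv (𝒟.B 0) B' (𝒟.A 0) A').toLinearEquiv
    have hfinM : Module.Finite A' M' := inferInstance
    have hbij : Function.Bijective (α'.baseChange (p'.map (algebraMap R' B')).ResidueField) := by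
      let K := (p'.map (algebraMap R' B')).ResidueField
      letI : Algebra (𝒟.B 0) K := ((algebraMap B' K).comp (algebraMap (𝒟.B 0) B')).toAlgebra
      haveI : IsScalarTower (𝒟.B 0) B' K := IsScalarTower.of_algebraMap_eq' rfl
      have hK : RingHom.ker (algebraMap (𝒟.B 0) K) = p.map (algebraMap R (𝒟.B 0)) := by
        rw [IsScalarTower.algebraMap_eq (𝒟.B 0) B' K, ← RingHom.comap_ker, Ideal.ker_algebraMap_residueField,
          hξ_baseChange (p := p) p']
      let φ : (p.map (algebraMap R (𝒟.B 0))).ResidueField →+* K := Ideal.ResidueField.lift _ (algebraMap (𝒟.B 0) K) hK.ge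
        (fun x hx => isUnit_iff_ne_zero.mpr fun h => hx (hK.le (RingHom.mem_ker.mpr h)))
      letI := φ.toAlgebra
      haveI : IsScalarTower (𝒟.B 0) (p.map (algebraMap R (𝒟.B 0))).ResidueField K :=
        IsScalarTower.of_algebraMap_eq fun x => (Ideal.ResidueField.lift_algebraMap ..).symm
      exact bijective_mapFree_baseChange _ hB K
        (bijective_baseChange_of_bijective (𝒟.α 0) (p.map (algebraMap R (𝒟.B 0))).ResidueField K (𝒟.fibreIso 0 h0))
    let iso : N' ≃ₗ[S'] M' := hf.equiv.symm ≪≫ₗ (𝒟.isoN.baseChange S S' _ _) ≪≫ₗ hS.equiv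
    have hiso : ∀ x, iso (f x) = (1 : A') ⊗ₜ[𝒟.A 0] 𝒟.isoN x := fun x => by
      have : hf.equiv.symm (f x) = (1 : S') ⊗ₜ[S] x := by
        rw [LinearEquiv.symm_apply_eq, hf.equiv_tmul, one_smul]
      show hS.equiv ((𝒟.isoN.baseChange S S' _ _) (hf.equiv.symm (f x))) = _
      rw [this]
      show hS.equiv ((1 : S') ⊗ₜ[S] 𝒟.isoN x) = _
      rw [hS.equiv_tmul, one_smul]
      rfl
    have hrange : LinearMap.range α' = Submodule.span B'
        ((fun x => (1 : A') ⊗ₜ[𝒟.A 0] x) '' (LinearMap.range (𝒟.α 0) : Set (𝒟.M 0))) := by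
      refine le_antisymm ?_ (Submodule.span_le.mpr ?_)
      · rw [range_mapFree]
        rintro _ ⟨_, ⟨w, rfl⟩, rfl⟩
        induction w using TensorProduct.induction_on with
        | zero => rw [map_zero, map_zero]; exact zero_mem _
        | add a b ha hb => rw [map_add, map_add]; exact add_mem ha hb
        | tmul b x =>
          rw [LinearMap.baseChange_tmul, LinearEquiv.coe_coe, hB.equiv_tmul]
          exact Submodule.smul_mem _ _ (Submodule.subset_span ⟨_, ⟨x, rfl⟩, rfl⟩)
      · rintro _ ⟨y, hy, rfl⟩
        exact range_le_comap_mapFree (𝒟.α 0) hB hy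
    let bc0 : StepBC (R := R) (R' := R') (𝒟.A 0) A' (𝒟.α 0) α' :=
      { φA := algebraMap (𝒟.A 0) A'
        φB := algebraMap (𝒟.B 0) B'
        g := (TensorProduct.mk (𝒟.A 0) A' (𝒟.M 0) 1).toAddMonoidHom
        commA := by rw [← IsScalarTower.algebraMap_eq, ← IsScalarTower.algebraMap_eq]
        commB := by rw [← IsScalarTower.algebraMap_eq, ← IsScalarTower.algebraMap_eq]
        commBA := by rw [← IsScalarTower.algebraMap_eq, ← IsScalarTower.algebraMap_eq]
        semilin := fun a m => by
          show (1 : A') ⊗ₜ[𝒟.A 0] (a • m) = algebraMap (𝒟.A 0) A' a • ((1 : A') ⊗ₜ[𝒟.A 0] m)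
          rw [TensorProduct.tmul_smul, TensorProduct.smul_tmul', TensorProduct.smul_tmul', smul_eq_mul, mul_one, Algebra.smul_def, mul_one]
        pushA := by
          convert (inferInstance : Algebra.IsPushout R R' (𝒟.A 0) A') using 1 <;>
            first
              | rfl
              | exact Algebra.algebra_ext _ _ fun x => rfl
              | exact Algebra.algebra_ext _ _ fun x => (IsScalarTower.algebraMap_apply R R' A' x).symm
        pushB := by
          convert (inferInstance : Algebra.IsPushout R R' (𝒟.B 0) B') using 1 <;>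
            first
              | rfl
              | exact Algebra.algebra_ext _ _ fun x => rfl
              | exact Algebra.algebra_ext _ _ fun x => (IsScalarTower.algebraMap_apply R R' B' x).symm
        isBC := by
          haveI : IsScalarTower (𝒟.A 0) A' M' := TensorProduct.isScalarTower_left
          exact isBaseChange_linMap (TensorProduct.isBaseChange (𝒟.A 0) (𝒟.M 0) A') _
        range := hrange }
    letI : Module R' M' := TensorProduct.leftModule
    haveI : IsScalarTower R' B' M' := IsScalarTower.of_algebraMap_smul fun r x => by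
      rw [← algebraMap_smul A' (algebraMap R' B' r) x, ← IsScalarTower.algebraMap_apply, algebraMap_smul]
  · refine ⟨{
      n := 1
      pos := Nat.one_pos
      A := fun _ => A'
      B := fun _ => B'
      M := fun _ => M'
      r := fun i => match i with | 0 => 𝒟.r 0 | k + 1 => 𝒟.r (k + 1)
      hp := fun _ => hp0
      α := fun i => match i with | 0 => α' | k + 1 => 0
      surjSA := hsurjS
      fpSA := hfpS
      surjBA' := fun i h => absurd h (by omega)
      fpBA' := fun i h => absurd h (by omega)
      finiteBA := fun _ _ => hfin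
      smooth := fun _ _ => inferInstance
      geomIrred := fun _ _ => geomIrredFibres_of_domFib hdom
      finiteM := fun _ _ => hfinM
      isoN := iso
      isoCoker := fun i h => absurd h (by omega)
      fibreIso := fun i => match i with | 0 => fun _ => hbij | k + 1 => fun h => absurd h (by omega)
      cokerLast := by
        have H : ∀ k, k = 𝒟.n - 1 → Function.Surjective (𝒟.α k) := by rintro _ rfl; exact 𝒟.cokerLast
        exact surjective_mapFree (𝒟.α 0) hB (H 0 (by omega)) }, ⟨?_⟩⟩
    exact
      { steps := fun i => match i with | 0 => fun _ => bc0 | k + 1 => fun h => absurd h (by omega)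
        len := hn.symm
        rank := fun i => match i with | 0 => fun _ => rfl | k + 1 => fun _ => rfl
        tail := fun i => match i with | 0 => fun _ => rfl | k + 1 => fun _ => rfl
        src := (IsScalarTower.algebraMap_eq S (𝒟.A 0) A').symm.trans (IsScalarTower.algebraMap_eq S S' A')
        isoN := hiso
        link := fun i h => absurd h (by omega) }
  · have h1 : 1 < 𝒟.n := by omega
    obtain ⟨D, ⟨T⟩⟩ := ih (devTail 𝒟 h1) (by show 𝒟.n - 1 = m + 1; omega) B' _ (cokerMap (𝒟.α 0) hB)
      (isBaseChange_cokerMap (𝒟.α 0) hB)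
    refine ⟨{
      n := D.n + 1
      pos := Nat.succ_pos _
      A := fun i => match i with | 0 => A' | k + 1 => D.A k
      B := fun i => match i with | 0 => B' | k + 1 => D.B k
      M := fun i => match i with | 0 => M' | k + 1 => D.M k
      r := fun i => match i with | 0 => 𝒟.r 0 | k + 1 => D.r k
      cA := fun i => match i with | 0 => inferInstanceAs (CommRing A') | k + 1 => D.cA k
      cB := fun i => match i with | 0 => inferInstanceAs (CommRing B') | k + 1 => D.cB k
      aRA := fun i => match i with | 0 => inferInstanceAs (Algebra R' A') | k + 1 => D.aRA k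
      aRB := fun i => match i with | 0 => inferInstanceAs (Algebra R' B') | k + 1 => D.aRB k
      aBA := fun i => match i with | 0 => inferInstanceAs (Algebra B' A') | k + 1 => D.aBA k
      tRBA := fun i => match i with | 0 => inferInstanceAs (IsScalarTower R' B' A') | k + 1 => D.tRBA k
      aSA := inferInstanceAs (Algebra S' A')
      tRSA := inferInstanceAs (IsScalarTower R' S' A')
      aBA' := fun i => match i with | 0 => D.aSA | k + 1 => D.aBA' k
      tRBA' := fun i => match i with | 0 => D.tRSA | k + 1 => D.tRBA' k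
      gM := fun i => match i with | 0 => inferInstanceAs (AddCommGroup M') | k + 1 => D.gM k
      mAM := fun i => match i with | 0 => inferInstanceAs (Module A' M') | k + 1 => D.mAM k
      mBM := fun i => match i with | 0 => inferInstanceAs (Module B' M') | k + 1 => D.mBM k
      tBAM := fun i => match i with | 0 => inferInstanceAs (IsScalarTower B' A' M') | k + 1 => D.tBAM k
      mRM := fun i => match i with | 0 => inferInstanceAs (Module R' M') | k + 1 => D.mRM k
      tRBM := fun i => match i with | 0 => inferInstanceAs (IsScalarTower R' B' M') | k + 1 => D.tRBM k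
      mSM := inferInstanceAs (Module S' M')
      tSAM := inferInstanceAs (IsScalarTower S' A' M')
      mB'M := fun i => match i with | 0 => D.mSM | k + 1 => D.mB'M k
      tB'AM := fun i => match i with | 0 => D.tSAM | k + 1 => D.tB'AM k
      hp := fun i => match i with | 0 => hp0 | k + 1 => D.hp k
      α := fun i => match i with | 0 => α' | k + 1 => D.α k
      surjSA := hsurjS
      fpSA := hfpS
      surjBA' := fun i => match i with | 0 => fun _ => D.surjSA | k + 1 => fun h => D.surjBA' k (by omega)
      fpBA' := fun i => match i with | 0 => fun _ => D.fpSA | k + 1 => fun h => D.fpBA' k (by omega)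
      finiteBA := fun i => match i with | 0 => fun _ => hfin | k + 1 => fun h => D.finiteBA k (by omega)
      smooth := fun i => match i with | 0 => fun _ => inferInstanceAs (Algebra.Smooth R' B') | k + 1 => fun h => D.smooth k (by omega)
      geomIrred := fun i => match i with
        | 0 => fun _ => geomIrredFibres_of_domFib hdom
        | k + 1 => fun h => D.geomIrred k (by omega)
      finiteM := fun i => match i with | 0 => fun _ => hfinM | k + 1 => fun h => D.finiteM k (by omega)
      isoN := iso
      isoCoker := fun i => match i with | 0 => fun _ => D.isoN | k + 1 => fun h => D.isoCoker k (by omega)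
      fibreIso := fun i => match i with | 0 => fun _ => hbij | k + 1 => fun h => D.fibreIso k (by omega)
      cokerLast := by
        obtain ⟨l, hl'⟩ : ∃ l, D.n = l + 1 := ⟨D.n - 1, by have := D.pos; omega⟩
        have hl := D.cokerLast
        rw [show D.n - 1 = l by omega] at hl
        rw [show D.n + 1 - 1 = l + 1 by omega]
        exact hl }, ⟨?_⟩⟩
    have hlen : D.n = 𝒟.n - 1 := T.len
    exact
      { steps := fun i => match i with | 0 => fun _ => bc0 | k + 1 => fun h => T.steps k (show k < 𝒟.n - 1 by omega)
        len := by show D.n + 1 = 𝒟.n; omega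
        rank := fun i => match i with | 0 => fun _ => rfl | k + 1 => fun h => T.rank k (show k < 𝒟.n - 1 by omega)
        tail := fun i => match i with | 0 => fun _ => rfl | k + 1 => fun h => T.tail k (show 𝒟.n - 1 ≤ k by omega)
        src := (IsScalarTower.algebraMap_eq S (𝒟.A 0) A').symm.trans (IsScalarTower.algebraMap_eq S S' A')
        isoN := hiso
        link := fun i => match i with
          | 0 => fun _ => T.src
          | k + 1 => fun h => T.link k (show k + 1 < 𝒟.n - 1 by omega) }

end Groth.L20.RG
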