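import Groth.Agent.L20.RG.DevInduct

/-!
# Following flatness in high dimensions through the steps of a complete dévissage
-/

set_option autoImplicit false
set_option linter.style.haveILetI false
set_option backward.isDefEq.respectTransparency.types false
universe u

open TensorProduct IsLocalRing

noncomputable section

namespace Groth.L20.RG

/-- A step of a dévissage in dimension above `d` becomes universally exact near `s`. -/
theorem exists_step_nhd {A D : Type u} [CommRing A] [CommRing D] [Algebra A D] [Algebra.Smooth A D] (h : DomFib A D)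
    {e d : ℕ} (he : FlatCA.SmoothRelDim e A D) (hde : d + 1 ≤ e) (s : Ideal A) [s.IsPrime]
    [(s.map (algebraMap A D)).IsPrime] {r : ℕ} {M : Type u} [AddCommGroup M] [Module D M] [Module A M]
    [IsScalarTower A D M] [Module.FinitePresentation D M] (α : (Fin r → D) →ₗ[D] M)
    (hα : Function.Bijective (α.baseChange (s.map (algebraMap A D)).ResidueField))
    (g₀ : A) (hg₀ : g₀ ∉ s) (hM : FlatBC A (d + 1) (Localization.Away g₀) D M) :
    ∃ g : A, g ∉ s ∧ ∀ (T : Type u) [CommRing T] [Algebra A T], IsUnit (algebraMap A T g) → ∀ d' : ℕ,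
      FlatBC A d' T D M ↔ FlatBC A d' T D (M ⧸ LinearMap.range α) := by
  let ξ := s.map (algebraMap A D)
  have hflat : FlatCA.FlatAt A ξ M := flatAt_of_flatBC (T := Localization.Away g₀) h he g₀ s hg₀ hde hM
  let E := LinearEquiv.ofBijective _ (bijective_localized s M α hα hflat)
  let f := LocalizedModule.mkLinearMap ξ.primeCompl (Fin r → D)
  let g' : M →ₗ[D] LocalizedModule ξ.primeCompl (Fin r → D) :=
    (E.symm.toLinearMap.restrictScalars D) ∘ₗ LocalizedModule.mkLinearMap ξ.primeCompl M
  obtain ⟨β, u, hβ⟩ := Module.FinitePresentation.exists_lift_of_isLocalizedModule ξ.primeCompl f g'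
  have hg' : ∀ v, g' (α v) = f v := fun v => E.injective (by
    show E (E.symm (LocalizedModule.mk (α v) 1)) = E (LocalizedModule.mk v 1)
    rw [LinearEquiv.apply_symm_apply, LinearEquiv.ofBijective_apply, LocalizedModule.map_mk])
  have hv : ∀ i : Fin r, ∃ v : ξ.primeCompl, (v : D) • (β (α (Pi.single i 1)) - (u : D) • Pi.single i 1) = 0 := fun i => by
    refine (IsLocalizedModule.eq_zero_iff ξ.primeCompl f).1 ?_
    rw [map_sub, map_smul, sub_eq_zero]
    have := LinearMap.congr_fun hβ (α (Pi.single i 1))
    rw [LinearMap.comp_apply, LinearMap.smul_apply, hg', Submonoid.smul_def] at this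
    exact this
  choose v hv using hv
  let w : D := (∏ i, (v i : D)) * u
  have hβw : (((∏ i, (v i : D)) • β) ∘ₗ α) = w • LinearMap.id := by
    refine LinearMap.pi_ext' fun i => LinearMap.ext_ring ?_
    simp only [LinearMap.comp_apply, LinearMap.coe_single, LinearMap.smul_apply, LinearMap.id_apply, w]
    rw [mul_smul, ← sub_eq_zero, ← smul_sub, ← Finset.mul_prod_erase Finset.univ (fun i => (v i : D)) (Finset.mem_univ i),
      mul_comm, mul_smul, hv i, smul_zero]
  haveI hξ : ξ.IsPrime := inferInstance
  have hw : w ∉ ξ := fun hm => by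
    rcases hξ.mem_or_mem hm with h1 | h1
    · obtain ⟨i, -, hi⟩ := hξ.prod_mem_iff.1 h1
      exact (v i).2 hi
    · exact u.2 h1
  obtain ⟨c, -, hc⟩ := exists_content h ({w} : Set D)
  have hcs : ¬ c ≤ s := fun hle => hw ((one_tmul_eq_zero_iff s w).1 ((hc s.ResidueField).2
    (hle.trans (Ideal.ker_algebraMap_residueField s).ge) w rfl))
  obtain ⟨a, hac, has⟩ := SetLike.not_le_iff_exists.1 hcs
  exact ⟨a, has, fun T _ _ hu d' => flatBC_iff_coker h α _ hβw hc hac hu d'⟩

variable {A B : Type u} [CommRing A] [CommRing B] [Algebra A B] [Algebra.FinitePresentation A B]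
  {N : Type u} [AddCommGroup N] [Module B N] [Module A N] [IsScalarTower A B N] [Module.FinitePresentation B N]
  {s : Ideal A} [s.IsPrime] (D : FlatCA.CompleteDevissage A B N s)

/-- The module of step `i` is finitely presented over its smooth algebra, and near `s` it computes flatness of `N`
in all dimensions, as long as the earlier steps live in dimensions above `d`. -/
theorem exists_chain_nhd (e : ℕ → ℕ) (he : ∀ i, i < D.n → FlatCA.SmoothRelDim (e i) A (D.B i)) {d : ℕ}
    (hflat : FlatCA.FlatInDimGE (d + 1) A B N) : ∀ i, i < D.n → (∀ k, k < i → d + 1 ≤ e k) →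
      letI := D.cB i; letI := D.aRB i; letI := D.gM i; letI := D.mBM i
      Module.FinitePresentation (D.B i) (D.M i) ∧ ∃ g : A, g ∉ s ∧ ∀ (T : Type u) [CommRing T] [Algebra A T],
        IsUnit (algebraMap A T g) → ∀ d' : ℕ, FlatBC A d' T B N ↔ FlatBC A d' T (D.B i) (D.M i) := by
  letI := D.cA; letI := D.cB; letI := D.aRA; letI := D.aRB; letI := D.aBA; letI := D.tRBA
  letI := D.aBA'; letI := D.tRBA'; letI := D.gM; letI := D.mAM; letI := D.mBM; letI := D.tBAM
  letI := D.mRM; letI := D.tRBM; letI := D.mB'M; letI := D.tB'AM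
  letI := D.aSA; letI := D.tRSA; letI := D.mSM; letI := D.tSAM
  have tAAM : ∀ i, IsScalarTower A (D.A i) (D.M i) := fun i => IsScalarTower.of_algebraMap_smul fun a m => by
    rw [IsScalarTower.algebraMap_apply A (D.B i) (D.A i), algebraMap_smul, algebraMap_smul]
  intro i
  induction i with
  | zero =>
    intro hi _
    haveI := tAAM 0
    haveI := D.fpSA
    haveI : Module.Finite B (D.A 0) := Module.Finite.of_surjective (Algebra.linearMap B (D.A 0)) D.surjSA
    haveI := D.finiteBA 0 hi
    haveI := D.smooth 0 hi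
    haveI : IsScalarTower A B (D.M 0) := IsScalarTower.of_algebraMap_smul fun a m => by
      rw [← algebraMap_smul (D.A 0) (algebraMap A B a) m, ← IsScalarTower.algebraMap_apply, algebraMap_smul]
    haveI : Module.FinitePresentation B (D.M 0) :=
      Module.finitePresentation_of_surjective D.isoN.toLinearMap D.isoN.surjective
        (by rw [LinearMap.ker_eq_bot.2 D.isoN.injective]; exact Submodule.fg_bot)
    haveI : Module.FinitePresentation (D.A 0) (D.M 0) := Groth.L07.SyzygyRes.fp_of_surjective D.surjSA (D.M 0)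
    haveI : Algebra.FinitePresentation A (D.A 0) := Algebra.FinitePresentation.trans A B (D.A 0)
    haveI : Algebra.FinitePresentation (D.B 0) (D.A 0) :=
      Algebra.FinitePresentation.of_restrict_scalars_finitePresentation A (D.B 0) (D.A 0)
    haveI : Module.FinitePresentation (D.B 0) (D.A 0) := Module.FinitePresentation.of_finite_of_finitePresentation _ _
    refine ⟨Module.FinitePresentation.trans (D.B 0) (D.M 0) (D.A 0), 1,
      s.ne_top_iff_one.1 (Ideal.IsPrime.ne_top ‹_›), fun T _ _ _ d' => ?_⟩
    rw [flatBC_congr (A := A) D.isoN d', ← flatBC_iff_finite (A := A) (C := D.A 0) (D := B) (D.M 0) d',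
      flatBC_iff_finite (A := A) (C := D.A 0) (D := D.B 0) (D.M 0) d']
  | succ i ih =>
    intro hi hk
    have hi' : i < D.n := by omega
    obtain ⟨hfp, g, hg, hiff⟩ := ih hi' fun k hk' => hk k (by omega)
    haveI := hfp
    haveI := D.smooth i hi'
    haveI := D.smooth (i + 1) hi
    haveI := D.hp i
    have hdom : DomFib A (D.B i) := DomFib.of_smooth_geomIrredFibres (D.geomIrred i hi')
    have hN : FlatBC A (d + 1) (Localization.Away g) B N := flatBC_of_flatInDimGE g hflat
    obtain ⟨a, has, hstep⟩ := exists_step_nhd hdom (he i hi') (hk i (by omega)) s (D.α i) (D.fibreIso i hi') g hg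
      ((hiff (Localization.Away g) (IsLocalization.Away.algebraMap_isUnit g) (d + 1)).1 hN)
    have hsurj := D.surjBA' i hi
    haveI := D.fpBA' i hi
    haveI := D.finiteBA (i + 1) hi
    haveI : Module.Finite (D.B i) (D.A (i + 1)) :=
      Module.Finite.of_surjective (Algebra.linearMap (D.B i) (D.A (i + 1))) hsurj
    haveI := tAAM (i + 1)
    haveI : IsScalarTower A (D.B i) (D.M (i + 1)) := IsScalarTower.of_algebraMap_smul fun a m => by
      rw [← algebraMap_smul (D.A (i + 1)) (algebraMap A (D.B i) a) m, ← IsScalarTower.algebraMap_apply, algebraMap_smul]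
    haveI : Module.FinitePresentation (D.B i) (D.M i ⧸ LinearMap.range (D.α i)) :=
      Module.finitePresentation_of_surjective _ (Submodule.mkQ_surjective _)
        (by rw [Submodule.ker_mkQ, LinearMap.range_eq_map]; exact (Module.Finite.fg_top).map _)
    haveI : Module.FinitePresentation (D.B i) (D.M (i + 1)) :=
      Module.finitePresentation_of_surjective (D.isoCoker i hi).toLinearMap (D.isoCoker i hi).surjective
        (by rw [LinearMap.ker_eq_bot.2 (D.isoCoker i hi).injective]; exact Submodule.fg_bot)
    haveI : Module.FinitePresentation (D.A (i + 1)) (D.M (i + 1)) := Groth.L07.SyzygyRes.fp_of_surjective hsurj (D.M (i + 1))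
    haveI : Algebra.FinitePresentation A (D.A (i + 1)) := Algebra.FinitePresentation.trans A (D.B i) (D.A (i + 1))
    haveI : Algebra.FinitePresentation (D.B (i + 1)) (D.A (i + 1)) :=
      Algebra.FinitePresentation.of_restrict_scalars_finitePresentation A (D.B (i + 1)) (D.A (i + 1))
    haveI : Module.FinitePresentation (D.B (i + 1)) (D.A (i + 1)) :=
      Module.FinitePresentation.of_finite_of_finitePresentation _ _
    refine ⟨Module.FinitePresentation.trans (D.B (i + 1)) (D.M (i + 1)) (D.A (i + 1)), g * a,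
      fun hm => ((‹s.IsPrime›).mem_or_mem hm).elim hg has, fun T _ _ hu d' => ?_⟩
    rw [map_mul, IsUnit.mul_iff] at hu
    rw [hiff T hu.1 d', hstep T hu.2 d', flatBC_congr (A := A) (D.isoCoker i hi) d',
      ← flatBC_iff_finite (A := A) (C := D.A (i + 1)) (D := D.B i) (D.M (i + 1)) d',
      flatBC_iff_finite (A := A) (C := D.A (i + 1)) (D := D.B (i + 1)) (D.M (i + 1)) d']

/-- If all steps live in dimensions above `d`, flatness in dimensions at least `d` holds near `s`. -/
theorem exists_nhd_of_all_gt (e : ℕ → ℕ) (he : ∀ i, i < D.n → FlatCA.SmoothRelDim (e i) A (D.B i)) {d : ℕ}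
    (hflat : FlatCA.FlatInDimGE (d + 1) A B N) (hall : ∀ k, k < D.n → d + 1 ≤ e k) :
    ∃ g : A, g ∉ s ∧ ∀ (T : Type u) [CommRing T] [Algebra A T], IsUnit (algebraMap A T g) → FlatBC A d T B N := by
  letI := D.cB; letI := D.aRB; letI := D.gM; letI := D.mBM; letI := D.mRM; letI := D.tRBM
  have hlt : D.n - 1 < D.n := by have := D.pos; omega
  obtain ⟨hfp, g, hg, hiff⟩ := exists_chain_nhd D e he hflat (D.n - 1) hlt fun k hk => hall k (by omega)
  haveI := hfp
  haveI := D.smooth (D.n - 1) hlt
  haveI := D.hp (D.n - 1)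
  have hN : FlatBC A (d + 1) (Localization.Away g) B N := flatBC_of_flatInDimGE g hflat
  obtain ⟨a, has, hstep⟩ := exists_step_nhd (DomFib.of_smooth_geomIrredFibres (D.geomIrred (D.n - 1) hlt))
    (he _ hlt) (hall _ hlt) s (D.α (D.n - 1)) (D.fibreIso _ hlt) g hg
    ((hiff (Localization.Away g) (IsLocalization.Away.algebraMap_isUnit g) (d + 1)).1 hN)
  haveI : Subsingleton (D.M (D.n - 1) ⧸ LinearMap.range (D.α (D.n - 1))) :=
    Submodule.Quotient.subsingleton_iff.2 (LinearMap.range_eq_top.2 D.cokerLast)
  refine ⟨g * a, fun hm => ((‹s.IsPrime›).mem_or_mem hm).elim hg has, fun T _ _ hu => ?_⟩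
  rw [map_mul, IsUnit.mul_iff] at hu
  exact (hiff T hu.1 d).2 ((hstep T hu.2 d).2 (flatBC_of_subsingleton _ d))

end Groth.L20.RG
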