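import Groth.Agent.L20.RG.GenRank
import Groth.Agent.L07.SyzygyRes

/-!
# Flatness in high dimensions along a complete dévissage, universally over a neighbourhood
-/

set_option autoImplicit false
set_option linter.style.haveILetI false
set_option backward.isDefEq.respectTransparency.types false
universe u

open TensorProduct IsLocalRing

noncomputable section

namespace Groth.L20.RG

attribute [local instance] Algebra.TensorProduct.rightAlgebra

/-- Flatness in dimensions at least `d` of the base change of a module to `T`. -/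
def FlatBC (A : Type u) [CommRing A] (d : ℕ) (T : Type u) [CommRing T] [Algebra A T] (C M : Type u) [CommRing C]
    [Algebra A C] [AddCommGroup M] [Module C M] : Prop :=
  FlatCA.FlatInDimGE d T (T ⊗[A] C) ((T ⊗[A] C) ⊗[C] M)

variable {A : Type u} [CommRing A] {T : Type u} [CommRing T] [Algebra A T]

/-- A semilinear map between two base changes that respects the generators is bijective. -/
theorem bijective_of_isBaseChange {M M₁ M₂ : Type u} [AddCommGroup M] [Module A M] [AddCommGroup M₁] [Module A M₁]
    [Module T M₁] [IsScalarTower A T M₁] [AddCommGroup M₂] [Module A M₂] [Module T M₂] [IsScalarTower A T M₂]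
    {f₁ : M →ₗ[A] M₁} (h₁ : IsBaseChange T f₁) {f₂ : M →ₗ[A] M₂} (h₂ : IsBaseChange T f₂) (g : M₁ →ₗ[T] M₂)
    (hg : ∀ m, g (f₁ m) = f₂ m) : Function.Bijective g := by
  have : g = (h₁.equiv.symm.trans h₂.equiv).toLinearMap := h₁.algHom_ext _ _ fun m => by
    rw [hg, LinearEquiv.coe_coe, LinearEquiv.trans_apply, h₁.equiv_symm_apply, h₂.equiv_tmul, one_smul]
  rw [this]
  exact LinearEquiv.bijective _

section Finite

variable {C D : Type u} [CommRing C] [CommRing D] [Algebra A C] [Algebra A D] [Algebra D C] [IsScalarTower A D C]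

theorem flatBC_iff_finite [Algebra.IsIntegral D C] (M : Type u) [AddCommGroup M] [Module C M] [Module D M]
    [IsScalarTower D C M] [Module A M] [IsScalarTower A D M] [IsScalarTower A C M] (d : ℕ) :
    FlatBC A d T C M ↔ FlatBC A d T D M := by
  let ψ : T ⊗[A] D →ₐ[T] T ⊗[A] C := Algebra.TensorProduct.map (AlgHom.id T T) (IsScalarTower.toAlgHom A D C)
  letI : Algebra (T ⊗[A] D) (T ⊗[A] C) := ψ.toRingHom.toAlgebra
  haveI : IsScalarTower T (T ⊗[A] D) (T ⊗[A] C) :=
    IsScalarTower.of_algebraMap_eq (R := T) (S := T ⊗[A] D) (A := T ⊗[A] C) fun x => (ψ.commutes x).symm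
  letI : Algebra D (T ⊗[A] C) := ((algebraMap C (T ⊗[A] C)).comp (algebraMap D C)).toAlgebra
  haveI : IsScalarTower D C (T ⊗[A] C) := IsScalarTower.of_algebraMap_eq' rfl
  haveI : IsScalarTower D (T ⊗[A] D) (T ⊗[A] C) :=
    IsScalarTower.of_algebraMap_eq (R := D) (S := T ⊗[A] D) (A := T ⊗[A] C) fun x => by
      show (1 : T) ⊗ₜ[A] algebraMap D C x = ψ ((1 : T) ⊗ₜ[A] x)
      simp [ψ]
  haveI : Algebra.IsIntegral (T ⊗[A] D) (T ⊗[A] C) := ⟨fun z => by
    induction z using TensorProduct.induction_on with
    | zero => exact isIntegral_zero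
    | add a b ha hb => exact ha.add hb
    | tmul t c =>
      rw [show (t ⊗ₜ[A] c : T ⊗[A] C) = algebraMap (T ⊗[A] D) (T ⊗[A] C) (t ⊗ₜ[A] 1) * algebraMap C (T ⊗[A] C) c by
        show t ⊗ₜ[A] c = ψ (t ⊗ₜ[A] 1) * ((1 : T) ⊗ₜ[A] c)
        simp [ψ]]
      exact isIntegral_algebraMap.mul
        ((Algebra.IsIntegral.isIntegral (R := D) c).map (IsScalarTower.toAlgHom D C (T ⊗[A] C))).tower_top⟩
  let MC := (T ⊗[A] C) ⊗[C] M
  let MD := (T ⊗[A] D) ⊗[D] M
  haveI : IsScalarTower T (T ⊗[A] D) MC := inferInstance
  haveI : IsScalarTower A T MC := IsScalarTower.of_algebraMap_smul fun r x => by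
    rw [← algebraMap_smul (T ⊗[A] C) (algebraMap A T r) x, ← IsScalarTower.algebraMap_apply, algebraMap_smul]
  haveI : IsScalarTower A T MD := IsScalarTower.of_algebraMap_smul fun r x => by
    rw [← algebraMap_smul (T ⊗[A] D) (algebraMap A T r) x, ← IsScalarTower.algebraMap_apply, algebraMap_smul]
  rw [FlatBC, FlatBC, flatInDimGE_iff_of_finite d (A := T) (B := T ⊗[A] D) (C := T ⊗[A] C) MC]
  let L : MD →ₗ[T ⊗[A] D] MC :=
    ((TensorProduct.mk C (T ⊗[A] C) M 1).restrictScalars D).liftBaseChange (T ⊗[A] D)
  have h₁ := Groth.L20.isBaseChange_restrictScalars (R := A) (R' := T) (TensorProduct.isBaseChange D M (T ⊗[A] D))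
  have h₂ := Groth.L20.isBaseChange_restrictScalars (R := A) (R' := T) (TensorProduct.isBaseChange C M (T ⊗[A] C))
  have hL : Function.Bijective (L.restrictScalars T) := bijective_of_isBaseChange h₁ h₂ _ fun m => by
    show L ((1 : T ⊗[A] D) ⊗ₜ[D] m) = (1 : T ⊗[A] C) ⊗ₜ[C] m
    exact (LinearMap.liftBaseChange_one_tmul (T ⊗[A] D) ((TensorProduct.mk C (T ⊗[A] C) M 1).restrictScalars D) m).trans rfl
  exact (flatInDimGE_congr d (LinearEquiv.ofBijective L hL)).symm

end Finite

section Congr

variable {C : Type u} [CommRing C] [Algebra A C]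

theorem flatBC_congr {M M' : Type u} [AddCommGroup M] [Module C M] [AddCommGroup M'] [Module C M'] (e : M ≃ₗ[C] M')
    (d : ℕ) : FlatBC A d T C M ↔ FlatBC A d T C M' :=
  flatInDimGE_congr d (AlgebraTensorModule.congr (LinearEquiv.refl (T ⊗[A] C) (T ⊗[A] C)) e)

/-- Any model of the base change computes `FlatBC`. -/
theorem flatBC_iff_model {M : Type u} [AddCommGroup M] [Module C M] {C' M' : Type u} [CommRing C'] [Algebra C C']
    [Algebra T C'] [Algebra A C'] [IsScalarTower A C C'] [IsScalarTower A T C'] [Algebra.IsPushout A C T C']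
    [AddCommGroup M'] [Module C' M'] [Module C M'] [IsScalarTower C C' M'] [Module T M'] [IsScalarTower T C' M']
    (f : M →ₗ[C] M') (hf : IsBaseChange C' f) (d : ℕ) :
    FlatBC A d T C M ↔ FlatCA.FlatInDimGE d T C' M' :=
  flatInDimGE_model_iff (A := A) (B := C) d _ (TensorProduct.isBaseChange C M (T ⊗[A] C)) f hf

/-- A vanishing module is flat in all dimensions. -/
theorem flatBC_of_subsingleton (M : Type u) [AddCommGroup M] [Module C M] [Subsingleton M] (d : ℕ) :
    FlatBC A d T C M := by
  rw [FlatBC, flatInDimGE_iff_relTrdeg]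
  intro t Q _ _ _ _
  haveI : Subsingleton ((T ⊗[A] C) ⊗[C] M) := by
    refine subsingleton_of_forall_eq 0 fun z => ?_
    induction z using TensorProduct.induction_on with
    | zero => rfl
    | add a b ha hb => rw [ha, hb, add_zero]
    | tmul a m => rw [Subsingleton.elim m 0, TensorProduct.tmul_zero]
  haveI : Subsingleton (LocalizedModule Q.primeCompl ((T ⊗[A] C) ⊗[C] M)) := by
    refine subsingleton_of_forall_eq 0 fun z => ?_
    induction z using LocalizedModule.induction_on with
    | _ m u => rw [Subsingleton.elim m 0, LocalizedModule.zero_mk]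
  exact inferInstanceAs (Module.Flat T (LocalizedModule Q.primeCompl ((T ⊗[A] C) ⊗[C] M)))

end Congr

section Step

variable {D : Type u} [CommRing D] [Algebra A D] [Algebra.Smooth A D]

/-- **One step of the dévissage**, universally over the locus where `a` is invertible. -/
theorem flatBC_iff_coker (h : DomFib A D) {r : ℕ} {M : Type u} [AddCommGroup M] [Module D M]
    (α : (Fin r → D) →ₗ[D] M) {w : D} (β : M →ₗ[D] (Fin r → D)) (hβ : β ∘ₗ α = w • LinearMap.id)
    {c : Ideal A} (hc : ∀ (S : Type u) [CommRing S] [Algebra A S], (∀ x ∈ ({w} : Set D), (1 : S) ⊗ₜ[A] x = 0) ↔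
      c ≤ RingHom.ker (algebraMap A S)) {a : A} (ha : a ∈ c) (hu : IsUnit (algebraMap A T a)) (d : ℕ) :
    FlatBC A d T D M ↔ FlatBC A d T D (M ⧸ LinearMap.range α) := by
  let DT := T ⊗[A] D
  let αT : DT ⊗[D] (Fin r → D) →ₗ[DT] DT ⊗[D] M := α.baseChange DT
  let βT : DT ⊗[D] M →ₗ[DT] DT ⊗[D] (Fin r → D) := β.baseChange DT
  let πT : DT ⊗[D] M →ₗ[DT] DT ⊗[D] (M ⧸ LinearMap.range α) := (LinearMap.range α).mkQ.baseChange DT
  haveI : Module.Flat T DT := inferInstance
  let e : DT ⊗[D] (Fin r → D) ≃ₗ[DT] (Fin r → DT) := TensorProduct.piScalarRight D DT DT (Fin r)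
  haveI : Module.Flat T (Fin r → DT) := Module.Flat.of_linearEquiv (DirectSum.linearEquivFunOnFintype T (Fin r) (fun _ => DT)).symm
  haveI : Module.Flat T (DT ⊗[D] (Fin r → D)) := Module.Flat.of_linearEquiv (e.restrictScalars T)
  have hex : Function.Exact αT πT :=
    lTensor_exact DT (LinearMap.exact_map_mkQ_range α) (Submodule.mkQ_surjective _)
  have hπ : Function.Surjective πT := LinearMap.lTensor_surjective DT (Submodule.mkQ_surjective _)
  refine flatInDimGE_iff_of_univExact d αT πT hπ hex fun X _ _ => ?_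
  have hcomp : (e.toLinearMap ∘ₗ βT ∘ₗ αT).restrictScalars T =
      (LinearMap.mulLeft T ((1 : T) ⊗ₜ[A] w)).compLeft (Fin r) ∘ₗ (e.toLinearMap).restrictScalars T := by
    refine LinearMap.ext fun z => ?_
    show e (βT (αT z)) = fun i => ((1 : T) ⊗ₜ[A] w) * e z i
    rw [show βT (αT z) = (β ∘ₗ α).baseChange DT z by rw [LinearMap.baseChange_comp]; rfl, hβ]
    induction z using TensorProduct.induction_on with
    | zero => funext i; simp
    | add a b ha hb => funext i; simp only [map_add, ha, hb, Pi.add_apply, mul_add]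
    | tmul x v =>
      funext i
      simp [e, TensorProduct.piScalarRight_apply]
      rw [Algebra.smul_def, Algebra.smul_def, Algebra.smul_def]
      show (1 : T) ⊗ₜ[A] w * _ = _
      ring
  have hmul := univInj_mulLeft h hc T ha hu
  have hpi : Function.Injective (((LinearMap.mulLeft T ((1 : T) ⊗ₜ[A] w)).compLeft (Fin r)).rTensor X) := by
    rw [← LinearMap.lTensor_inj_iff_rTensor_inj, injective_iff_map_eq_zero]
    intro z hz
    refine (TensorProduct.piRight T T X fun _ : Fin r => DT).injective ?_
    rw [map_zero]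
    funext i
    refine hmul X ?_
    rw [Pi.zero_apply, map_zero]
    have key : ∀ z, TensorProduct.piRight T T X (fun _ : Fin r => DT)
        ((((LinearMap.mulLeft T ((1 : T) ⊗ₜ[A] w)).compLeft (Fin r))).lTensor X z) i =
        (LinearMap.mulLeft T ((1 : T) ⊗ₜ[A] w)).lTensor X (TensorProduct.piRight T T X (fun _ : Fin r => DT) z i) := by
      intro z
      induction z using TensorProduct.induction_on with
      | zero => simp
      | add a b ha hb => simp only [map_add, Pi.add_apply, ha, hb]
      | tmul x v => simp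
    rw [← key, hz, map_zero, Pi.zero_apply]
  have h1 : Function.Injective (((e.toLinearMap ∘ₗ βT ∘ₗ αT).restrictScalars T).rTensor X) := by
    rw [hcomp, LinearMap.rTensor_comp]
    exact hpi.comp ((e.restrictScalars T).rTensor X).injective
  rw [show (e.toLinearMap ∘ₗ βT ∘ₗ αT).restrictScalars T =
      (e.toLinearMap ∘ₗ βT).restrictScalars T ∘ₗ αT.restrictScalars T from rfl, LinearMap.rTensor_comp] at h1
  exact Function.Injective.of_comp (f := ⇑(LinearMap.rTensor X ((e.toLinearMap ∘ₗ βT).restrictScalars T))) h1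

end Step

section Locate

variable {C : Type u} [CommRing C] [Algebra A C]

/-- Flatness in high dimensions persists after localising the base. -/
theorem flatBC_of_flatInDimGE (g : A) [IsLocalization.Away g T] {N : Type u} [AddCommGroup N] [Module C N]
    [Module A N] [IsScalarTower A C N] {d : ℕ} (hN : FlatCA.FlatInDimGE d A C N) : FlatBC A d T C N := by
  rw [FlatBC, flatInDimGE_iff_relTrdeg]
  intro t' Q' _ _ hQ' hle
  let CT := T ⊗[A] C
  let t := t'.comap (algebraMap A T)
  let Q := Q'.comap (algebraMap C CT)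
  haveI : t.IsPrime := Ideal.IsPrime.comap _
  haveI : Q.IsPrime := Ideal.IsPrime.comap _
  haveI hQt : Q.LiesOver t := ⟨by
    rw [Ideal.under_def, show Q = Q'.comap (algebraMap C CT) from rfl, Ideal.comap_comap,
      ← IsScalarTower.algebraMap_eq, IsScalarTower.algebraMap_eq A T CT, ← Ideal.comap_comap,
      ← Ideal.under_def (A := T), ← hQ'.over]⟩
  haveI : IsScalarTower A T (CT ⊗[C] N) := IsScalarTower.of_algebraMap_smul fun r x => by
    rw [← algebraMap_smul CT (algebraMap A T r) x, ← IsScalarTower.algebraMap_apply, algebraMap_smul]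
  have hflat : FlatCA.FlatAt A Q N := by
    refine (flatInDimGE_iff_relTrdeg d N).mp hN t Q (hle.trans (le_of_eq ?_))
    letI : Algebra t.ResidueField Q.ResidueField :=
      (Ideal.ResidueField.mapₐ t Q (Algebra.ofId A C) hQt.over).toRingHom.toAlgebra
    haveI : t'.LiesOver t := ⟨rfl⟩
    haveI : Q'.LiesOver Q := ⟨rfl⟩
    letI : Algebra t'.ResidueField Q'.ResidueField :=
      (Ideal.ResidueField.mapₐ t' Q' (Algebra.ofId T CT) hQ'.over).toRingHom.toAlgebra
    show Algebra.trdeg t'.ResidueField Q'.ResidueField = Algebra.trdeg t.ResidueField Q.ResidueField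
    haveI : Algebra.IsPushout A T C CT := Algebra.IsPushout.symm inferInstance
    haveI : IsLocalization (Algebra.algebraMapSubmonoid C (Submonoid.powers g)) CT :=
      (Algebra.isLocalization_iff_isPushout (Submonoid.powers g) T).2 inferInstance
    have b₁ : Function.Bijective (Ideal.ResidueField.mapₐ t t' (Algebra.ofId A T) (Ideal.over_def t' t)) :=
      (RingHom.surjectiveOnStalks_of_isLocalization (Submonoid.powers g) T).residueFieldMap_bijective _ _ _
    have b₂ : Function.Bijective (Ideal.ResidueField.mapₐ Q Q' (Algebra.ofId C CT) (Ideal.over_def Q' Q)) :=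
      (RingHom.surjectiveOnStalks_of_isLocalization (Algebra.algebraMapSubmonoid C (Submonoid.powers g)) CT).residueFieldMap_bijective _ _ _
    let e₁ := RingEquiv.ofBijective _ b₁
    let e₂ := RingEquiv.ofBijective _ b₂
    letI : Algebra t.ResidueField Q'.ResidueField :=
      (e₂.toRingHom.comp (algebraMap t.ResidueField Q.ResidueField)).toAlgebra
    letI : Algebra t.ResidueField t'.ResidueField := e₁.toRingHom.toAlgebra
    haveI : IsScalarTower t.ResidueField t'.ResidueField Q'.ResidueField := IsScalarTower.of_algebraMap_eq' (by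
      refine Ideal.ResidueField.ringHom_ext ?_
      ext a
      show Ideal.ResidueField.mapₐ Q Q' (Algebra.ofId C CT) (Ideal.over_def Q' Q)
          (Ideal.ResidueField.mapₐ t Q (Algebra.ofId A C) hQt.over (algebraMap A t.ResidueField a)) =
        Ideal.ResidueField.mapₐ t' Q' (Algebra.ofId T CT) hQ'.over
          (Ideal.ResidueField.mapₐ t t' (Algebra.ofId A T) (Ideal.over_def t' t) (algebraMap A t.ResidueField a))
      rw [AlgHom.commutes, AlgHom.commutes, IsScalarTower.algebraMap_apply A C Q.ResidueField, AlgHom.commutes,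
        IsScalarTower.algebraMap_apply A T t'.ResidueField, AlgHom.commutes, ← IsScalarTower.algebraMap_apply,
        ← IsScalarTower.algebraMap_apply])
    haveI : Algebra.IsAlgebraic t.ResidueField t'.ResidueField := ⟨fun x => by
      obtain ⟨y, rfl⟩ := e₁.surjective x
      exact isAlgebraic_algebraMap y⟩
    rw [show Algebra.trdeg t.ResidueField Q.ResidueField = Algebra.trdeg t.ResidueField Q'.ResidueField from
      AlgEquiv.trdeg_eq { e₂ with commutes' := fun _ => rfl },
      ← trdeg_add_eq t.ResidueField t'.ResidueField (A := Q'.ResidueField),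
      trdeg_eq_zero (R := t.ResidueField) (A := t'.ResidueField), zero_add]
  haveI : Module.Flat A (LocalizedModule Q.primeCompl N) := hflat
  exact Groth.L20.flat_localizedModule_of_isBaseChange (R := A) (R' := T) (TensorProduct.mk C CT N 1)
    (Groth.L20.isBaseChange_restrictScalars (R := A) (R' := T) (TensorProduct.isBaseChange C N CT))
    Q.primeCompl Q'.primeCompl fun x hx => hx

/-- Flatness at a prime descends along a flat algebra. -/
theorem flatAt_of_flat_above {C' M M' : Type u} [CommRing C'] [Algebra C C'] [Algebra A C'] [IsScalarTower A C C']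
    [Module.Flat C C'] [AddCommGroup M] [Module C M] [Module A M] [IsScalarTower A C M] [AddCommGroup M'] [Module C' M']
    [Module C M'] [IsScalarTower C C' M'] [Module A M'] [IsScalarTower A C' M'] [IsScalarTower A C M'] (f : M →ₗ[C] M')
    (hf : IsBaseChange C' f) (Q' : Ideal C') [Q'.IsPrime]
    (h : Module.Flat A (LocalizedModule Q'.primeCompl M')) (Q : Ideal C) [Q.IsPrime]
    (hQ : Q ≤ Q'.comap (algebraMap C C')) : FlatCA.FlatAt A Q M := by
  haveI := h
  haveI : Module.Flat C' (Localization.AtPrime Q') := IsLocalization.flat _ Q'.primeCompl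
  haveI : Module.Flat C (Localization.AtPrime Q') := Module.Flat.trans C C' (Localization.AtPrime Q')
  have hb := hf.comp (IsLocalizedModule.isBaseChange Q'.primeCompl (Localization.AtPrime Q')
    (LocalizedModule.mkLinearMap Q'.primeCompl M'))
  have hne : Q.map (algebraMap C (Localization.AtPrime Q')) ≠ ⊤ := by
    refine ne_top_of_le_ne_top (maximalIdeal.isMaximal (Localization.AtPrime Q')).ne_top ?_
    rw [Ideal.map_le_iff_le_comap]
    intro x hx
    rw [Ideal.mem_comap, IsScalarTower.algebraMap_apply C C' (Localization.AtPrime Q'),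
      IsLocalization.AtPrime.to_map_mem_maximal_iff (Localization.AtPrime Q') Q']
    exact hQ hx
  exact Groth.L20.flat_localizedModule_of_descent _ hb Q hne

/-- Flatness at the generic point of the fibre over `s` descends from a neighbourhood of `s`. -/
theorem flatAt_of_flatBC [Algebra.Smooth A C] (h : DomFib A C) {e : ℕ} (he : FlatCA.SmoothRelDim e A C) (g : A)
    [IsLocalization.Away g T] (s : Ideal A) [s.IsPrime] (hg : g ∉ s) [(s.map (algebraMap A C)).IsPrime]
    {M : Type u} [AddCommGroup M] [Module C M] [Module A M] [IsScalarTower A C M] {d : ℕ} (hd : d ≤ e)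
    (hM : FlatBC A d T C M) : FlatCA.FlatAt A (s.map (algebraMap A C)) M := by
  let CT := T ⊗[A] C
  haveI : Algebra.IsPushout A T C CT := Algebra.IsPushout.symm inferInstance
  have hsd : Disjoint (Submonoid.powers g : Set A) (s : Set A) := Set.disjoint_left.2 fun _ ⟨n, hn⟩ hm =>
    hg (‹s.IsPrime›.mem_of_pow_mem n (show g ^ n ∈ s by simp only at hn; rw [hn]; exact hm))
  let sT := s.map (algebraMap A T)
  haveI : sT.IsPrime := IsLocalization.isPrime_of_isPrime_disjoint (Submonoid.powers g) T s ‹_› hsd
  have hT := h.baseChange T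
  let ξT := sT.map (algebraMap T CT)
  haveI : ξT.IsPrime := isPrime_map sT hT
  haveI : ξT.LiesOver sT := liesOver_map sT hT
  have hflat : FlatCA.FlatAt T ξT (CT ⊗[C] M) := by
    refine (flatInDimGE_iff_relTrdeg d (A := T) _).mp hM sT ξT ?_
    rw [relTrdeg_map sT (smoothRelDim_baseChange (R := A) (R' := T) (B := C) (B' := CT) he) hT]
    exact_mod_cast hd
  haveI : IsScalarTower A T (CT ⊗[C] M) := IsScalarTower.of_algebraMap_smul fun r x => by
    rw [← algebraMap_smul CT (algebraMap A T r) x, ← IsScalarTower.algebraMap_apply, algebraMap_smul]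
  haveI : IsScalarTower A C (CT ⊗[C] M) := inferInstance
  haveI : Module.Flat A T := IsLocalization.flat T (Submonoid.powers g)
  haveI : Module.Flat T (LocalizedModule ξT.primeCompl (CT ⊗[C] M)) := hflat
  haveI : IsScalarTower A T (LocalizedModule ξT.primeCompl (CT ⊗[C] M)) :=
    isScalarTower_localizedModule (R := A) (R' := T) (S := CT) (M := CT ⊗[C] M) ξT.primeCompl
  haveI hA : Module.Flat A (LocalizedModule ξT.primeCompl (CT ⊗[C] M)) :=
    Module.Flat.trans A T (LocalizedModule ξT.primeCompl (CT ⊗[C] M))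
  haveI : IsLocalization (Algebra.algebraMapSubmonoid C (Submonoid.powers g)) CT :=
    (Algebra.isLocalization_iff_isPushout (Submonoid.powers g) T).2 inferInstance
  haveI : Module.Flat C CT := IsLocalization.flat CT (Algebra.algebraMapSubmonoid C (Submonoid.powers g))
  refine flatAt_of_flat_above (TensorProduct.mk C CT M 1) (TensorProduct.isBaseChange C M CT) ξT hA _ ?_
  rw [Ideal.map_le_iff_le_comap]
  intro x hx
  rw [Ideal.mem_comap, Ideal.mem_comap, ← IsScalarTower.algebraMap_apply, IsScalarTower.algebraMap_apply A T CT]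
  exact Ideal.mem_map_of_mem _ (Ideal.mem_map_of_mem _ hx)

end Locate

end Groth.L20.RG
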