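import Groth.Agent.L20.RG.DevBaseChange
import Groth.Agent.L20.RG.Induction

/-!
# Fibre supports under an open immersion
-/

set_option autoImplicit false
set_option linter.style.haveILetI false
set_option backward.isDefEq.respectTransparency.types false
universe u

open TensorProduct TopologicalSpace

noncomputable section

namespace Groth.L20.RG

/-- Open embeddings preserve the local dimension. -/
theorem localDim_of_isOpenEmbedding {X Y : Type u} [TopologicalSpace X] [TopologicalSpace Y] (e : X → Y)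
    (he : Topology.IsOpenEmbedding e) (x : X) : FlatMor.localDim Y (e x) = FlatMor.localDim X x := by
  refine le_antisymm (le_iInf fun U => ?_) (le_iInf fun V => ?_)
  · refine iInf_le_of_le ⟨⟨e '' U.1, he.isOpenMap _ U.1.2⟩, ⟨x, U.2, rfl⟩⟩ ?_
    exact (IsHomeomorph.topologicalKrullDim_eq _ (he.isEmbedding.homeomorphImage (U.1 : Set X)).isHomeomorph).ge
  · refine iInf_le_of_le ⟨Opens.comap ⟨e, he.continuous⟩ V.1, V.2⟩ ?_
    exact ((he.isEmbedding.comp Topology.IsEmbedding.subtypeVal).codRestrict (V.1 : Set Y)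
      (fun z : (e ⁻¹' (V.1 : Set Y) : Set X) => z.2)).isInducing.topologicalKrullDim_le

attribute [local instance] Algebra.TensorProduct.rightAlgebra

/-- The spectrum of a fibre is embedded. -/
theorem isEmbedding_comap_fibre {R S : Type u} [CommRing R] [CommRing S] [Algebra R S] (p : Ideal R) [p.IsPrime] :
    Topology.IsEmbedding (PrimeSpectrum.comap (algebraMap S (p.Fiber S))) :=
  Topology.IsEmbedding.subtypeVal.comp (PrimeSpectrum.preimageHomeomorphFiber R S ⟨p, inferInstance⟩).symm.isEmbedding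

theorem range_comap_fibre {R S : Type u} [CommRing R] [CommRing S] [Algebra R S] (p : Ideal R) [p.IsPrime]
    (x : PrimeSpectrum S) (hx : x.asIdeal.LiesOver p) : ∃ y, PrimeSpectrum.comap (algebraMap S (p.Fiber S)) y = x := by
  let e := PrimeSpectrum.preimageHomeomorphFiber R S ⟨p, inferInstance⟩
  let x' : PrimeSpectrum.comap (algebraMap R S) ⁻¹' {(⟨p, inferInstance⟩ : PrimeSpectrum R)} :=
    ⟨x, PrimeSpectrum.ext hx.over.symm⟩
  exact ⟨e x', congrArg Subtype.val (e.symm_apply_apply x')⟩

variable {R S R' S' : Type u} [CommRing R] [CommRing S] [CommRing R'] [CommRing S'] [Algebra R S] [Algebra R R']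
  [Algebra S S'] [Algebra R' S'] [Algebra R S'] [IsScalarTower R R' S'] [IsScalarTower R S S']

/-- Fibre supports under an open immersion: local dimension at a point. -/
theorem localDim_support_of_open (hS : Topology.IsOpenEmbedding (PrimeSpectrum.comap (algebraMap S S')))
    (hR : Function.Injective (PrimeSpectrum.comap (algebraMap R R')))
    (p : Ideal R) [p.IsPrime] (p' : Ideal R') [p'.IsPrime] [p'.LiesOver p]
    {N N' : Type u} [AddCommGroup N] [Module S N] [Module.Finite S N] [AddCommGroup N'] [Module S' N'] [Module S N']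
    [IsScalarTower S S' N'] {f : N →ₗ[S] N'} (hf : IsBaseChange S' f)
    (q : Ideal S) [q.IsPrime] [q.LiesOver p] (q' : Ideal S') [q'.IsPrime] [hq' : q'.LiesOver q] [q'.LiesOver p']
    (n : WithBot ℕ∞)
    (h1 : ∃ (ξ : PrimeSpectrum (p.Fiber S)) (hξ : ξ ∈ Module.support (p.Fiber S) (FlatCA.fiberMod p S N)),
      ξ.asIdeal = FlatCA.fiberIdeal p q ∧
      FlatMor.localDim (Module.support (p.Fiber S) (FlatCA.fiberMod p S N)) ⟨ξ, hξ⟩ = n) :
    ∃ (ξ' : PrimeSpectrum (p'.Fiber S')) (hξ' : ξ' ∈ Module.support (p'.Fiber S') (FlatCA.fiberMod p' S' N')),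
      ξ'.asIdeal = FlatCA.fiberIdeal p' q' ∧
      FlatMor.localDim (Module.support (p'.Fiber S') (FlatCA.fiberMod p' S' N')) ⟨ξ', hξ'⟩ = n := by
  obtain ⟨ξ, hξ, hξq, hloc⟩ := h1
  haveI : Module.Finite S' N' := Module.Finite.equiv hf.equiv
  let ι := PrimeSpectrum.comap (algebraMap S (p.Fiber S))
  let ι' := PrimeSpectrum.comap (algebraMap S' (p'.Fiber S'))
  let c := PrimeSpectrum.comap (algebraMap S S')
  have hι : Topology.IsEmbedding ι := isEmbedding_comap_fibre p
  have hι' : Topology.IsEmbedding ι' := isEmbedding_comap_fibre p'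
  have hover : ∀ x, (c (ι' x)).asIdeal.LiesOver p := fun x => ⟨by
    show p = ((ι' x).asIdeal.comap (algebraMap S S')).comap (algebraMap R S)
    rw [Ideal.comap_comap, ← IsScalarTower.algebraMap_eq, IsScalarTower.algebraMap_eq R R' S', ← Ideal.comap_comap]
    haveI : (ι' x).asIdeal.LiesOver p' := liesOver_fibre_point p' x
    exact (Ideal.over_def p' p).trans (congrArg _ (Ideal.over_def (ι' x).asIdeal p'))⟩
  choose j hj using fun x => range_comap_fibre p (c (ι' x)) (hover x)
  have hsupp : ∀ x, x ∈ Module.support (p'.Fiber S') (FlatCA.fiberMod p' S' N') ↔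
      j x ∈ Module.support (p.Fiber S) (FlatCA.fiberMod p S N) := fun x =>
    (support_fiberMod_baseChange p' hf x).trans
      ((Iff.of_eq (congrArg (· ∈ Module.support S N) (hj x).symm)).trans
        (Groth.L20.FibreSupport.mem_support_baseChange S (p.Fiber S) N (j x)).symm)
  have hj' : ∀ x, ι (j x) = c (ι' x) := hj
  have hcomp : ι ∘ j = c ∘ ι' := funext hj'
  have hjc : Continuous j := hι.isInducing.continuous_iff.mpr (hcomp ▸ hS.continuous.comp hι'.continuous)
  have hjemb : Topology.IsEmbedding j := Topology.IsEmbedding.of_comp hjc hι.continuous (hcomp ▸ hS.isEmbedding.comp hι')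
  have hjr : Set.range j = ι ⁻¹' Set.range c := by
    refine Set.Subset.antisymm ?_ fun y hy => ?_
    · rintro _ ⟨x, rfl⟩; exact ⟨ι' x, (hj x).symm⟩
    · obtain ⟨w, hw⟩ := hy
      have hwp : w.asIdeal.LiesOver p' := ⟨by
        have h := hR (a₁ := ⟨p', inferInstance⟩) (a₂ := PrimeSpectrum.comap (algebraMap R' S') w) (PrimeSpectrum.ext ?_)
        · exact congrArg PrimeSpectrum.asIdeal h
        · show p'.comap (algebraMap R R') = (w.asIdeal.comap (algebraMap R' S')).comap (algebraMap R R')
          rw [Ideal.comap_comap, ← IsScalarTower.algebraMap_eq, IsScalarTower.algebraMap_eq R S S', ← Ideal.comap_comap]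
          haveI : (ι y).asIdeal.LiesOver p := liesOver_fibre_point p y
          refine (Ideal.over_def p' p).symm.trans ((Ideal.over_def (ι y).asIdeal p).trans ?_)
          rw [← hw]
          rfl⟩
      obtain ⟨x, hx⟩ := range_comap_fibre p' w hwp
      exact ⟨x, hι.injective (by rw [hj', show ι' x = w from hx, hw])⟩
  have hjopen : Topology.IsOpenEmbedding j := ⟨hjemb, hjr ▸ hS.isOpen_range.preimage hι.continuous⟩
  let X := Module.support (p.Fiber S) (FlatCA.fiberMod p S N)
  let X' := Module.support (p'.Fiber S') (FlatCA.fiberMod p' S' N')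
  have hX : X' = j ⁻¹' X := Set.ext hsupp
  let e : X' → X := fun x => ⟨j x.1, (hsupp x.1).mp x.2⟩
  have he : Topology.IsOpenEmbedding e :=
    (hjopen.restrictPreimage X).comp (Homeomorph.setCongr hX).isOpenEmbedding
  obtain ⟨x₀, hx₀⟩ : ∃ x, ι' x = ⟨q', inferInstance⟩ := range_comap_fibre p' _ (by infer_instance)
  have hjx : j x₀ = ξ := hι.injective (by
    rw [hj', hx₀]
    refine PrimeSpectrum.ext ?_
    show q'.comap (algebraMap S S') = ξ.asIdeal.comap (algebraMap S (p.Fiber S))
    rw [hξq]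
    exact hq'.over.symm.trans (Groth.L20.comap_fiberIdeal p q).symm)
  have hx₀X : x₀ ∈ X' := (hsupp x₀).mpr (hjx ▸ hξ)
  have hfi : x₀.asIdeal = FlatCA.fiberIdeal p' q' :=
    asIdeal_eq_fiberIdeal p' q' x₀ (congrArg PrimeSpectrum.asIdeal hx₀)
  have hl : FlatMor.localDim X' ⟨x₀, hx₀X⟩ = n := by
    rw [← localDim_of_isOpenEmbedding e he ⟨x₀, hx₀X⟩, ← hloc]
    congr 1
    exact Subtype.ext hjx
  exact ⟨x₀, hx₀X, hfi, hl⟩

/-- **Fibre supports under an open immersion**: dimension and local dimension at a point. -/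
theorem dim_support_of_open (hS : Topology.IsOpenEmbedding (PrimeSpectrum.comap (algebraMap S S')))
    (hR : Function.Injective (PrimeSpectrum.comap (algebraMap R R')))
    (p : Ideal R) [p.IsPrime] (p' : Ideal R') [p'.IsPrime] [p'.LiesOver p]
    {N N' : Type u} [AddCommGroup N] [Module S N] [Module.Finite S N] [AddCommGroup N'] [Module S' N'] [Module S N']
    [IsScalarTower S S' N'] {f : N →ₗ[S] N'} (hf : IsBaseChange S' f)
    (q : Ideal S) [q.IsPrime] [q.LiesOver p] (q' : Ideal S') [q'.IsPrime] [hq' : q'.LiesOver q] [q'.LiesOver p']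
    (n : WithBot ℕ∞) (hdim : Module.supportDim (p.Fiber S) (FlatCA.fiberMod p S N) = n)
    (h1 : ∃ (ξ : PrimeSpectrum (p.Fiber S)) (hξ : ξ ∈ Module.support (p.Fiber S) (FlatCA.fiberMod p S N)),
      ξ.asIdeal = FlatCA.fiberIdeal p q ∧
      FlatMor.localDim (Module.support (p.Fiber S) (FlatCA.fiberMod p S N)) ⟨ξ, hξ⟩ = n) :
    Module.supportDim (p'.Fiber S') (FlatCA.fiberMod p' S' N') = n ∧
    ∃ (ξ' : PrimeSpectrum (p'.Fiber S')) (hξ' : ξ' ∈ Module.support (p'.Fiber S') (FlatCA.fiberMod p' S' N')),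
      ξ'.asIdeal = FlatCA.fiberIdeal p' q' ∧
      FlatMor.localDim (Module.support (p'.Fiber S') (FlatCA.fiberMod p' S' N')) ⟨ξ', hξ'⟩ = n := by
  obtain ⟨ξ, hξ, hξq, hloc⟩ := h1
  haveI : Module.Finite S' N' := Module.Finite.equiv hf.equiv
  let ι := PrimeSpectrum.comap (algebraMap S (p.Fiber S))
  let ι' := PrimeSpectrum.comap (algebraMap S' (p'.Fiber S'))
  let c := PrimeSpectrum.comap (algebraMap S S')
  have hι : Topology.IsEmbedding ι := isEmbedding_comap_fibre p
  have hι' : Topology.IsEmbedding ι' := isEmbedding_comap_fibre p'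
  have hover : ∀ x, (c (ι' x)).asIdeal.LiesOver p := fun x => ⟨by
    show p = ((ι' x).asIdeal.comap (algebraMap S S')).comap (algebraMap R S)
    rw [Ideal.comap_comap, ← IsScalarTower.algebraMap_eq, IsScalarTower.algebraMap_eq R R' S', ← Ideal.comap_comap]
    haveI : (ι' x).asIdeal.LiesOver p' := liesOver_fibre_point p' x
    exact (Ideal.over_def p' p).trans (congrArg _ (Ideal.over_def (ι' x).asIdeal p'))⟩
  choose j hj using fun x => range_comap_fibre p (c (ι' x)) (hover x)
  have hsupp : ∀ x, x ∈ Module.support (p'.Fiber S') (FlatCA.fiberMod p' S' N') ↔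
      j x ∈ Module.support (p.Fiber S) (FlatCA.fiberMod p S N) := fun x =>
    (support_fiberMod_baseChange p' hf x).trans
      ((Iff.of_eq (congrArg (· ∈ Module.support S N) (hj x).symm)).trans
        (Groth.L20.FibreSupport.mem_support_baseChange S (p.Fiber S) N (j x)).symm)
  have hj' : ∀ x, ι (j x) = c (ι' x) := hj
  have hcomp : ι ∘ j = c ∘ ι' := funext hj'
  have hjc : Continuous j := hι.isInducing.continuous_iff.mpr (hcomp ▸ hS.continuous.comp hι'.continuous)
  have hjemb : Topology.IsEmbedding j := Topology.IsEmbedding.of_comp hjc hι.continuous (hcomp ▸ hS.isEmbedding.comp hι')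
  have hjr : Set.range j = ι ⁻¹' Set.range c := by
    refine Set.Subset.antisymm ?_ fun y hy => ?_
    · rintro _ ⟨x, rfl⟩; exact ⟨ι' x, (hj x).symm⟩
    · obtain ⟨w, hw⟩ := hy
      have hwp : w.asIdeal.LiesOver p' := ⟨by
        have h := hR (a₁ := ⟨p', inferInstance⟩) (a₂ := PrimeSpectrum.comap (algebraMap R' S') w) (PrimeSpectrum.ext ?_)
        · exact congrArg PrimeSpectrum.asIdeal h
        · show p'.comap (algebraMap R R') = (w.asIdeal.comap (algebraMap R' S')).comap (algebraMap R R')
          rw [Ideal.comap_comap, ← IsScalarTower.algebraMap_eq, IsScalarTower.algebraMap_eq R S S', ← Ideal.comap_comap]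
          haveI : (ι y).asIdeal.LiesOver p := liesOver_fibre_point p y
          refine (Ideal.over_def p' p).symm.trans ((Ideal.over_def (ι y).asIdeal p).trans ?_)
          rw [← hw]
          rfl⟩
      obtain ⟨x, hx⟩ := range_comap_fibre p' w hwp
      exact ⟨x, hι.injective (by rw [hj', show ι' x = w from hx, hw])⟩
  have hjopen : Topology.IsOpenEmbedding j := ⟨hjemb, hjr ▸ hS.isOpen_range.preimage hι.continuous⟩
  let X := Module.support (p.Fiber S) (FlatCA.fiberMod p S N)
  let X' := Module.support (p'.Fiber S') (FlatCA.fiberMod p' S' N')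
  have hX : X' = j ⁻¹' X := Set.ext hsupp
  let e : X' → X := fun x => ⟨j x.1, (hsupp x.1).mp x.2⟩
  have he : Topology.IsOpenEmbedding e :=
    (hjopen.restrictPreimage X).comp (Homeomorph.setCongr hX).isOpenEmbedding
  obtain ⟨x₀, hx₀⟩ : ∃ x, ι' x = ⟨q', inferInstance⟩ := range_comap_fibre p' _ (by infer_instance)
  have hjx : j x₀ = ξ := hι.injective (by
    rw [hj', hx₀]
    refine PrimeSpectrum.ext ?_
    show q'.comap (algebraMap S S') = ξ.asIdeal.comap (algebraMap S (p.Fiber S))
    rw [hξq]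
    exact hq'.over.symm.trans (Groth.L20.comap_fiberIdeal p q).symm)
  have hx₀X : x₀ ∈ X' := (hsupp x₀).mpr (hjx ▸ hξ)
  have hfi : x₀.asIdeal = FlatCA.fiberIdeal p' q' :=
    asIdeal_eq_fiberIdeal p' q' x₀ (congrArg PrimeSpectrum.asIdeal hx₀)
  have hl : FlatMor.localDim X' ⟨x₀, hx₀X⟩ = n := by
    rw [← localDim_of_isOpenEmbedding e he ⟨x₀, hx₀X⟩, ← hloc]
    congr 1
    exact Subtype.ext hjx
  letI : Module R' N' := Module.compHom N' (algebraMap R' S')
  haveI : IsScalarTower R' S' N' := IsScalarTower.of_algebraMap_smul fun _ _ => rfl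
  refine ⟨le_antisymm ?_ (hl.ge.trans (localDim_support_le (p := p') (N := N') ⟨x₀, hx₀X⟩).1), x₀, hx₀X, hfi, hl⟩
  haveI : Module.Finite (p.Fiber S) (FlatCA.fiberMod p S N) :=
    inferInstanceAs (Module.Finite (p.Fiber S) ((p.Fiber S) ⊗[S] N))
  haveI : Module.Finite (p'.Fiber S') (FlatCA.fiberMod p' S' N') :=
    inferInstanceAs (Module.Finite (p'.Fiber S') ((p'.Fiber S') ⊗[S'] N'))
  rw [← hdim, ← topologicalKrullDim_support, ← topologicalKrullDim_support]
  exact he.isInducing.topologicalKrullDim_le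

end Groth.L20.RG
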