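import Groth.Agent.L20.RG.DevBaseChangeComplete
import Groth.Agent.L20.RG.OpenSupport

/-!
# Localisation of complete dévissages along compatible elements
-/

set_option autoImplicit false
set_option linter.style.haveILetI false
set_option backward.isDefEq.respectTransparency.types false
universe u

open TensorProduct

noncomputable section

namespace Groth.L20.RG

/-- Each of two elements divides a power of the other. -/
def RadEq {A : Type u} [CommRing A] (x y : A) : Prop :=
  (∃ k, x ∣ y ^ k) ∧ ∃ l, y ∣ x ^ l

theorem away_of_radEq {A : Type u} [CommRing A] {x y : A} (h : RadEq x y) (T : Type u) [CommRing T] [Algebra A T]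
    [IsLocalization.Away y T] : IsLocalization.Away x T := by
  obtain ⟨⟨k, hk⟩, l, hl⟩ := h
  let Tx := Localization.Away x
  have hu : IsUnit (algebraMap A Tx y) := by
    refine isUnit_of_dvd_unit (map_dvd _ hl) ?_
    rw [map_pow]
    exact (IsLocalization.Away.algebraMap_isUnit x).pow l
  have hu' : IsUnit (algebraMap A T x) := by
    refine isUnit_of_dvd_unit (map_dvd _ hk) ?_
    rw [map_pow]
    exact (IsLocalization.Away.algebraMap_isUnit y).pow k
  haveI : IsLocalization.Away (x * y) T := IsLocalization.Away.mul_of_isUnit' x y hu'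
  haveI : IsLocalization.Away (x * y) Tx := IsLocalization.Away.mul_of_isUnit x y hu
  exact IsLocalization.isLocalization_of_algEquiv (Submonoid.powers x)
    (IsLocalization.algEquiv (Submonoid.powers (x * y)) Tx T)

/-- A localisation away from a product, as a base change to the base localised away from the second factor. -/
theorem isPushout_away_mul {R D : Type u} [CommRing R] [CommRing D] [Algebra R D] (w : D) (g : R)
    (R' Dw D' : Type u) [CommRing R'] [CommRing Dw] [CommRing D'] [Algebra R R'] [IsLocalization.Away g R']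
    [Algebra D Dw] [IsLocalization.Away w Dw] [Algebra R Dw] [IsScalarTower R D Dw]
    [Algebra D D'] [IsLocalization.Away (w * algebraMap R D g) D'] [Algebra R D'] [IsScalarTower R D D']
    [Algebra R' D'] [IsScalarTower R R' D'] [Algebra Dw D'] [IsScalarTower D Dw D'] [IsScalarTower R Dw D'] :
    Algebra.IsPushout R R' Dw D' := by
  haveI : IsLocalization.Away (algebraMap R Dw g) D' := by
    rw [IsScalarTower.algebraMap_apply R D Dw]
    let Tg := Localization.Away (algebraMap D Dw (algebraMap R D g))
    haveI : IsLocalization.Away (w * algebraMap R D g) Tg := IsLocalization.Away.mul' Dw Tg w (algebraMap R D g)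
    exact IsLocalization.isLocalization_of_algEquiv _
      ((IsLocalization.algEquiv (Submonoid.powers (w * algebraMap R D g)) Tg D').extendScalarsOfIsLocalization Dw
        (Submonoid.powers w))
  refine Algebra.IsPushout.symm (R := R) (S := Dw) ((Algebra.isLocalization_iff_isPushout (Submonoid.powers g) R').mp ?_)
  rw [Algebra.algebraMapSubmonoid, Submonoid.map_powers]
  exact inferInstanceAs (IsLocalization.Away (algebraMap R Dw g) D')

theorem isLocalizedModule_linMap {A A' M M' : Type u} [CommRing A] [CommRing A'] [Algebra A A'] [AddCommGroup M]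
    [AddCommGroup M'] [Module A M] [Module A' M'] [iM : Module A M'] [IsScalarTower A A' M'] {T : Submonoid A}
    {l : M →ₗ[A] M'} (hl : IsLocalizedModule T l)
    (h : ∀ a m, l.toAddMonoidHom (a • m) = algebraMap A A' a • l.toAddMonoidHom m) :
    letI := Module.compHom M' (algebraMap A A')
    IsLocalizedModule T (linMap (algebraMap A A') l.toAddMonoidHom h) := by
  have e1 : iM = Module.compHom M' (algebraMap A A') := Module.ext' _ _ fun a x => (algebraMap_smul A' a x).symm
  subst e1
  exact hl

variable {R : Type u} [CommRing R] {R' : Type u} [CommRing R'] [Algebra R R']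

/-- One step of a dévissage and its localisation. -/
structure StepLoc (A A' : Type u) {B B' M M' : Type u} [CommRing A] [CommRing A'] [CommRing B] [CommRing B'] [AddCommGroup M]
    [AddCommGroup M'] [Algebra R A] [Algebra R' A'] [Algebra R B] [Algebra R' B'] [Algebra B A] [Algebra B' A']
    [Module A M] [Module A' M'] [Module B M] [Module B' M'] {r r' : ℕ} (b : B) (qA : Ideal A) (qA' : Ideal A')
    (qB : Ideal B) (qB' : Ideal B') (α : (Fin r → B) →ₗ[B] M) (α' : (Fin r' → B') →ₗ[B'] M') where
  /-- the map of the rings carrying the modules -/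
  φA : A →+* A'
  /-- the map of the smooth algebras -/
  φB : B →+* B'
  /-- the map of the modules -/
  g : M →+ M'
  commA : φA.comp (algebraMap R A) = (algebraMap R' A').comp (algebraMap R R')
  commB : φB.comp (algebraMap R B) = (algebraMap R' B').comp (algebraMap R R')
  commBA : φA.comp (algebraMap B A) = (algebraMap B' A').comp φB
  semilin : ∀ a m, g (a • m) = φA a • g m
  locA : letI := φA.toAlgebra; IsLocalization.Away (algebraMap B A b) A'
  locB : letI := φB.toAlgebra; IsLocalization.Away b B'
  isLoc : letI := Module.compHom M' φA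
    IsLocalizedModule (Submonoid.powers (algebraMap B A b)) (linMap φA g semilin)
  range : LinearMap.range α' = Submodule.span B' (g '' (LinearMap.range α : Set M))
  ptA : qA'.comap φA = qA
  ptB : qB'.comap φB = qB

variable (R') in
/-- A complete dévissage at a point and a localisation of it. -/
structure DevLoc {p : Ideal R} [p.IsPrime] {p' : Ideal R'} [p'.IsPrime] {S : Type u} [CommRing S] [Algebra R S]
    {N : Type u} [AddCommGroup N] [Module S N] {q : Ideal S} [q.IsPrime] (𝒟 : FlatCA.CompleteDevissage R S N p)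
    (𝒜 : FlatCA.CompleteDevissageAt R S N p q 𝒟) (e : ∀ i, 𝒟.B i) (g : R)
    {S' : Type u} [CommRing S'] [Algebra R' S'] [Algebra S S'] {N' : Type u} [AddCommGroup N'] [Module S' N']
    {q' : Ideal S'} [q'.IsPrime] (f : N → N') (𝒟' : FlatCA.CompleteDevissage R' S' N' p')
    (𝒜' : FlatCA.CompleteDevissageAt R' S' N' p' q' 𝒟') where
  /-- the steps -/
  steps : ∀ i, i < 𝒟.n → StepLoc (R := R) (R' := R') (𝒟.A i) (𝒟'.A i) (e i * algebraMap R (𝒟.B i) g)
    (𝒜.qA i) (𝒜'.qA i) (𝒜.qB i) (𝒜'.qB i) (𝒟.α i) (𝒟'.α i)
  len : 𝒟'.n = 𝒟.n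
  rank : ∀ i, 𝒟'.r i = 𝒟.r i
  dim : ∀ i, 𝒜'.d i = 𝒜.d i
  src : (steps 0 𝒟.pos).φA.comp (algebraMap S (𝒟.A 0)) = (algebraMap S' (𝒟'.A 0)).comp (algebraMap S S')
  isoN : ∀ x : N, 𝒟'.isoN (f x) = (steps 0 𝒟.pos).g (𝒟.isoN x)
  link : ∀ (i : ℕ) (h : i + 1 < 𝒟.n),
    (steps (i + 1) h).φA.comp (algebraMap (𝒟.B i) (𝒟.A (i + 1))) =
      (algebraMap (𝒟'.B i) (𝒟'.A (i + 1))).comp (steps i (Nat.lt_of_succ_lt h)).φB

/-- The datum at the first point of the smooth algebra for the dévissage of the first cokernel. -/
@[reducible] def devTailAt {p : Ideal R} [p.IsPrime] {S : Type u} [CommRing S] [Algebra R S]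
    {N : Type u} [AddCommGroup N] [Module S N] {q : Ideal S} [q.IsPrime] {D : FlatCA.CompleteDevissage R S N p}
    (T : FlatCA.CompleteDevissageAt R S N p q D) (h : 1 < D.n) :
    haveI := T.hqB 0
    FlatCA.CompleteDevissageAt R (D.B 0) (D.M 0 ⧸ LinearMap.range (D.α 0)) p (T.qB 0) (devTail D h) :=
  haveI := T.hqB 0
  { qB := fun i => T.qB (i + 1)
    qA := fun i => T.qA (i + 1)
    hqB := fun i => T.hqB (i + 1)
    hqA := fun i => T.hqA (i + 1)
    overB := fun i => T.overB (i + 1)
    overA := fun i => T.overA (i + 1)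
    pureTrans := fun i hi => T.pureTrans (i + 1) (Nat.add_lt_of_lt_sub hi)
    uniq := fun i hi => T.uniq (i + 1) (Nat.add_lt_of_lt_sub hi)
    q0 := T.qStep 0 h
    qStep := fun i hi => T.qStep (i + 1) (Nat.add_lt_of_lt_sub hi)
    d := fun i => T.d (i + 1)
    relDim := fun i hi => T.relDim (i + 1) (Nat.add_lt_of_lt_sub hi)
    locDim := fun i hi => T.locDim (i + 1) (Nat.add_lt_of_lt_sub hi) }

variable (R') in
set_option maxHeartbeats 6000000 in
/-- **Localisation of complete dévissages.** -/
theorem exists_devLoc {p : Ideal R} [p.IsPrime] (g : R) (hg : g ∉ p) [IsLocalization.Away g R']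
    (p' : Ideal R') [p'.IsPrime] [p'.LiesOver p] (hp : TrivRes R p p') :
    ∀ (m : ℕ) {S : Type u} [CommRing S] [Algebra R S] {N : Type u} [AddCommGroup N] [Module S N] {q : Ideal S} [q.IsPrime]
      (𝒟 : FlatCA.CompleteDevissage R S N p) (𝒜 : FlatCA.CompleteDevissageAt R S N p q 𝒟) (e : ∀ i, 𝒟.B i),
      𝒟.n = m + 1 →
      (∀ i, i < 𝒟.n → e i ∉ 𝒜.qB i) →
      (∀ i, i < 𝒟.n → ∀ P : Ideal R, P.IsPrime → g ∉ P →
        ∃ Q : Ideal (𝒟.B i), Q.IsPrime ∧ e i ∉ Q ∧ Q.comap (algebraMap R (𝒟.B i)) = P) →
      (∀ i, i + 1 < 𝒟.n → RadEq (algebraMap (𝒟.B i) (𝒟.A (i + 1)) (e i * algebraMap R (𝒟.B i) g))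
        (algebraMap (𝒟.B (i + 1)) (𝒟.A (i + 1)) (e (i + 1) * algebraMap R (𝒟.B (i + 1)) g))) →
      ∀ (hS : S), RadEq (algebraMap S (𝒟.A 0) hS) (algebraMap (𝒟.B 0) (𝒟.A 0) (e 0 * algebraMap R (𝒟.B 0) g)) →
      ∀ (S' : Type u) [CommRing S'] [Algebra R' S'] [Algebra R S'] [Algebra S S'] [IsScalarTower R R' S']
        [IsScalarTower R S S'] [IsLocalization.Away hS S'] (N' : Type u) [AddCommGroup N'] [Module S' N'] [Module S N']
        [IsScalarTower S S' N'] (f : N →ₗ[S] N'), IsBaseChange S' f →
      ∀ (q' : Ideal S') [q'.IsPrime], q'.comap (algebraMap S S') = q →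
        ∃ (𝒟' : FlatCA.CompleteDevissage R' S' N' p') (𝒜' : FlatCA.CompleteDevissageAt R' S' N' p' q' 𝒟'),
          Nonempty (DevLoc R' 𝒟 𝒜 e g f 𝒟' 𝒜') := by
  intro m
  induction m with
  | zero => ?_
  | succ m ih => ?_
  all_goals
    intro S _ _ N _ _ q _ 𝒟 𝒜 e hn he hrange hlink hS hsrc S' _ _ _ _ _ _ _ N' _ _ _ _ f hf q' _ hq'
    classical
    have h0 : 0 < 𝒟.n := 𝒟.pos
    haveI := 𝒟.finiteBA 0 h0
    haveI := 𝒟.finiteM 0 h0
    haveI := 𝒟.smooth 0 h0
    haveI := 𝒟.fpSA
    haveI := 𝒜.hqB 0
    haveI := 𝒜.hqA 0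
    haveI := 𝒜.overB 0
    haveI := 𝒜.overA 0
    haveI : (𝒜.qA 0).LiesOver p := Ideal.LiesOver.trans (𝒜.qA 0) (𝒜.qB 0) p
    let b : 𝒟.B 0 := e 0 * algebraMap R (𝒟.B 0) g
    have hgy : algebraMap R (𝒟.B 0) g ∉ 𝒜.qB 0 := fun h => hg ((Ideal.mem_of_liesOver (𝒜.qB 0) p g).mpr h)
    have hby : b ∉ 𝒜.qB 0 := fun h => (Ideal.IsPrime.mem_or_mem' h).elim (he 0 h0) hgy
    let a : 𝒟.A 0 := algebraMap (𝒟.B 0) (𝒟.A 0) b
    have haz : a ∉ 𝒜.qA 0 := fun h => hby ((Ideal.mem_of_liesOver (𝒜.qA 0) (𝒜.qB 0) b).mpr h)
    let B' := Localization.Away b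
    let A' := Localization.Away a
    haveI : IsLocalization.Away (algebraMap S (𝒟.A 0) hS) A' := away_of_radEq hsrc A'
    have hgB : IsUnit (algebraMap R B' g) := by
      rw [IsScalarTower.algebraMap_apply R (𝒟.B 0) B']
      exact IsLocalization.Away.isUnit_of_dvd b (dvd_mul_left _ _)
    have hbA : IsUnit (algebraMap (𝒟.B 0) A' b) := by
      rw [IsScalarTower.algebraMap_apply (𝒟.B 0) (𝒟.A 0) A']
      exact IsLocalization.Away.algebraMap_isUnit a
    have hgA : IsUnit (algebraMap R A' g) := by
      rw [IsScalarTower.algebraMap_apply R (𝒟.B 0) A']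
      exact isUnit_of_dvd_unit (map_dvd _ (dvd_mul_left _ _)) hbA
    have hSA : IsUnit (algebraMap S A' hS) := by
      rw [IsScalarTower.algebraMap_apply S (𝒟.A 0) A']
      exact IsLocalization.Away.algebraMap_isUnit _
    letI : Algebra R' B' := (IsLocalization.Away.lift g hgB).toAlgebra
    haveI : IsScalarTower R R' B' := IsScalarTower.of_algebraMap_eq fun x => (IsLocalization.Away.lift_eq g hgB x).symm
    letI : Algebra R' A' := (IsLocalization.Away.lift g hgA).toAlgebra
    haveI : IsScalarTower R R' A' := IsScalarTower.of_algebraMap_eq fun x => (IsLocalization.Away.lift_eq g hgA x).symm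
    letI : Algebra B' A' := (IsLocalization.Away.lift b hbA).toAlgebra
    haveI : IsScalarTower (𝒟.B 0) B' A' := IsScalarTower.of_algebraMap_eq fun x => (IsLocalization.Away.lift_eq b hbA x).symm
    letI : Algebra S' A' := (IsLocalization.Away.lift hS hSA).toAlgebra
    haveI : IsScalarTower S S' A' := IsScalarTower.of_algebraMap_eq fun x => (IsLocalization.Away.lift_eq hS hSA x).symm
    haveI : IsScalarTower R' B' A' := IsScalarTower.of_algebraMap_eq' (IsLocalization.ringHom_ext (Submonoid.powers g) (by
      rw [RingHom.comp_assoc, ← IsScalarTower.algebraMap_eq, ← IsScalarTower.algebraMap_eq,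
        IsScalarTower.algebraMap_eq R (𝒟.B 0) B', ← RingHom.comp_assoc, ← IsScalarTower.algebraMap_eq,
        ← IsScalarTower.algebraMap_eq]))
    haveI : IsScalarTower R' S' A' := IsScalarTower.of_algebraMap_eq' (IsLocalization.ringHom_ext (Submonoid.powers g) (by
      rw [RingHom.comp_assoc, ← IsScalarTower.algebraMap_eq, ← IsScalarTower.algebraMap_eq,
        IsScalarTower.algebraMap_eq R S S', ← RingHom.comp_assoc, ← IsScalarTower.algebraMap_eq,
        ← IsScalarTower.algebraMap_eq]))
    haveI : Algebra.IsPushout (𝒟.B 0) B' (𝒟.A 0) A' := by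
      refine Algebra.IsPushout.symm (R := 𝒟.B 0) (S := 𝒟.A 0) ((Algebra.isLocalization_iff_isPushout (Submonoid.powers b) B').mp ?_)
      rw [Algebra.algebraMapSubmonoid, Submonoid.map_powers]
      exact inferInstanceAs (IsLocalization.Away a A')
    haveI : Algebra.IsPushout S S' (𝒟.A 0) A' := by
      refine Algebra.IsPushout.symm (R := S) (S := 𝒟.A 0) ((Algebra.isLocalization_iff_isPushout (Submonoid.powers hS) S').mp ?_)
      rw [Algebra.algebraMapSubmonoid, Submonoid.map_powers]
      exact inferInstanceAs (IsLocalization.Away (algebraMap S (𝒟.A 0) hS) A')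
    let M' := A' ⊗[𝒟.A 0] 𝒟.M 0
    have hB : IsBaseChange B' ((TensorProduct.mk (𝒟.A 0) A' (𝒟.M 0) 1).restrictScalars (𝒟.B 0)) :=
      haveI : Algebra.IsPushout (𝒟.B 0) (𝒟.A 0) B' A' := Algebra.IsPushout.symm inferInstance
      isBaseChange_mk_of_isPushout (A := 𝒟.B 0) (D := 𝒟.A 0) B' A' (𝒟.M 0)
    have hSbc : IsBaseChange S' ((TensorProduct.mk (𝒟.A 0) A' (𝒟.M 0) 1).restrictScalars S) :=
      haveI : Algebra.IsPushout S (𝒟.A 0) S' A' := Algebra.IsPushout.symm inferInstance
      isBaseChange_mk_of_isPushout (A := S) (D := 𝒟.A 0) S' A' (𝒟.M 0)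
    let α' : (Fin (𝒟.r 0) → B') →ₗ[B'] M' := mapFree (𝒟.α 0) hB
    -- smoothness
    let Be := Localization.Away (e 0)
    have heB : IsUnit (algebraMap (𝒟.B 0) B' (e 0)) := IsLocalization.Away.isUnit_of_dvd b (dvd_mul_right _ _)
    letI : Algebra Be B' := (IsLocalization.Away.lift (e 0) heB).toAlgebra
    haveI : IsScalarTower (𝒟.B 0) Be B' := IsScalarTower.of_algebraMap_eq fun x => (IsLocalization.Away.lift_eq (e 0) heB x).symm
    haveI : IsScalarTower R Be B' := IsScalarTower.of_algebraMap_eq fun x => by
      rw [IsScalarTower.algebraMap_apply R (𝒟.B 0) Be, ← IsScalarTower.algebraMap_apply (𝒟.B 0) Be B',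
        ← IsScalarTower.algebraMap_apply R (𝒟.B 0) B']
    haveI : Algebra.IsPushout R R' Be B' := isPushout_away_mul (D := 𝒟.B 0) (e 0) g R' Be B'
    have hrel : FlatCA.SmoothRelDim (𝒜.d 0) R' B' :=
      smoothRelDim_baseChange (B := Be) (smoothRelDim_away (B := 𝒟.B 0) (B' := Be) (e 0) (𝒜.relDim 0 h0))
    haveI : Algebra.Smooth R' B' := smooth_of_relDim hrel
    have hdom : DomFib R' B' :=
      domFib_of_range (B := Be) ((DomFib.nzFib (DomFib.of_smooth_geomIrredFibres (𝒟.geomIrred 0 h0))).away (e 0) Be)
        (fun P hP hgP => by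
          obtain ⟨Q, hQ, heQ, hQP⟩ := hrange 0 h0 P hP hgP
          obtain ⟨Q', hQ', hov⟩ := exists_prime_away (f := e 0) Q heQ
          refine ⟨Q', hQ', ?_⟩
          rw [IsScalarTower.algebraMap_eq R (𝒟.B 0) Be, ← Ideal.comap_comap, ← Ideal.under_def (A := 𝒟.B 0), ← hov.over, hQP])
        (IsLocalization.Away.algebraMap_isUnit g)
    have hp0 : (p'.map (algebraMap R' B')).IsPrime := isPrime_map_of_domFib hdom p'
    -- points
    obtain ⟨y', hy'P, hy'⟩ := exists_prime_away (f := b) (𝒜.qB 0) hby
    obtain ⟨z', hz'P, hz'⟩ := exists_prime_away (f := a) (𝒜.qA 0) haz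
    haveI := hy'
    haveI := hz'
    have hyeq : ∀ (w : Ideal B') [w.IsPrime], w.under (𝒟.B 0) = 𝒜.qB 0 → w = y' := fun w _ hw => by
      rw [← IsLocalization.map_under (Submonoid.powers b) B' w, ← IsLocalization.map_under (Submonoid.powers b) B' y',
        hw, ← hy'.over]
    haveI : y'.LiesOver p := Ideal.LiesOver.trans y' (𝒜.qB 0) p
    haveI hy'p : y'.LiesOver p' := ⟨by
      have h2 : (y'.under R').under R = p'.under R := by
        rw [Ideal.under_under, ← Ideal.over_def y' p, ← Ideal.over_def p' p]
      rw [← IsLocalization.map_under (Submonoid.powers g) R' (y'.under R'), h2,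
        IsLocalization.map_under (Submonoid.powers g) R' p']⟩
    haveI hz'y : z'.LiesOver y' := ⟨(hyeq _ (by
      rw [Ideal.under_under, ← Ideal.under_under (B := 𝒟.A 0), ← hz'.over]
      exact (Ideal.over_def (𝒜.qA 0) (𝒜.qB 0)).symm)).symm⟩
    have huniq : ∀ (z₁ : Ideal A') [z₁.IsPrime], z₁.LiesOver y' → z₁ = z' := fun z₁ _ h1 => by
      haveI := h1
      haveI : z₁.LiesOver (𝒜.qB 0) := Ideal.LiesOver.trans z₁ y' (𝒜.qB 0)
      have h2 : z₁.under (𝒟.A 0) = 𝒜.qA 0 := 𝒜.uniq 0 h0 _ ⟨by rw [Ideal.under_under]; exact Ideal.over_def z₁ (𝒜.qB 0)⟩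
      rw [← IsLocalization.map_under (Submonoid.powers a) A' z₁, h2, hz'.over,
        IsLocalization.map_under (Submonoid.powers a) A' z']
    have hzq : z'.comap (algebraMap S' A') = q' := by
      have h1 : (z'.comap (algebraMap S' A')).under S = q := by
        rw [Ideal.under_def, Ideal.comap_comap, ← IsScalarTower.algebraMap_eq, IsScalarTower.algebraMap_eq S (𝒟.A 0) A',
          ← Ideal.comap_comap, ← Ideal.under_def (A := 𝒟.A 0), ← hz'.over, 𝒜.q0]
      rw [← IsLocalization.map_under (Submonoid.powers hS) S' (z'.comap (algebraMap S' A')), h1, ← hq',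
        ← Ideal.under_def, IsLocalization.map_under (Submonoid.powers hS) S' q']
    have hpure : FlatCA.PurelyTranscendental p' y' :=
      purelyTranscendental_transport hp (isEtaleNhd_away (𝒜.qB 0) hby y').2 (𝒜.pureTrans 0 h0)
    have hsurjS : Function.Surjective (algebraMap S' A') := by
      intro x
      induction x using (Algebra.IsPushout.out : IsBaseChange S' (IsScalarTower.toAlgHom S (𝒟.A 0) A').toLinearMap).inductionOn with
      | zero => exact ⟨0, map_zero _⟩
      | tmul x =>
        obtain ⟨s, rfl⟩ := 𝒟.surjSA x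
        exact ⟨algebraMap S S' s, by
          show _ = algebraMap (𝒟.A 0) A' (algebraMap S (𝒟.A 0) s)
          rw [← IsScalarTower.algebraMap_apply, ← IsScalarTower.algebraMap_apply]⟩
      | smul s x hx =>
        obtain ⟨t, ht⟩ := hx
        exact ⟨s * t, by rw [map_mul, ht, Algebra.smul_def]⟩
      | add x y hx hy =>
        obtain ⟨t, ht⟩ := hx
        obtain ⟨t', ht'⟩ := hy
        exact ⟨t + t', by rw [map_add, ht, ht']⟩
    have hfpS : Algebra.FinitePresentation S' A' :=
      Algebra.FinitePresentation.equiv (Algebra.IsPushout.equiv S S' (𝒟.A 0) A')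
    have hfin : Module.Finite B' A' := Module.Finite.equiv (Algebra.IsPushout.equiv (𝒟.B 0) B' (𝒟.A 0) A').toLinearEquiv
    have hfinM : Module.Finite A' M' := inferInstance
    have hbij : Function.Bijective (α'.baseChange (p'.map (algebraMap R' B')).ResidueField) := by
      let K := (p'.map (algebraMap R' B')).ResidueField
      letI : Algebra (𝒟.B 0) K := ((algebraMap B' K).comp (algebraMap (𝒟.B 0) B')).toAlgebra
      haveI : IsScalarTower (𝒟.B 0) B' K := IsScalarTower.of_algebraMap_eq' rfl
      haveI := 𝒟.hp 0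
      have hK : RingHom.ker (algebraMap (𝒟.B 0) K) = p.map (algebraMap R (𝒟.B 0)) := by
        rw [IsScalarTower.algebraMap_eq (𝒟.B 0) B' K, ← RingHom.comap_ker, Ideal.ker_algebraMap_residueField,
          ← IsLocalization.map_under (Submonoid.powers g) R' p', ← Ideal.over_def p' p, Ideal.map_map,
          ← IsScalarTower.algebraMap_eq, IsScalarTower.algebraMap_eq R (𝒟.B 0) B', ← Ideal.map_map]
        refine IsLocalization.under_map_of_isPrime_disjoint (Submonoid.powers b) B' inferInstance
          ((Ideal.disjoint_powers_iff_notMem b (Ideal.IsPrime.isRadical inferInstance)).mpr fun h => hby ?_)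
        exact Ideal.map_le_iff_le_comap.mpr (Ideal.over_def (𝒜.qB 0) p).le h
      let φ : (p.map (algebraMap R (𝒟.B 0))).ResidueField →+* K := Ideal.ResidueField.lift _ (algebraMap (𝒟.B 0) K) hK.ge
        (fun x hx => isUnit_iff_ne_zero.mpr fun h => hx (hK.le (RingHom.mem_ker.mpr h)))
      letI := φ.toAlgebra
      haveI : IsScalarTower (𝒟.B 0) (p.map (algebraMap R (𝒟.B 0))).ResidueField K :=
        IsScalarTower.of_algebraMap_eq fun x => (Ideal.ResidueField.lift_algebraMap ..).symm
      exact bijective_mapFree_baseChange _ hB K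
        (bijective_baseChange_of_bijective (𝒟.α 0) (p.map (algebraMap R (𝒟.B 0))).ResidueField K (𝒟.fibreIso 0 h0))
    let iso : N' ≃ₗ[S'] M' := hf.equiv.symm ≪≫ₗ (𝒟.isoN.baseChange S S' _ _) ≪≫ₗ hSbc.equiv
    have hiso : ∀ x, iso (f x) = (1 : A') ⊗ₜ[𝒟.A 0] 𝒟.isoN x := fun x => by
      have : hf.equiv.symm (f x) = (1 : S') ⊗ₜ[S] x := by
        rw [LinearEquiv.symm_apply_eq, hf.equiv_tmul, one_smul]
      show hSbc.equiv ((𝒟.isoN.baseChange S S' _ _) (hf.equiv.symm (f x))) = _
      rw [this]
      show hSbc.equiv ((1 : S') ⊗ₜ[S] 𝒟.isoN x) = _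
      rw [hSbc.equiv_tmul, one_smul]
      rfl
    have hrng : LinearMap.range α' = Submodule.span B'
        ((fun x => (1 : A') ⊗ₜ[𝒟.A 0] x) '' (LinearMap.range (𝒟.α 0) : Set (𝒟.M 0))) := by
      refine le_antisymm ?_ (Submodule.span_le.mpr ?_)
      · rw [range_mapFree]
        rintro _ ⟨_, ⟨w, rfl⟩, rfl⟩
        induction w using TensorProduct.induction_on with
        | zero => rw [map_zero, map_zero]; exact zero_mem _
        | add x y hx hy => rw [map_add, map_add]; exact add_mem hx hy
        | tmul c x =>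
          rw [LinearMap.baseChange_tmul, LinearEquiv.coe_coe, hB.equiv_tmul]
          exact Submodule.smul_mem _ _ (Submodule.subset_span ⟨_, ⟨x, rfl⟩, rfl⟩)
      · rintro _ ⟨y, hy, rfl⟩
        exact range_le_comap_mapFree (𝒟.α 0) hB hy
    let st0 : StepLoc (R := R) (R' := R') (𝒟.A 0) A' b (𝒜.qA 0) z' (𝒜.qB 0) y' (𝒟.α 0) α' :=
      { φA := algebraMap (𝒟.A 0) A'
        φB := algebraMap (𝒟.B 0) B'
        g := (TensorProduct.mk (𝒟.A 0) A' (𝒟.M 0) 1).toAddMonoidHom
        commA := by rw [← IsScalarTower.algebraMap_eq, ← IsScalarTower.algebraMap_eq]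
        commB := by rw [← IsScalarTower.algebraMap_eq, ← IsScalarTower.algebraMap_eq]
        commBA := by rw [← IsScalarTower.algebraMap_eq, ← IsScalarTower.algebraMap_eq]
        semilin := fun c x => by
          show (1 : A') ⊗ₜ[𝒟.A 0] (c • x) = algebraMap (𝒟.A 0) A' c • ((1 : A') ⊗ₜ[𝒟.A 0] x)
          rw [TensorProduct.tmul_smul, TensorProduct.smul_tmul', TensorProduct.smul_tmul', smul_eq_mul, mul_one,
            Algebra.smul_def, mul_one]
        locA := by
          rw [show (algebraMap (𝒟.A 0) A').toAlgebra = (inferInstance : Algebra (𝒟.A 0) A') from Algebra.algebra_ext _ _ fun x => rfl]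
          exact (inferInstance : IsLocalization.Away a A')
        locB := by
          rw [show (algebraMap (𝒟.B 0) B').toAlgebra = (inferInstance : Algebra (𝒟.B 0) B') from Algebra.algebra_ext _ _ fun x => rfl]
          exact (inferInstance : IsLocalization.Away b B')
        isLoc := by
          haveI : IsScalarTower (𝒟.A 0) A' M' := TensorProduct.isScalarTower_left
          exact isLocalizedModule_linMap ((isLocalizedModule_iff_isBaseChange (Submonoid.powers a) A' _).mpr
            (TensorProduct.isBaseChange (𝒟.A 0) (𝒟.M 0) A')) _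
        range := hrng
        ptA := hz'.over.symm
        ptB := hy'.over.symm }
    letI : Module R' M' := TensorProduct.leftModule
    haveI : IsScalarTower R' A' M' := TensorProduct.isScalarTower_left
    haveI : IsScalarTower B' A' M' := TensorProduct.isScalarTower_left
    haveI : IsScalarTower R' B' M' := IsScalarTower.to₁₂₄ R' B' A' M'
    haveI : Module.Finite (𝒟.B 0) (𝒟.M 0) := Module.Finite.trans (𝒟.A 0) (𝒟.M 0)
    have hloc := localDim_support_of_open (R := R) (S := 𝒟.B 0) (R' := R') (S' := B')
      (PrimeSpectrum.localization_away_isOpenEmbedding B' b)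
      (PrimeSpectrum.localization_away_isOpenEmbedding R' g).injective
      p p' hB (𝒜.qB 0) y' _ (𝒜.locDim 0 h0)
  · refine ⟨{
      n := 1
      pos := Nat.one_pos
      A := fun _ => A'
      B := fun _ => B'
      M := fun _ => M'
      r := fun i => match i with | 0 => 𝒟.r 0 | k + 1 => 𝒟.r (k + 1)
      hp := fun _ => hp0
      α := fun i => match i with | 0 => α' | k + 1 => 0
      surjSA := hsurjS
      fpSA := hfpS
      surjBA' := fun i h => absurd h (by omega)
      fpBA' := fun i h => absurd h (by omega)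
      finiteBA := fun _ _ => hfin
      smooth := fun _ _ => inferInstance
      geomIrred := fun _ _ => geomIrredFibres_of_domFib hdom
      finiteM := fun _ _ => hfinM
      isoN := iso
      isoCoker := fun i h => absurd h (by omega)
      fibreIso := fun i => match i with | 0 => fun _ => hbij | k + 1 => fun h => absurd h (by omega)
      cokerLast := by
        have H : ∀ k, k = 𝒟.n - 1 → Function.Surjective (𝒟.α k) := by rintro _ rfl; exact 𝒟.cokerLast
        exact surjective_mapFree (𝒟.α 0) hB (H 0 (by omega)) },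
      { qB := fun _ => y'
        qA := fun _ => z'
        pureTrans := fun _ _ => hpure
        uniq := fun _ _ => huniq
        q0 := hzq
        qStep := fun i h => absurd h (by simp)
        d := fun i => match i with | 0 => 𝒜.d 0 | k + 1 => 𝒜.d (k + 1)
        relDim := fun i => match i with | 0 => fun _ => hrel | k + 1 => fun h => absurd h (by simp)
        locDim := fun i => match i with | 0 => fun _ => hloc | k + 1 => fun h => absurd h (by simp) }, ⟨?_⟩⟩
    exact
      { steps := fun i => match i with | 0 => fun _ => st0 | k + 1 => fun h => absurd h (by omega)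
        len := hn.symm
        rank := fun i => match i with | 0 => rfl | k + 1 => rfl
        dim := fun i => match i with | 0 => rfl | k + 1 => rfl
        src := (IsScalarTower.algebraMap_eq S (𝒟.A 0) A').symm.trans (IsScalarTower.algebraMap_eq S S' A')
        isoN := hiso
        link := fun i h => absurd h (by omega) }
  · have h1 : 1 < 𝒟.n := by omega
    obtain ⟨D, U, ⟨T⟩⟩ := ih (devTail 𝒟 h1) (devTailAt 𝒜 h1) (fun i => e (i + 1)) (by show 𝒟.n - 1 = m + 1; omega)
      (fun i hi => he (i + 1) (Nat.add_lt_of_lt_sub hi)) (fun i hi => hrange (i + 1) (Nat.add_lt_of_lt_sub hi))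
      (fun i hi => hlink (i + 1) (Nat.add_lt_of_lt_sub hi)) b (hlink 0 h1)
      B' _ (cokerMap (𝒟.α 0) hB) (isBaseChange_cokerMap (𝒟.α 0) hB) y' hy'.over.symm
    refine ⟨{
      n := D.n + 1
      pos := Nat.succ_pos _
      A := fun i => match i with | 0 => A' | k + 1 => D.A k
      B := fun i => match i with | 0 => B' | k + 1 => D.B k
      M := fun i => match i with | 0 => M' | k + 1 => D.M k
      r := fun i => match i with | 0 => 𝒟.r 0 | k + 1 => D.r k
      cA := fun i => match i with | 0 => inferInstanceAs (CommRing A') | k + 1 => D.cA k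
      cB := fun i => match i with | 0 => inferInstanceAs (CommRing B') | k + 1 => D.cB k
      aRA := fun i => match i with | 0 => inferInstanceAs (Algebra R' A') | k + 1 => D.aRA k
      aRB := fun i => match i with | 0 => inferInstanceAs (Algebra R' B') | k + 1 => D.aRB k
      aBA := fun i => match i with | 0 => inferInstanceAs (Algebra B' A') | k + 1 => D.aBA k
      tRBA := fun i => match i with | 0 => inferInstanceAs (IsScalarTower R' B' A') | k + 1 => D.tRBA k
      aSA := inferInstanceAs (Algebra S' A')
      tRSA := inferInstanceAs (IsScalarTower R' S' A')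
      aBA' := fun i => match i with | 0 => D.aSA | k + 1 => D.aBA' k
      tRBA' := fun i => match i with | 0 => D.tRSA | k + 1 => D.tRBA' k
      gM := fun i => match i with | 0 => inferInstanceAs (AddCommGroup M') | k + 1 => D.gM k
      mAM := fun i => match i with | 0 => inferInstanceAs (Module A' M') | k + 1 => D.mAM k
      mBM := fun i => match i with | 0 => inferInstanceAs (Module B' M') | k + 1 => D.mBM k
      tBAM := fun i => match i with | 0 => inferInstanceAs (IsScalarTower B' A' M') | k + 1 => D.tBAM k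
      mRM := fun i => match i with | 0 => inferInstanceAs (Module R' M') | k + 1 => D.mRM k
      tRBM := fun i => match i with | 0 => inferInstanceAs (IsScalarTower R' B' M') | k + 1 => D.tRBM k
      mSM := inferInstanceAs (Module S' M')
      tSAM := inferInstanceAs (IsScalarTower S' A' M')
      mB'M := fun i => match i with | 0 => D.mSM | k + 1 => D.mB'M k
      tB'AM := fun i => match i with | 0 => D.tSAM | k + 1 => D.tB'AM k
      hp := fun i => match i with | 0 => hp0 | k + 1 => D.hp k
      α := fun i => match i with | 0 => α' | k + 1 => D.α k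
      surjSA := hsurjS
      fpSA := hfpS
      surjBA' := fun i => match i with | 0 => fun _ => D.surjSA | k + 1 => fun h => D.surjBA' k (by omega)
      fpBA' := fun i => match i with | 0 => fun _ => D.fpSA | k + 1 => fun h => D.fpBA' k (by omega)
      finiteBA := fun i => match i with | 0 => fun _ => hfin | k + 1 => fun h => D.finiteBA k (by omega)
      smooth := fun i => match i with | 0 => fun _ => inferInstanceAs (Algebra.Smooth R' B') | k + 1 => fun h => D.smooth k (by omega)
      geomIrred := fun i => match i with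
        | 0 => fun _ => geomIrredFibres_of_domFib hdom
        | k + 1 => fun h => D.geomIrred k (by omega)
      finiteM := fun i => match i with | 0 => fun _ => hfinM | k + 1 => fun h => D.finiteM k (by omega)
      isoN := iso
      isoCoker := fun i => match i with | 0 => fun _ => D.isoN | k + 1 => fun h => D.isoCoker k (by omega)
      fibreIso := fun i => match i with | 0 => fun _ => hbij | k + 1 => fun h => D.fibreIso k (by omega)
      cokerLast := by
        obtain ⟨l, hl'⟩ : ∃ l, D.n = l + 1 := ⟨D.n - 1, by have := D.pos; omega⟩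
        have hl := D.cokerLast
        rw [show D.n - 1 = l by omega] at hl
        rw [show D.n + 1 - 1 = l + 1 by omega]
        exact hl },
      { qB := fun i => match i with | 0 => y' | k + 1 => U.qB k
        qA := fun i => match i with | 0 => z' | k + 1 => U.qA k
        hqB := fun i => match i with | 0 => hy'P | k + 1 => U.hqB k
        hqA := fun i => match i with | 0 => hz'P | k + 1 => U.hqA k
        overB := fun i => match i with | 0 => hy'p | k + 1 => U.overB k
        overA := fun i => match i with | 0 => hz'y | k + 1 => U.overA k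
        pureTrans := fun i => match i with | 0 => fun _ => hpure | k + 1 => fun h => U.pureTrans k (Nat.lt_of_succ_lt_succ h)
        uniq := fun i => match i with | 0 => fun _ => huniq | k + 1 => fun h => U.uniq k (Nat.lt_of_succ_lt_succ h)
        q0 := hzq
        qStep := fun i => match i with | 0 => fun _ => U.q0 | k + 1 => fun h => U.qStep k (Nat.lt_of_succ_lt_succ h)
        d := fun i => match i with | 0 => 𝒜.d 0 | k + 1 => U.d k
        relDim := fun i => match i with | 0 => fun _ => hrel | k + 1 => fun h => U.relDim k (Nat.lt_of_succ_lt_succ h)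
        locDim := fun i => match i with | 0 => fun _ => hloc | k + 1 => fun h => U.locDim k (Nat.lt_of_succ_lt_succ h) }, ⟨?_⟩⟩
    have hlen : D.n = 𝒟.n - 1 := T.len
    exact
      { steps := fun i => match i with | 0 => fun _ => st0 | k + 1 => fun h => T.steps k (show k < 𝒟.n - 1 by omega)
        len := by show D.n + 1 = 𝒟.n; omega
        rank := fun i => match i with | 0 => rfl | k + 1 => T.rank k
        dim := fun i => match i with | 0 => rfl | k + 1 => T.dim k
        src := (IsScalarTower.algebraMap_eq S (𝒟.A 0) A').symm.trans (IsScalarTower.algebraMap_eq S S' A')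
        isoN := hiso
        link := fun i => match i with
          | 0 => fun _ => T.src
          | k + 1 => fun h => T.link k (show k + 1 < 𝒟.n - 1 by omega) }

end Groth.L20.RG
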