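import Groth.Agent.L20.RG.DevLocComplete

/-!
# Compatible elements for shrinking a complete dévissage
-/

set_option autoImplicit false
set_option linter.style.haveILetI false
set_option backward.isDefEq.respectTransparency.types false
universe u

open TensorProduct

noncomputable section

namespace Groth.L20.RG

theorem radEq_of_dvd {A : Type u} [CommRing A] {c y G : A} (h : c ∣ y) : RadEq (c * y * G) (y * G) :=
  ⟨⟨2, by rw [pow_two, ← mul_assoc]; exact mul_dvd_mul (mul_dvd_mul (h.trans (dvd_mul_right y G)) dvd_rfl) dvd_rfl⟩,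
    1, by rw [pow_one, mul_assoc]; exact dvd_mul_left _ _⟩

variable {R S : Type u} [CommRing R] [CommRing S] [Algebra R S] {N : Type u} [AddCommGroup N] [Module S N]
  {p : Ideal R} [p.IsPrime] {q : Ideal S} [q.IsPrime] (𝒟 : FlatCA.CompleteDevissage R S N p)
  (𝒜 : FlatCA.CompleteDevissageAt R S N p q 𝒟)

include 𝒜 in
/-- Elements propagated forwards from an element outside the point. -/
theorem exists_forward (u : S) (hu : u ∉ q) :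
    ∃ c : ∀ i, 𝒟.B i, (∀ i, i < 𝒟.n → c i ∉ 𝒜.qB i) ∧
      algebraMap S (𝒟.A 0) u ∣ algebraMap (𝒟.B 0) (𝒟.A 0) (c 0) ∧
      ∀ i, i + 1 < 𝒟.n → algebraMap (𝒟.B i) (𝒟.A (i + 1)) (c i) ∣ algebraMap (𝒟.B (i + 1)) (𝒟.A (i + 1)) (c (i + 1)) := by
  classical
  haveI : ∀ i, (𝒜.qB i).IsPrime := 𝒜.hqB
  haveI : ∀ i, (𝒜.qA i).IsPrime := 𝒜.hqA
  suffices H : ∀ k, k < 𝒟.n → ∃ c : ∀ i, 𝒟.B i, (∀ i, i ≤ k → c i ∉ 𝒜.qB i) ∧
      algebraMap S (𝒟.A 0) u ∣ algebraMap (𝒟.B 0) (𝒟.A 0) (c 0) ∧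
      ∀ i, i < k → algebraMap (𝒟.B i) (𝒟.A (i + 1)) (c i) ∣ algebraMap (𝒟.B (i + 1)) (𝒟.A (i + 1)) (c (i + 1)) by
    obtain ⟨c, h1, h2, h3⟩ := H (𝒟.n - 1) (by have := 𝒟.pos; omega)
    exact ⟨c, fun i hi => h1 i (by omega), h2, fun i hi => h3 i (by omega)⟩
  intro k
  induction k with
  | zero =>
    intro h0
    haveI := 𝒟.finiteBA 0 h0
    obtain ⟨v, hv, hdvd⟩ := exists_dvd_algebraMap (𝒜.qB 0) (𝒜.qA 0) (fun z _ hz => 𝒜.uniq 0 h0 z hz)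
      (algebraMap S (𝒟.A 0) u) (fun h => hu (𝒜.q0 ▸ Ideal.mem_comap.mpr h))
    refine ⟨Function.update (fun i => (1 : 𝒟.B i)) 0 v, fun i hi => ?_, by rw [Function.update_self]; exact hdvd,
      fun i hi => absurd hi (Nat.not_lt_zero i)⟩
    obtain rfl : i = 0 := by omega
    rw [Function.update_self]
    exact hv
  | succ k ih =>
    intro hk
    obtain ⟨c, h1, h2, h3⟩ := ih (by omega)
    haveI := 𝒟.finiteBA (k + 1) hk
    obtain ⟨v, hv, hdvd⟩ := exists_dvd_algebraMap (𝒜.qB (k + 1)) (𝒜.qA (k + 1)) (fun z _ hz => 𝒜.uniq (k + 1) hk z hz)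
      (algebraMap (𝒟.B k) (𝒟.A (k + 1)) (c k)) (fun h => h1 k le_rfl (𝒜.qStep k hk ▸ Ideal.mem_comap.mpr h))
    refine ⟨Function.update c (k + 1) v, fun i hi => ?_, ?_, fun i hi => ?_⟩
    · rcases eq_or_ne i (k + 1) with rfl | hne
      · rw [Function.update_self]; exact hv
      · rw [Function.update_of_ne hne]; exact h1 i (by omega)
    · rw [Function.update_of_ne (by omega)]; exact h2
    · rcases eq_or_ne i k with rfl | hne
      · rw [Function.update_self, Function.update_of_ne (by omega)]; exact hdvd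
      · rw [Function.update_of_ne (by omega), Function.update_of_ne (by omega)]; exact h3 i (by omega)

include 𝒜 in
/-- Elements compatible with localisation, obtained backwards. -/
theorem exists_backward (c : ∀ i, 𝒟.B i) (hc : ∀ i, i < 𝒟.n → c i ∉ 𝒜.qB i)
    (hdvd : ∀ i, i + 1 < 𝒟.n → algebraMap (𝒟.B i) (𝒟.A (i + 1)) (c i) ∣ algebraMap (𝒟.B (i + 1)) (𝒟.A (i + 1)) (c (i + 1))) :
    ∃ e : ∀ i, 𝒟.B i, e (𝒟.n - 1) = c (𝒟.n - 1) ∧ (∀ i, i < 𝒟.n → e i ∉ 𝒜.qB i ∧ c i ∣ e i) ∧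
      ∀ i, i + 1 < 𝒟.n → algebraMap (𝒟.B i) (𝒟.A (i + 1)) (e i) =
        algebraMap (𝒟.B i) (𝒟.A (i + 1)) (c i) * algebraMap (𝒟.B (i + 1)) (𝒟.A (i + 1)) (e (i + 1)) := by
  classical
  haveI : ∀ i, (𝒜.qB i).IsPrime := 𝒜.hqB
  haveI : ∀ i, (𝒜.qA i).IsPrime := 𝒜.hqA
  suffices H : ∀ k, k < 𝒟.n → ∃ e : ∀ i, 𝒟.B i, e (𝒟.n - 1) = c (𝒟.n - 1) ∧
      ∀ i, i < 𝒟.n → 𝒟.n - 1 ≤ i + k → e i ∉ 𝒜.qB i ∧ c i ∣ e i ∧ (i + 1 < 𝒟.n →
        algebraMap (𝒟.B i) (𝒟.A (i + 1)) (e i) =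
          algebraMap (𝒟.B i) (𝒟.A (i + 1)) (c i) * algebraMap (𝒟.B (i + 1)) (𝒟.A (i + 1)) (e (i + 1))) by
    obtain ⟨e, h1, h2⟩ := H (𝒟.n - 1) (by have := 𝒟.pos; omega)
    exact ⟨e, h1, fun i hi => ⟨(h2 i hi (by omega)).1, (h2 i hi (by omega)).2.1⟩,
      fun i hi => (h2 i (by omega) (by omega)).2.2 hi⟩
  intro k
  induction k with
  | zero =>
    exact fun _ => ⟨c, rfl, fun i hi hik => ⟨hc i hi, dvd_rfl, fun h => absurd h (by omega)⟩⟩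
  | succ k ih =>
    intro hk
    obtain ⟨e, h1, h2⟩ := ih (by omega)
    obtain ⟨j, hj⟩ : ∃ j, j + (k + 1) = 𝒟.n - 1 := ⟨𝒟.n - 1 - (k + 1), by omega⟩
    have hj1 : j + 1 < 𝒟.n := by omega
    obtain ⟨t, ht⟩ := 𝒟.surjBA' j hj1 (algebraMap (𝒟.B (j + 1)) (𝒟.A (j + 1)) (e (j + 1)))
    have htq : t ∉ 𝒜.qB j := fun h => by
      rw [← 𝒜.qStep j hj1, Ideal.mem_comap, ht] at h
      haveI := 𝒜.overA (j + 1)
      exact (h2 (j + 1) hj1 (by omega)).1 ((Ideal.mem_of_liesOver (𝒜.qA (j + 1)) (𝒜.qB (j + 1)) _).mpr h)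
    refine ⟨Function.update e j (c j * t), by rw [Function.update_of_ne (by omega)]; exact h1, fun i hi hik => ?_⟩
    rcases eq_or_ne i j with rfl | hne
    · rw [Function.update_self, Function.update_of_ne (by omega)]
      refine ⟨fun h => (Ideal.IsPrime.mem_or_mem' h).elim (hc i hi) htq, dvd_mul_right _ _, fun _ => ?_⟩
      rw [map_mul, ht]
    · rw [Function.update_of_ne hne, Function.update_of_ne (by omega)]
      exact h2 i hi (by omega)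

include 𝒜 in
/-- **The data of a standard shrinking.** -/
theorem exists_shrink_data (u : S) (hu : u ∉ q) (c : ∀ i, 𝒟.B i) (hc : ∀ i, i < 𝒟.n → c i ∉ 𝒜.qB i)
    (hu0 : algebraMap S (𝒟.A 0) u ∣ algebraMap (𝒟.B 0) (𝒟.A 0) (c 0))
    (hdvd : ∀ i, i + 1 < 𝒟.n → algebraMap (𝒟.B i) (𝒟.A (i + 1)) (c i) ∣ algebraMap (𝒟.B (i + 1)) (𝒟.A (i + 1)) (c (i + 1))) :
    ∃ (g : R) (hX : S) (e : ∀ i, 𝒟.B i), g ∉ p ∧ hX ∉ q ∧ u ∣ hX ∧ algebraMap R S g ∣ hX ∧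
      e (𝒟.n - 1) = c (𝒟.n - 1) ∧ (∀ i, i < 𝒟.n → e i ∉ 𝒜.qB i) ∧
      (∀ i, i < 𝒟.n → ∀ P : Ideal R, P.IsPrime → g ∉ P →
        ∃ Q : Ideal (𝒟.B i), Q.IsPrime ∧ e i ∉ Q ∧ Q.comap (algebraMap R (𝒟.B i)) = P) ∧
      (∀ i, i + 1 < 𝒟.n → RadEq (algebraMap (𝒟.B i) (𝒟.A (i + 1)) (e i * algebraMap R (𝒟.B i) g))
        (algebraMap (𝒟.B (i + 1)) (𝒟.A (i + 1)) (e (i + 1) * algebraMap R (𝒟.B (i + 1)) g))) ∧
      RadEq (algebraMap S (𝒟.A 0) hX) (algebraMap (𝒟.B 0) (𝒟.A 0) (e 0 * algebraMap R (𝒟.B 0) g)) := by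
  classical
  haveI : ∀ i, (𝒜.qB i).IsPrime := 𝒜.hqB
  haveI : ∀ i, (𝒜.qA i).IsPrime := 𝒜.hqA
  obtain ⟨e, he1, he2, he3⟩ := exists_backward 𝒟 𝒜 c hc hdvd
  have hopen : ∀ i : Fin 𝒟.n, ∃ f ∉ p, ∀ P : Ideal R, P.IsPrime → f ∉ P →
      ∃ Q : Ideal (𝒟.B i), Q.IsPrime ∧ e i ∉ Q ∧ Q.comap (algebraMap R (𝒟.B i)) = P := fun i => by
    haveI := 𝒟.smooth i i.2
    let Be := Localization.Away (e i)
    haveI : Algebra.Smooth R Be := smooth_of_relDim (smoothRelDim_away (B := 𝒟.B i) (B' := Be) (e i) (𝒜.relDim i i.2))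
    obtain ⟨y, _, hy⟩ := exists_prime_away (f := e i) (𝒜.qB i) (he2 i i.2).1
    haveI := hy
    haveI := 𝒜.overB i
    haveI : y.LiesOver p := Ideal.LiesOver.trans y (𝒜.qB i) p
    obtain ⟨f, hf, hf'⟩ := exists_basicOpen_range (p := p) y
    refine ⟨f, hf, fun P hP hfP => ?_⟩
    obtain ⟨Q, hQ, hQP⟩ := hf' P hP hfP
    refine ⟨Q.comap (algebraMap (𝒟.B i) Be), inferInstance, fun h => ?_, ?_⟩
    · exact hQ.ne_top (Ideal.eq_top_of_isUnit_mem _ (Ideal.mem_comap.mp h) (IsLocalization.Away.algebraMap_isUnit (e i)))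
    · rw [Ideal.comap_comap, ← IsScalarTower.algebraMap_eq, hQP]
  choose f hf hf' using hopen
  let g := ∏ i, f i
  have hg : g ∉ p := fun h => by
    obtain ⟨i, -, hi⟩ := Ideal.IsPrime.prod_mem_iff.mp h
    exact hf i hi
  obtain ⟨s, hs⟩ := 𝒟.surjSA (algebraMap (𝒟.B 0) (𝒟.A 0) (e 0))
  refine ⟨g, u * s * algebraMap R S g, e, hg, fun h => ?_, (dvd_mul_right _ _).trans (dvd_mul_right _ _),
    dvd_mul_left _ _, he1, fun i hi => (he2 i hi).1, fun i hi P hP hgP => ?_, fun i hi => ?_, ?_⟩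
  · rcases Ideal.IsPrime.mem_or_mem' h with h | h
    · rcases Ideal.IsPrime.mem_or_mem' h with h | h
      · exact hu h
      · rw [← 𝒜.q0, Ideal.mem_comap, hs] at h
        haveI := 𝒜.overA 0
        exact (he2 0 𝒟.pos).1 ((Ideal.mem_of_liesOver (𝒜.qA 0) (𝒜.qB 0) _).mpr h)
    · rw [← 𝒜.q0, Ideal.mem_comap, ← IsScalarTower.algebraMap_apply] at h
      haveI := 𝒜.overA 0
      haveI := 𝒜.overB 0
      haveI : (𝒜.qA 0).LiesOver p := Ideal.LiesOver.trans (𝒜.qA 0) (𝒜.qB 0) p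
      exact hg ((Ideal.mem_of_liesOver (𝒜.qA 0) p g).mpr h)
  · exact hf' ⟨i, hi⟩ P hP fun h => hgP (Ideal.mem_of_dvd P (Finset.dvd_prod_of_mem f (Finset.mem_univ _)) h)
  · rw [map_mul, map_mul, he3 i hi, ← IsScalarTower.algebraMap_apply, ← IsScalarTower.algebraMap_apply]
    exact radEq_of_dvd ((hdvd i hi).trans (map_dvd _ (he2 (i + 1) hi).2))
  · rw [map_mul, map_mul, map_mul, hs, ← IsScalarTower.algebraMap_apply, ← IsScalarTower.algebraMap_apply]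
    exact radEq_of_dvd (hu0.trans (map_dvd _ (he2 0 𝒟.pos).2))

end Groth.L20.RG
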