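import Groth.Agent.L20.RG.Cover

/-!
# Etale covers with complete dévissages of known relative dimensions
-/

set_option autoImplicit false
set_option linter.style.haveILetI false
set_option backward.isDefEq.respectTransparency.types false
universe u

open TensorProduct

noncomputable section

namespace Groth.L20.RG

/-- An étale cover of a fibre by algebras with complete dévissages whose smooth algebras have relative dimensions. -/
theorem exists_dim_cover {A B : Type u} [CommRing A] [CommRing B] [Algebra A B] [Algebra.FiniteType A B]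
    (N : Type u) [AddCommGroup N] [Module B N] [Module.Finite B N] (p : Ideal A) [p.IsPrime] :
    ∃ (A' : Type u) (_ : CommRing A') (_ : Algebra A A') (p' : Ideal A') (_ : p'.IsPrime), FlatCA.IsEtaleNhd A A' p p' ∧
      ∀ (BA NA : Type u) [CommRing BA] [Algebra B BA] [Algebra A' BA] [Algebra A BA] [IsScalarTower A B BA] [IsScalarTower A A' BA]
        [Algebra.IsPushout A B A' BA]
        [AddCommGroup NA] [Module BA NA] [Module B NA] [IsScalarTower B BA NA]
        (fA : N →ₗ[B] NA), IsBaseChange BA fA →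
        ∃ (k : ℕ) (C : Fin k → Type u) (_ : ∀ i, CommRing (C i)) (_ : ∀ i, Algebra BA (C i)) (_ : ∀ i, Algebra A' (C i))
          (_ : ∀ i, IsScalarTower A' BA (C i))
          (Nc : Fin k → Type u) (_ : ∀ i, AddCommGroup (Nc i)) (_ : ∀ i, Module (C i) (Nc i)) (_ : ∀ i, Module BA (Nc i))
          (_ : ∀ i, IsScalarTower BA (C i) (Nc i)) (g : ∀ i, NA →ₗ[BA] Nc i),
          (∀ i, Algebra.Etale BA (C i) ∧ IsBaseChange (C i) (g i) ∧ ∃ D : FlatCA.CompleteDevissage A' (C i) (Nc i) p', ∀ j, j < D.n → ∃ e : ℕ, letI := D.cB; letI := D.aRB; FlatCA.SmoothRelDim e A' (D.B j)) ∧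
          ∀ (Q : Ideal BA) [Q.IsPrime], Q.LiesOver p' → ∃ (i : Fin k) (Q' : Ideal (C i)), Q'.IsPrime ∧ Q'.comap (algebraMap BA (C i)) = Q := by
  classical
  let T := {q : PrimeSpectrum B // q.asIdeal.LiesOver p}
  have hloc := fun q : T => @Groth.L20.RG.exists_local A B _ _ _ _ N _ _ _ p _ q.1.asIdeal _ q.2
  choose R S cR cS aAR aBS aRS aAS tARS tABS pR hpR f hnb het hf hU Hd using hloc
  choose U hUo hUq hUc using hU
  have hcpt : IsCompact (PrimeSpectrum.comap (algebraMap A B) ⁻¹' {(⟨p, inferInstance⟩ : PrimeSpectrum A)}) := by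
    haveI : CompactSpace ↥(PrimeSpectrum.comap (algebraMap A B) ⁻¹' {(⟨p, inferInstance⟩ : PrimeSpectrum A)}) :=
      (PrimeSpectrum.preimageHomeomorphFiber A B ⟨p, inferInstance⟩).symm.compactSpace
    exact isCompact_iff_compactSpace.mpr inferInstance
  obtain ⟨s, hs⟩ := hcpt.elim_finite_subcover U hUo (fun q hq => Set.mem_iUnion.mpr
    ⟨⟨q, ⟨(congrArg PrimeSpectrum.asIdeal hq).symm⟩⟩, hUq _⟩)
  let e := s.equivFin.symm
  obtain ⟨A', _, _, p', _, hA', Hc⟩ := Groth.L20.RG.exists_common p s.card (fun i => R (e i).1) (fun i => pR (e i).1)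
    (fun i => hnb _) (fun i => f (e i).1) (fun i => hf _)
  choose aR tR hpt hu using Hc
  refine ⟨A', inferInstance, inferInstance, p', inferInstance, hA', ?_⟩
  intro BA NA _ _ _ _ _ _ _ _ _ _ _ fA hfA
  haveI := hA'.1
  have hch := fun i => by
    letI := aR i
    haveI := tR i
    haveI := (hnb (e i).1).1
    haveI := het (e i).1
    exact Groth.L20.RG.exists_chart (A := A) (B := B) (R := R (e i).1) (S := S (e i).1) (A' := A') (BA := BA) p
      (pR (e i).1) p' hA'.2 (hpt i)
  choose C cC aBAC aAC aSC aRC aBC tABAC tRAC tRSC tBSC tBBAC hpush hEt hcov using hch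
  refine ⟨s.card, C, cC, aBAC, aAC, tABAC, fun i => TensorProduct B (C i) N, fun i => inferInstance,
    fun i => inferInstance, fun i => inferInstance, fun i => inferInstance, ?_⟩
  haveI : ∀ i, IsScalarTower B BA (TensorProduct B (C i) N) := fun i =>
    IsScalarTower.of_algebraMap_smul fun b m => by
      rw [← algebraMap_smul (C i) (algebraMap B BA b) m, ← IsScalarTower.algebraMap_apply, algebraMap_smul]
  refine ⟨fun i => hfA.lift (TensorProduct.mk B (C i) N 1), fun i => ⟨hEt i, ?_, ?_⟩, ?_⟩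
  · refine IsBaseChange.of_comp hfA ?_
    have : (hfA.lift (TensorProduct.mk B (C i) N 1)).restrictScalars B ∘ₗ fA = TensorProduct.mk B (C i) N 1 :=
      hfA.lift_comp _
    rw [this]
    exact TensorProduct.isBaseChange B N (C i)
  · letI := aR i
    haveI := hpush i
    exact Hd (e i).1 A' p' (hpt i) (hu i) (C i) _ (TensorProduct.mk B (C i) N 1) (TensorProduct.isBaseChange B N (C i))
  · intro Q _ hQ
    let q₁ : PrimeSpectrum B := PrimeSpectrum.comap (algebraMap B BA) ⟨Q, inferInstance⟩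
    have hq₁ : q₁.asIdeal.LiesOver p := ⟨by
      show p = (Q.comap (algebraMap B BA)).comap (algebraMap A B)
      rw [Ideal.comap_comap, ← IsScalarTower.algebraMap_eq, IsScalarTower.algebraMap_eq A A' BA, ← Ideal.comap_comap,
        ← Ideal.under_def (A := A'), ← hQ.over]
      exact hA'.2.1.over⟩
    obtain ⟨j, hjs, hj⟩ := Set.mem_iUnion₂.mp (hs (show q₁ ∈ PrimeSpectrum.comap (algebraMap A B) ⁻¹'
      {(⟨p, inferInstance⟩ : PrimeSpectrum A)} from PrimeSpectrum.ext hq₁.over.symm))
    obtain ⟨i, hi⟩ : ∃ i, e i = ⟨j, hjs⟩ := ⟨e.symm ⟨j, hjs⟩, e.apply_symm_apply _⟩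
    have hij : (e i).1 = j := congrArg Subtype.val hi
    obtain ⟨Qs, hQs, hQq, hQp⟩ := hUc (e i).1 q₁ (hij ▸ hj) hq₁
    obtain ⟨Q', hQ', hQQ⟩ := hcov i Q hQ Qs hQs hQq hQp
    exact ⟨i, Q', hQ', hQQ⟩

end Groth.L20.RG
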