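import Groth.Prelude.Def_FlatCA
import Groth.Agent.L20.FlatAtBaseChange
import Groth.Agent.L20.FlatLocusOpen
import Mathlib.RingTheory.AlgebraicIndependent.TranscendenceBasis
import Mathlib.RingTheory.Ideal.GoingUp

/-!
# Flatness in dimensions at least `d`: invariance under finite maps, and along universally exact sequences
-/

set_option autoImplicit false
set_option linter.style.haveILetI false
set_option backward.isDefEq.respectTransparency.types false
universe u

open TensorProduct

noncomputable section

namespace Groth.L20.RG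

/-- The transcendence degree of the residue field of `Q` over that of the prime `t` under it. -/
def relTrdeg {A B : Type u} [CommRing A] [CommRing B] [Algebra A B] (t : Ideal A) (Q : Ideal B) [t.IsPrime]
    [Q.IsPrime] [h : Q.LiesOver t] : Cardinal.{u} :=
  letI : Algebra t.ResidueField Q.ResidueField :=
    (Ideal.ResidueField.mapₐ t Q (Algebra.ofId A B) h.over).toRingHom.toAlgebra
  Algebra.trdeg t.ResidueField Q.ResidueField

theorem flatInDimGE_iff_relTrdeg (n : ℕ) {A B : Type u} [CommRing A] [CommRing B] [Algebra A B] (N : Type u)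
    [AddCommGroup N] [Module B N] [Module A N] [IsScalarTower A B N] :
    FlatCA.FlatInDimGE n A B N ↔ ∀ (t : Ideal A) (Q : Ideal B) [t.IsPrime] [Q.IsPrime] [Q.LiesOver t],
      (n : Cardinal.{u}) ≤ relTrdeg t Q → FlatCA.FlatAt A Q N := by
  constructor
  · intro h t Q _ _ _ hd
    by_contra hne
    exact absurd (h t Q hne) (not_lt.mpr hd)
  · intro h t Q _ _ _ hne
    exact not_le.mp fun hd => hne (h t Q hd)

/-- The residual transcendence degree does not change along a finite map. -/
theorem relTrdeg_eq_of_finite {A B C : Type u} [CommRing A] [CommRing B] [CommRing C] [Algebra A B] [Algebra A C]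
    [Algebra B C] [IsScalarTower A B C] [Algebra.IsIntegral B C] (t : Ideal A) (y : Ideal B) (Q : Ideal C)
    [t.IsPrime] [y.IsPrime] [Q.IsPrime] [hy : y.LiesOver t] [hQy : Q.LiesOver y] [hQ : Q.LiesOver t] :
    relTrdeg t Q = relTrdeg t y := by
  letI : Algebra t.ResidueField y.ResidueField :=
    (Ideal.ResidueField.mapₐ t y (Algebra.ofId A B) hy.over).toRingHom.toAlgebra
  letI : Algebra y.ResidueField Q.ResidueField :=
    (Ideal.ResidueField.mapₐ y Q (Algebra.ofId B C) hQy.over).toRingHom.toAlgebra
  letI : Algebra t.ResidueField Q.ResidueField :=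
    (Ideal.ResidueField.mapₐ t Q (Algebra.ofId A C) hQ.over).toRingHom.toAlgebra
  show Algebra.trdeg t.ResidueField Q.ResidueField = Algebra.trdeg t.ResidueField y.ResidueField
  haveI : IsScalarTower t.ResidueField y.ResidueField Q.ResidueField := IsScalarTower.of_algebraMap_eq' (by
    refine Ideal.ResidueField.ringHom_ext ?_
    ext a
    show Ideal.ResidueField.mapₐ t Q (Algebra.ofId A C) hQ.over (algebraMap A t.ResidueField a) =
      Ideal.ResidueField.mapₐ y Q (Algebra.ofId B C) hQy.over
        (Ideal.ResidueField.mapₐ t y (Algebra.ofId A B) hy.over (algebraMap A t.ResidueField a))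
    rw [AlgHom.commutes, AlgHom.commutes, IsScalarTower.algebraMap_apply A B y.ResidueField, AlgHom.commutes,
      ← IsScalarTower.algebraMap_apply])
  haveI : IsScalarTower B y.ResidueField Q.ResidueField :=
    IsScalarTower.of_algebraMap_eq fun b => ((Ideal.ResidueField.mapₐ y Q (Algebra.ofId B C) hQy.over).commutes b).symm
  haveI : Algebra.IsAlgebraic y.ResidueField Q.ResidueField := ⟨fun x => by
    obtain ⟨a, b, hb, rfl⟩ := IsFractionRing.div_surjective (C ⧸ Q) x
    obtain ⟨a, rfl⟩ := Ideal.Quotient.mk_surjective a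
    obtain ⟨b, rfl⟩ := Ideal.Quotient.mk_surjective b
    have hint : ∀ c : C, IsIntegral y.ResidueField (algebraMap C Q.ResidueField c) := fun c =>
      ((Algebra.IsIntegral.isIntegral (R := B) c).map (IsScalarTower.toAlgHom B C Q.ResidueField)).tower_top
    have e : ∀ c : C, algebraMap (C ⧸ Q) Q.ResidueField (Ideal.Quotient.mk Q c) = algebraMap C Q.ResidueField c :=
      fun c => Ideal.algebraMap_quotient_residueField_mk Q c
    rw [e, e, div_eq_mul_inv]
    exact ((hint a).isAlgebraic).mul ((hint b).isAlgebraic).inv⟩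
  rw [← trdeg_add_eq t.ResidueField y.ResidueField (A := Q.ResidueField),
    trdeg_eq_zero (R := y.ResidueField) (A := Q.ResidueField), add_zero]

/-- A module over an integral algebra is flat at a prime of the base algebra iff it is so at all the primes above. -/
theorem flatAt_iff_of_integral {A B C : Type u} [CommRing A] [CommRing B] [CommRing C] [Algebra A B] [Algebra A C]
    [Algebra B C] [IsScalarTower A B C] [Algebra.IsIntegral B C] (M : Type u) [AddCommGroup M] [Module C M]
    [Module B M] [IsScalarTower B C M] [Module A M] [IsScalarTower A B M] [IsScalarTower A C M]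
    (y : Ideal B) [y.IsPrime] :
    FlatCA.FlatAt A y M ↔ ∀ (Q : Ideal C) [Q.IsPrime], Q.LiesOver y → FlatCA.FlatAt A Q M := by
  have hsm : ∀ (J : Ideal A) (b : B) (z : M ⊗[A] J), algebraMap B C b • z = b • z := fun J b z => algebraMap_smul C b z
  constructor
  · intro h Q _ hQ
    rw [FlatCA.FlatAt, Groth.L20.flat_localizedModule_iff_forall] at h ⊢
    intro J z hz
    obtain ⟨s, hs, hsz⟩ := h J z hz
    exact ⟨algebraMap B C s, fun hm => hs ((Ideal.mem_of_liesOver Q y s).mpr hm), (hsm J s z).trans hsz⟩
  · intro h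
    rw [FlatCA.FlatAt, Groth.L20.flat_localizedModule_iff_forall]
    intro J z hz
    by_contra hne
    push Not at hne
    let a : Ideal C := LinearMap.ker (LinearMap.toSpanSingleton C (M ⊗[A] J) z)
    have hay : a.comap (algebraMap B C) ≤ y := fun b hb => by
      by_contra hby
      refine hne b hby ?_
      have : algebraMap B C b • z = 0 := by simpa [a] using hb
      rwa [hsm] at this
    obtain ⟨Q, haQ, hQ, hQy⟩ := Ideal.exists_ideal_over_prime_of_isIntegral y a hay
    haveI := hQ
    have hfl := h Q ⟨hQy.symm⟩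
    rw [FlatCA.FlatAt, Groth.L20.flat_localizedModule_iff_forall] at hfl
    obtain ⟨s, hs, hsz⟩ := hfl J z hz
    exact hs (haQ (by simpa [a] using hsz))

/-- Flatness in dimensions at least `d` is insensitive to a finite change of the algebra. -/
theorem flatInDimGE_iff_of_finite (d : ℕ) {A B C : Type u} [CommRing A] [CommRing B] [CommRing C] [Algebra A B]
    [Algebra A C] [Algebra B C] [IsScalarTower A B C] [Algebra.IsIntegral B C] (M : Type u) [AddCommGroup M]
    [Module C M] [Module B M] [IsScalarTower B C M] [Module A M] [IsScalarTower A B M] [IsScalarTower A C M] :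
    FlatCA.FlatInDimGE d A C M ↔ FlatCA.FlatInDimGE d A B M := by
  rw [flatInDimGE_iff_relTrdeg, flatInDimGE_iff_relTrdeg]
  constructor
  · intro h t y _ _ hy hd
    refine (flatAt_iff_of_integral (C := C) M y).mpr fun Q _ hQy => ?_
    haveI : Q.LiesOver t := Ideal.LiesOver.trans Q y t
    exact h t Q (by rw [relTrdeg_eq_of_finite t y Q]; exact hd)
  · intro h t Q _ _ hQ hd
    let y := Q.comap (algebraMap B C)
    haveI : y.IsPrime := Ideal.IsPrime.comap _
    haveI : Q.LiesOver y := ⟨rfl⟩
    haveI : y.LiesOver t := ⟨by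
      rw [Ideal.under_def, show y = Q.comap (algebraMap B C) from rfl, Ideal.comap_comap,
        ← IsScalarTower.algebraMap_eq]
      exact hQ.over⟩
    exact (flatAt_iff_of_integral (C := C) M y).mp (h t y (by rw [← relTrdeg_eq_of_finite t y Q]; exact hd)) Q
      inferInstance

/-- Flatness at a prime is invariant under isomorphisms. -/
theorem flatAt_congr {A B : Type u} [CommRing A] [CommRing B] [Algebra A B] {M M' : Type u} [AddCommGroup M]
    [Module B M] [Module A M] [IsScalarTower A B M] [AddCommGroup M'] [Module B M'] [Module A M']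
    [IsScalarTower A B M'] (e : M ≃ₗ[B] M') (Q : Ideal B) [Q.IsPrime] :
    FlatCA.FlatAt A Q M ↔ FlatCA.FlatAt A Q M' := by
  rw [FlatCA.FlatAt, FlatCA.FlatAt]
  exact Groth.L20.flat_localizedModule_iff_of_semilinear (R := A) (RingHom.id B) (e.symm.restrictScalars A)
    (fun s m => map_smul e.symm s m) Q.primeCompl Q.primeCompl (Submonoid.map_id _).symm |>.symm

theorem flatInDimGE_congr (d : ℕ) {A B : Type u} [CommRing A] [CommRing B] [Algebra A B] {M M' : Type u}
    [AddCommGroup M] [Module B M] [Module A M] [IsScalarTower A B M] [AddCommGroup M'] [Module B M'] [Module A M']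
    [IsScalarTower A B M'] (e : M ≃ₗ[B] M') :
    FlatCA.FlatInDimGE d A B M ↔ FlatCA.FlatInDimGE d A B M' := by
  rw [flatInDimGE_iff_relTrdeg, flatInDimGE_iff_relTrdeg]
  exact forall_congr' fun t => forall_congr' fun Q => forall_congr' fun _ => forall_congr' fun _ =>
    forall_congr' fun _ => forall_congr' fun _ => flatAt_congr e Q

/-- Along a universally exact sequence with flat first term, the middle term is flat at a prime iff the last one is. -/
theorem flatAt_iff_of_univExact {A B : Type u} [CommRing A] [CommRing B] [Algebra A B] {F M Q₁ : Type u}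
    [AddCommGroup F] [Module B F] [Module A F] [IsScalarTower A B F] [Module.Flat A F] [AddCommGroup M]
    [Module B M] [Module A M] [IsScalarTower A B M] [AddCommGroup Q₁] [Module B Q₁] [Module A Q₁]
    [IsScalarTower A B Q₁] (u : F →ₗ[B] M) (π : M →ₗ[B] Q₁) (hπ : Function.Surjective π)
    (hex : Function.Exact u π)
    (hinj : ∀ (X : Type u) [AddCommGroup X] [Module A X], Function.Injective ((u.restrictScalars A).rTensor X))
    (y : Ideal B) [y.IsPrime] : FlatCA.FlatAt A y M ↔ FlatCA.FlatAt A y Q₁ := by
  let uA := u.restrictScalars A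
  let πA := π.restrictScalars A
  have hexA : Function.Exact uA πA := hex
  have hπA : Function.Surjective πA := hπ
  have hs : ∀ (J : Ideal A) (s : B) (z : M ⊗[A] J), πA.rTensor J (s • z) = s • πA.rTensor J z := fun J s z =>
    map_smul (AlgebraTensorModule.rTensor A J π) s z
  rw [FlatCA.FlatAt, FlatCA.FlatAt, Groth.L20.flat_localizedModule_iff_forall,
    Groth.L20.flat_localizedModule_iff_forall]
  constructor
  · intro h J z hz
    obtain ⟨z', rfl⟩ := LinearMap.rTensor_surjective J hπA z
    rw [← LinearMap.comp_apply, LinearMap.lTensor_comp_rTensor, ← LinearMap.rTensor_comp_lTensor,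
      LinearMap.comp_apply] at hz
    obtain ⟨w, hw⟩ := (rTensor_exact A hexA hπA _).1 hz
    -- the element `w` lies in `J F`
    have hw0 : (J.mkQ.lTensor F) w = 0 := by
      refine hinj (A ⧸ J) ?_
      rw [map_zero, ← LinearMap.comp_apply, LinearMap.rTensor_comp_lTensor, ← LinearMap.lTensor_comp_rTensor,
        LinearMap.comp_apply, hw, ← LinearMap.comp_apply, ← LinearMap.lTensor_comp,
        show J.mkQ ∘ₗ J.subtype = 0 from LinearMap.ext fun a => (Submodule.Quotient.mk_eq_zero J).mpr a.2,
        LinearMap.lTensor_zero, LinearMap.zero_apply]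
    obtain ⟨w', rfl⟩ := (lTensor_exact F (LinearMap.exact_subtype_mkQ J) J.mkQ_surjective w).1 hw0
    obtain ⟨s, hsy, hsz⟩ := h J (z' - uA.rTensor J w') (by
      rw [map_sub, sub_eq_zero, ← hw, ← LinearMap.comp_apply, ← LinearMap.comp_apply, LinearMap.rTensor_comp_lTensor,
        LinearMap.lTensor_comp_rTensor])
    refine ⟨s, hsy, ?_⟩
    have h1 : πA.rTensor J (s • (z' - uA.rTensor J w')) = 0 := by rw [hsz, map_zero]
    rw [hs, map_sub, ← LinearMap.comp_apply, ← LinearMap.rTensor_comp, hexA.linearMap_comp_eq_zero,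
      LinearMap.rTensor_zero, LinearMap.zero_apply, sub_zero] at h1
    exact h1
  · intro h J z hz
    obtain ⟨s, hsy, hsz⟩ := h J (πA.rTensor J z) (by
      rw [← LinearMap.comp_apply, LinearMap.lTensor_comp_rTensor, ← LinearMap.rTensor_comp_lTensor,
        LinearMap.comp_apply, hz, map_zero])
    refine ⟨s, hsy, ?_⟩
    obtain ⟨w, hw⟩ := (rTensor_exact J hexA hπA (s • z)).1 (by rw [hs, hsz])
    have hz' : J.subtype.lTensor M (s • z) = 0 := by
      have e1 : J.subtype.lTensor M (s • z) = s • J.subtype.lTensor M z :=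
        map_smul (AlgebraTensorModule.lTensor B M J.subtype) s z
      rw [e1, hz, smul_zero]
    have h2 : J.subtype.lTensor F w = 0 := by
      refine hinj A ?_
      rw [map_zero, ← LinearMap.comp_apply, LinearMap.rTensor_comp_lTensor, ← LinearMap.lTensor_comp_rTensor,
        LinearMap.comp_apply, hw, hz']
    rw [← hw, show w = 0 from Module.Flat.lTensor_preserves_injective_linearMap J.subtype Subtype.val_injective
      (by rw [h2, map_zero]), map_zero]

theorem flatInDimGE_iff_of_univExact (d : ℕ) {A B : Type u} [CommRing A] [CommRing B] [Algebra A B] {F M Q₁ : Type u}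
    [AddCommGroup F] [Module B F] [Module A F] [IsScalarTower A B F] [Module.Flat A F] [AddCommGroup M]
    [Module B M] [Module A M] [IsScalarTower A B M] [AddCommGroup Q₁] [Module B Q₁] [Module A Q₁]
    [IsScalarTower A B Q₁] (u : F →ₗ[B] M) (π : M →ₗ[B] Q₁) (hπ : Function.Surjective π)
    (hex : Function.Exact u π)
    (hinj : ∀ (X : Type u) [AddCommGroup X] [Module A X], Function.Injective ((u.restrictScalars A).rTensor X)) :
    FlatCA.FlatInDimGE d A B M ↔ FlatCA.FlatInDimGE d A B Q₁ := by
  rw [flatInDimGE_iff_relTrdeg, flatInDimGE_iff_relTrdeg]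
  exact forall_congr' fun t => forall_congr' fun Q => forall_congr' fun _ => forall_congr' fun _ =>
    forall_congr' fun _ => forall_congr' fun _ => flatAt_iff_of_univExact u π hπ hex hinj Q

/-- Flatness in dimensions at least `d` does not depend on the model of the base change. -/
theorem flatInDimGE_model_iff (d : ℕ) {A B M A' : Type u} [CommRing A] [CommRing B] [CommRing A'] [Algebra A B]
    [Algebra A A'] [AddCommGroup M] [Module B M]
    {B₁ M₁ : Type u} [CommRing B₁] [Algebra B B₁] [Algebra A' B₁] [Algebra A B₁] [IsScalarTower A B B₁]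
    [IsScalarTower A A' B₁] [Algebra.IsPushout A B A' B₁] [AddCommGroup M₁] [Module B₁ M₁] [Module B M₁]
    [IsScalarTower B B₁ M₁] [Module A' M₁] [IsScalarTower A' B₁ M₁] (f₁ : M →ₗ[B] M₁) (hf₁ : IsBaseChange B₁ f₁)
    {B₂ M₂ : Type u} [CommRing B₂] [Algebra B B₂] [Algebra A' B₂] [Algebra A B₂] [IsScalarTower A B B₂]
    [IsScalarTower A A' B₂] [Algebra.IsPushout A B A' B₂] [AddCommGroup M₂] [Module B₂ M₂] [Module B M₂]
    [IsScalarTower B B₂ M₂] [Module A' M₂] [IsScalarTower A' B₂ M₂] (f₂ : M →ₗ[B] M₂) (hf₂ : IsBaseChange B₂ f₂) :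
    FlatCA.FlatInDimGE d A' B₁ M₁ ↔ FlatCA.FlatInDimGE d A' B₂ M₂ := by
  let φ : B₁ →ₐ[A] B₂ := Algebra.pushoutDesc B₁ (IsScalarTower.toAlgHom A B B₂) (IsScalarTower.toAlgHom A A' B₂)
    fun _ _ => Commute.all _ _
  letI : Algebra B₁ B₂ := φ.toRingHom.toAlgebra
  haveI : IsScalarTower B B₁ B₂ := IsScalarTower.of_algebraMap_eq fun b =>
    (Algebra.pushoutDesc_left B₁ (IsScalarTower.toAlgHom A B B₂) (IsScalarTower.toAlgHom A A' B₂) (fun _ _ => Commute.all _ _) b).symm
  haveI : IsScalarTower A' B₁ B₂ := IsScalarTower.of_algebraMap_eq fun a =>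
    (Algebra.pushoutDesc_right B₁ (IsScalarTower.toAlgHom A B B₂) (IsScalarTower.toAlgHom A A' B₂) (fun _ _ => Commute.all _ _) a).symm
  have hsurj : Function.Surjective (algebraMap B₁ B₂) := by
    intro x
    obtain ⟨z, rfl⟩ := (Algebra.IsPushout.equiv A B A' B₂).surjective x
    induction z using TensorProduct.induction_on with
    | zero => exact ⟨0, by simp⟩
    | add a b ha hb =>
      obtain ⟨a', ha'⟩ := ha
      obtain ⟨b', hb'⟩ := hb
      exact ⟨a' + b', by rw [map_add, map_add, ha', hb']⟩
    | tmul b a =>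
      refine ⟨algebraMap B B₁ b * algebraMap A' B₁ a, ?_⟩
      rw [Algebra.IsPushout.equiv_tmul, map_mul, ← IsScalarTower.algebraMap_apply, ← IsScalarTower.algebraMap_apply]
  haveI : Module.Finite B₁ B₂ := Module.Finite.of_surjective (Algebra.linearMap B₁ B₂) hsurj
  letI : Module B₁ M₂ := Module.compHom M₂ (algebraMap B₁ B₂)
  haveI : IsScalarTower B₁ B₂ M₂ := IsScalarTower.of_algebraMap_smul fun _ _ => rfl
  haveI : IsScalarTower A' B₁ M₂ := IsScalarTower.of_algebraMap_smul fun a x => by
    show algebraMap B₁ B₂ (algebraMap A' B₁ a) • x = a • x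
    rw [← IsScalarTower.algebraMap_apply, algebraMap_smul]
  haveI : IsScalarTower B B₁ M₂ := IsScalarTower.of_algebraMap_smul fun b x => by
    show algebraMap B₁ B₂ (algebraMap B B₁ b) • x = b • x
    rw [← IsScalarTower.algebraMap_apply, algebraMap_smul]
  rw [flatInDimGE_iff_of_finite d (A := A') (B := B₁) (C := B₂) M₂]
  refine flatInDimGE_congr d ?_
  -- both are base changes of `M` to `B₁`
  have hinj : Function.Injective (algebraMap B₁ B₂) := by
    let e₁ := Algebra.IsPushout.equiv A B A' B₁
    let e₂ := Algebra.IsPushout.equiv A B A' B₂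
    have h : ∀ z, algebraMap B₁ B₂ (e₁ z) = e₂ z := fun z => by
      induction z using TensorProduct.induction_on with
      | zero => simp
      | add a b ha hb => rw [map_add, map_add, map_add, ha, hb]
      | tmul b a => rw [Algebra.IsPushout.equiv_tmul, Algebra.IsPushout.equiv_tmul, map_mul,
          ← IsScalarTower.algebraMap_apply, ← IsScalarTower.algebraMap_apply]
    intro x x' hx
    obtain ⟨z, rfl⟩ := e₁.surjective x
    obtain ⟨z', rfl⟩ := e₁.surjective x'
    rw [h, h] at hx
    rw [e₂.injective hx]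
  have h2 : IsBaseChange B₁ f₂ := IsBaseChange.of_equiv
    ((AlgebraTensorModule.congr (LinearEquiv.ofBijective (Algebra.linearMap B₁ B₂) ⟨hinj, hsurj⟩)
      (LinearEquiv.refl B M)).trans (hf₂.equiv.restrictScalars B₁)) fun x => by
      show hf₂.equiv (algebraMap B₁ B₂ 1 ⊗ₜ[B] x) = f₂ x
      rw [map_one, hf₂.equiv_tmul, one_smul]
  exact hf₁.equiv.symm.trans h2.equiv

end Groth.L20.RG
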