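import Groth.Agent.L20.RG.DevInduct
import Groth.Agent.L13.Fitting.Minors
import Groth.Agent.L13.Fitting.BaseChange

/-!
# Flatness at the generic points of the fibres of a smooth algebra, through content ideals
-/

set_option autoImplicit false
set_option linter.style.haveILetI false
set_option backward.isDefEq.respectTransparency.types false
universe u

open TensorProduct IsLocalRing

noncomputable section

namespace Groth.L20.RG

attribute [local instance] Algebra.TensorProduct.rightAlgebra

variable {A D : Type u} [CommRing A] [CommRing D] [Algebra A D] [Algebra.Smooth A D]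

omit [Algebra.Smooth A D] in
/-- Content ideals commute with change of the base. -/
theorem content_baseChange {X : Set D} {c : Ideal A}
    (hc : ∀ (S : Type u) [CommRing S] [Algebra A S], (∀ x ∈ X, (1 : S) ⊗ₜ[A] x = 0) ↔ c ≤ RingHom.ker (algebraMap A S))
    (T : Type u) [CommRing T] [Algebra A T] (S : Type u) [CommRing S] [Algebra T S] :
    (∀ y ∈ (algebraMap D (T ⊗[A] D)) '' X, (1 : S) ⊗ₜ[T] y = 0) ↔
      c.map (algebraMap A T) ≤ RingHom.ker (algebraMap T S) := by
  letI : Algebra A S := ((algebraMap T S).comp (algebraMap A T)).toAlgebra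
  haveI : IsScalarTower A T S := IsScalarTower.of_algebraMap_eq' rfl
  rw [Ideal.map_le_iff_le_comap, RingHom.comap_ker, ← IsScalarTower.algebraMap_eq, ← hc S, Set.forall_mem_image]
  refine forall₂_congr fun x _ => ?_
  rw [← map_eq_zero_iff _ (Algebra.TensorProduct.cancelBaseChange A T S S D).injective]
  show Algebra.TensorProduct.cancelBaseChange A T S S D ((1 : S) ⊗ₜ[T] ((1 : T) ⊗ₜ[A] x)) = 0 ↔ _
  rw [Algebra.TensorProduct.cancelBaseChange_tmul, one_smul]

/-- **Flatness in dimensions at least the relative dimension, through content ideals of Fitting ideals.** -/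
theorem exists_dim_strata (h : DomFib A D) {e : ℕ} (he : FlatCA.SmoothRelDim e A D) (M : Type u) [AddCommGroup M]
    [Module D M] [Module.FinitePresentation D M] :
    ∃ (m : ℕ) (c' c : Fin m → Ideal A), (∀ k, (c' k).FG) ∧ (∀ k, (c k).FG) ∧ (∀ l k, l < k → c l ≤ c' k) ∧
      ∀ (T : Type u) [CommRing T] [Algebra A T], FlatBC A e T D M ↔
        ∀ (t : Ideal T) [t.IsPrime], ∃ k, c' k ≤ RingHom.ker (algebraMap A (Localization.AtPrime t)) ∧
          ¬ c k ≤ t.comap (algebraMap A T) := by
  classical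
  obtain ⟨n, x, hx⟩ := Groth.L13.Fitting.exists_gens (R := D) (M := M)
  have hfg : ∀ k, (Fitt.ideal D M k).FG := fun k => Groth.L13.Fitting.ideal_fg_of_finitePresentation k
  choose G hG using hfg
  let G' : ℕ → Finset D := fun k => (Finset.range k).biUnion G
  choose cF hcFfg hcF using fun k : ℕ => exists_content h (G k : Set D)
  choose cF' hcFfg' hcF' using fun k : ℕ => exists_content h (G' k : Set D)
  refine ⟨n + 1, fun k => cF' k, fun k => cF k, fun k => hcFfg' k (Finset.finite_toSet _),
    fun k => hcFfg k (Finset.finite_toSet _), fun l k hlk => ?_, fun T _ _ => ?_⟩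
  · have h2 := (hcF' k (A ⧸ cF' k)).2 (by rw [Ideal.Quotient.algebraMap_eq, Ideal.mk_ker])
    have h3 := (hcF l (A ⧸ cF' k)).1 fun y hy => h2 y (Finset.mem_coe.2 (Finset.mem_biUnion.2
      ⟨l, Finset.mem_range.2 hlk, Finset.mem_coe.1 hy⟩))
    rwa [Ideal.Quotient.algebraMap_eq, Ideal.mk_ker] at h3
  let DT := T ⊗[A] D
  have hT := h.baseChange T
  have heT : FlatCA.SmoothRelDim e T DT :=
    haveI : Algebra.IsPushout A T D DT := Algebra.IsPushout.symm inferInstance
    smoothRelDim_baseChange (R := A) (R' := T) (B := D) (B' := DT) he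
  rw [FlatBC, flatInDimGE_relDim_iff heT hT]
  refine forall_congr' fun t => forall_congr' fun _ => ?_
  haveI := isPrime_map (B := DT) t hT
  have hF : ∀ l, Fitt.ideal DT (DT ⊗[D] M) l = Ideal.span ((algebraMap D DT) '' (G l : Set D)) := fun l => by
    rw [Groth.L13.Fitting.ideal_baseChange, ← hG l, Ideal.map_span]
  rw [flatAt_map_iff_fitting t (DT ⊗[D] M)]
  -- the two conditions, one `k` at a time
  have h1 : ∀ k, (∀ l, l < k → ∀ y ∈ Fitt.ideal DT (DT ⊗[D] M) l, ∃ w ∉ t.map (algebraMap T DT), w * y = 0) ↔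
      cF' k ≤ RingHom.ker (algebraMap A (Localization.AtPrime t)) := by
    intro k
    rw [IsScalarTower.algebraMap_eq A T (Localization.AtPrime t), ← RingHom.comap_ker, ← Ideal.map_le_iff_le_comap,
      ← killed_iff_content t hT (content_baseChange (hcF' k) T)]
    constructor
    · rintro H _ ⟨y, hy, rfl⟩
      obtain ⟨l, hl, hyl⟩ := Finset.mem_biUnion.1 (Finset.mem_coe.1 hy)
      exact H l (Finset.mem_range.1 hl) _ (by rw [hF l]; exact Ideal.subset_span ⟨y, Finset.mem_coe.2 hyl, rfl⟩)
    · intro H l hl y hy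
      rw [hF l] at hy
      induction hy using Submodule.span_induction with
      | mem z hz =>
        obtain ⟨z, hz, rfl⟩ := hz
        exact H _ ⟨z, Finset.mem_coe.2 (Finset.mem_biUnion.2 ⟨l, Finset.mem_range.2 hl, Finset.mem_coe.1 hz⟩), rfl⟩
      | zero => exact ⟨1, (Ideal.ne_top_iff_one _).1 (Ideal.IsPrime.ne_top inferInstance), mul_zero _⟩
      | add z z' _ _ ih ih' =>
        obtain ⟨w, hw, hwz⟩ := ih
        obtain ⟨w', hw', hwz'⟩ := ih'
        exact ⟨w * w', fun hm => ((isPrime_map (B := DT) t hT).mem_or_mem hm).elim hw hw', by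
          rw [mul_add, mul_right_comm, hwz, zero_mul, zero_add, mul_assoc, hwz', mul_zero]⟩
      | smul a z _ ih =>
        obtain ⟨w, hw, hwz⟩ := ih
        exact ⟨w, hw, by rw [smul_eq_mul, mul_left_comm, hwz, mul_zero]⟩
  have h2 : ∀ k, Fitt.ideal DT (DT ⊗[D] M) k ≤ t.map (algebraMap T DT) ↔ cF k ≤ t.comap (algebraMap A T) := by
    intro k
    rw [hF k, Ideal.span_le, ← Ideal.map_le_iff_le_comap]
    conv_rhs => rw [← Ideal.ker_algebraMap_residueField t, ← content_baseChange (hcF k) T]
    exact forall₂_congr fun y _ => (one_tmul_eq_zero_iff t y).symm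
  constructor
  · rintro ⟨k, hk1, hk2⟩
    rcases Nat.lt_or_ge k (n + 1) with hkn | hkn
    · exact ⟨⟨k, hkn⟩, (h1 k).1 hk1, fun hle => hk2 ((h2 k).2 hle)⟩
    · refine ⟨⟨n, n.lt_succ_self⟩, (h1 n).1 fun l hl => hk1 l (by omega), fun hle => ?_⟩
      have htop : Fitt.ideal DT (DT ⊗[D] M) n = ⊤ := by
        rw [Groth.L13.Fitting.ideal_baseChange, Groth.L13.Fitting.ideal_eq_tup x hx,
          Groth.L13.Fitting.tup_eq_top _ le_rfl, Ideal.map_top]
      exact (isPrime_map (B := DT) t hT).ne_top (top_le_iff.1 (htop ▸ (h2 n).2 hle))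
  · rintro ⟨k, hk1, hk2⟩
    exact ⟨k, (h1 k).2 hk1, fun hle => hk2 ((h2 k).1 hle)⟩

end Groth.L20.RG
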