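import Mathlib.AlgebraicGeometry.Morphisms.ClosedImmersion
import Mathlib.AlgebraicGeometry.Morphisms.FinitePresentation
import Mathlib.AlgebraicGeometry.Morphisms.QuasiSeparated
import Mathlib.AlgebraicGeometry.Morphisms.Separated
import Mathlib.AlgebraicGeometry.Limits
import Mathlib.RingTheory.Localization.AtPrime.Basic

/-!
# The scheme of a finite family of disjoint locally closed strata
-/

set_option autoImplicit false
set_option linter.style.haveILetI false
set_option backward.isDefEq.respectTransparency.types false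
universe u

open AlgebraicGeometry CategoryTheory CategoryTheory.Limits

noncomputable section

namespace Groth.L20.RG

/-- A map out of a coproduct is a monomorphism when its components are monomorphisms with disjoint images. -/
theorem mono_sigmaDesc {ι : Type u} [Finite ι] {S : Scheme.{u}} {Z : ι → Scheme.{u}} (f : ∀ k, Z k ⟶ S)
    [∀ k, Mono (f k)] (hdis : ∀ k l (x : Z k) (y : Z l), f k x = f l y → k = l) : Mono (Sigma.desc f) := by
  constructor
  intro W g h hgh
  refine Scheme.Cover.hom_ext ((sigmaOpenCover Z).pullback₁ g) _ _ fun k => ?_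
  let a : pullback g (Sigma.ι Z k) ⟶ W := pullback.fst _ _
  show a ≫ g = a ≫ h
  have hr : Set.range (a ≫ h) ⊆ Set.range (Sigma.ι Z k) := by
    rintro _ ⟨x, rfl⟩
    obtain ⟨⟨l, y⟩, hy⟩ := (sigmaMk Z).surjective ((a ≫ h) x)
    rw [sigmaMk_mk] at hy
    have e1 : Sigma.desc f ((a ≫ h) x) = f k (pullback.snd g (Sigma.ι Z k) x) := by
      rw [← Scheme.Hom.comp_apply, Category.assoc, ← hgh, ← Category.assoc, show a ≫ g = pullback.snd g (Sigma.ι Z k) ≫ Sigma.ι Z k from pullback.condition,
        Category.assoc, Sigma.ι_desc, Scheme.Hom.comp_apply]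
    rw [← hy, ← Scheme.Hom.comp_apply, Sigma.ι_desc] at e1
    obtain rfl := hdis l k y _ e1
    exact ⟨y, hy⟩
  let h₁ := IsOpenImmersion.lift (Sigma.ι Z k) (a ≫ h) hr
  have e2 : h₁ ≫ Sigma.ι Z k = a ≫ h := IsOpenImmersion.lift_fac _ _ hr
  rw [← e2, show a ≫ g = pullback.snd g (Sigma.ι Z k) ≫ Sigma.ι Z k from pullback.condition]
  congr 1
  rw [← cancel_mono (f k), ← Sigma.ι_desc f k, ← Category.assoc, ← Category.assoc,
    e2, ← pullback.condition, Category.assoc, Category.assoc, hgh]

variable {A : Type u} [CommRing A]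

/-- The open subset of `Spec (A / c')` away from `c`. -/
def stratumOpen (c' c : Ideal A) : (Spec (CommRingCat.of (A ⧸ c'))).Opens :=
  ⟨(PrimeSpectrum.zeroLocus (c.map (Ideal.Quotient.mk c') : Set (A ⧸ c')))ᶜ,
    (PrimeSpectrum.isClosed_zeroLocus _).isOpen_compl⟩

/-- The stratum of `c'` and `c`: the points in `V(c')` outside `V(c)`. -/
def stratumMap (c' c : Ideal A) : (stratumOpen c' c : Scheme.{u}) ⟶ Spec (CommRingCat.of A) :=
  (stratumOpen c' c).ι ≫ Spec.map (CommRingCat.ofHom (Ideal.Quotient.mk c'))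

theorem mem_stratum {c' c : Ideal A} (x : (stratumOpen c' c : Scheme.{u})) :
    c' ≤ (stratumMap c' c x).asIdeal ∧ ¬ c ≤ (stratumMap c' c x).asIdeal := by
  refine ⟨fun a ha => ?_, fun hle => x.2 ?_⟩
  · show Ideal.Quotient.mk c' a ∈ ((stratumOpen c' c).ι x).asIdeal
    rw [Ideal.Quotient.eq_zero_iff_mem.2 ha]
    exact zero_mem _
  · exact Ideal.map_le_iff_le_comap.2 hle

instance (c' c : Ideal A) : Mono (stratumMap c' c) := by
  haveI : IsClosedImmersion (Spec.map (CommRingCat.ofHom (Ideal.Quotient.mk c'))) :=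
    IsClosedImmersion.spec_of_surjective _ Ideal.Quotient.mk_surjective
  unfold stratumMap
  infer_instance

theorem lfp_stratumMap {c' c : Ideal A} (hc' : c'.FG) : LocallyOfFinitePresentation (stratumMap c' c) := by
  haveI : LocallyOfFinitePresentation (Spec.map (CommRingCat.ofHom (Ideal.Quotient.mk c'))) := by
    rw [HasRingHomProperty.Spec_iff (P := @LocallyOfFinitePresentation), CommRingCat.hom_ofHom]
    exact RingHom.FinitePresentation.of_surjective _ Ideal.Quotient.mk_surjective (by rwa [Ideal.mk_ker])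
  unfold stratumMap
  infer_instance

theorem compactSpace_stratum {c' c : Ideal A} (hc : c.FG) : CompactSpace (stratumOpen c' c : Scheme.{u}) := by
  refine isCompact_iff_compactSpace.1 ?_
  exact (PrimeSpectrum.isCompact_isOpen_iff_ideal.2 ⟨c.map (Ideal.Quotient.mk c'), hc.map _, rfl⟩).1

set_option maxHeartbeats 1600000 in
/-- **The scheme of strata.** For finitely generated ideals with `c l ≤ c' k` for `l < k`, morphisms from affine
schemes through it are those for which every point has a neighbourhood inside one stratum. -/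
theorem exists_strata_scheme {m : ℕ} (c' c : Fin m → Ideal A) (hc' : ∀ k, (c' k).FG) (hc : ∀ k, (c k).FG)
    (hlt : ∀ l k, l < k → c l ≤ c' k) :
    ∃ (Z : Scheme.{u}) (i : Z ⟶ Spec (CommRingCat.of A)),
      Mono i ∧ LocallyOfFinitePresentation i ∧ QuasiCompact i ∧ QuasiSeparated i ∧
      ∀ (T : Type u) [CommRing T] [Algebra A T],
        (∃ j : Spec (CommRingCat.of T) ⟶ Z, j ≫ i = Spec.map (CommRingCat.ofHom (algebraMap A T))) ↔
          ∀ (t : Ideal T) [t.IsPrime], ∃ k, c' k ≤ RingHom.ker (algebraMap A (Localization.AtPrime t)) ∧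
            ¬ c k ≤ t.comap (algebraMap A T) := by
  classical
  let Z : ULift.{u} (Fin m) → Scheme.{u} := fun k => (stratumOpen (c' k.down) (c k.down) : Scheme.{u})
  let f : ∀ k, Z k ⟶ Spec (CommRingCat.of A) := fun k => stratumMap (c' k.down) (c k.down)
  have hm : Mono (Sigma.desc f) := mono_sigmaDesc f fun k l x y hxy => by
    rcases lt_trichotomy k.down l.down with hkl | hkl | hkl
    · exact absurd ((hlt k.down l.down hkl).trans (mem_stratum y).1) (by rw [← show (f k x) = f l y from hxy]; exact (mem_stratum x).2)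
    · exact ULift.ext _ _ hkl
    · exact absurd ((hlt l.down k.down hkl).trans (mem_stratum x).1) (by rw [show (f k x) = f l y from hxy]; exact (mem_stratum y).2)
  haveI := hm
  haveI : ∀ k, CompactSpace (Z k) := fun k => compactSpace_stratum (hc k.down)
  haveI : CompactSpace ↥(∐ Z) := (sigmaMk Z).compactSpace
  refine ⟨∐ Z, Sigma.desc f, hm, IsZariskiLocalAtSource.sigmaDesc fun k => lfp_stratumMap (hc' k.down), ?_, inferInstance,
    fun T _ _ => ⟨?_, ?_⟩⟩
  · rw [HasAffineProperty.iff_of_isAffine (P := @QuasiCompact)]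
    infer_instance
  · rintro ⟨j, hj⟩ t _
    let pt : Spec (CommRingCat.of T) := ⟨t, inferInstance⟩
    obtain ⟨⟨⟨k⟩, y⟩, hy⟩ := (sigmaMk Z).surjective (j pt)
    rw [sigmaMk_mk] at hy
    have hft : Sigma.desc f (j pt) = Spec.map (CommRingCat.ofHom (algebraMap A T)) pt := by
      rw [← hj, Scheme.Hom.comp_apply]
    refine ⟨k, ?_, ?_⟩
    · obtain ⟨_, ⟨g, rfl⟩, htg, hg⟩ := PrimeSpectrum.isTopologicalBasis_basic_opens.exists_subset_of_mem_open
        (show pt ∈ j ⁻¹ᵁ (Sigma.ι Z ⟨k⟩).opensRange from ⟨y, hy⟩) (j ⁻¹ᵁ (Sigma.ι Z ⟨k⟩).opensRange).isOpen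
      let φ := Spec.map (CommRingCat.ofHom (algebraMap T (Localization.Away g)))
      have hr : Set.range (φ ≫ j) ⊆ Set.range (Sigma.ι Z ⟨k⟩) := by
        rintro _ ⟨x, rfl⟩
        have hx : φ x ∈ (PrimeSpectrum.basicOpen g : Set (PrimeSpectrum T)) := by
          rw [← PrimeSpectrum.localization_away_comap_range (Localization.Away g) g]
          exact ⟨x, rfl⟩
        exact hg hx
      let j₁ := IsOpenImmersion.lift (Sigma.ι Z ⟨k⟩) (φ ≫ j) hr
      let q := j₁ ≫ (stratumOpen (c' k) (c k)).ι
      have e3 : q ≫ Spec.map (CommRingCat.ofHom (Ideal.Quotient.mk (c' k))) =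
          Spec.map (CommRingCat.ofHom (algebraMap A (Localization.Away g))) := by
        rw [Category.assoc, show (stratumOpen (c' k) (c k)).ι ≫ Spec.map (CommRingCat.ofHom (Ideal.Quotient.mk (c' k))) =
          f ⟨k⟩ from rfl, ← Sigma.ι_desc f ⟨k⟩, ← Category.assoc, IsOpenImmersion.lift_fac, Category.assoc, hj,
          ← Spec.map_comp, ← CommRingCat.ofHom_comp, ← IsScalarTower.algebraMap_eq]
      obtain ⟨ψ, hψ⟩ : ∃ ψ : CommRingCat.of (A ⧸ c' k) ⟶ CommRingCat.of (Localization.Away g), Spec.map ψ = q :=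
        ⟨Spec.preimage q, Spec.map_preimage q⟩
      rw [← hψ, ← Spec.map_comp] at e3
      have e4 := Spec.map_injective e3
      intro a ha
      have h0 : algebraMap A (Localization.Away g) a = 0 := by
        have := congrArg (fun φ : CommRingCat.of A ⟶ CommRingCat.of (Localization.Away g) => φ.hom a) e4
        simp only [CommRingCat.hom_comp, CommRingCat.hom_ofHom, RingHom.comp_apply] at this
        rw [← this, Ideal.Quotient.eq_zero_iff_mem.2 ha, map_zero]
      rw [IsScalarTower.algebraMap_apply A T (Localization.Away g), IsLocalization.map_eq_zero_iff (Submonoid.powers g)] at h0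
      obtain ⟨⟨_, N, rfl⟩, hN⟩ := h0
      rw [RingHom.mem_ker, IsScalarTower.algebraMap_apply A T (Localization.AtPrime t),
        IsLocalization.map_eq_zero_iff t.primeCompl]
      exact ⟨⟨g ^ N, fun hm => htg (Ideal.IsPrime.mem_of_pow_mem ‹_› N hm)⟩, hN⟩
    · rw [← hy, ← Scheme.Hom.comp_apply, Sigma.ι_desc] at hft
      show ¬ c k ≤ (Spec.map (CommRingCat.ofHom (algebraMap A T)) pt).asIdeal
      rw [← hft]
      exact (mem_stratum y).2
  · intro H
    have hloc : ∀ pt : PrimeSpectrum T, ∃ (g : T) (k : Fin m) (z : Spec (CommRingCat.of (Localization.Away g)) ⟶ Z ⟨k⟩),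
        g ∉ pt.asIdeal ∧ z ≫ f ⟨k⟩ = Spec.map (CommRingCat.ofHom (algebraMap A (Localization.Away g))) := by
      intro pt
      obtain ⟨k, hk, hk'⟩ := H pt.asIdeal
      obtain ⟨G, hG⟩ := hc' k
      have hgen : ∀ a ∈ G, ∃ v : pt.asIdeal.primeCompl, (v : T) * algebraMap A T a = 0 := fun a ha => by
        have h0 := hk (hG.le (Submodule.subset_span ha))
        rwa [RingHom.mem_ker, IsScalarTower.algebraMap_apply A T (Localization.AtPrime pt.asIdeal),
          IsLocalization.map_eq_zero_iff pt.asIdeal.primeCompl] at h0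
      choose v hv using hgen
      obtain ⟨y, hyc, hyt⟩ := SetLike.not_le_iff_exists.1 hk'
      let g : T := (∏ a : G, (v a.1 a.2 : T)) * algebraMap A T y
      have hgt : g ∉ pt.asIdeal := fun hm => by
        rcases pt.2.mem_or_mem hm with h1 | h1
        · obtain ⟨a, -, ha⟩ := pt.2.prod_mem_iff.1 h1
          exact (v a.1 a.2).2 ha
        · exact hyt h1
      have hu : IsUnit (algebraMap T (Localization.Away g) g) := IsLocalization.Away.algebraMap_isUnit g
      rw [map_mul, IsUnit.mul_iff] at hu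
      have hker : c' k ≤ RingHom.ker (algebraMap A (Localization.Away g)) := by
        rw [← hG]
        refine Submodule.span_le.2 fun a ha => ?_
        rw [SetLike.mem_coe, RingHom.mem_ker, IsScalarTower.algebraMap_apply A T (Localization.Away g),
          ← hu.1.mul_right_eq_zero, ← map_mul, ← Finset.mul_prod_erase Finset.univ _ (Finset.mem_univ (⟨a, ha⟩ : G)),
          mul_comm (v a ha : T), mul_assoc, hv a ha, mul_zero, map_zero]
      let q := Spec.map (CommRingCat.ofHom (Ideal.Quotient.lift (c' k) (algebraMap A (Localization.Away g)) hker))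
      have hr : Set.range q ⊆ Set.range (stratumOpen (c' k) (c k)).ι := by
        rintro _ ⟨x, rfl⟩
        rw [Scheme.Opens.range_ι]
        intro hm
        refine x.2.ne_top (Ideal.eq_top_of_isUnit_mem _ ?_ hu.2)
        have := hm (Ideal.mem_map_of_mem _ hyc)
        rw [← IsScalarTower.algebraMap_apply]
        exact this
      refine ⟨g, k, IsOpenImmersion.lift _ q hr, hgt, ?_⟩
      show IsOpenImmersion.lift _ q hr ≫ _ ≫ _ = _
      rw [IsOpenImmersion.lift_fac_assoc, ← Spec.map_comp, ← CommRingCat.ofHom_comp]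
      rfl
    choose g k z hg hz using hloc
    have hspan : Ideal.span (Set.range g) = ⊤ := by
      by_contra hne
      obtain ⟨M, hM, hle⟩ := Ideal.exists_le_maximal _ hne
      exact hg ⟨M, hM.isPrime⟩ (hle (Ideal.subset_span ⟨_, rfl⟩))
    let 𝒰 := (Scheme.affineOpenCoverOfSpanRangeEqTop (R := CommRingCat.of T) g hspan).openCover
    have hloc : ∀ p, (z p ≫ Sigma.ι Z ⟨k p⟩) ≫ Sigma.desc f =
        𝒰.f p ≫ Spec.map (CommRingCat.ofHom (algebraMap A T)) := fun p => by
      rw [Category.assoc, Sigma.ι_desc, hz]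
      show _ = Spec.map (CommRingCat.ofHom (algebraMap T (Localization.Away (g p)))) ≫ _
      rw [← Spec.map_comp, ← CommRingCat.ofHom_comp, ← IsScalarTower.algebraMap_eq]
    refine ⟨𝒰.glueMorphisms (fun p => z p ≫ Sigma.ι Z ⟨k p⟩) (fun a b => ?_), ?_⟩
    · rw [← cancel_mono (Sigma.desc f)]
      rw [Category.assoc, Category.assoc]
      exact ((congrArg (pullback.fst _ _ ≫ ·) (hloc a)).trans (pullback.condition_assoc _)).trans
        (congrArg (pullback.snd _ _ ≫ ·) (hloc b)).symm
    · refine Scheme.Cover.hom_ext 𝒰 _ _ fun a => ?_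
      rw [Scheme.Cover.ι_glueMorphisms_assoc]
      exact hloc a

end Groth.L20.RG
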