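import Groth.Agent.L20.RG.FlatFp

/-!
# Flat points of algebras of finite type are essentially of finite presentation
-/

set_option autoImplicit false
set_option linter.style.haveILetI false
set_option backward.isDefEq.respectTransparency.types false
universe u

open TensorProduct

noncomputable section

namespace Groth.L20.RG

/-- A flat point of an algebra of finite type has a local ring which is essentially of finite presentation. -/
theorem essFp_of_flat {R S : Type u} [CommRing R] [CommRing S] [Algebra R S] [Algebra.FiniteType R S]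
    (q : Ideal S) [q.IsPrime] [Module.Flat R (Localization.AtPrime q)] :
    FlatCA.EssFinitePresentation R (Localization.AtPrime q) := by
  classical
  obtain ⟨k, φ, hφ⟩ := Algebra.FiniteType.iff_quotient_mvPolynomial''.mp (inferInstance : Algebra.FiniteType R S)
  let P := MvPolynomial (Fin k) R
  letI : Algebra P S := φ.toRingHom.toAlgebra
  haveI : IsScalarTower R P S := IsScalarTower.of_algebraMap_eq' φ.comp_algebraMap.symm
  haveI : Module.Finite P S := Module.Finite.of_surjective (Algebra.linearMap P S) hφ
  let q₀ := q.comap (algebraMap P S)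
  let L := Localization.AtPrime q₀
  have hflat : FlatCA.FlatAt R q S := by
    unfold FlatCA.FlatAt
    exact Module.Flat.of_linearEquiv ((IsLocalizedModule.linearEquiv q.primeCompl
      (LocalizedModule.mkLinearMap q.primeCompl S) (Algebra.linearMap S (Localization.AtPrime q))).restrictScalars R)
  haveI hfp : Module.FinitePresentation L (L ⊗[P] S) :=
    fp_atPrime_of_flatAt (R := R) (S := P) S q₀ ((flatAt_iff_of_surjective hφ S q).mpr hflat)
  let π : L →ₗ[L] L ⊗[P] S := LinearMap.toSpanSingleton L (L ⊗[P] S) ((1 : L) ⊗ₜ[P] (1 : S))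
  have hπ : Function.Surjective π := by
    intro z
    induction z using TensorProduct.induction_on with
    | zero => exact ⟨0, map_zero _⟩
    | add a b ha hb =>
      obtain ⟨x, rfl⟩ := ha
      obtain ⟨y, rfl⟩ := hb
      exact ⟨x + y, map_add _ _ _⟩
    | tmul l s =>
      obtain ⟨a, rfl⟩ := hφ s
      refine ⟨a • l, ?_⟩
      show (a • l) • ((1 : L) ⊗ₜ[P] (1 : S)) = l ⊗ₜ[P] φ a
      rw [TensorProduct.smul_tmul', smul_eq_mul, mul_one, TensorProduct.smul_tmul, Algebra.smul_def, mul_one]
      rfl
  have hfg : (LinearMap.ker π).FG := @Module.FinitePresentation.fg_ker L L (L ⊗[P] S) _ _ _ _ _ inferInstance hfp π hπ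
  let I := RingHom.ker (algebraMap P S)
  have hker : LinearMap.ker π = I.map (algebraMap P L) := by
    refine le_antisymm (fun l hl => ?_) (Ideal.map_le_iff_le_comap.mpr fun a ha => ?_)
    · obtain ⟨⟨a, t⟩, ht⟩ := IsLocalization.surj q₀.primeCompl l
      let ψ : L →+* Localization.AtPrime q :=
        IsLocalization.lift (M := q₀.primeCompl) (g := (algebraMap S (Localization.AtPrime q)).comp (algebraMap P S))
          fun y => IsLocalization.map_units (Localization.AtPrime q) (⟨algebraMap P S y, y.2⟩ : q.primeCompl)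
      let Ψ : L ⊗[P] S →ₗ[P] Localization.AtPrime q :=
        letI : Algebra L (Localization.AtPrime q) := ψ.toAlgebra
        TensorProduct.lift (LinearMap.mk₂ P (fun l s => ψ l * algebraMap S _ s)
          (fun a b s => by simp [add_mul]) (fun c a s => by
            rw [Algebra.smul_def, map_mul, IsLocalization.lift_eq, RingHom.comp_apply, Algebra.smul_def, mul_assoc]
            rfl)
          (fun a s s' => by simp [mul_add]) (fun c a s => by
            rw [Algebra.smul_def, map_mul, Algebra.smul_def, mul_left_comm]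
            rfl))
      have h0 : ψ l = 0 := by
        have h1 := congrArg Ψ (LinearMap.mem_ker.mp hl)
        rw [map_zero] at h1
        have h2 : Ψ (π l) = ψ l := by
          show Ψ (l • ((1 : L) ⊗ₜ[P] (1 : S))) = ψ l
          rw [TensorProduct.smul_tmul', smul_eq_mul, mul_one, TensorProduct.lift.tmul, LinearMap.mk₂_apply, map_one,
            mul_one]
        rwa [h2] at h1
      have h3 : algebraMap S (Localization.AtPrime q) (algebraMap P S a) = 0 := by
        have := congrArg ψ ht
        rw [map_mul, h0, zero_mul, IsLocalization.lift_eq, RingHom.comp_apply] at this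
        exact this.symm
      obtain ⟨⟨s, hs⟩, hsa⟩ := (IsLocalization.map_eq_zero_iff q.primeCompl _ _).mp h3
      obtain ⟨b, rfl⟩ := hφ s
      have hb : b * a ∈ I := by
        rw [RingHom.mem_ker, map_mul]; exact hsa
      have hu : IsUnit (algebraMap P L t * algebraMap P L b) :=
        (IsLocalization.map_units L t).mul (IsLocalization.map_units L (⟨b, hs⟩ : q₀.primeCompl))
      rw [← Ideal.mul_unit_mem_iff_mem _ hu, ← mul_assoc, ht, mul_comm, ← map_mul]
      exact Ideal.mem_map_of_mem _ hb
    · rw [Ideal.mem_comap, LinearMap.mem_ker]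
      show algebraMap P L a • ((1 : L) ⊗ₜ[P] (1 : S)) = 0
      rw [algebraMap_smul, ← TensorProduct.tmul_smul, Algebra.smul_def, mul_one, RingHom.mem_ker.mp ha,
        TensorProduct.tmul_zero]
  rw [hker] at hfg
  obtain ⟨T, hT, hspan⟩ :=
    (Submodule.fg_span_iff_fg_span_finset_subset (R := L) (algebraMap P L '' (I : Set P))).1 hfg
  choose! g hg using fun t (ht : t ∈ T) => hT ht
  let J : Ideal P := Ideal.span ((T.image g : Finset P) : Set P)
  have hJI : J ≤ I := Ideal.span_le.2 fun b hb => by
    obtain ⟨t, ht, rfl⟩ := Finset.mem_image.1 hb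
    exact (hg t ht).1
  have hmap : J.map (algebraMap P L) = I.map (algebraMap P L) := by
    rw [Ideal.map_span, Finset.coe_image, ← Set.image_comp,
      show (algebraMap P L ∘ g) '' (T : Set L) = T from
        (Set.image_congr fun t ht => (hg t ht).2).trans (Set.image_id _)]
    exact hspan.symm
  let S₀ := P ⧸ J
  let θ : S₀ →+* S := Ideal.Quotient.lift J (algebraMap P S) fun a ha => hJI ha
  letI : Algebra S₀ (Localization.AtPrime q) := ((algebraMap S (Localization.AtPrime q)).comp θ).toAlgebra
  haveI : IsScalarTower R S₀ (Localization.AtPrime q) := ⟨fun r c x => by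
    obtain ⟨a, rfl⟩ := Ideal.Quotient.mk_surjective c
    show algebraMap S (Localization.AtPrime q) (algebraMap P S (r • a)) * x =
      r • (algebraMap S (Localization.AtPrime q) (algebraMap P S a) * x)
    rw [Algebra.smul_def r a, map_mul, map_mul, ← IsScalarTower.algebraMap_apply R P S,
      ← IsScalarTower.algebraMap_apply R S (Localization.AtPrime q), Algebra.smul_def r, mul_assoc]⟩
  refine ⟨S₀, inferInstance, inferInstance, inferInstance, inferInstance,
    q₀.primeCompl.map (Ideal.Quotient.mk J), Algebra.FinitePresentation.quotient ⟨T.image g, rfl⟩, ?_⟩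
  have hmk : ∀ a : P, algebraMap S₀ (Localization.AtPrime q) (Ideal.Quotient.mk J a) =
      algebraMap S (Localization.AtPrime q) (algebraMap P S a) := fun a => rfl
  rw [isLocalization_iff]
  refine ⟨?_, ?_, ?_⟩
  · rintro ⟨_, t, ht, rfl⟩
    rw [hmk]
    exact IsLocalization.map_units (Localization.AtPrime q) (⟨algebraMap P S t, ht⟩ : q.primeCompl)
  · intro z
    obtain ⟨⟨s, ⟨t, ht⟩⟩, hz⟩ := IsLocalization.surj q.primeCompl z
    obtain ⟨a, rfl⟩ := hφ s
    obtain ⟨b, rfl⟩ := hφ t
    exact ⟨⟨Ideal.Quotient.mk J a, ⟨Ideal.Quotient.mk J b, b, ht, rfl⟩⟩, hz⟩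
  · intro x y hxy
    obtain ⟨a, rfl⟩ := Ideal.Quotient.mk_surjective x
    obtain ⟨b, rfl⟩ := Ideal.Quotient.mk_surjective y
    rw [hmk, hmk] at hxy
    obtain ⟨⟨s, hs⟩, hsab⟩ := (IsLocalization.eq_iff_exists q.primeCompl _).mp hxy
    obtain ⟨c, rfl⟩ := hφ s
    have hmem : c * (a - b) ∈ I := by
      rw [RingHom.mem_ker, map_mul, map_sub, mul_sub, sub_eq_zero]
      exact hsab
    have h1 : algebraMap P L (c * (a - b)) ∈ J.map (algebraMap P L) := by
      rw [hmap]; exact Ideal.mem_map_of_mem _ hmem
    obtain ⟨d, hd, hdJ⟩ := (IsLocalization.algebraMap_mem_map_algebraMap_iff q₀.primeCompl L J _).mp h1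
    refine ⟨⟨Ideal.Quotient.mk J (d * c), d * c, q₀.primeCompl.mul_mem hd hs, rfl⟩, ?_⟩
    show Ideal.Quotient.mk J (d * c) * _ = Ideal.Quotient.mk J (d * c) * _
    rw [← map_mul, ← map_mul, Ideal.Quotient.eq, ← mul_sub, mul_assoc]
    exact hdJ

end Groth.L20.RG
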