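import Groth.Agent.L20.RG.ClosedFibreAss
import Groth.Prelude.Def_FlatCA

set_option autoImplicit false
universe u

namespace Groth.L20.RG

theorem essFiniteType_of_essFp {R S : Type u} [CommRing R] [CommRing S] [Algebra R S]
    (hS : FlatCA.EssFinitePresentation R S) : Algebra.EssFiniteType R S := by
  obtain ⟨S₀, _, _, _, _, M, hfp, hloc⟩ := hS
  haveI := hfp
  haveI := hloc
  haveI : Algebra.EssFiniteType S₀ S := Algebra.EssFiniteType.of_isLocalization S M
  exact Algebra.EssFiniteType.comp R S₀ S

end Groth.L20.RG
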