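import Mathlib.RingTheory.Smooth.StandardSmoothOfFree
import Mathlib.RingTheory.Etale.Basic
import Mathlib.RingTheory.IsTensorProduct
import Mathlib.RingTheory.Polynomial.Basic
import Mathlib.RingTheory.Localization.Away.Basic

/-!
# Etale algebras lift along surjective ring maps
-/

set_option autoImplicit false
set_option linter.style.haveILetI false
set_option backward.isDefEq.respectTransparency.types false
universe u

open MvPolynomial TensorProduct

noncomputable section

namespace Groth.L20.RG

/-- An etale algebra over a quotient of `S` is the base change of an etale `S`-algebra. -/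
theorem exists_etale_lift_of_surjective {S C C' : Type u} [CommRing S] [CommRing C] [CommRing C'] [Algebra S C]
    [Algebra C C'] [Algebra S C'] [IsScalarTower S C C'] (hsurj : Function.Surjective (algebraMap S C))
    [Algebra.Etale C C'] :
    ∃ (E : Type u) (_ : CommRing E) (_ : Algebra S E) (_ : Algebra E C') (_ : IsScalarTower S E C'),
      Algebra.Etale S E ∧ Function.Surjective (algebraMap E C') ∧ Algebra.IsPushout S E C C' := by
  classical
  obtain ⟨ι, σ, hσ, hι, P, hP⟩ :=
    (Algebra.Etale.iff_isStandardSmoothOfRelativeDimension_zero.mp (inferInstance : Algebra.Etale C C')).out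
  haveI := Fintype.ofFinite σ
  choose F hF using fun j : σ => MvPolynomial.map_surjective (algebraMap S C) hsurj (P.relation j)
  let B := MvPolynomial ι S ⧸ Ideal.span (Set.range F)
  let Q := Algebra.PreSubmersivePresentation.naive (v := F) P.map P.map_inj
  let d : MvPolynomial ι S := Matrix.det (Matrix.of fun i j : σ => pderiv (P.map i) (F j))
  let b : B := Ideal.Quotient.mk _ d
  have hQ : Q.jacobian = b := by
    rw [Algebra.PreSubmersivePresentation.jacobian_eq_jacobiMatrix_det]
    have : Q.jacobiMatrix = Matrix.of fun i j : σ => pderiv (P.map i) (F j) := by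
      ext i j
      simp only [Q, Algebra.PreSubmersivePresentation.jacobiMatrix_naive, Matrix.of_apply]
    rw [this]
    rfl
  let E := Localization.Away b
  have hbu : IsUnit (algebraMap B E b) := IsLocalization.Away.algebraMap_isUnit b
  let PE : Algebra.SubmersivePresentation S E _ _ :=
    { toPreSubmersivePresentation := .comp (.localizationAway E b) Q
      jacobian_isUnit := by
        rw [Algebra.PreSubmersivePresentation.comp_jacobian_eq_jacobian_smul_jacobian,
          Algebra.PreSubmersivePresentation.localizationAway_jacobian, Algebra.smul_def, hQ]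
        exact hbu.mul hbu }
  have hdim : PE.dimension = 0 := by
    have h1 : Nat.card ι ≤ Nat.card σ := by
      have := hP
      rw [Algebra.Presentation.dimension] at this
      omega
    show Nat.card _ - Nat.card _ = 0
    rw [Nat.card_sum, Nat.card_sum]
    omega
  haveI : Algebra.Etale S E :=
    Algebra.Etale.iff_isStandardSmoothOfRelativeDimension_zero.mpr (PE.isStandardSmoothOfRelativeDimension hdim)
  -- the map to `C'`
  let π : MvPolynomial ι S →ₐ[S] C' :=
    ((aeval P.val).restrictScalars S).comp (MvPolynomial.mapAlgHom (Algebra.ofId S C))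
  have hπ : ∀ x, π x = aeval P.val (MvPolynomial.map (algebraMap S C) x) := fun x => rfl
  have hkerP : ∀ {y : MvPolynomial ι C}, aeval P.val y = 0 → y ∈ Ideal.span (Set.range P.relation) := fun {y} hy => by
    rw [P.span_range_relation_eq_ker, P.ker_eq_ker_aeval_val]
    exact hy
  have hrel : ∀ x ∈ Ideal.span (Set.range F), π x = 0 := fun x hx => by
    refine (Ideal.span_le (I := RingHom.ker π.toRingHom)).mpr ?_ hx
    rintro _ ⟨j, rfl⟩
    show π (F j) = 0
    rw [hπ, hF]
    exact P.aeval_val_relation j
  let g : B →ₐ[S] C' := Ideal.Quotient.liftₐ _ π hrel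
  have hd : IsUnit (π d) := by
    have h1 : MvPolynomial.map (algebraMap S C) d = P.jacobiMatrix.det := by
      rw [RingHom.map_det]
      congr 1
      ext i j : 1
      rw [RingHom.mapMatrix_apply, Matrix.map_apply, Matrix.of_apply,
        Algebra.PreSubmersivePresentation.jacobiMatrix_apply, ← MvPolynomial.pderiv_map, hF]
    have h2 := P.jacobian_isUnit
    rw [Algebra.PreSubmersivePresentation.jacobian_eq_jacobiMatrix_det, P.algebraMap_apply] at h2
    rw [hπ, h1]
    exact h2
  have hgb : IsUnit (g b) := hd
  let ψ : E →ₐ[S] C' := IsLocalization.Away.liftAlgHom (S := E) b hgb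
  have hψ : ∀ x, ψ (algebraMap B E x) = g x := fun x => IsLocalization.Away.lift_eq b (g := g.toRingHom) hgb x
  have hψsurj : Function.Surjective ψ := fun y => by
    obtain ⟨z, rfl⟩ := P.aeval_val_surjective y
    obtain ⟨x, rfl⟩ := MvPolynomial.map_surjective (algebraMap S C) hsurj z
    exact ⟨algebraMap B E (Ideal.Quotient.mk _ x), by rw [hψ]; rfl⟩
  have hker : ∀ x, ψ x = 0 → x ∈ (RingHom.ker (algebraMap S C)).map (algebraMap S E) := by
    intro x hx
    obtain ⟨k, r, hr⟩ := IsLocalization.Away.surj b x
    obtain ⟨a, rfl⟩ := Ideal.Quotient.mk_surjective r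
    have ha : π a = 0 := by
      have : ψ (algebraMap B E (Ideal.Quotient.mk _ a)) = 0 := by rw [← hr, map_mul, hx, zero_mul]
      rwa [hψ] at this
    have hmem := hkerP ha
    rw [show Ideal.span (Set.range P.relation) = (Ideal.span (Set.range F)).map (MvPolynomial.map (algebraMap S C)) by
      rw [Ideal.map_span, ← Set.range_comp]; exact congrArg _ (congrArg Set.range (funext fun j => (hF j).symm)),
      Ideal.mem_map_iff_of_surjective _ (MvPolynomial.map_surjective _ hsurj)] at hmem
    obtain ⟨c, hc, hca⟩ := hmem
    have hac : a - c ∈ (RingHom.ker (algebraMap S C)).map (MvPolynomial.C : S →+* MvPolynomial ι S) := by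
      rw [← MvPolynomial.ker_map, RingHom.mem_ker, map_sub, sub_eq_zero]
      exact hca.symm
    let φ : MvPolynomial ι S →+* E := (algebraMap B E).comp (Ideal.Quotient.mk _)
    have h3 : φ (a - c) ∈ (RingHom.ker (algebraMap S C)).map (algebraMap S E) := by
      have h4 := Ideal.mem_map_of_mem φ hac
      rw [Ideal.map_map] at h4
      have hφ : φ.comp MvPolynomial.C = algebraMap S E := RingHom.ext fun s => by
        show algebraMap B E (Ideal.Quotient.mk _ (MvPolynomial.C s)) = _
        rw [IsScalarTower.algebraMap_apply S B E]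
        rfl
      rwa [hφ] at h4
    have h4 : φ c = 0 := by
      show algebraMap B E (Ideal.Quotient.mk _ c) = 0
      rw [Ideal.Quotient.eq_zero_iff_mem.mpr hc, map_zero]
    rw [map_sub, h4, sub_zero] at h3
    refine (Ideal.unit_mul_mem_iff_mem _ (hbu.pow k)).mp ?_
    rw [mul_comm, hr]
    exact h3
  letI : Algebra E C' := ψ.toRingHom.toAlgebra
  haveI : IsScalarTower S E C' := IsScalarTower.of_algebraMap_eq' ψ.comp_algebraMap.symm
  refine ⟨E, inferInstance, inferInstance, inferInstance, inferInstance, inferInstance, hψsurj, ?_⟩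
  let Φ : E ⊗[S] C →ₐ[E] C' :=
    Algebra.TensorProduct.lift (Algebra.ofId E C') (IsScalarTower.toAlgHom S C C') fun _ _ => Commute.all _ _
  have hΦ1 : ∀ x, Φ (x ⊗ₜ[S] (1 : C)) = ψ x := fun x => by
    show Algebra.TensorProduct.lift _ _ _ _ = _
    rw [Algebra.TensorProduct.lift_tmul, map_one, mul_one]
    rfl
  have hone : ∀ z : E ⊗[S] C, ∃ x : E, z = x ⊗ₜ[S] (1 : C) := fun z => by
    induction z using TensorProduct.induction_on with
    | zero => exact ⟨0, (TensorProduct.zero_tmul _ _).symm⟩
    | tmul x c =>
      obtain ⟨s, rfl⟩ := hsurj c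
      exact ⟨s • x, by rw [TensorProduct.smul_tmul, Algebra.algebraMap_eq_smul_one]⟩
    | add u v hu hv =>
      obtain ⟨x, rfl⟩ := hu
      obtain ⟨y, rfl⟩ := hv
      exact ⟨x + y, (TensorProduct.add_tmul _ _ _).symm⟩
  have hbij : Function.Bijective Φ := by
    refine ⟨(injective_iff_map_eq_zero _).mpr fun z hz => ?_, fun y => ?_⟩
    · obtain ⟨x, rfl⟩ := hone z
      rw [hΦ1] at hz
      have hle : (RingHom.ker (algebraMap S C)).map (algebraMap S E) ≤
          RingHom.ker (Algebra.TensorProduct.includeLeftRingHom (A := E) (B := C) (R := S)) := by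
        refine Ideal.map_le_iff_le_comap.mpr fun s hs => ?_
        show algebraMap S E s ⊗ₜ[S] (1 : C) = 0
        rw [Algebra.algebraMap_eq_smul_one, TensorProduct.smul_tmul, ← Algebra.algebraMap_eq_smul_one,
          RingHom.mem_ker.mp hs, TensorProduct.tmul_zero]
      exact hle (hker x hz)
    · obtain ⟨x, rfl⟩ := hψsurj y
      exact ⟨x ⊗ₜ 1, hΦ1 x⟩
  exact ⟨IsBaseChange.of_equiv (AlgEquiv.ofBijective Φ hbij).toLinearEquiv fun c => by
    show Φ ((1 : E) ⊗ₜ[S] c) = _
    rw [Algebra.TensorProduct.lift_tmul, map_one, one_mul]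
    rfl⟩

end Groth.L20.RG
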