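import Groth.Prelude.Def_FlatCA
import Mathlib.RingTheory.Smooth.Fiber
import Mathlib.RingTheory.IsTensorProduct
import Mathlib.RingTheory.SurjectiveOnStalks
import Mathlib.RingTheory.Etale.Basic

/-!
# Points of pushouts along maps with trivial residue field extension
-/

set_option autoImplicit false
set_option linter.style.haveILetI false
universe u

open TensorProduct

noncomputable section

namespace Groth.L20.RG

attribute [local instance] Algebra.TensorProduct.rightAlgebra

/-- `p'` lies over `p` with trivial residue field extension. -/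
def TrivRes (R : Type u) {R' : Type u} [CommRing R] [CommRing R'] [Algebra R R'] (p : Ideal R) (p' : Ideal R')
    [p.IsPrime] [p'.IsPrime] : Prop :=
  ∃ h : p'.LiesOver p, Function.Bijective (Ideal.ResidueField.mapₐ p p' (Algebra.ofId R R') h.over)

theorem isEtaleNhd_iff {R R' : Type u} [CommRing R] [CommRing R'] [Algebra R R'] (p : Ideal R) (p' : Ideal R')
    [p.IsPrime] [p'.IsPrime] : FlatCA.IsEtaleNhd R R' p p' ↔ Algebra.Etale R R' ∧ TrivRes R p p' := Iff.rfl

theorem TrivRes.liesOver {R R' : Type u} [CommRing R] [CommRing R'] [Algebra R R'] {p : Ideal R} {p' : Ideal R'}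
    [p.IsPrime] [p'.IsPrime] (h : TrivRes R p p') : p'.LiesOver p := h.1

theorem TrivRes.trans {R R' R'' : Type u} [CommRing R] [CommRing R'] [CommRing R''] [Algebra R R'] [Algebra R' R'']
    [Algebra R R''] [IsScalarTower R R' R''] {p : Ideal R} {p' : Ideal R'} {p'' : Ideal R''}
    [p.IsPrime] [p'.IsPrime] [p''.IsPrime] (h : TrivRes R p p') (h' : TrivRes R' p' p'') : TrivRes R p p'' := by
  obtain ⟨h1, hb⟩ := h
  obtain ⟨h2, hb'⟩ := h'
  refine ⟨Ideal.LiesOver.trans p'' p' p, ?_⟩
  convert hb'.comp hb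
  rw [← @AlgHom.coe_restrictScalars' R R', ← AlgHom.coe_comp]
  congr 1
  ext

theorem isEtaleNhd_trans {R R' R'' : Type u} [CommRing R] [CommRing R'] [CommRing R''] [Algebra R R'] [Algebra R' R'']
    [Algebra R R''] [IsScalarTower R R' R''] {p : Ideal R} {p' : Ideal R'} {p'' : Ideal R''}
    [p.IsPrime] [p'.IsPrime] [p''.IsPrime] (h : FlatCA.IsEtaleNhd R R' p p') (h' : FlatCA.IsEtaleNhd R' R'' p' p'') :
    FlatCA.IsEtaleNhd R R'' p p'' := by
  haveI := h.1
  haveI := h'.1
  exact ⟨Algebra.Etale.comp R R' R'', TrivRes.trans h.2 h'.2⟩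

/-- A localisation does not change residue fields. -/
theorem isEtaleNhd_away {R : Type u} [CommRing R] {f : R} (p : Ideal R) [p.IsPrime] (hf : f ∉ p)
    (p' : Ideal (Localization.Away f)) [p'.IsPrime] [p'.LiesOver p] :
    FlatCA.IsEtaleNhd R (Localization.Away f) p p' :=
  ⟨Algebra.Etale.of_isLocalizationAway f, inferInstance,
    (RingHom.surjectiveOnStalks_of_isLocalization (Submonoid.powers f) _).residueFieldMap_bijective _ _ _⟩

theorem exists_prime_away {R : Type u} [CommRing R] {f : R} (p : Ideal R) [p.IsPrime] (hf : f ∉ p) :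
    ∃ p' : Ideal (Localization.Away f), p'.IsPrime ∧ p'.LiesOver p := by
  have hd : Disjoint (Submonoid.powers f : Set R) ↑p := (Ideal.disjoint_powers_iff_notMem_of_isPrime f).mpr hf
  exact ⟨_, IsLocalization.isPrime_of_isPrime_disjoint (Submonoid.powers f) _ _ ‹_› hd,
    IsLocalization.liesOver_map_of_isPrime_disjoint (Submonoid.powers f) _ hd⟩

section Pushout

variable {A B D : Type u} [CommRing A] [CommRing B] [CommRing D] [Algebra A B] [Algebra A D]

/-- The unique point of a pushout over a point with trivial residue field extension. -/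
theorem exists_point_pushout (a : Ideal A) [a.IsPrime] (q : Ideal B) [q.IsPrime] [q.LiesOver a] (y : Ideal D)
    [y.IsPrime] (hy : TrivRes A a y) :
    ∃ (Q : Ideal (D ⊗[A] B)) (_ : Q.IsPrime), Q.LiesOver y ∧ TrivRes B q Q ∧
      ∀ (Q' : Ideal (D ⊗[A] B)) [Q'.IsPrime], Q'.LiesOver y → Q'.LiesOver q → Q' = Q := by
  obtain ⟨hya, hbij⟩ := hy
  let j : a.ResidueField →ₐ[A] y.ResidueField := Ideal.ResidueField.mapₐ a y (Algebra.ofId A D) hya.over
  let e : a.ResidueField ≃ₐ[A] y.ResidueField := AlgEquiv.ofBijective j hbij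
  let k : a.ResidueField →ₐ[A] q.ResidueField :=
    Ideal.ResidueField.mapₐ a q (Algebra.ofId A B) (Ideal.LiesOver.over (P := q) (p := a))
  let φ : D ⊗[A] B →ₐ[A] q.ResidueField :=
    Algebra.TensorProduct.lift (k.comp (e.symm.toAlgHom.comp (IsScalarTower.toAlgHom A D y.ResidueField)))
      (IsScalarTower.toAlgHom A B q.ResidueField) fun _ _ => Commute.all _ _
  have hφl : ∀ d : D, φ (d ⊗ₜ 1) = k (e.symm (algebraMap D y.ResidueField d)) := fun d => by simp [φ]
  have hφr : ∀ b : B, φ (1 ⊗ₜ b) = algebraMap B q.ResidueField b := fun b => by simp [φ]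
  let Q : Ideal (D ⊗[A] B) := RingHom.ker φ
  haveI hQ : Q.IsPrime := RingHom.ker_isPrime φ
  haveI hQy : Q.LiesOver y := ⟨Ideal.ext fun d => by
    show d ∈ y ↔ φ (algebraMap D (D ⊗[A] B) d) = 0
    rw [Algebra.TensorProduct.algebraMap_apply, Algebra.algebraMap_self, RingHom.id_apply, hφl,
      map_eq_zero_iff k k.toRingHom.injective, EmbeddingLike.map_eq_zero_iff, Ideal.algebraMap_residueField_eq_zero]⟩
  haveI hQq : Q.LiesOver q := ⟨Ideal.ext fun b => by
    show b ∈ q ↔ φ (algebraMap B (D ⊗[A] B) b) = 0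
    rw [Algebra.TensorProduct.right_algebraMap_apply, hφr, Ideal.algebraMap_residueField_eq_zero]⟩
  -- the residue field of `Q` maps back to the one of `q`
  let ψ : Q.ResidueField →+* q.ResidueField :=
    Ideal.ResidueField.lift Q φ.toRingHom le_rfl fun x hx => isUnit_iff_ne_zero.mpr fun h0 => hx h0
  refine ⟨Q, hQ, hQy, ⟨hQq, ⟨(Ideal.ResidueField.mapₐ q Q (Algebra.ofId B (D ⊗[A] B)) hQq.over).toRingHom.injective,
    fun x => ⟨ψ x, ?_⟩⟩⟩, fun Q' _ h1 h2 => ?_⟩
  · refine ψ.injective ?_
    have : ψ.comp (Ideal.ResidueField.mapₐ q Q (Algebra.ofId B (D ⊗[A] B)) hQq.over).toRingHom = RingHom.id _ := by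
      refine Ideal.ResidueField.ringHom_ext ?_
      ext b
      show ψ (Ideal.ResidueField.mapₐ q Q (Algebra.ofId B (D ⊗[A] B)) hQq.over (algebraMap B q.ResidueField b)) = _
      rw [AlgHom.commutes, IsScalarTower.algebraMap_apply B (D ⊗[A] B) Q.ResidueField]
      refine (Ideal.ResidueField.lift_algebraMap _ _ _ _ _).trans ?_
      exact hφr b
    exact congrFun (congrArg DFunLike.coe this) (ψ x)
  · haveI := h1
    haveI := h2
    haveI : Q'.LiesOver a := by
      refine ⟨Ideal.ext fun c => ?_⟩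
      rw [Ideal.mem_of_liesOver q a c, Ideal.mem_of_liesOver Q' q, Ideal.mem_comap, ← IsScalarTower.algebraMap_apply]
    let ι : q.ResidueField →ₐ[B] Q'.ResidueField :=
      Ideal.ResidueField.mapₐ q Q' (Algebra.ofId B (D ⊗[A] B)) h2.over
    let ιy : y.ResidueField →ₐ[D] Q'.ResidueField :=
      Ideal.ResidueField.mapₐ y Q' (Algebra.ofId D (D ⊗[A] B)) h1.over
    have hk : ∀ c, ι (k c) = ιy (e c) := by
      have : ι.toRingHom.comp k.toRingHom = ιy.toRingHom.comp e.toAlgHom.toRingHom := by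
        refine Ideal.ResidueField.ringHom_ext ?_
        ext c
        simp [← IsScalarTower.algebraMap_apply, ι, ιy, k, e, j]
      exact fun c => congrFun (congrArg DFunLike.coe this) c
    have key : ∀ x : D ⊗[A] B, algebraMap (D ⊗[A] B) Q'.ResidueField x = ι (φ x) := fun x => by
      induction x using TensorProduct.induction_on with
      | zero => simp
      | add x y hx hy => simp only [map_add, hx, hy]
      | tmul d b =>
        rw [show (d ⊗ₜ[A] b : D ⊗[A] B) = (d ⊗ₜ 1) * (1 ⊗ₜ b) by simp, map_mul, map_mul, map_mul, hφl, hφr, hk,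
          e.apply_symm_apply, ι.commutes, ιy.commutes]
        congr 1
    ext x
    rw [← Ideal.algebraMap_residueField_eq_zero (I := Q'), key, map_eq_zero_iff ι ι.toRingHom.injective]
    rfl

theorem etale_pushout [Algebra.Etale A D] : Algebra.Etale B (D ⊗[A] B) :=
  haveI : Algebra.IsPushout A B D (D ⊗[A] B) := inferInstance
  Algebra.Etale.of_equiv (Algebra.IsPushout.equiv A B D (D ⊗[A] B))

/-- The pushout of an elementary étale neighbourhood. -/
theorem exists_nbhd_pushout (a : Ideal A) [a.IsPrime] (q : Ideal B) [q.IsPrime] [q.LiesOver a] (y : Ideal D)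
    [y.IsPrime] (hy : FlatCA.IsEtaleNhd A D a y) :
    ∃ (Q : Ideal (D ⊗[A] B)) (_ : Q.IsPrime), Q.LiesOver y ∧ FlatCA.IsEtaleNhd B (D ⊗[A] B) q Q ∧
      ∀ (Q' : Ideal (D ⊗[A] B)) [Q'.IsPrime], Q'.LiesOver y → Q'.LiesOver q → Q' = Q := by
  haveI := hy.1
  obtain ⟨Q, hQ, h1, h2, h3⟩ := exists_point_pushout a q y hy.2
  exact ⟨Q, hQ, h1, ⟨etale_pushout, h2⟩, h3⟩

end Pushout

end Groth.L20.RG
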