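import Groth.Agent.L20.RG.EtaleLift
import Groth.Agent.L20.RG.Nbhd
import Mathlib.RingTheory.Ideal.IdempotentFG

/-!
# Lifting an etale algebra over a closed subscheme compatibly with an etale neighbourhood of the base
-/

set_option autoImplicit false
set_option linter.style.haveILetI false
set_option backward.isDefEq.respectTransparency.types false
universe u

open TensorProduct

noncomputable section

namespace Groth.L20.RG

/-- A surjection with the expected kernel is a pushout of a surjection. -/
theorem isPushout_of_surjective {S C S' C' : Type u} [CommRing S] [CommRing C] [CommRing S'] [CommRing C']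
    [Algebra S C] [Algebra S S'] [Algebra S' C'] [Algebra C C'] [Algebra S C'] [IsScalarTower S S' C']
    [IsScalarTower S C C'] (hC : Function.Surjective (algebraMap S C)) (hC' : Function.Surjective (algebraMap S' C'))
    (hker : RingHom.ker (algebraMap S' C') ≤ (RingHom.ker (algebraMap S C)).map (algebraMap S S')) :
    Algebra.IsPushout S S' C C' := by
  let Φ : S' ⊗[S] C →ₐ[S'] C' :=
    Algebra.TensorProduct.lift (Algebra.ofId S' C') (IsScalarTower.toAlgHom S C C') fun _ _ => Commute.all _ _
  have hΦ1 : ∀ x, Φ (x ⊗ₜ[S] (1 : C)) = algebraMap S' C' x := fun x => by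
    show Algebra.TensorProduct.lift _ _ _ _ = _
    rw [Algebra.TensorProduct.lift_tmul, map_one, mul_one]
    rfl
  have hone : ∀ z : S' ⊗[S] C, ∃ x : S', z = x ⊗ₜ[S] (1 : C) := fun z => by
    induction z using TensorProduct.induction_on with
    | zero => exact ⟨0, (TensorProduct.zero_tmul _ _).symm⟩
    | tmul x c =>
      obtain ⟨s, rfl⟩ := hC c
      exact ⟨s • x, by rw [TensorProduct.smul_tmul, Algebra.algebraMap_eq_smul_one]⟩
    | add u v hu hv =>
      obtain ⟨x, rfl⟩ := hu
      obtain ⟨y, rfl⟩ := hv
      exact ⟨x + y, (TensorProduct.add_tmul _ _ _).symm⟩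
  have hle : (RingHom.ker (algebraMap S C)).map (algebraMap S S') ≤
      RingHom.ker (Algebra.TensorProduct.includeLeftRingHom (A := S') (B := C) (R := S)) := by
    refine Ideal.map_le_iff_le_comap.mpr fun s hs => ?_
    show algebraMap S S' s ⊗ₜ[S] (1 : C) = 0
    rw [Algebra.algebraMap_eq_smul_one, TensorProduct.smul_tmul, ← Algebra.algebraMap_eq_smul_one,
      RingHom.mem_ker.mp hs, TensorProduct.tmul_zero]
  have hbij : Function.Bijective Φ := by
    refine ⟨(injective_iff_map_eq_zero _).mpr fun z hz => ?_, fun y => ?_⟩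
    · obtain ⟨x, rfl⟩ := hone z
      rw [hΦ1] at hz
      exact hle (hker hz)
    · obtain ⟨x, rfl⟩ := hC' y
      exact ⟨x ⊗ₜ 1, hΦ1 x⟩
  exact ⟨IsBaseChange.of_equiv (AlgEquiv.ofBijective Φ hbij).toLinearEquiv fun c => by
    show Φ ((1 : S') ⊗ₜ[S] c) = _
    rw [Algebra.TensorProduct.lift_tmul, map_one, one_mul]
    rfl⟩

/-- An etale algebra over a quotient of `S`, living over an etale algebra over the base, lifts to an etale
`S`-algebra over the latter. -/
theorem exists_etale_piece {R S C C' R' : Type u} [CommRing R] [CommRing S] [CommRing C] [CommRing C'] [CommRing R']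
    [Algebra R S] [Algebra S C] [Algebra R C] [IsScalarTower R S C] [Algebra C C'] [Algebra S C'] [IsScalarTower S C C']
    [Algebra R R'] [Algebra.Etale R R'] [Algebra R' C'] [Algebra R C'] [IsScalarTower R R' C'] [IsScalarTower R C C']
    (hsurj : Function.Surjective (algebraMap S C)) [Algebra.Etale C C'] :
    ∃ (S' : Type u) (_ : CommRing S') (_ : Algebra S S') (_ : Algebra R' S') (_ : Algebra R S')
      (_ : IsScalarTower R S S') (_ : IsScalarTower R R' S') (_ : Algebra S' C') (_ : IsScalarTower S S' C')
      (_ : IsScalarTower R' S' C'),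
      Algebra.Etale S S' ∧ Function.Surjective (algebraMap S' C') ∧ Algebra.IsPushout S S' C C' := by
  obtain ⟨E, _, _, _, _, hEt, hEsurj, -⟩ := exists_etale_lift_of_surjective (C' := C') hsurj
  haveI := hEt
  letI : Algebra R E := ((algebraMap S E).comp (algebraMap R S)).toAlgebra
  haveI : IsScalarTower R S E := IsScalarTower.of_algebraMap_eq' rfl
  haveI : IsScalarTower R E C' := IsScalarTower.of_algebraMap_eq fun r => by
    rw [IsScalarTower.algebraMap_apply R S E, ← IsScalarTower.algebraMap_apply S E C',
      IsScalarTower.algebraMap_apply S C C', ← IsScalarTower.algebraMap_apply R S C,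
      ← IsScalarTower.algebraMap_apply R C C']
  let E' := R' ⊗[R] E
  letI : Algebra E E' := Algebra.TensorProduct.rightAlgebra
  haveI : Algebra.Etale E E' := etale_pushout (A := R) (B := E) (D := R')
  letI : Algebra S E' := ((algebraMap E E').comp (algebraMap S E)).toAlgebra
  haveI : IsScalarTower S E E' := IsScalarTower.of_algebraMap_eq' rfl
  haveI : Algebra.Etale S E' := Algebra.Etale.comp S E E'
  haveI : IsScalarTower R S E' := IsScalarTower.of_algebraMap_eq fun r => by
    rw [IsScalarTower.algebraMap_apply S E E', ← IsScalarTower.algebraMap_apply R S E,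
      ← IsScalarTower.algebraMap_apply R E E']
  let χ : E' →ₐ[R'] C' :=
    Algebra.TensorProduct.lift (Algebra.ofId R' C') (IsScalarTower.toAlgHom R E C') fun _ _ => Commute.all _ _
  have hχE : ∀ x, χ (algebraMap E E' x) = algebraMap E C' x := fun x => by
    show Algebra.TensorProduct.lift _ _ _ ((1 : R') ⊗ₜ[R] x) = _
    rw [Algebra.TensorProduct.lift_tmul, map_one, one_mul]
    rfl
  have hχs : Function.Surjective χ := fun y => by
    obtain ⟨x, rfl⟩ := hEsurj y
    exact ⟨_, hχE x⟩
  letI : Algebra E' C' := χ.toRingHom.toAlgebra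
  haveI : IsScalarTower S E' C' := IsScalarTower.of_algebraMap_eq fun s => by
    show _ = χ (algebraMap E E' (algebraMap S E s))
    rw [hχE, ← IsScalarTower.algebraMap_apply]
  -- the closed subscheme of `E'` over `C` and its open and closed piece
  let W := E' ⊗[S] C
  letI : Algebra C W := Algebra.TensorProduct.rightAlgebra
  haveI : Algebra.Etale C W := etale_pushout (A := S) (B := C) (D := E')
  let θ : W →ₐ[E'] C' :=
    Algebra.TensorProduct.lift (Algebra.ofId E' C') (IsScalarTower.toAlgHom S C C') fun _ _ => Commute.all _ _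
  have hθ1 : ∀ x, θ (x ⊗ₜ[S] (1 : C)) = χ x := fun x => by
    show Algebra.TensorProduct.lift _ _ _ _ = _
    rw [Algebra.TensorProduct.lift_tmul, map_one, mul_one]
    rfl
  have hone : ∀ w : W, ∃ x : E', w = x ⊗ₜ[S] (1 : C) := fun w => by
    induction w using TensorProduct.induction_on with
    | zero => exact ⟨0, (TensorProduct.zero_tmul _ _).symm⟩
    | tmul x c =>
      obtain ⟨s, rfl⟩ := hsurj c
      exact ⟨s • x, by rw [TensorProduct.smul_tmul, Algebra.algebraMap_eq_smul_one]⟩
    | add u v hu hv =>
      obtain ⟨x, rfl⟩ := hu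
      obtain ⟨y, rfl⟩ := hv
      exact ⟨x + y, (TensorProduct.add_tmul _ _ _).symm⟩
  have hθs : Function.Surjective θ := fun y => by
    obtain ⟨x, rfl⟩ := hχs y
    exact ⟨_, hθ1 x⟩
  letI : Algebra W C' := θ.toRingHom.toAlgebra
  haveI : IsScalarTower C W C' := IsScalarTower.of_algebraMap_eq fun c => by
    show _ = Algebra.TensorProduct.lift _ _ _ ((1 : E') ⊗ₜ[S] c)
    rw [Algebra.TensorProduct.lift_tmul, map_one, one_mul]
    rfl
  haveI : Algebra.Etale W C' := Algebra.Etale.of_restrictScalars (R := C) (A := W) (B := C')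
  have hid : IsIdempotentElem (RingHom.ker (algebraMap W C')) :=
    (Algebra.FormallyEtale.iff_of_surjective hθs).mp inferInstance
  have hfg : (RingHom.ker (algebraMap W C')).FG :=
    Algebra.FinitePresentation.ker_fG_of_surjective (Algebra.ofId W C') hθs
  obtain ⟨ε, hε, hker⟩ := (Ideal.isIdempotentElem_iff_of_fg _ hfg).mp hid
  obtain ⟨d, hd⟩ := hone (1 - ε)
  have hεk : θ ε = 0 := by
    have : ε ∈ RingHom.ker (algebraMap W C') := hker.ge (Ideal.mem_span_singleton_self ε)
    exact this
  have hχd : χ d = 1 := by rw [← hθ1, ← hd, map_sub, map_one, hεk, sub_zero]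
  let S' := Localization.Away d
  haveI : Algebra.Etale E' S' := Algebra.Etale.of_isLocalizationAway d
  haveI : Algebra.Etale S S' := Algebra.Etale.comp S E' S'
  have hu : IsUnit (χ d) := by rw [hχd]; exact isUnit_one
  letI : Algebra S' C' := (IsLocalization.Away.lift (S := S') d (g := χ.toRingHom) hu).toAlgebra
  haveI : IsScalarTower E' S' C' :=
    IsScalarTower.of_algebraMap_eq fun x => (IsLocalization.Away.lift_eq d (g := χ.toRingHom) hu x).symm
  haveI : IsScalarTower S S' C' := IsScalarTower.of_algebraMap_eq fun s => by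
    rw [IsScalarTower.algebraMap_apply S E' C', IsScalarTower.algebraMap_apply E' S' C',
      ← IsScalarTower.algebraMap_apply S E' S']
  haveI : IsScalarTower R' S' C' := IsScalarTower.of_algebraMap_eq fun r => by
    rw [IsScalarTower.algebraMap_apply R' E' S', ← IsScalarTower.algebraMap_apply E' S' C']
    exact (χ.commutes r).symm
  haveI : IsScalarTower R S S' := IsScalarTower.of_algebraMap_eq fun r => by
    rw [IsScalarTower.algebraMap_apply S E' S', ← IsScalarTower.algebraMap_apply R S E',
      ← IsScalarTower.algebraMap_apply R E' S']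
  haveI : IsScalarTower R R' S' := IsScalarTower.of_algebraMap_eq fun r => by
    rw [IsScalarTower.algebraMap_apply R' E' S', ← IsScalarTower.algebraMap_apply R R' E',
      ← IsScalarTower.algebraMap_apply R E' S']
  have hsurj' : Function.Surjective (algebraMap S' C') := fun y => by
    obtain ⟨x, rfl⟩ := hχs y
    exact ⟨algebraMap E' S' x, (IsScalarTower.algebraMap_apply E' S' C' x).symm⟩
  refine ⟨S', inferInstance, inferInstance, inferInstance, inferInstance, inferInstance, inferInstance, inferInstance,
    inferInstance, inferInstance, inferInstance, hsurj', isPushout_of_surjective hsurj hsurj' fun x hx => ?_⟩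
  obtain ⟨k, r, hr⟩ := IsLocalization.Away.surj d x
  have hr0 : χ r = 0 := by
    have h1 : algebraMap S' C' (algebraMap E' S' r) = 0 := by rw [← hr, map_mul, RingHom.mem_ker.mp hx, zero_mul]
    rwa [← IsScalarTower.algebraMap_apply] at h1
  have hmem : (r ⊗ₜ[S] (1 : C) : W) ∈ Ideal.span {ε} :=
    hker.le (show θ (r ⊗ₜ[S] (1 : C)) = 0 by rw [hθ1, hr0])
  obtain ⟨w, hw⟩ := Ideal.mem_span_singleton'.mp hmem
  have hdr : ((d * r) ⊗ₜ[S] (1 : C) : W) = 0 := by
    rw [show ((d * r) ⊗ₜ[S] (1 : C) : W) = (d ⊗ₜ 1) * (r ⊗ₜ 1) by rw [Algebra.TensorProduct.tmul_mul_tmul, mul_one],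
      ← hd, ← hw, mul_comm w, ← mul_assoc, sub_mul, one_mul, hε.eq, sub_self, zero_mul]
  have hI : d * r ∈ (RingHom.ker (algebraMap S C)).map (algebraMap S E') := by
    let I := RingHom.ker (algebraMap S C)
    let j : C →ₐ[S] E' ⧸ I.map (algebraMap S E') :=
      (Ideal.Quotient.liftₐ I (Algebra.ofId S (E' ⧸ I.map (algebraMap S E'))) fun s hs =>
        (Ideal.Quotient.eq_zero_iff_mem.mpr (Ideal.mem_map_of_mem _ hs) :
          Ideal.Quotient.mk (I.map (algebraMap S E')) (algebraMap S E' s) = 0)).comp
        (Ideal.quotientKerAlgEquivOfSurjective (f := Algebra.ofId S C) hsurj).symm.toAlgHom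
    let Ψ : W →ₐ[E'] E' ⧸ I.map (algebraMap S E') :=
      Algebra.TensorProduct.lift (Algebra.ofId E' _) j fun _ _ => Commute.all _ _
    have h0 := congrArg Ψ hdr
    rw [map_zero] at h0
    have h2 : Ψ ((d * r) ⊗ₜ[S] (1 : C)) = Ideal.Quotient.mk _ (d * r) := by
      show Algebra.TensorProduct.lift _ _ _ _ = _
      rw [Algebra.TensorProduct.lift_tmul, map_one, mul_one]
      rfl
    exact Ideal.Quotient.eq_zero_iff_mem.mp (h2.symm.trans h0)
  have h3 := Ideal.mem_map_of_mem (algebraMap E' S') hI
  rw [Ideal.map_map, ← IsScalarTower.algebraMap_eq, map_mul, ← hr] at h3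
  have hdu : IsUnit (algebraMap E' S' d) := IsLocalization.Away.algebraMap_isUnit d
  rw [Ideal.unit_mul_mem_iff_mem _ hdu, mul_comm, Ideal.unit_mul_mem_iff_mem _ (hdu.pow k)] at h3
  exact h3

end Groth.L20.RG
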