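import Groth.Agent.S9350
import Groth.Agent.L23.SpaceTrdeg
import Groth.Agent.L20.FibreModuleOpen
import Groth.Prelude.Def_FlatFun

/-!
# The non-flat locus under an étale morphism onto the source, after a base change
-/

set_option autoImplicit false
set_option linter.style.haveILetI false
set_option backward.isDefEq.respectTransparency.types false
universe u

open CategoryTheory CategoryTheory.Limits AlgebraicGeometry

noncomputable section

namespace Groth.L20.RG

variable {X X' S : Scheme.{u}} (f : X ⟶ S) (h : X' ⟶ X)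

/-- The base change of `h` to `T`, from `X'_T` to `X_T`. -/
def xtHom (T : Over S) : PicF.XT (h ≫ f) T ⟶ PicF.XT f T :=
  pullback.lift (pullback.fst (h ≫ f) T.hom ≫ h) (pullback.snd (h ≫ f) T.hom)
    (by rw [Category.assoc]; exact pullback.condition)

@[simp]
theorem xtHom_fst (T : Over S) :
    xtHom f h T ≫ pullback.fst f T.hom = pullback.fst (h ≫ f) T.hom ≫ h := pullback.lift_fst _ _ _

@[simp]
theorem xtHom_proj (T : Over S) : xtHom f h T ≫ PicF.XTproj f T = PicF.XTproj (h ≫ f) T := pullback.lift_snd _ _ _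

theorem isPullback_xtHom (T : Over S) :
    IsPullback (xtHom f h T) (pullback.fst (h ≫ f) T.hom) (pullback.fst f T.hom) h :=
  IsPullback.of_right (h₁₂ := pullback.snd f T.hom) (h₂₂ := f) (v₁₃ := T.hom)
    (by
      rw [show xtHom f h T ≫ pullback.snd f T.hom = pullback.snd (h ≫ f) T.hom from xtHom_proj f h T]
      exact (IsPullback.of_hasPullback (h ≫ f) T.hom).flip)
    (xtHom_fst f h T) (IsPullback.of_hasPullback f T.hom).flip

instance etale_xtHom [Etale h] (T : Over S) : Etale (xtHom f h T) :=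
  MorphismProperty.of_isPullback (P := @Etale) (isPullback_xtHom f h T).flip inferInstance

/-- The two base changes of the module agree. -/
def xtIso (F : X.Modules) (T : Over S) :
    (Scheme.Modules.pullback (xtHom f h T)).obj (FGA.ET f F T) ≅
      FGA.ET (h ≫ f) ((Scheme.Modules.pullback h).obj F) T :=
  (Scheme.Modules.pullbackComp (xtHom f h T) (pullback.fst f T.hom)).app F ≪≫
    (Scheme.Modules.pullbackCongr (xtHom_fst f h T)).app F ≪≫
    ((Scheme.Modules.pullbackComp (pullback.fst (h ≫ f) T.hom) h).app F).symm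

theorem isFlatOverAt_xt_iff [Etale h] (F : X.Modules) [Coh.IsQCoh F] (T : Over S) (x : PicF.XT (h ≫ f) T) :
    FlatMod.IsFlatOverAt (PicF.XTproj (h ≫ f) T) (FGA.ET (h ≫ f) ((Scheme.Modules.pullback h).obj F) T) x ↔
      FlatMod.IsFlatOverAt (PicF.XTproj f T) (FGA.ET f F T) (xtHom f h T x) := by
  refine Iff.trans ⟨Groth.L20.FibreModule.isFlatOverAt_congr _ (xtIso f h F T).symm,
    Groth.L20.FibreModule.isFlatOverAt_congr _ (xtIso f h F T)⟩ ?_
  rw [← xtHom_proj f h T]
  exact (Groth.Agent.S9350.result (xtHom f h T) (PicF.XTproj f T) _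
    (Groth.L16.AffineBC.isQCoh_pullback (pullback.fst f T.hom) F) x
    (Flat.stalkMap (xtHom f h T) x)).symm

theorem resTrdeg_xt [Etale h] (T : Over S) (x : PicF.XT (h ≫ f) T) :
    Dual3.resTrdeg (PicF.XTproj (h ≫ f) T) x = Dual3.resTrdeg (PicF.XTproj f T) (xtHom f h T x) := by
  rw [← Groth.L23.Trdeg.resTrdeg_congr (xtHom_proj f h T) x, Groth.L23.Trdeg.resTrdeg_comp,
    Groth.L23.Trdeg.resTrdeg_eq_zero_of_locallyQuasiFinite (xtHom f h T) x, add_zero]

end Groth.L20.RG
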