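import Groth.Agent.L20.RG.DevOps
import Mathlib.RingTheory.Smooth.StandardSmoothOfFree
import Mathlib.RingTheory.RingHom.StandardSmooth

/-!
# Prepending a step over a neighbourhood of its smooth algebra
-/

set_option autoImplicit false
set_option linter.style.haveILetI false
set_option backward.isDefEq.respectTransparency.types false
universe u

open TensorProduct

noncomputable section

namespace Groth.L20.RG

variable {R : Type u} [CommRing R] {p : Ideal R} [p.IsPrime]

theorem Dev.congr {S : Type u} [CommRing S] [Algebra R S] {N N₁ : Type u} [AddCommGroup N] [Module S N]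
    [AddCommGroup N₁] [Module S N₁] {q : Ideal S} (e : N ≃ₗ[S] N₁) (h : Dev R p S N q) : Dev R p S N₁ q := by
  cases h with
  | last st hs => exact Dev.last { st with iso := e.symm ≪≫ₗ st.iso } hs
  | cons st hd => exact Dev.cons { st with iso := e.symm ≪≫ₗ st.iso } hd

/-- Change of base change models. -/
theorem Dev.of_isBaseChange {R' S S' N : Type u} [CommRing R'] [CommRing S] [CommRing S'] [Algebra R' S'] [Algebra S S']
    [AddCommGroup N] [Module S N] {p' : Ideal R'} [p'.IsPrime] {q' : Ideal S'}
    {N₁ N₂ : Type u} [AddCommGroup N₁] [Module S' N₁] [Module S N₁] [IsScalarTower S S' N₁]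
    [AddCommGroup N₂] [Module S' N₂] [Module S N₂] [IsScalarTower S S' N₂]
    {f₁ : N →ₗ[S] N₁} {f₂ : N →ₗ[S] N₂} (h₁ : IsBaseChange S' f₁) (h₂ : IsBaseChange S' f₂)
    (h : Dev R' p' S' N₁ q') : Dev R' p' S' N₂ q' :=
  h.congr (h₁.equiv.symm ≪≫ₗ h₂.equiv)

/-- The natural map of extended modules is a base change. -/
theorem exists_isBaseChange_tensor (D T T' Q : Type u) [CommRing D] [CommRing T] [CommRing T'] [Algebra D T]
    [Algebra D T'] [Algebra T T'] [IsScalarTower D T T'] [AddCommGroup Q] [Module D Q] :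
    ∃ g : T ⊗[D] Q →ₗ[T] T' ⊗[D] Q, IsBaseChange T' g := by
  refine ⟨TensorProduct.AlgebraTensorModule.map (Algebra.linearMap T T') LinearMap.id, ?_⟩
  refine IsBaseChange.of_comp (TensorProduct.isBaseChange D Q T) ?_
  have : ((TensorProduct.AlgebraTensorModule.map (Algebra.linearMap T T') (LinearMap.id : Q →ₗ[D] Q) :
      T ⊗[D] Q →ₗ[T] T' ⊗[D] Q).restrictScalars D) ∘ₗ TensorProduct.mk D T Q 1 = TensorProduct.mk D T' Q 1 := by
    ext q
    simp
  rw [this]
  exact TensorProduct.isBaseChange D Q T'

/-- The generic point of the fibre pulls back to the generic point. -/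
theorem comap_map_of_etale {B R' B' : Type u} [CommRing B] [Algebra R B] [CommRing R'] [Algebra R R']
    [Algebra.QuasiFinite R R'] [CommRing B'] [Algebra R' B'] [Algebra B B'] [Module.Flat B B'] [Algebra R B']
    [IsScalarTower R R' B'] [IsScalarTower R B B'] (p' : Ideal R') [p'.IsPrime] [p'.LiesOver p]
    [(p.map (algebraMap R B)).IsPrime] [(p'.map (algebraMap R' B')).IsPrime]
    (hB' : (p'.map (algebraMap R' B')).comap (algebraMap R' B') = p')
    (hB : (p.map (algebraMap R B)).comap (algebraMap R B) = p) :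
    (p'.map (algebraMap R' B')).comap (algebraMap B B') = p.map (algebraMap R B) := by
  let ξ := p.map (algebraMap R B)
  let Z := p'.map (algebraMap R' B')
  have hle : ξ ≤ Z.comap (algebraMap B B') := Ideal.map_le_iff_le_comap.mpr fun a ha => by
    rw [Ideal.mem_comap, Ideal.mem_comap, ← IsScalarTower.algebraMap_apply, IsScalarTower.algebraMap_apply R R' B']
    exact Ideal.mem_map_of_mem _ ((Ideal.mem_of_liesOver p' p a).mp ha)
  haveI : Z.LiesOver (Z.comap (algebraMap B B')) := ⟨rfl⟩
  obtain ⟨W, hWZ, hW, hWξ⟩ := Ideal.exists_ideal_le_liesOver_of_le (p := ξ) (q := Z.comap (algebraMap B B')) Z hle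
  have h1 : W.comap (algebraMap R' B') ≤ p' := (Ideal.comap_mono hWZ).trans hB'.le
  have h2 : (W.comap (algebraMap R' B')).under R = p'.under R := by
    rw [← Ideal.over_def p' p, Ideal.under_def, Ideal.comap_comap, ← IsScalarTower.algebraMap_eq,
      IsScalarTower.algebraMap_eq R B B', ← Ideal.comap_comap, ← Ideal.under_def (A := B), ← hWξ.over, hB]
  haveI := hW
  have h3 := Algebra.QuasiFinite.eq_of_le_of_under_eq (R := R) _ p' h1 h2
  have h4 : Z ≤ W := Ideal.map_le_iff_le_comap.mpr h3.ge
  show Z.comap (algebraMap B B') = ξ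
  rw [le_antisymm h4 hWZ, ← Ideal.under_def, ← hWξ.over]

theorem isPrime_map_of_nzFib {B : Type u} [CommRing B] [Algebra R B] [Module.Flat R B] (h : NZFib R B)
    (y : Ideal B) [y.IsPrime] [y.LiesOver p] :
    (p.map (algebraMap R B)).IsPrime ∧ (p.map (algebraMap R B)).comap (algebraMap R B) = p := by
  let ι : B →+* p.Fiber B := (Algebra.TensorProduct.includeRight (R := R) (A := p.ResidueField) (B := B)).toRingHom
  have hker : p.map (algebraMap R B) = RingHom.ker ι := Ideal.ext fun b => (one_tmul_eq_zero_iff p b).symm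
  have hle : p.map (algebraMap R B) ≤ y := Ideal.map_le_iff_le_comap.mpr (Ideal.over_def y p).le
  refine ⟨?_, le_antisymm ((Ideal.comap_mono hle).trans (Ideal.over_def y p).ge) Ideal.le_comap_map⟩
  haveI : NoZeroDivisors (p.Fiber B) := h p.ResidueField
  refine ⟨fun htop => Ideal.IsPrime.ne_top' (top_le_iff.mp (htop ▸ hle)), fun {a b} hab => ?_⟩
  rw [hker, RingHom.mem_ker, map_mul] at hab
  rw [hker, RingHom.mem_ker, RingHom.mem_ker]
  exact mul_eq_zero.mp hab

attribute [local instance] Algebra.TensorProduct.rightAlgebra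

set_option maxHeartbeats 400000 in
/-- **Prepending a step**: from a dévissage of the cokernel over a neighbourhood of the smooth algebra. -/
theorem Step.exists_extend {S : Type u} [CommRing S] [Algebra R S] {N : Type u} [AddCommGroup N] [Module S N]
    {q : Ideal S} [q.IsPrime] (st : Step R p S N q) [Algebra st.B S] [IsScalarTower R st.B S] [IsScalarTower st.B S st.A]
    {R' : Type u} [CommRing R'] [Algebra R R'] [Algebra.Etale R R'] (p' : Ideal R') [p'.IsPrime] (hp : TrivRes R p p')
    (B' : Type u) [CommRing B'] [Algebra R' B'] [Algebra st.B B'] [Algebra R B'] [IsScalarTower R R' B']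
    [IsScalarTower R st.B B'] [Algebra.Etale st.B B'] (y' : Ideal B') [y'.IsPrime] [y'.LiesOver p']
    (hy : TrivRes st.B st.y y') {d : ℕ} (hd : FlatCA.SmoothRelDim d R' B') (hnz : NZFib R' B')
    (hnext : Subsingleton (B' ⊗[st.B] (st.M ⧸ LinearMap.range st.α)) ∨
      Dev R' p' B' (B' ⊗[st.B] (st.M ⧸ LinearMap.range st.α)) y') :
    ∃ (S' : Type u) (_ : CommRing S') (_ : Algebra S S') (_ : Algebra R' S') (_ : Algebra R S')
      (_ : IsScalarTower R R' S') (_ : IsScalarTower R S S') (q' : Ideal S') (_ : q'.IsPrime),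
      FlatCA.IsEtaleNhd S S' q q' ∧ q'.LiesOver p' ∧
      ∀ (N' : Type u) [AddCommGroup N'] [Module S' N'] [Module S N'] [IsScalarTower S S' N'] (f : N →ₗ[S] N'),
        IsBaseChange S' f → Dev R' p' S' N' q' := by
  haveI := hp.liesOver
  haveI := flat_of_smooth_relDim st.relDim
  haveI := flat_of_smooth_relDim hd
  haveI : Module.Flat st.B B' := inferInstance
  obtain ⟨hξp, hξ0⟩ := isPrime_map_of_nzFib st.nz (p := p) st.y
  obtain ⟨hξp', hξ0'⟩ := isPrime_map_of_nzFib hnz (p := p') y'
  haveI := hξp
  haveI := hξp'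
  have hξ := comap_map_of_etale (p := p) (B := st.B) (B' := B') p' hξ0' hξ0
  haveI : q.LiesOver st.y := ⟨by
    refine Eq.trans ?_ (congrArg (fun I => Ideal.comap (algebraMap st.B S) I) st.zq)
    rw [Ideal.comap_comap, ← IsScalarTower.algebraMap_eq]
    exact Ideal.over_def st.z st.y⟩
  have hyn : FlatCA.IsEtaleNhd st.B B' st.y y' := (isEtaleNhd_iff _ _).mpr ⟨inferInstance, hy⟩
  let S' := B' ⊗[st.B] S
  let A' := B' ⊗[st.B] st.A
  obtain ⟨q', _, hq'y, hq'n, hq'u⟩ := exists_nbhd_pushout st.y q y' hyn
  let φ : S' →ₐ[B'] A' := Algebra.TensorProduct.map (AlgHom.id B' B') (IsScalarTower.toAlgHom st.B S st.A)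
  letI : Algebra S' A' := φ.toRingHom.toAlgebra
  haveI : IsScalarTower B' S' A' := IsScalarTower.of_algebraMap_eq' φ.comp_algebraMap.symm
  letI : Algebra S A' := ((algebraMap st.A A').comp (algebraMap S st.A)).toAlgebra
  haveI : IsScalarTower S st.A A' := IsScalarTower.of_algebraMap_eq' rfl
  haveI : IsScalarTower S S' A' := IsScalarTower.of_algebraMap_eq fun s => by
    show (1 : B') ⊗ₜ[st.B] algebraMap S st.A s = Algebra.TensorProduct.map _ _ ((1 : B') ⊗ₜ[st.B] s)
    rw [Algebra.TensorProduct.map_tmul]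
    rfl
  haveI : IsScalarTower R' S' A' := IsScalarTower.of_algebraMap_eq fun r => by
    rw [IsScalarTower.algebraMap_apply R' B' S', ← IsScalarTower.algebraMap_apply B' S' A',
      ← IsScalarTower.algebraMap_apply R' B' A']
  haveI : IsScalarTower st.B S' A' := IsScalarTower.of_algebraMap_eq fun b => by
    rw [IsScalarTower.algebraMap_apply st.B B' S', ← IsScalarTower.algebraMap_apply B' S' A',
      ← IsScalarTower.algebraMap_apply st.B B' A']
  haveI : Algebra.IsPushout st.B B' st.A A' := inferInstance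
  haveI : Algebra.IsPushout S S' st.A A' := by
    haveI : Algebra.IsPushout st.B S B' S' := Algebra.IsPushout.symm inferInstance
    exact Algebra.IsPushout.symm ((Algebra.IsPushout.comp_iff st.B S B' S').mp (Algebra.IsPushout.symm inferInstance))
  obtain ⟨z', _, hz'y, hz'z, hz'u⟩ :=
    exists_point_of_isPushout (B := st.B) (A := st.A) (B' := B') (A' := A') st.y st.z y' hy
  haveI := hz'y
  have huniq : ∀ (z₁ : Ideal A') [z₁.IsPrime], z₁.LiesOver y' → z₁ = z' := fun z₁ _ h1 => by
    haveI := h1
    haveI := hy.liesOver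
    haveI : z₁.LiesOver st.y := Ideal.LiesOver.trans z₁ y' st.y
    haveI : (z₁.comap (algebraMap st.A A')).LiesOver st.y := ⟨by
      rw [Ideal.under_def, Ideal.comap_comap, ← IsScalarTower.algebraMap_eq]
      exact Ideal.over_def z₁ st.y⟩
    exact hz'u z₁ h1 ⟨(st.uniq _ inferInstance).symm⟩
  have hzq : z'.comap (algebraMap S' A') = q' := by
    refine hq'u _ ⟨?_⟩ ⟨?_⟩
    · rw [Ideal.under_def, Ideal.comap_comap, ← IsScalarTower.algebraMap_eq]
      exact Ideal.over_def z' y'
    · rw [Ideal.under_def, Ideal.comap_comap, ← IsScalarTower.algebraMap_eq, IsScalarTower.algebraMap_eq S st.A A',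
        ← Ideal.comap_comap, ← Ideal.under_def (A := st.A), ← hz'z.over, st.zq]
  haveI : q'.LiesOver p' := Ideal.LiesOver.trans q' y' p'
  haveI : IsScalarTower R R' S' := IsScalarTower.of_algebraMap_eq fun r => by
    rw [IsScalarTower.algebraMap_apply R' B' S', ← IsScalarTower.algebraMap_apply R R' B',
      ← IsScalarTower.algebraMap_apply R B' S']
  haveI : IsScalarTower R S S' := IsScalarTower.of_algebraMap_eq fun r => by
    rw [IsScalarTower.algebraMap_apply R B' S', IsScalarTower.algebraMap_apply R st.B B', ← IsScalarTower.algebraMap_apply st.B B' S',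
      IsScalarTower.algebraMap_apply st.B S S', ← IsScalarTower.algebraMap_apply R st.B S]
  refine ⟨S', inferInstance, inferInstance, inferInstance, inferInstance, inferInstance, inferInstance, q',
    inferInstance, hq'n, inferInstance, ?_⟩
  intro N' _ _ _ _ f hf
  let st' := Step.map (R := R) (S' := S') (B' := B') (A' := A') st y' hp hy z' huniq q' hzq hd hnz hξ hf
  rcases hnext with h | h
  · refine Dev.last st' (LinearMap.range_eq_top.mp ?_)
    haveI := h
    haveI : Subsingleton ((A' ⊗[st.A] st.M) ⧸ LinearMap.range (mapFree st.α (st.isBaseChange_B (B' := B') (A' := A')))) :=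
      (isBaseChange_cokerMap st.α (st.isBaseChange_B (B' := B') (A' := A'))).equiv.symm.toEquiv.subsingleton
    exact Submodule.Quotient.subsingleton_iff.mp this
  · exact Dev.cons st' (h.congr (isBaseChange_cokerMap st.α (st.isBaseChange_B (B' := B') (A' := A'))).equiv)

end Groth.L20.RG
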