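import Groth.Agent.L20.RG.PureCover
import Groth.Agent.L20.RG.PureSpread
import Groth.Agent.L19.FibreExact
import Mathlib.RingTheory.Spectrum.Prime.ConstructibleSet

/-!
# The locus where a quasi-compact open contains the associated points of the fibres
-/

set_option autoImplicit false
set_option linter.style.haveILetI false
set_option backward.isDefEq.respectTransparency.types false
universe u

open TensorProduct

noncomputable section

namespace Groth.L20.RG

open Groth.L03.WeakAss

/-- A constructible set containing all the generisations of a prime contains a basic open around it. -/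
theorem exists_basicOpen_of_generizations {A : Type u} [CommRing A] {E : Set (PrimeSpectrum A)}
    (hE : Topology.IsConstructible E) (p : Ideal A) [p.IsPrime]
    (h : ∀ x : PrimeSpectrum A, x.asIdeal ≤ p → x ∈ E) :
    ∃ r ∉ p, ∀ x : PrimeSpectrum A, r ∉ x.asIdeal → x ∈ E := by
  obtain ⟨S, _, f, hf⟩ := PrimeSpectrum.exists_range_eq_of_isConstructible hE.compl
  by_cases hle : RingHom.ker f ≤ p
  · obtain ⟨q, hq, hqp⟩ := Ideal.exists_minimalPrimes_le hle
    haveI := hq.isPrime
    obtain ⟨q', hq', -, he⟩ := Ideal.exists_comap_eq_of_mem_minimalPrimes f (I := ⊥) q hq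
    have hmem : (⟨q, inferInstance⟩ : PrimeSpectrum A) ∈ Eᶜ := hf ▸ ⟨⟨q', hq'⟩, PrimeSpectrum.ext he⟩
    exact absurd (h _ hqp) hmem
  · obtain ⟨r, hr, hrp⟩ := Set.not_subset.mp hle
    refine ⟨r, hrp, fun x hx => ?_⟩
    by_contra hxE
    obtain ⟨y, rfl⟩ : x ∈ Set.range (PrimeSpectrum.comap f) := hf ▸ hxE
    exact hx (by show f r ∈ y.asIdeal; rw [RingHom.mem_ker.mp hr]; exact zero_mem _)

variable {A B : Type u} [CommRing A] [CommRing B] [Algebra A B]
  (N : Type u) [AddCommGroup N] [Module B N] [Module A N] [IsScalarTower A B N]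

/-- No nonzero element of `N ⊗ M` is killed by all the elements of `G`. -/
def InjFib (A : Type u) {B : Type u} [CommRing A] [CommRing B] [Algebra A B] (N : Type u) [AddCommGroup N]
    [Module B N] [Module A N] [IsScalarTower A B N] (G : Finset B) (M : Type u) [AddCommGroup M] [Module A M] : Prop :=
  ∀ z : N ⊗[A] M, (∀ g ∈ G, g • z = 0) → z = 0

/-- The condition as exactness of a fibre sequence. -/
theorem injFib_iff_exact (G : Finset B) (k : Type u) [CommRing k] [Algebra A k] :
    InjFib A N G k ↔ Function.Exact (((0 : (Fin 0 → B) →ₗ[B] N).restrictScalars A).baseChange k)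
      (((mulMap N G).restrictScalars A).baseChange k) := by
  have hkey : ∀ z : k ⊗[A] N, TensorProduct.comm A k (↥G → N) (((mulMap N G).restrictScalars A).baseChange k z) =
      AlgebraTensorModule.rTensor A k (mulMap N G) (TensorProduct.comm A k N z) := fun z => by
    induction z using TensorProduct.induction_on with
    | zero => simp
    | add a b ha hb => simp only [map_add, ha, hb]
    | tmul c m => simp
  have h0 : ∀ z : k ⊗[A] (Fin 0 → B), ((0 : (Fin 0 → B) →ₗ[B] N).restrictScalars A).baseChange k z = 0 := fun z => by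
    simp
  constructor
  · intro h z
    refine ⟨fun hz => ?_, fun ⟨w, hw⟩ => by rw [← hw, h0, map_zero]⟩
    refine ⟨0, ?_⟩
    rw [map_zero]
    refine ((TensorProduct.comm A k N).map_eq_zero_iff.mp (h _ fun g hg => smul_eq_zero_of_mulMap N G k ?_ g hg)).symm
    rw [← hkey, hz, map_zero]
  · intro h z hz
    obtain ⟨z, rfl⟩ := (TensorProduct.comm A k N).surjective z
    obtain ⟨w, hw⟩ := (h z).1 ((TensorProduct.comm A k (↥G → N)).map_eq_zero_iff.mp (by
      rw [hkey, rTensor_mulMap_eq_zero N G k hz]))
    rw [← hw, h0, map_zero]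

/-- The condition is stable under extensions of the field. -/
theorem injFib_field_ext (G : Finset B) {k k' : Type u} [Field k] [Field k'] [Algebra A k] [Algebra A k'] [Algebra k k']
    [IsScalarTower A k k'] (h : InjFib A N G k) : InjFib A N G k' := by
  rw [injFib_iff_exact] at h ⊢
  exact (Groth.L19.FibreExact.exact_field_ext (k := k) (k' := k') _ _).2 h

/-- The condition is constructible in the base. -/
theorem isConstructible_injFib [Algebra.FinitePresentation A B] [Module.FinitePresentation B N] (G : Finset B) :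
    Topology.IsConstructible {p : PrimeSpectrum A | InjFib A N G p.asIdeal.ResidueField} := by
  simp only [injFib_iff_exact]
  exact Groth.L19.FibreExact.isConstructible _ _

/-- The elements of `G` avoid every associated prime. -/
theorem exists_notMem_of_injFib {G : Finset B} {M : Type u} [AddCommGroup M] [Module A M] (h : InjFib A N G M)
    {P : Ideal B} (hP : P ∈ FlatCA.weakAss B (N ⊗[A] M)) : ∃ g ∈ G, g ∉ P := by
  classical
  haveI := isPrime_of_mem_weakAss hP
  by_contra! hne
  obtain ⟨z, hz1, hz2⟩ := mem_weakAss_iff_exists.1 hP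
  choose s hs k hk using fun g : ↥G => hz2 g (hne g g.2)
  let σ := ∏ g, s g
  have hσ : σ ∉ P := fun hm => by
    obtain ⟨g, -, hg⟩ := (Ideal.IsPrime.prod_mem_iff).mp hm
    exact hs g hg
  obtain ⟨j, hj⟩ := exists_pow_smul_of_powers G (r := (1 : B)) (fun w hw => ⟨0, by rw [pow_zero, one_smul]; exact h w hw⟩)
    (σ • z) fun g hg => ⟨k ⟨g, hg⟩, by
      rw [smul_smul, show σ = (∏ x ∈ Finset.univ.erase ⟨g, hg⟩, s x) * s ⟨g, hg⟩ from
        (Finset.prod_erase_mul _ _ (Finset.mem_univ _)).symm, mul_left_comm, mul_comm (g ^ _) (s _), mul_smul,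
        hk ⟨g, hg⟩, smul_zero]⟩
  rw [one_pow, one_smul] at hj
  exact hz1 σ hσ hj

/-- **Purity**: an open containing the fibre over `p` contains the associated points of the nearby fibres. -/
theorem exists_nhd_injFib [Algebra.FinitePresentation A B] [Module.FinitePresentation B N] (p : Ideal A) [p.IsPrime]
    (hpure : FlatCA.IsPureAlong A B N p) (G : Finset B)
    (hG : ∀ (Q : Ideal B) [Q.IsPrime], Q.LiesOver p → ∃ g ∈ G, g ∉ Q) :
    ∃ r ∉ p, ∀ (t : Ideal A) [t.IsPrime], r ∉ t → InjFib A N G t.ResidueField := by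
  obtain ⟨r, hr, h⟩ := exists_basicOpen_of_generizations (isConstructible_injFib N G) p fun x hx => by
    intro z hz
    by_contra hne
    obtain ⟨P, hP, hle⟩ := exists_mem_weakAss_of_ne_zero (R := B) hne
    haveI := isPrime_of_mem_weakAss hP
    haveI := liesOver_of_mem_weakAss_fibre x.asIdeal N hP
    obtain ⟨P', hP', hPP', hP'p⟩ : ∃ P' : Ideal B, P'.IsPrime ∧ P ≤ P' ∧ P'.LiesOver p := by
      by_contra! hno
      haveI : Algebra.IsPushout A B A B := Algebra.IsPushout.symm inferInstance
      exact hpure A B N LinearMap.id x.asIdeal p P ⟨inferInstance, trivRes_self p⟩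
        ⟨inferInstance, IsBaseChange.of_equiv (TensorProduct.lid B N) fun y => by
          rw [TensorProduct.lid_tmul, one_smul]; rfl, hx, ⟨(Ideal.comap_id p).symm⟩, inferInstance,
          (fiberIdeal_mem_ass_iff_weakAss x.asIdeal N P).mpr hP, fun P' hP' hle => hno P' hP' hle⟩
    haveI := hP'
    obtain ⟨g, hg, hgP⟩ := hG P' hP'p
    exact hgP (hPP' (hle (mem_annE.2 (hz g hg))))
  exact ⟨r, hr, fun t _ ht => h ⟨t, inferInstance⟩ ht⟩

end Groth.L20.RG
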