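import Groth.Agent.L20.RG.FlatBCLocal
import Groth.Agent.L20.RG.InjLocus
import Groth.Agent.L20.RG.Nbhd

/-!
# Reading flatness in high dimensions on charts, universally
-/

set_option autoImplicit false
set_option linter.style.haveILetI false
set_option backward.isDefEq.respectTransparency.types false
universe u

open TensorProduct

noncomputable section

namespace Groth.L20.RG

attribute [local instance] Algebra.TensorProduct.rightAlgebra

section InjBaseChange

variable {A B T BT : Type u} [CommRing A] [CommRing B] [CommRing T] [CommRing BT] [Algebra A B] [Algebra A T]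
  [Algebra B BT] [Algebra T BT] [Algebra A BT] [IsScalarTower A B BT] [IsScalarTower A T BT] [Algebra.IsPushout A B T BT]
  (N : Type u) [AddCommGroup N] [Module B N] [Module A N] [IsScalarTower A B N]
  {NT : Type u} [AddCommGroup NT] [Module BT NT] [Module B NT] [IsScalarTower B BT NT] [Module T NT]
  [IsScalarTower T BT NT]

/-- The injectivity condition commutes with a change of the base. -/
theorem injFib_baseChange [DecidableEq BT] (f : N →ₗ[B] NT) (hf : IsBaseChange BT f) (G : Finset B) (k : Type u)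
    [CommRing k] [Algebra A k] [Algebra T k] [IsScalarTower A T k] (h : InjFib A N G k) :
    InjFib T NT (G.image (algebraMap B BT)) k := by
  letI : Module A NT := Module.compHom NT (algebraMap A T)
  haveI : IsScalarTower A T NT := IsScalarTower.of_algebraMap_smul fun _ _ => rfl
  haveI : IsScalarTower A B NT := IsScalarTower.of_algebraMap_smul fun r x => by
    show algebraMap A B r • x = algebraMap A T r • x
    rw [← algebraMap_smul BT (algebraMap A B r) x, ← IsScalarTower.algebraMap_apply,
      IsScalarTower.algebraMap_apply A T BT, algebraMap_smul]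
  let hbc := (Groth.L20.isBaseChange_restrictScalars (R := A) (R' := T) hf).comp (TensorProduct.isBaseChange T NT k)
  let e : N ⊗[A] k ≃+ NT ⊗[T] k :=
    ((TensorProduct.comm A N k).toAddEquiv.trans hbc.equiv.toAddEquiv).trans (TensorProduct.comm T k NT).toAddEquiv
  have he : ∀ (n : N) (c : k), e (n ⊗ₜ[A] c) = f n ⊗ₜ[T] c := fun n c => by
    show TensorProduct.comm T k NT (hbc.equiv (c ⊗ₜ[A] n)) = _
    rw [hbc.equiv_tmul]
    show TensorProduct.comm T k NT (c • ((1 : k) ⊗ₜ[T] f n)) = _
    rw [TensorProduct.smul_tmul', smul_eq_mul, mul_one, TensorProduct.comm_tmul]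
  have hsmul : ∀ (b : B) (z : N ⊗[A] k), e (b • z) = algebraMap B BT b • e z := fun b z => by
    induction z using TensorProduct.induction_on with
    | zero => simp
    | add x y hx hy => simp only [smul_add, map_add, hx, hy]
    | tmul n c => rw [TensorProduct.smul_tmul', he, he, map_smul, TensorProduct.smul_tmul', algebraMap_smul]
  intro z hz
  obtain ⟨z, rfl⟩ := e.surjective z
  rw [h z fun g hg => e.injective (by rw [hsmul, hz _ (Finset.mem_image_of_mem _ hg), map_zero]), map_zero]

end InjBaseChange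

section Chart

variable {A BA : Type u} [CommRing A] [CommRing BA] [Algebra A BA]
  (NA : Type u) [AddCommGroup NA] [Module BA NA] [Module A NA] [IsScalarTower A BA NA]

/-- Flatness in high dimensions passes to a quasi-finite flat chart. -/
theorem flatInDimGE_of_chart {C : Type u} [CommRing C] [Algebra BA C] [Algebra A C] [IsScalarTower A BA C]
    [Module.Flat BA C] [Algebra.QuasiFinite BA C] {Nc : Type u} [AddCommGroup Nc] [Module C Nc] [Module BA Nc]
    [IsScalarTower BA C Nc] [Module A Nc] [IsScalarTower A C Nc] (g : NA →ₗ[BA] Nc) (hg : IsBaseChange C g) {d : ℕ}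
    (h : FlatCA.FlatInDimGE d A BA NA) : FlatCA.FlatInDimGE d A C Nc := by
  rw [flatInDimGE_iff_relTrdeg] at h ⊢
  intro t Q _ _ _ hd
  let q := Q.comap (algebraMap BA C)
  haveI : q.IsPrime := Ideal.IsPrime.comap _
  haveI : Q.LiesOver q := ⟨rfl⟩
  haveI : q.LiesOver t := ⟨by
    show t = (Q.comap (algebraMap BA C)).comap (algebraMap A BA)
    rw [Ideal.comap_comap, ← IsScalarTower.algebraMap_eq]
    exact Ideal.LiesOver.over⟩
  rw [relTrdeg_eq_of_quasiFinite t q Q] at hd
  haveI : Module.Flat A (LocalizedModule q.primeCompl NA) := h t q hd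
  exact Groth.L20.AboveClosed.flat_of_flat_below g hg Q

variable [Algebra.FiniteType A BA] [Module.Finite BA NA]
  {k : ℕ} (C : Fin k → Type u) [∀ i, CommRing (C i)] [∀ i, Algebra BA (C i)] [∀ i, Algebra A (C i)]
  [∀ i, IsScalarTower A BA (C i)] [∀ i, Algebra.Etale BA (C i)]
  (Nc : Fin k → Type u) [∀ i, AddCommGroup (Nc i)] [∀ i, Module (C i) (Nc i)] [∀ i, Module BA (Nc i)]
  [∀ i, IsScalarTower BA (C i) (Nc i)] (g : ∀ i, NA →ₗ[BA] Nc i)

set_option maxHeartbeats 1000000 in
/-- **Charts, universally**: where the fibrewise associated points lie in the charts, flatness in high dimensions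
is read on the charts. -/
theorem flatBC_iff_charts (hg : ∀ i, IsBaseChange (C i) (g i)) (G : Finset BA)
    (hG : ∀ (Q : Ideal BA) [Q.IsPrime], (∃ x ∈ G, x ∉ Q) →
      ∃ (i : Fin k) (Q' : Ideal (C i)), Q'.IsPrime ∧ Q'.comap (algebraMap BA (C i)) = Q)
    (T : Type u) [CommRing T] [Algebra A T]
    (hinj : ∀ (s : Ideal A) [s.IsPrime], (∃ t : Ideal T, t.IsPrime ∧ t.comap (algebraMap A T) = s) →
      InjFib A NA G s.ResidueField) (d : ℕ) :
    FlatBC A d T BA NA ↔ ∀ i, FlatBC A d T (C i) (Nc i) := by
  classical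
  let BT := T ⊗[A] BA
  let NT := BT ⊗[BA] NA
  haveI : Algebra.IsPushout A BA T BT := Algebra.IsPushout.symm inferInstance
  let CT := fun i => T ⊗[A] C i
  let NcT := fun i => CT i ⊗[C i] Nc i
  let ψ := fun i : Fin k => (Algebra.TensorProduct.map (AlgHom.id T T) (IsScalarTower.toAlgHom A BA (C i)) : BT →ₐ[T] CT i)
  letI : ∀ i, Algebra BT (CT i) := fun i => (ψ i).toRingHom.toAlgebra
  haveI : ∀ i, IsScalarTower T BT (CT i) := fun i =>
    IsScalarTower.of_algebraMap_eq (R := T) (S := BT) (A := CT i) fun x => ((ψ i).commutes x).symm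
  letI : ∀ i, Algebra BA (CT i) := fun i => ((algebraMap (C i) (CT i)).comp (algebraMap BA (C i))).toAlgebra
  haveI : ∀ i, IsScalarTower BA (C i) (CT i) := fun i => IsScalarTower.of_algebraMap_eq' rfl
  haveI : ∀ i, IsScalarTower BA BT (CT i) := fun i =>
    IsScalarTower.of_algebraMap_eq (R := BA) (S := BT) (A := CT i) fun x => by
      show (1 : T) ⊗ₜ[A] algebraMap BA (C i) x = ψ i ((1 : T) ⊗ₜ[A] x)
      simp [ψ]
  haveI : ∀ i, IsScalarTower A BA (CT i) := fun i =>
    IsScalarTower.of_algebraMap_eq (R := A) (S := BA) (A := CT i) fun a => by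
      rw [IsScalarTower.algebraMap_apply A (C i) (CT i), IsScalarTower.algebraMap_apply A BA (C i)]
      rfl
  haveI : ∀ i, IsScalarTower A BT (CT i) := fun i => IsScalarTower.of_algebraMap_eq (R := A) (S := BT) (A := CT i) fun a => by
    rw [IsScalarTower.algebraMap_apply A T (CT i), IsScalarTower.algebraMap_apply A T BT,
      ← IsScalarTower.algebraMap_apply T BT (CT i)]
  have hpush : ∀ i, Algebra.IsPushout BA (C i) BT (CT i) := fun i => by
    haveI : Algebra.IsPushout A (C i) T (CT i) := Algebra.IsPushout.symm inferInstance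
    exact (Algebra.IsPushout.comp_iff (R := A) (S := BA) (T := C i) (R' := T) BT (T' := CT i)).1 inferInstance
  haveI : ∀ i, Algebra.Etale BT (CT i) := fun i =>
    haveI := Algebra.IsPushout.symm (hpush i)
    Algebra.Etale.of_equiv (Algebra.IsPushout.equiv BA BT (C i) (CT i))
  haveI : ∀ i, IsScalarTower BA BT (NcT i) := fun i => IsScalarTower.of_algebraMap_smul fun b x => by
    rw [← algebraMap_smul (CT i) (algebraMap BA BT b) x, ← IsScalarTower.algebraMap_apply BA BT (CT i),
      algebraMap_smul]
  have hNT := TensorProduct.isBaseChange BA NA BT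
  let gT := fun i => hNT.lift (((TensorProduct.mk (C i) (CT i) (Nc i) 1).restrictScalars BA) ∘ₗ g i)
  have hgT : ∀ i, IsBaseChange (CT i) (gT i) := fun i => IsBaseChange.of_comp hNT (by
    rw [show (gT i).restrictScalars BA ∘ₗ TensorProduct.mk BA BT NA 1 =
      ((TensorProduct.mk (C i) (CT i) (Nc i) 1).restrictScalars BA) ∘ₗ g i from hNT.lift_comp _]
    exact (hg i).comp (TensorProduct.isBaseChange (C i) (Nc i) (CT i)))
  refine flatInDimGE_iff_charts (T := T) (C := BT) NT CT NcT gT hgT (fun t q _ _ _ hq => ?_) d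
  let s := t.comap (algebraMap A T)
  haveI : s.IsPrime := Ideal.IsPrime.comap _
  haveI hts : t.LiesOver s := ⟨rfl⟩
  letI : Algebra s.ResidueField t.ResidueField :=
    (Ideal.ResidueField.mapₐ s t (Algebra.ofId A T) hts.over).toRingHom.toAlgebra
  haveI : IsScalarTower A s.ResidueField t.ResidueField := IsScalarTower.of_algebraMap_eq fun r =>
    ((Ideal.ResidueField.mapₐ s t (Algebra.ofId A T) hts.over).commutes r).symm
  have h2 : InjFib T NT (G.image (algebraMap BA BT)) t.ResidueField :=
    injFib_baseChange NA _ hNT G t.ResidueField (injFib_field_ext NA G (hinj s ⟨t, inferInstance, rfl⟩))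
  obtain ⟨x, hx, hxq⟩ := exists_notMem_of_injFib NT h2 hq
  obtain ⟨b, hb, rfl⟩ := Finset.mem_image.1 hx
  haveI : (q.comap (algebraMap BA BT)).IsPrime := Ideal.IsPrime.comap _
  obtain ⟨i, Q', hQ', e⟩ := hG (q.comap (algebraMap BA BT)) ⟨b, hb, hxq⟩
  haveI := hQ'
  haveI := Algebra.IsPushout.symm (hpush i)
  obtain ⟨Qc, hQc, e₁, -⟩ := Groth.L20.exists_prime_isPushout (R := BA) (S := BT) (R' := C i) (S' := CT i) q Q' e.symm
  exact ⟨i, Qc, hQc, e₁⟩

end Chart

end Groth.L20.RG
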