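import Groth.Agent.L20.RG.TrdegLift
import Groth.Agent.L20.RG.DevInduct
import Groth.Agent.L20.AboveClosed
import Groth.Agent.S1201

/-!
# Flatness in dimensions at least `d`: base change, descent and covers of the associated points
-/

set_option autoImplicit false
set_option linter.style.haveILetI false
set_option backward.isDefEq.respectTransparency.types false
universe u

open TensorProduct

noncomputable section

namespace Groth.L20.RG

attribute [local instance] Algebra.TensorProduct.rightAlgebra

section Mono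

variable {A B : Type u} [CommRing A] [CommRing B] [Algebra A B] (t : Ideal A) [t.IsPrime]

/-- Every element of the fibre has a denominator. -/
theorem exists_fibre_denom (z : t.Fiber B) : ∃ r : A, r ∉ t ∧ ∃ b : B, r • z = ((1 : t.ResidueField) ⊗ₜ[A] b : t.Fiber B) := by
  change t.ResidueField ⊗[A] B at z
  induction z using TensorProduct.induction_on with
  | zero => exact ⟨1, t.ne_top_iff_one.1 (Ideal.IsPrime.ne_top ‹_›), 0, by simp⟩
  | add x y hx hy =>
    obtain ⟨r, hr, b, e⟩ := hx
    obtain ⟨r', hr', b', e'⟩ := hy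
    refine ⟨r * r', fun hm => (Ideal.IsPrime.mem_or_mem ‹_› hm).elim hr hr', r' • b + r • b', ?_⟩
    change r • x = _ at e
    change r' • y = _ at e'
    show (r * r') • (x + y) = _
    rw [smul_add, mul_comm r r', mul_smul, e, mul_comm r' r, mul_smul, e', TensorProduct.tmul_add,
      TensorProduct.tmul_smul, TensorProduct.tmul_smul]
  | tmul k b =>
    obtain ⟨a, c, hc, rfl⟩ := IsFractionRing.div_surjective (A ⧸ t) k
    obtain ⟨a, rfl⟩ := Ideal.Quotient.mk_surjective a
    obtain ⟨c, rfl⟩ := Ideal.Quotient.mk_surjective c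
    have hc0 : Ideal.Quotient.mk t c ≠ 0 := nonZeroDivisors.ne_zero hc
    refine ⟨c, fun hm => hc0 (Ideal.Quotient.eq_zero_iff_mem.2 hm), a • b, ?_⟩
    show c • ((_ : t.ResidueField) ⊗ₜ[A] b) = _
    rw [TensorProduct.smul_tmul', TensorProduct.tmul_smul, TensorProduct.smul_tmul']
    congr 1
    rw [Algebra.smul_def, Algebra.smul_def, mul_one, Ideal.algebraMap_quotient_residueField_mk,
      Ideal.algebraMap_quotient_residueField_mk, mul_div_cancel₀]
    rw [Ne, Ideal.algebraMap_residueField_eq_zero]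
    exact fun hm => hc0 (Ideal.Quotient.eq_zero_iff_mem.2 hm)

/-- The prime of the fibre ring at a prime over `t`. -/
theorem exists_fibre_prime (Q : Ideal B) [Q.IsPrime] [hQ : Q.LiesOver t] :
    ∃ (P : Ideal (t.Fiber B)) (_ : P.IsPrime), relTrdeg t Q = Algebra.trdeg t.ResidueField (t.Fiber B ⧸ P) ∧
      ∀ b : B, ((1 : t.ResidueField) ⊗ₜ[A] b : t.Fiber B) ∈ P ↔ b ∈ Q := by
  let i : t.ResidueField →ₐ[A] Q.ResidueField := Ideal.ResidueField.mapₐ t Q (Algebra.ofId A B) hQ.over
  letI : Algebra t.ResidueField Q.ResidueField := i.toRingHom.toAlgebra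
  haveI : IsScalarTower A t.ResidueField Q.ResidueField := IsScalarTower.of_algebraMap_eq fun r => (i.commutes r).symm
  let φ : t.Fiber B →ₐ[t.ResidueField] Q.ResidueField :=
    Algebra.TensorProduct.lift (Algebra.ofId t.ResidueField Q.ResidueField)
      (IsScalarTower.toAlgHom A B Q.ResidueField) fun _ _ => Commute.all _ _
  have hφ : ∀ b : B, φ ((1 : t.ResidueField) ⊗ₜ[A] b) = algebraMap B Q.ResidueField b := fun b => by
    simp [φ]
  haveI hP : (RingHom.ker φ).IsPrime := RingHom.ker_isPrime φ
  refine ⟨RingHom.ker φ, hP, ?_, fun b => by rw [RingHom.mem_ker, hφ, Ideal.algebraMap_residueField_eq_zero]⟩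
  let j : (t.Fiber B ⧸ RingHom.ker φ) →ₐ[t.ResidueField] Q.ResidueField := Ideal.kerLiftAlg φ
  letI : Algebra (t.Fiber B ⧸ RingHom.ker φ) Q.ResidueField := j.toRingHom.toAlgebra
  haveI : IsScalarTower t.ResidueField (t.Fiber B ⧸ RingHom.ker φ) Q.ResidueField :=
    IsScalarTower.of_algebraMap_eq (R := t.ResidueField) (S := t.Fiber B ⧸ RingHom.ker φ) (A := Q.ResidueField) fun k => (j.commutes k).symm
  haveI : FaithfulSMul (t.Fiber B ⧸ RingHom.ker φ) Q.ResidueField :=
    (faithfulSMul_iff_algebraMap_injective _ _).2 (Ideal.kerLiftAlg_injective φ)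
  haveI : Algebra.IsAlgebraic (t.Fiber B ⧸ RingHom.ker φ) Q.ResidueField := ⟨fun x => by
    obtain ⟨a, b, hb, rfl⟩ := IsFractionRing.div_surjective (B ⧸ Q) x
    obtain ⟨a, rfl⟩ := Ideal.Quotient.mk_surjective a
    obtain ⟨b, rfl⟩ := Ideal.Quotient.mk_surjective b
    have hint : ∀ c : B, IsAlgebraic (t.Fiber B ⧸ RingHom.ker φ) (algebraMap B Q.ResidueField c) := fun c => by
      have e : algebraMap B Q.ResidueField c = algebraMap (t.Fiber B ⧸ RingHom.ker φ) Q.ResidueField
          (Ideal.Quotient.mk _ ((1 : t.ResidueField) ⊗ₜ[A] c)) :=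
        (hφ c).symm.trans (by rw [RingHom.algebraMap_toAlgebra]; exact (Ideal.kerLiftAlg_mk φ _).symm)
      rw [e]
      exact isAlgebraic_algebraMap _
    have e : ∀ c : B, algebraMap (B ⧸ Q) Q.ResidueField (Ideal.Quotient.mk Q c) = algebraMap B Q.ResidueField c :=
      fun c => Ideal.algebraMap_quotient_residueField_mk Q c
    rw [e, e, div_eq_mul_inv]
    exact (hint a).mul (hint b).inv⟩
  show Algebra.trdeg t.ResidueField Q.ResidueField = _
  rw [← trdeg_add_eq t.ResidueField (t.Fiber B ⧸ RingHom.ker φ) (A := Q.ResidueField),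
    trdeg_eq_zero (R := t.Fiber B ⧸ RingHom.ker φ) (A := Q.ResidueField), add_zero]

/-- Residual transcendence degrees do not increase under specialisation inside a fibre. -/
theorem relTrdeg_le_of_le (q Q : Ideal B) [q.IsPrime] [Q.IsPrime] [q.LiesOver t] [Q.LiesOver t] (h : q ≤ Q) :
    relTrdeg t Q ≤ relTrdeg t q := by
  obtain ⟨P, hP, eP, hPm⟩ := exists_fibre_prime t q
  obtain ⟨P', hP', eP', hPm'⟩ := exists_fibre_prime t Q
  have hle : P ≤ P' := fun z hz => by
    obtain ⟨r, hr, b, e⟩ := exists_fibre_denom t z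
    have hu : IsUnit (algebraMap A t.ResidueField r) :=
      isUnit_iff_ne_zero.2 fun h0 => hr (Ideal.algebraMap_residueField_eq_zero.1 h0)
    have e' : algebraMap t.ResidueField (t.Fiber B) (algebraMap A t.ResidueField r) * z = 1 ⊗ₜ[A] b := by
      rw [← e, ← Algebra.smul_def, algebraMap_smul]
    have h1 : ((1 : t.ResidueField) ⊗ₜ[A] b : t.Fiber B) ∈ P' :=
      (hPm' b).2 (h ((hPm b).1 (e' ▸ P.mul_mem_left _ hz)))
    rw [← e'] at h1
    exact (Ideal.unit_mul_mem_iff_mem P' (hu.map _)).1 h1
  rw [eP, eP']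
  exact trdeg_le_of_surjective (Ideal.Quotient.factorₐ t.ResidueField hle) (Ideal.Quotient.factor_surjective hle)

end Mono

section BaseChange

variable {T T' C C' : Type u} [CommRing T] [CommRing T'] [CommRing C] [CommRing C'] [Algebra T T'] [Algebra T C]
  [Algebra T' C'] [Algebra C C'] [Algebra T C'] [IsScalarTower T C C'] [IsScalarTower T T' C']
  [Algebra.IsPushout T C T' C'] (N : Type u) [AddCommGroup N] [Module C N] [Module T N] [IsScalarTower T C N]
  {N' : Type u} [AddCommGroup N'] [Module C' N'] [Module C N'] [IsScalarTower C C' N'] [Module T' N']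
  [IsScalarTower T' C' N'] (f : N →ₗ[C] N')

/-- Flatness in dimensions at least `d` is stable under change of the base. -/
theorem flatInDimGE_baseChange (hf : IsBaseChange C' f) {d : ℕ} (h : FlatCA.FlatInDimGE d T C N) :
    FlatCA.FlatInDimGE d T' C' N' := by
  rw [flatInDimGE_iff_relTrdeg] at h ⊢
  intro t' Q' _ _ _ hd
  let t := t'.comap (algebraMap T T')
  let Q := Q'.comap (algebraMap C C')
  haveI : t.IsPrime := Ideal.IsPrime.comap _
  haveI : Q.IsPrime := Ideal.IsPrime.comap _
  haveI : t'.LiesOver t := ⟨rfl⟩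
  haveI : Q'.LiesOver Q := ⟨rfl⟩
  haveI : Q.LiesOver t := ⟨by
    show t'.comap (algebraMap T T') = (Q'.comap (algebraMap C C')).comap (algebraMap T C)
    rw [Ideal.comap_comap, ← IsScalarTower.algebraMap_eq, IsScalarTower.algebraMap_eq T T' C', ← Ideal.comap_comap,
      ← Ideal.under_def (A := T'), ← Ideal.LiesOver.over (p := t') (P := Q')]⟩
  have hgen : ∀ c : C', c ∈ Algebra.adjoin T' (Set.range (algebraMap C C')) := fun c => by
    obtain ⟨z, rfl⟩ := (Algebra.IsPushout.equiv T C T' C').surjective c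
    induction z using TensorProduct.induction_on with
    | zero => rw [map_zero]; exact zero_mem _
    | add a b ha hb => rw [map_add]; exact add_mem ha hb
    | tmul x y =>
      rw [Algebra.IsPushout.equiv_tmul]
      exact mul_mem (Algebra.subset_adjoin ⟨x, rfl⟩) (Subalgebra.algebraMap_mem _ y)
  haveI : Module.Flat T (LocalizedModule Q.primeCompl N) :=
    h t Q (hd.trans (relTrdeg_le_baseChange t t' Q Q' hgen))
  letI : Module T N' := Module.compHom N' (algebraMap T T')
  haveI : IsScalarTower T T' N' := IsScalarTower.of_algebraMap_smul fun _ _ => rfl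
  haveI : IsScalarTower T C N' := IsScalarTower.of_algebraMap_smul fun r x => by
    show algebraMap T C r • x = algebraMap T T' r • x
    rw [← algebraMap_smul C' (algebraMap T C r) x, ← IsScalarTower.algebraMap_apply,
      IsScalarTower.algebraMap_apply T T' C', algebraMap_smul]
  exact Groth.L20.flat_localizedModule_of_isBaseChange (R := T) (R' := T') f
    (Groth.L20.isBaseChange_restrictScalars (R := T) (R' := T') hf) Q.primeCompl Q'.primeCompl fun x hx => hx

/-- Flatness at a prime descends along a flat quasi-finite change of the base. -/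
theorem flatAt_of_baseChange [Algebra.QuasiFinite T T'] [Module.Flat T T'] (hf : IsBaseChange C' f) {d : ℕ}
    (h : FlatCA.FlatInDimGE d T' C' N') (t : Ideal T) (Q : Ideal C) [t.IsPrime] [Q.IsPrime] [hQ : Q.LiesOver t]
    (t' : Ideal T') [t'.IsPrime] (ht' : t'.comap (algebraMap T T') = t) (hd : (d : Cardinal.{u}) ≤ relTrdeg t Q) :
    FlatCA.FlatAt T Q N := by
  obtain ⟨Q', hQ', e₁, e₂⟩ := Groth.L20.exists_prime_isPushout (R := T) (S := C) (R' := T') (S' := C') Q t'
    (by rw [ht']; exact hQ.over.symm)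
  haveI := hQ'
  haveI : t'.LiesOver t := ⟨ht'.symm⟩
  haveI : Q'.LiesOver t' := ⟨e₂.symm⟩
  haveI : Q'.LiesOver Q := ⟨e₁.symm⟩
  have hfl : FlatCA.FlatAt T' Q' N' :=
    (flatInDimGE_iff_relTrdeg d N').1 h t' Q' (hd.trans (le_relTrdeg_baseChange t t' Q Q'))
  letI : Module T N' := Module.compHom N' (algebraMap T T')
  haveI : IsScalarTower T T' N' := IsScalarTower.of_algebraMap_smul fun _ _ => rfl
  haveI : IsScalarTower T C N' := IsScalarTower.of_algebraMap_smul fun r x => by
    show algebraMap T C r • x = algebraMap T T' r • x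
    rw [← algebraMap_smul C' (algebraMap T C r) x, ← IsScalarTower.algebraMap_apply,
      IsScalarTower.algebraMap_apply T T' C', algebraMap_smul]
  haveI : IsScalarTower T C' N' := IsScalarTower.of_algebraMap_smul fun r x => by
    show algebraMap T C' r • x = algebraMap T T' r • x
    rw [IsScalarTower.algebraMap_apply T T' C', algebraMap_smul]
  haveI : Module.Flat T' (LocalizedModule Q'.primeCompl N') := hfl
  haveI : IsScalarTower T T' (LocalizedModule Q'.primeCompl N') :=
    isScalarTower_localizedModule (R := T) (R' := T') (S := C') (M := N') Q'.primeCompl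
  haveI : Module.Flat T (LocalizedModule Q'.primeCompl N') := Module.Flat.trans T T' _
  haveI : Module.Flat C C' := by
    haveI : Algebra.IsPushout T T' C C' := Algebra.IsPushout.symm inferInstance
    exact Module.Flat.of_linearEquiv (Algebra.IsPushout.equiv T C T' C').symm.toLinearEquiv
  exact flatAt_of_flat_above f hf Q' inferInstance Q e₁.ge

end BaseChange

section BaseChangeBC

variable {T T' C : Type u} [CommRing T] [CommRing T'] [CommRing C] [Algebra T T'] [Algebra T C]
  (N : Type u) [AddCommGroup N] [Module C N] [Module T N] [IsScalarTower T C N]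

theorem flatBC_of_flatInDimGE' {d : ℕ} (h : FlatCA.FlatInDimGE d T C N) : FlatBC T d T' C N := by
  haveI : Algebra.IsPushout T C T' (T' ⊗[T] C) := Algebra.IsPushout.symm inferInstance
  exact flatInDimGE_baseChange N _ (TensorProduct.isBaseChange C N (T' ⊗[T] C)) h

theorem flatAt_of_flatBC' [Algebra.QuasiFinite T T'] [Module.Flat T T'] {d : ℕ} (h : FlatBC T d T' C N)
    (t : Ideal T) (Q : Ideal C) [t.IsPrime] [Q.IsPrime] [Q.LiesOver t] (t' : Ideal T') [t'.IsPrime]
    (ht' : t'.comap (algebraMap T T') = t) (hd : (d : Cardinal.{u}) ≤ relTrdeg t Q) : FlatCA.FlatAt T Q N := by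
  haveI : Algebra.IsPushout T C T' (T' ⊗[T] C) := Algebra.IsPushout.symm inferInstance
  exact flatAt_of_baseChange N _ (TensorProduct.isBaseChange C N (T' ⊗[T] C)) h t Q t' ht' hd

end BaseChangeBC

section FlatBC

variable {A B : Type u} [CommRing A] [CommRing B] [Algebra A B] (N : Type u) [AddCommGroup N] [Module B N]

/-- `FlatBC` computed in two steps. -/
theorem flatBC_tower (A' : Type u) [CommRing A'] [Algebra A A'] {BA NA : Type u} [CommRing BA] [Algebra B BA]
    [Algebra A' BA] [Algebra A BA] [IsScalarTower A B BA] [IsScalarTower A A' BA] [Algebra.IsPushout A B A' BA]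
    [AddCommGroup NA] [Module BA NA] [Module B NA] [IsScalarTower B BA NA] (f : N →ₗ[B] NA) (hf : IsBaseChange BA f)
    (T : Type u) [CommRing T] [Algebra A T] [Algebra A' T] [IsScalarTower A A' T] (d : ℕ) :
    FlatBC A d T B N ↔ FlatBC A' d T BA NA := by
  let BT := T ⊗[A'] BA
  letI : Algebra B BT := ((algebraMap BA BT).comp (algebraMap B BA)).toAlgebra
  haveI : IsScalarTower B BA BT := IsScalarTower.of_algebraMap_eq' rfl
  haveI : IsScalarTower A A' BT := IsScalarTower.of_algebraMap_eq (R := A) (S := A') (A := BT) fun a => by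
    show algebraMap A T a ⊗ₜ[A'] (1 : BA) = algebraMap A' T (algebraMap A A' a) ⊗ₜ[A'] (1 : BA)
    rw [← IsScalarTower.algebraMap_apply]
  haveI : IsScalarTower A BA BT := IsScalarTower.of_algebraMap_eq (R := A) (S := BA) (A := BT) fun a => by
    rw [IsScalarTower.algebraMap_apply A A' BA, ← IsScalarTower.algebraMap_apply A' BA BT,
      ← IsScalarTower.algebraMap_apply A A' BT]
  haveI : IsScalarTower A B BT := IsScalarTower.of_algebraMap_eq (R := A) (S := B) (A := BT) fun a => by
    rw [IsScalarTower.algebraMap_apply A BA BT, IsScalarTower.algebraMap_apply A B BA]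
    rfl
  haveI : IsScalarTower A T BT := IsScalarTower.of_algebraMap_eq (R := A) (S := T) (A := BT) fun a => rfl
  haveI : Algebra.IsPushout A' BA T BT := Algebra.IsPushout.symm inferInstance
  haveI : Algebra.IsPushout A B T BT := by
    haveI : Algebra.IsPushout A A' B BA := Algebra.IsPushout.symm inferInstance
    haveI : Algebra.IsPushout A' T BA BT := Algebra.IsPushout.symm inferInstance
    exact Algebra.IsPushout.symm ((Algebra.IsPushout.comp_iff (R := A) (S := A') (T := T) (R' := B) BA (T' := BT)).2 inferInstance)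
  exact flatBC_iff_model (A := A) (T := T) (((TensorProduct.mk BA BT NA 1).restrictScalars B) ∘ₗ f)
    (hf.comp (TensorProduct.isBaseChange BA NA BT)) d

/-- `FlatBC` is inherited by further changes of the base. -/
theorem flatBC_comp (T T' : Type u) [CommRing T] [CommRing T'] [Algebra A T] [Algebra A T'] [Algebra T T']
    [IsScalarTower A T T'] {d : ℕ} (h : FlatBC A d T B N) : FlatBC A d T' B N := by
  rw [flatBC_tower (A := A) N T (TensorProduct.mk B (T ⊗[A] B) N 1) (TensorProduct.isBaseChange B N (T ⊗[A] B)) T' d]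
  exact flatBC_of_flatInDimGE' _ h

/-- `FlatBC` may be checked on a jointly surjective family of étale algebras. -/
theorem flatBC_of_local (T : Type u) [CommRing T] [Algebra A T] {d : ℕ}
    (h : ∀ (t : Ideal T) [t.IsPrime], ∃ (T' : Type u) (_ : CommRing T') (_ : Algebra T T') (_ : Algebra A T')
      (_ : IsScalarTower A T T') (t' : Ideal T'), Algebra.Etale T T' ∧ t'.IsPrime ∧
        t'.comap (algebraMap T T') = t ∧ FlatBC A d T' B N) : FlatBC A d T B N := by
  rw [FlatBC, flatInDimGE_iff_relTrdeg]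
  intro t Q _ _ _ hd
  obtain ⟨T', _, _, _, _, t', het, ht', e, hT'⟩ := h t
  haveI := ht'
  haveI := het
  rw [flatBC_tower (A := A) N T (TensorProduct.mk B (T ⊗[A] B) N 1) (TensorProduct.isBaseChange B N (T ⊗[A] B)) T' d]
    at hT'
  exact flatAt_of_flatBC' _ hT' t Q t' e hd

end FlatBC

section Charts

variable {T C : Type u} [CommRing T] [CommRing C] [Algebra T C] [Algebra.FiniteType T C]
  (N : Type u) [AddCommGroup N] [Module C N] [Module T N] [IsScalarTower T C N] [Module.Finite C N]
  {k : ℕ} (Ci : Fin k → Type u) [∀ i, CommRing (Ci i)] [∀ i, Algebra C (Ci i)] [∀ i, Algebra T (Ci i)]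
  [∀ i, IsScalarTower T C (Ci i)] [∀ i, Module.Flat C (Ci i)] [∀ i, Algebra.QuasiFinite C (Ci i)]
  (Ni : Fin k → Type u) [∀ i, AddCommGroup (Ni i)] [∀ i, Module (Ci i) (Ni i)] [∀ i, Module C (Ni i)]
  [∀ i, IsScalarTower C (Ci i) (Ni i)] [∀ i, Module T (Ni i)] [∀ i, IsScalarTower T (Ci i) (Ni i)]
  (g : ∀ i, N →ₗ[C] Ni i)

/-- Flatness in high dimensions can be read on quasi-finite flat charts through the associated points of the fibres. -/
theorem flatInDimGE_iff_charts (hg : ∀ i, IsBaseChange (Ci i) (g i))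
    (hcov : ∀ (t : Ideal T) (q : Ideal C) [t.IsPrime] [q.IsPrime] [q.LiesOver t],
      q ∈ FlatCA.weakAss C (N ⊗[T] t.ResidueField) →
        ∃ (i : Fin k) (Q : Ideal (Ci i)), Q.IsPrime ∧ Q.comap (algebraMap C (Ci i)) = q) (d : ℕ) :
    FlatCA.FlatInDimGE d T C N ↔ ∀ i, FlatCA.FlatInDimGE d T (Ci i) (Ni i) := by
  haveI : ∀ i, IsScalarTower T C (Ni i) := fun i => IsScalarTower.of_algebraMap_smul fun r x => by
    rw [← algebraMap_smul (Ci i) (algebraMap T C r) x, ← IsScalarTower.algebraMap_apply, algebraMap_smul]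
  simp only [flatInDimGE_iff_relTrdeg]
  constructor
  · intro h i t Q _ _ _ hd
    let q := Q.comap (algebraMap C (Ci i))
    haveI : q.IsPrime := Ideal.IsPrime.comap _
    haveI : Q.LiesOver q := ⟨rfl⟩
    haveI : q.LiesOver t := ⟨by
      show t = (Q.comap (algebraMap C (Ci i))).comap (algebraMap T C)
      rw [Ideal.comap_comap, ← IsScalarTower.algebraMap_eq]
      exact Ideal.LiesOver.over⟩
    rw [relTrdeg_eq_of_quasiFinite t q Q] at hd
    haveI : Module.Flat T (LocalizedModule q.primeCompl N) := h t q hd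
    exact Groth.L20.AboveClosed.flat_of_flat_below (g i) (hg i) Q
  · intro h t Q _ _ _ hd
    refine (Groth.Agent.S1201.result N t Q).2 fun q _ hle hqt hass => ?_
    haveI := hqt
    obtain ⟨i, Qi, hQi, e⟩ := hcov t q ((fiberIdeal_mem_ass_iff_weakAss t N q).1 hass)
    haveI := hQi
    haveI : Qi.LiesOver q := ⟨e.symm⟩
    haveI : Qi.LiesOver t := ⟨by
      show t = Qi.comap (algebraMap T (Ci i))
      rw [IsScalarTower.algebraMap_eq T C (Ci i), ← Ideal.comap_comap, e]
      exact hqt.over⟩
    have hfl : FlatCA.FlatAt T Qi (Ni i) :=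
      h i t Qi (by rw [relTrdeg_eq_of_quasiFinite t q Qi]; exact hd.trans (relTrdeg_le_of_le t q Q hle))
    exact flatAt_of_flat_above (g i) (hg i) Qi hfl q e.ge

end Charts

end Groth.L20.RG
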