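import Groth.Agent.L24.Desc.FlatClosure
import Groth.Agent.L13.ModFibre

/-!
# Flat extension of closed subschemes across points of a regular curve
-/

set_option autoImplicit false
set_option linter.style.haveILetI false
set_option backward.isDefEq.respectTransparency.types false
universe u

open CategoryTheory CategoryTheory.Limits AlgebraicGeometry TopologicalSpace

namespace Groth.L20.RG.FlatExtend

open Groth.L24.FlatClosure (isDedekindDomain_app)

variable {Y : Scheme.{u}} [IsIntegral Y] [IsLocallyNoetherian Y]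
  (hY : ∀ y : Y, IsRegularLocalRing (Y.presheaf.stalk y) ∧ ringKrullDim (Y.presheaf.stalk y) ≤ 1)

/-- A nonzero section of the integral base acts injectively on a flat scheme over it. -/
theorem eq_zero_of_appLE_mul_eq_zero {T : Scheme.{u}} (g : T ⟶ Y) [Flat g] {U : Y.Opens} (V : T.Opens)
    (e : V ≤ g ⁻¹ᵁ U) {r : Γ(Y, U)} (hr : r ≠ 0) {s : Γ(T, V)} (h : g.appLE U V e r * s = 0) : s = 0 := by
  apply TopCat.Presheaf.section_ext T.sheaf V
  intro t ht
  show T.presheaf.germ V t ht s = T.presheaf.germ V t ht 0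
  rw [map_zero]
  letI := (g.stalkMap t).hom.toAlgebra
  haveI : Module.Flat (Y.presheaf.stalk (g t)) (T.presheaf.stalk t) := Flat.stalkMap g t
  haveI : Nonempty U := ⟨⟨_, e ht⟩⟩
  let a : Y.presheaf.stalk (g t) := Y.presheaf.germ U (g t) (e ht) r
  have ha : a ≠ 0 := fun h0 => hr (germ_injective_of_isIntegral Y (g t) (e ht) (by rw [map_zero]; exact h0))
  have h2 : a • T.presheaf.germ V t ht s = 0 := by
    show g.stalkMap t (Y.presheaf.germ U (g t) (e ht) r) * _ = 0
    rw [Scheme.Hom.germ_stalkMap_apply]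
    rw [← TopCat.Presheaf.germ_res_apply T.presheaf (homOfLE e) t ht, ← map_mul]
    exact (congrArg (T.presheaf.germ V t ht) h).trans (map_zero _)
  exact (smul_eq_zero.1 h2).resolve_left ha

include hY in
/-- The schematic image of a flat scheme is flat. -/
theorem flat_imageι {X T : Scheme.{u}} (f : X ⟶ Y) (j : T ⟶ X) [QuasiCompact j] [Flat (j ≫ f)] :
    Flat (j.imageι ≫ f) := by
  rw [HasRingHomProperty.iff_exists_appLE (P := @Flat)
    (RingHom.Flat.stableUnderComposition.stableUnderCompositionWithLocalizationAway RingHom.Flat.holdsForLocalizationAway).left]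
  intro x
  obtain ⟨U, hU, hxU, -⟩ := exists_isAffineOpen_mem_and_subset (x := f (j.imageι x)) (U := ⊤) trivial
  obtain ⟨W, hW, hxW, hWU⟩ := exists_isAffineOpen_mem_and_subset (x := j.imageι x) (U := f ⁻¹ᵁ U) hxU
  let V := j.imageι ⁻¹ᵁ W
  have e : V ≤ (j.imageι ≫ f) ⁻¹ᵁ U := fun z hz => hWU hz
  refine ⟨⟨U, hU⟩, ⟨V, hW.preimage _⟩, hxW, e, ?_⟩
  haveI : Nonempty U := ⟨⟨_, hxU⟩⟩
  haveI := isDedekindDomain_app hY hU
  algebraize [((j.imageι ≫ f).appLE U V e).hom]
  show Module.Flat Γ(Y, U) Γ(j.image, V)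
  rw [IsDedekindDomain.flat_iff_torsion_eq_bot, ← Submodule.isTorsionFree_iff_torsion_eq_bot]
  refine Module.IsTorsionFree.of_smul_eq_zero fun r s hrs => ?_
  by_cases hr : r = 0
  · exact Or.inl hr
  right
  replace hrs : (j.imageι ≫ f).appLE U V e r * s = 0 := hrs
  haveI : Flat (j.toImage ≫ j.imageι ≫ f) := by rw [Scheme.Hom.toImage_imageι_assoc]; infer_instance
  have h : (j.imageι ≫ f).appLE U V e ≫ j.toImage.app V = (j.toImage ≫ j.imageι ≫ f).appLE U (j.toImage ⁻¹ᵁ V)
      (fun t ht => e (show j.toImage t ∈ V from ht)) := by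
    rw [Scheme.Hom.app_eq_appLE, Scheme.Hom.appLE_comp_appLE]
  apply j.toImage_app_injective ⟨W, hW⟩
  rw [map_zero]
  have h' := congrArg (j.toImage.app V) hrs
  rw [map_mul, map_zero, ← CommRingCat.comp_apply, h] at h'
  exact eq_zero_of_appLE_mul_eq_zero _ _ _ hr h'

include hY in
/-- Existence and uniqueness of flat extensions. -/
theorem exists_unique_extension {P : Scheme.{u}} (p : P ⟶ Y) [IsLocallyNoetherian P] (U : Y.Opens)
    (hU : (U : Set Y).Nonempty) {X : Scheme.{u}} (i : X ⟶ (p ⁻¹ᵁ U).toScheme) [IsClosedImmersion i]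
    [Flat (i ≫ (p ⁻¹ᵁ U).ι ≫ p)] :
    ∃ (X' : Scheme.{u}) (i' : X' ⟶ P) (j : X ⟶ X'), IsClosedImmersion i' ∧ Flat (i' ≫ p) ∧
      IsPullback j i i' (p ⁻¹ᵁ U).ι ∧
      ∀ (X'' : Scheme.{u}) (i'' : X'' ⟶ P) (j'' : X ⟶ X''), IsClosedImmersion i'' → Flat (i'' ≫ p) →
        IsPullback j'' i i'' (p ⁻¹ᵁ U).ι → ∃ e : X' ≅ X'', e.hom ≫ i'' = i' := by
  let ι := (p ⁻¹ᵁ U).ι
  let c := i ≫ ι
  haveI : QuasiCompact ι := inferInstance
  haveI : Flat (c ≫ p) := by simpa only [c, ι, Category.assoc] using ‹Flat (i ≫ (p ⁻¹ᵁ U).ι ≫ p)›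
  refine ⟨c.image, c.imageι, c.toImage, inferInstance, flat_imageι hY p c, ?_, ?_⟩
  · refine (isPullback_of_isClosedImmersion i c.imageι c.toImage ι
      (Scheme.Hom.toImage_imageι _).symm ?_).flip
    rw [Scheme.Hom.imageι, Scheme.IdealSheafData.ker_subschemeι, Groth.L23.SchKer.comap_ker_of_quasiCompact]
    have sq : IsPullback i (𝟙 X) ι c :=
      (IsPullback.of_horiz_isIso_mono (fst := 𝟙 X) (snd := i) (f := c) (g := ι) ⟨Category.id_comp _⟩).flip
    rw [← sq.isoPullback_inv_fst, Scheme.Hom.ker_comp_of_isIso]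
  · intro X'' i'' j'' _ _ h
    haveI : IsDominant U.ι := ⟨by
      rw [DenseRange, Scheme.Opens.range_ι]
      exact U.2.dense hU⟩
    haveI := IsSchemeTheoreticallyDominant.of_isDominant U.ι
    have sq : IsPullback (i ≫ (p ∣_ U)) j'' U.ι (i'' ≫ p) :=
      h.flip.paste_horiz (isPullback_morphismRestrict p U)
    haveI : IsSchemeTheoreticallyDominant j'' := IsSchemeTheoreticallyDominant.of_isPullback sq
    have hk : i''.ker = c.imageι.ker := by
      rw [Scheme.Hom.imageι, Scheme.IdealSheafData.ker_subschemeι]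
      show _ = (i ≫ ι).ker
      rw [← h.w, Scheme.Hom.ker_comp, j''.ker_eq_bot, Scheme.IdealSheafData.map_bot]
    refine ⟨⟨IsClosedImmersion.lift i'' c.imageι hk.le, IsClosedImmersion.lift c.imageι i'' hk.ge, ?_, ?_⟩,
      IsClosedImmersion.lift_fac _ _ _⟩
    · rw [← cancel_mono c.imageι, Category.assoc, IsClosedImmersion.lift_fac, IsClosedImmersion.lift_fac,
        Category.id_comp]
    · rw [← cancel_mono i'', Category.assoc, IsClosedImmersion.lift_fac, IsClosedImmersion.lift_fac,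
        Category.id_comp]

end Groth.L20.RG.FlatExtend
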