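import Groth.Agent.L06.FlatLimitPreserving
import Groth.Agent.L02.FibFlat.Pointwise

/-!
# Flatness of the pulled back module as a condition on the base
-/

set_option autoImplicit false
set_option linter.style.haveILetI false
set_option backward.isDefEq.respectTransparency.types false
universe u

open CategoryTheory CategoryTheory.Limits AlgebraicGeometry

noncomputable section

namespace Groth.L20.RG

variable {X S : Scheme.{u}} (f : X ⟶ S) (F : X.Modules)

/-- The pullback of `F` to `X ×_S T` is flat over `T`. -/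
def PFlat (T : Scheme.{u}) (t : T ⟶ S) : Prop :=
  FlatMod.IsFlatOver (pullback.snd f t) ((Scheme.Modules.pullback (pullback.fst f t)).obj F)

variable [Coh.IsQCoh F]

theorem pflat_comp {T T' : Scheme.{u}} (t : T ⟶ S) (k : T' ⟶ T) (h : PFlat f F T t) : PFlat f F T' (k ≫ t) :=
  Groth.L06.FlatLimitPreserving.stable_flat f F (Over.homMk k rfl : Over.mk (k ≫ t) ⟶ Over.mk t) h

set_option maxHeartbeats 1000000 in
theorem pflat_local (T : Scheme.{u}) (t : T ⟶ S) (𝒰 : Scheme.OpenCover.{u} T) :
    PFlat f F T t ↔ ∀ i, PFlat f F (𝒰.X i) (𝒰.f i ≫ t) := by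
  refine ⟨fun h i => pflat_comp f F t (𝒰.f i) h, fun h x => ?_⟩
  obtain ⟨i, z, hz⟩ : ∃ i z, 𝒰.f i z = pullback.snd f t x := ⟨_, 𝒰.covers (pullback.snd f t x)⟩
  let k : Over.mk (𝒰.f i ≫ t) ⟶ Over.mk t := Over.homMk (𝒰.f i) rfl
  have hpb := Groth.L06.FlatLimitPreserving.isPullback_XTmap f k
  obtain ⟨x', hx', -⟩ := Scheme.exists_preimage_of_isPullback hpb x z hz.symm
  haveI : IsOpenImmersion k.left := inferInstanceAs (IsOpenImmersion (𝒰.f i))
  haveI : IsOpenImmersion (PicF.XTmap f k) := MorphismProperty.of_isPullback (P := @IsOpenImmersion) hpb.flip inferInstance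
  haveI := Groth.L06.FlatLimitPreserving.isQCoh_ET f F (Over.mk t)
  have := (Groth.L02.FibFlat.isFlatOverAt_openImmersion_iff hpb.w (FGA.ET f F (Over.mk t)) x').1
    ((Groth.L06.FlatLimitPreserving.isFlatOverAt_iff_map f F k x').1 (h i x'))
  rwa [hx'] at this

end Groth.L20.RG
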