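import Groth.Agent.L20.RG.Dev
import Groth.Agent.L20.AboveClosed
import Groth.Agent.L20.RG.Transfer
import Mathlib.RingTheory.Ideal.GoingUp

/-!
# Flatness of base changes at the points over a given point
-/

set_option autoImplicit false
set_option linter.style.haveILetI false
set_option backward.isDefEq.respectTransparency.types false
universe u

open TensorProduct IsLocalRing

noncomputable section

namespace Groth.L20.RG

section Pushout

variable {R R' D D' : Type u} [CommRing R] [CommRing R'] [CommRing D] [CommRing D'] [Algebra R R'] [Algebra R D]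
  [Algebra R' D'] [Algebra D D'] [Algebra R D'] [IsScalarTower R R' D'] [IsScalarTower R D D']
  [Algebra.IsPushout R R' D D']

/-- A pushout has a prime over any compatible pair of primes. -/
theorem exists_prime_of_isPushout (a : Ideal R') [a.IsPrime] (b : Ideal D) [b.IsPrime]
    (h : a.comap (algebraMap R R') = b.comap (algebraMap R D)) :
    ∃ (Q : Ideal D') (_ : Q.IsPrime), Q.comap (algebraMap R' D') = a ∧ Q.comap (algebraMap D D') = b := by
  let r := a.comap (algebraMap R R')
  haveI : r.IsPrime := Ideal.IsPrime.comap _
  let i₁ : r.ResidueField →+* a.ResidueField := Ideal.ResidueField.map r a (algebraMap R R') rfl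
  let i₂ : r.ResidueField →+* b.ResidueField := Ideal.ResidueField.map r b (algebraMap R D) h
  letI := i₁.toAlgebra
  letI := i₂.toAlgebra
  haveI : IsScalarTower R r.ResidueField a.ResidueField := IsScalarTower.of_algebraMap_eq fun x => by
    rw [RingHom.algebraMap_toAlgebra]
    show _ = i₁ (algebraMap R r.ResidueField x)
    simp [i₁, ← IsScalarTower.algebraMap_apply]
  haveI : IsScalarTower R r.ResidueField b.ResidueField := IsScalarTower.of_algebraMap_eq fun x => by
    rw [RingHom.algebraMap_toAlgebra]
    show _ = i₂ (algebraMap R r.ResidueField x)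
    simp [i₂, ← IsScalarTower.algebraMap_apply]
  let W := a.ResidueField ⊗[r.ResidueField] b.ResidueField
  haveI : Nontrivial W := by
    have inj := Module.Flat.rTensor_preserves_injective_linearMap (M := b.ResidueField)
      (Algebra.linearMap r.ResidueField a.ResidueField) (algebraMap r.ResidueField a.ResidueField).injective
    haveI : Nontrivial (r.ResidueField ⊗[r.ResidueField] b.ResidueField) :=
      (TensorProduct.lid r.ResidueField b.ResidueField).toEquiv.nontrivial
    exact inj.nontrivial
  obtain ⟨P, hP⟩ := Ideal.exists_maximal W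
  haveI : IsScalarTower R r.ResidueField W := inferInstance
  let f₁ : R' →ₐ[R] W :=
    (IsScalarTower.toAlgHom R a.ResidueField W).comp (IsScalarTower.toAlgHom R R' a.ResidueField)
  let f₂ : D →ₐ[R] W :=
    ((Algebra.TensorProduct.includeRight (R := r.ResidueField) (A := a.ResidueField)
      (B := b.ResidueField)).restrictScalars R).comp (IsScalarTower.toAlgHom R D b.ResidueField)
  let φ : D' →ₐ[R] W := Algebra.pushoutDesc D' f₁ f₂ fun _ _ => Commute.all _ _
  refine ⟨P.comap φ, Ideal.IsPrime.comap _, ?_, ?_⟩
  · ext x
    rw [Ideal.mem_comap, Ideal.mem_comap, Algebra.pushoutDesc_left]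
    show algebraMap a.ResidueField W (algebraMap R' a.ResidueField x) ∈ P ↔ x ∈ a
    rw [← Ideal.algebraMap_residueField_eq_zero (I := a)]
    constructor
    · intro hx
      by_contra hne
      have hu : IsUnit (algebraMap R' a.ResidueField x) := isUnit_iff_ne_zero.mpr hne
      exact hP.ne_top (Ideal.eq_top_of_isUnit_mem _ hx (hu.map _))
    · intro h0; rw [h0, map_zero]; exact zero_mem _
  · ext x
    rw [Ideal.mem_comap, Ideal.mem_comap, Algebra.pushoutDesc_right]
    show Algebra.TensorProduct.includeRight (algebraMap D b.ResidueField x) ∈ P ↔ x ∈ b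
    rw [← Ideal.algebraMap_residueField_eq_zero (I := b)]
    constructor
    · intro hx
      by_contra hne
      exact hP.ne_top (Ideal.eq_top_of_isUnit_mem _ hx ((isUnit_iff_ne_zero.mpr hne).map _))
    · intro h0; rw [h0, map_zero]; exact zero_mem _

/-- Along a surjection of the base, pushouts are surjective. -/
theorem surjective_of_isPushout (h : Function.Surjective (algebraMap R R')) :
    Function.Surjective (algebraMap D D') := by
  intro a
  induction a using (Algebra.IsPushout.out : IsBaseChange R' (IsScalarTower.toAlgHom R D D').toLinearMap).inductionOn with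
  | zero => exact ⟨0, map_zero _⟩
  | tmul a => exact ⟨a, rfl⟩
  | smul s a ha =>
    obtain ⟨r, rfl⟩ := h s
    obtain ⟨d, rfl⟩ := ha
    exact ⟨r • d, by
      rw [Algebra.smul_def, Algebra.smul_def, map_mul, ← IsScalarTower.algebraMap_apply, ← IsScalarTower.algebraMap_apply]⟩
  | add a b ha hb =>
    obtain ⟨t, ht⟩ := ha
    obtain ⟨t', ht'⟩ := hb
    exact ⟨t + t', by rw [map_add, ht, ht']⟩

end Pushout

/-- The base changes of `M` along `R → R'` are flat over `R'` at all points over the closed point and over `y`. -/
def FlatPts (R D M : Type u) [CommRing R] [CommRing D] [Algebra R D] [AddCommGroup M] [Module D M] (y : Ideal D)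
    (R' : Type u) [CommRing R'] [IsLocalRing R'] [Algebra R R'] : Prop :=
  ∀ (D' M' : Type u) [CommRing D'] [Algebra D D'] [Algebra R' D'] [Algebra R D'] [IsScalarTower R R' D']
    [IsScalarTower R D D'] [Algebra.IsPushout R R' D D'] [AddCommGroup M'] [Module D' M'] [Module D M']
    [IsScalarTower D D' M'] [Module R' M'] [IsScalarTower R' D' M'] (f : M →ₗ[D] M'), IsBaseChange D' f →
    ∀ (Q : Ideal D') [Q.IsPrime], Q.comap (algebraMap R' D') = maximalIdeal R' → Q.comap (algebraMap D D') = y →
      Module.Flat R' (LocalizedModule Q.primeCompl M')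

section Points

variable {R D M : Type u} [CommRing R] [CommRing D] [Algebra R D] [AddCommGroup M] [Module D M]
variable (R' : Type u) [CommRing R'] [IsLocalRing R'] [Algebra R R']

attribute [local instance] Algebra.TensorProduct.rightAlgebra

variable (R D M) in
omit [IsLocalRing R'] in
/-- Models exist. -/
theorem exists_baseChange_model :
    ∃ (D' M' : Type u) (_ : CommRing D') (_ : Algebra D D') (_ : Algebra R' D') (_ : Algebra R D')
      (_ : IsScalarTower R R' D') (_ : IsScalarTower R D D') (_ : Algebra.IsPushout R R' D D') (_ : AddCommGroup M')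
      (_ : Module D' M') (_ : Module D M') (_ : IsScalarTower D D' M') (_ : Module R' M') (_ : IsScalarTower R' D' M')
      (f : M →ₗ[D] M'), IsBaseChange D' f := by
  let D' := R' ⊗[R] D
  let M' := D' ⊗[D] M
  haveI : IsScalarTower R' D' M' := TensorProduct.isScalarTower_left
  exact ⟨D', M', inferInstance, inferInstance, inferInstance, inferInstance, inferInstance, inferInstance,
    inferInstance, inferInstance, inferInstance, inferInstance, inferInstance, inferInstance, inferInstance,
    TensorProduct.mk D D' M 1, TensorProduct.isBaseChange D M D'⟩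

variable {R'}

/-- One model suffices. -/
theorem flatPts_of_model {y : Ideal D} {D' M' : Type u} [CommRing D'] [Algebra D D'] [Algebra R' D'] [Algebra R D']
    [IsScalarTower R R' D'] [IsScalarTower R D D'] [Algebra.IsPushout R R' D D'] [AddCommGroup M'] [Module D' M']
    [Module D M'] [IsScalarTower D D' M'] [Module R' M'] [IsScalarTower R' D' M'] (f : M →ₗ[D] M')
    (hf : IsBaseChange D' f)
    (h : ∀ (Q : Ideal D') [Q.IsPrime], Q.comap (algebraMap R' D') = maximalIdeal R' → Q.comap (algebraMap D D') = y →
      Module.Flat R' (LocalizedModule Q.primeCompl M')) : FlatPts R D M y R' := by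
  intro E N _ _ _ _ _ _ _ _ _ _ _ _ _ g hg Q _ hQm hQy
  let eR : D' ≃ₐ[R'] E := (Algebra.IsPushout.equiv R R' D D').symm.trans (Algebra.IsPushout.equiv R R' D E)
  have heD : ∀ d, eR (algebraMap D D' d) = algebraMap D E d := fun d => by
    show Algebra.IsPushout.equiv R R' D E ((Algebra.IsPushout.equiv R R' D D').symm (algebraMap D D' d)) = _
    rw [Algebra.IsPushout.equiv_symm_algebraMap_right, Algebra.IsPushout.equiv_tmul, map_one, one_mul]
  letI : Algebra D' E := eR.toAlgHom.toRingHom.toAlgebra
  haveI : IsScalarTower D D' E := IsScalarTower.of_algebraMap_eq fun d => (heD d).symm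
  haveI : IsScalarTower R' D' E := IsScalarTower.of_algebraMap_eq fun r => (eR.commutes r).symm
  haveI : Module.Flat D' E := Module.Flat.of_linearEquiv
    (LinearEquiv.ofBijective (Algebra.linearMap D' E) eR.bijective).symm
  letI : Module D' N := Module.compHom N (algebraMap D' E)
  haveI : IsScalarTower D' E N := IsScalarTower.of_algebraMap_smul fun _ _ => rfl
  haveI : IsScalarTower D D' N := IsScalarTower.of_algebraMap_smul fun d n => by
    show algebraMap D' E (algebraMap D D' d) • n = d • n
    rw [← IsScalarTower.algebraMap_apply, algebraMap_smul]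
  haveI : IsScalarTower R' D' N := IsScalarTower.of_algebraMap_smul fun r n => by
    show algebraMap D' E (algebraMap R' D' r) • n = r • n
    rw [← IsScalarTower.algebraMap_apply, algebraMap_smul]
  have hb : IsBaseChange E (hf.lift g) := IsBaseChange.of_comp hf (by rw [hf.lift_comp]; exact hg)
  haveI := h (Q.comap (algebraMap D' E))
    (by rw [Ideal.comap_comap, ← IsScalarTower.algebraMap_eq]; exact hQm)
    (by rw [Ideal.comap_comap, ← IsScalarTower.algebraMap_eq]; exact hQy)
  exact Groth.L20.AboveClosed.flat_of_flat_below (hf.lift g) hb Q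

/-- Invariance under isomorphisms. -/
theorem flatPts_congr {N : Type u} [AddCommGroup N] [Module D N] (e : M ≃ₗ[D] N) (y : Ideal D) :
    FlatPts R D M y R' ↔ FlatPts R D N y R' := by
  constructor
  · intro h D' M' _ _ _ _ _ _ _ _ _ _ _ _ _ f hf
    exact h D' M' (f ∘ₗ e.toLinearMap) (IsBaseChange.of_equiv ((e.baseChange D D' _ _).trans hf.equiv) fun x => by
      simp [IsBaseChange.equiv_tmul])
  · intro h D' M' _ _ _ _ _ _ _ _ _ _ _ _ _ f hf
    exact h D' M' (f ∘ₗ e.symm.toLinearMap) (IsBaseChange.of_equiv ((e.symm.baseChange D D' _ _).trans hf.equiv) fun x => by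
      simp [IsBaseChange.equiv_tmul])

end Points

section Transfer

attribute [local instance] Algebra.TensorProduct.rightAlgebra

variable {R D C M : Type u} [CommRing R] [CommRing D] [CommRing C] [Algebra R D] [Algebra R C] [Algebra D C]
  [IsScalarTower R D C] [AddCommGroup M] [Module C M] [Module D M] [IsScalarTower D C M]

set_option maxHeartbeats 800000 in
/-- Along a finite map with a unique point over `y`. -/
theorem flatPts_transfer [Module.Finite D C] (y : Ideal D) (z : Ideal C) [z.IsPrime]
    (hzy : z.comap (algebraMap D C) = y)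
    (huniq : ∀ (z₁ : Ideal C) [z₁.IsPrime], z₁.comap (algebraMap D C) = y → z₁ = z)
    (R' : Type u) [CommRing R'] [IsLocalRing R'] [Algebra R R'] :
    FlatPts R C M z R' ↔ FlatPts R D M y R' := by
  let D' := R' ⊗[R] D
  let C' := R' ⊗[R] C
  let φ : D' →ₐ[R'] C' := Algebra.TensorProduct.map (AlgHom.id R' R') (IsScalarTower.toAlgHom R D C)
  letI : Algebra D' C' := φ.toRingHom.toAlgebra
  haveI : IsScalarTower R' D' C' := IsScalarTower.of_algebraMap_eq' φ.comp_algebraMap.symm
  letI : Algebra D C' := ((algebraMap C C').comp (algebraMap D C)).toAlgebra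
  haveI : IsScalarTower D C C' := IsScalarTower.of_algebraMap_eq' rfl
  haveI : IsScalarTower D D' C' := IsScalarTower.of_algebraMap_eq fun d => by
    show (1 : R') ⊗ₜ[R] algebraMap D C d = φ ((1 : R') ⊗ₜ[R] d)
    rw [Algebra.TensorProduct.map_tmul]; rfl
  haveI : IsScalarTower R D C' := IsScalarTower.of_algebraMap_eq fun r => by
    show algebraMap R C' r = algebraMap C C' (algebraMap D C (algebraMap R D r))
    rw [← IsScalarTower.algebraMap_apply R D C, ← IsScalarTower.algebraMap_apply R C C']
  haveI : IsScalarTower R D' C' := IsScalarTower.of_algebraMap_eq fun r => by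
    rw [IsScalarTower.algebraMap_apply R R' C', IsScalarTower.algebraMap_apply R' D' C',
      ← IsScalarTower.algebraMap_apply R R' D']
  haveI hDC : Algebra.IsPushout D C D' C' := by
    haveI : Algebra.IsPushout R D R' D' := Algebra.IsPushout.symm inferInstance
    haveI h2 : Algebra.IsPushout R C R' C' := Algebra.IsPushout.symm inferInstance
    exact (Algebra.IsPushout.comp_iff R D R' D' (T := C) (T' := C')).mp h2
  haveI : Algebra.IsPushout D D' C C' := Algebra.IsPushout.symm hDC
  haveI : Module.Finite D' C' := Module.Finite.equiv (Algebra.IsPushout.equiv D D' C C').toLinearEquiv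
  haveI : Algebra.IsIntegral D' C' := Algebra.IsIntegral.of_finite _ _
  let M' := C' ⊗[C] M
  haveI : IsScalarTower R' C' M' := TensorProduct.isScalarTower_left
  haveI : IsScalarTower D' C' M' := TensorProduct.isScalarTower_left
  haveI : IsScalarTower R' D' M' := TensorProduct.isScalarTower_left
  haveI : IsScalarTower D C M' := TensorProduct.isScalarTower_left
  haveI : IsScalarTower D D' M' := TensorProduct.isScalarTower_left
  have hC : IsBaseChange C' (TensorProduct.mk C C' M 1) := TensorProduct.isBaseChange C M C'
  have hD : IsBaseChange D' ((TensorProduct.mk C C' M 1).restrictScalars D) :=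
    isBaseChange_mk_of_isPushout (A := D) (D := C) D' C' M
  constructor
  · intro h
    refine flatPts_of_model _ hD fun Q _ hQm hQy => ?_
    refine Groth.L20.AboveClosed.flat_of_forall_above (C' := C') Q fun P _ hP => ?_
    refine h C' M' _ hC P ?_ (huniq _ ?_)
    · rw [IsScalarTower.algebraMap_eq R' D' C', ← Ideal.comap_comap, hP, hQm]
    · rw [Ideal.comap_comap, ← IsScalarTower.algebraMap_eq, IsScalarTower.algebraMap_eq D D' C', ← Ideal.comap_comap,
        hP, hQy]
  · intro h
    refine flatPts_of_model _ hC fun P _ hPm hPz => ?_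
    haveI := h D' M' _ hD (P.comap (algebraMap D' C'))
      (by rw [Ideal.comap_comap, ← IsScalarTower.algebraMap_eq, hPm])
      (by rw [Ideal.comap_comap, ← IsScalarTower.algebraMap_eq, IsScalarTower.algebraMap_eq D C C', ← Ideal.comap_comap,
        hPz, hzy])
    exact Groth.L20.AboveClosed.flat_above_of_flat (B' := D') P

end Transfer

section Descent

attribute [local instance] Algebra.TensorProduct.rightAlgebra

variable {R S C N Nc : Type u} [CommRing R] [CommRing S] [CommRing C] [Algebra R S] [Algebra R C] [Algebra S C]
  [IsScalarTower R S C] [AddCommGroup N] [Module S N] [AddCommGroup Nc] [Module C Nc] [Module S Nc]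
  [IsScalarTower S C Nc]

set_option maxHeartbeats 800000 in
/-- Along a flat map. -/
theorem flatPts_iff_of_flat [Module.Flat S C] (g : N →ₗ[S] Nc) (hg : IsBaseChange C g) (q : Ideal S) [q.IsPrime]
    (z : Ideal C) [z.IsPrime] (hzq : z.comap (algebraMap S C) = q) (R' : Type u) [CommRing R'] [IsLocalRing R']
    [Algebra R R'] :
    FlatPts R S N q R' ↔ FlatPts R C Nc z R' := by
  let S' := R' ⊗[R] S
  let C' := R' ⊗[R] C
  let φ : S' →ₐ[R'] C' := Algebra.TensorProduct.map (AlgHom.id R' R') (IsScalarTower.toAlgHom R S C)
  letI : Algebra S' C' := φ.toRingHom.toAlgebra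
  haveI : IsScalarTower R' S' C' := IsScalarTower.of_algebraMap_eq' φ.comp_algebraMap.symm
  letI : Algebra S C' := ((algebraMap C C').comp (algebraMap S C)).toAlgebra
  haveI : IsScalarTower S C C' := IsScalarTower.of_algebraMap_eq' rfl
  haveI : IsScalarTower S S' C' := IsScalarTower.of_algebraMap_eq fun d => by
    show (1 : R') ⊗ₜ[R] algebraMap S C d = φ ((1 : R') ⊗ₜ[R] d)
    rw [Algebra.TensorProduct.map_tmul]; rfl
  haveI : IsScalarTower R S C' := IsScalarTower.of_algebraMap_eq fun r => by
    show algebraMap R C' r = algebraMap C C' (algebraMap S C (algebraMap R S r))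
    rw [← IsScalarTower.algebraMap_apply R S C, ← IsScalarTower.algebraMap_apply R C C']
  haveI : IsScalarTower R S' C' := IsScalarTower.of_algebraMap_eq fun r => by
    rw [IsScalarTower.algebraMap_apply R R' C', IsScalarTower.algebraMap_apply R' S' C',
      ← IsScalarTower.algebraMap_apply R R' S']
  haveI hSC : Algebra.IsPushout S S' C C' := by
    haveI : Algebra.IsPushout R S R' S' := Algebra.IsPushout.symm inferInstance
    haveI h2 : Algebra.IsPushout R C R' C' := Algebra.IsPushout.symm inferInstance
    haveI : Algebra.IsPushout S C S' C' := (Algebra.IsPushout.comp_iff R S R' S' (T := C) (T' := C')).mp h2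
    exact Algebra.IsPushout.symm inferInstance
  haveI : Module.Flat S' C' := Module.Flat.isBaseChange S S' C C' hSC.out
  let N' := S' ⊗[S] N
  haveI : IsScalarTower R' S' N' := TensorProduct.isScalarTower_left
  let M' := C' ⊗[C] Nc
  haveI : IsScalarTower R' C' M' := TensorProduct.isScalarTower_left
  haveI : IsScalarTower S' C' M' := TensorProduct.isScalarTower_left
  haveI : IsScalarTower R' S' M' := TensorProduct.isScalarTower_left
  haveI : IsScalarTower S C M' := TensorProduct.isScalarTower_left
  haveI : IsScalarTower S S' M' := TensorProduct.isScalarTower_left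
  have hS : IsBaseChange S' (TensorProduct.mk S S' N 1) := TensorProduct.isBaseChange S N S'
  have hC : IsBaseChange C' (TensorProduct.mk C C' Nc 1) := TensorProduct.isBaseChange C Nc C'
  let G : N' →ₗ[S'] M' := hS.lift ((TensorProduct.mk C C' Nc 1).restrictScalars S ∘ₗ g)
  have hG : IsBaseChange C' G := IsBaseChange.of_comp hS (by
    rw [hS.lift_comp]; exact hg.comp hC)
  constructor
  · intro h
    refine flatPts_of_model _ hC fun P _ hPm hPz => ?_
    haveI := h S' N' _ hS (P.comap (algebraMap S' C'))
      (by rw [Ideal.comap_comap, ← IsScalarTower.algebraMap_eq, hPm])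
      (by rw [Ideal.comap_comap, ← IsScalarTower.algebraMap_eq, IsScalarTower.algebraMap_eq S C C', ← Ideal.comap_comap,
        hPz, hzq])
    exact Groth.L20.AboveClosed.flat_of_flat_below G hG P
  · intro h
    refine flatPts_of_model _ hS fun Q _ hQm hQq => ?_
    obtain ⟨P, hP, hPQ, hPz⟩ := exists_prime_of_isPushout (R := S) (R' := S') (D := C) (D' := C') Q z
      (by rw [hQq, hzq])
    haveI := hP
    haveI := h C' M' _ hC P (by rw [IsScalarTower.algebraMap_eq R' S' C', ← Ideal.comap_comap, hPQ, hQm]) hPz
    exact Groth.L20.AboveClosed.flat_of_flat_above G hG P Q hPQ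

end Descent

end Groth.L20.RG
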