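import Groth.Agent.L20.RG.FlatPtsStep

/-!
# The ideal of the flat locus along a complete dévissage
-/

set_option autoImplicit false
set_option linter.style.haveILetI false
set_option backward.isDefEq.respectTransparency.types false
universe u

open TensorProduct IsLocalRing

noncomputable section

namespace Groth.L20.RG

theorem flatPts_of_subsingleton {R D M : Type u} [CommRing R] [CommRing D] [Algebra R D] [AddCommGroup M] [Module D M]
    [Subsingleton M] (y : Ideal D) (R' : Type u) [CommRing R'] [IsLocalRing R'] [Algebra R R'] :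
    FlatPts R D M y R' := by
  intro D' M' _ _ _ _ _ _ _ _ _ _ _ _ _ f hf Q _ _ _
  haveI : Subsingleton (D' ⊗[D] M) := ⟨fun a b => by
    have h0 : ∀ z : D' ⊗[D] M, z = 0 := fun z => by
      induction z using TensorProduct.induction_on with
      | zero => rfl
      | add u v hu hv => rw [hu, hv, add_zero]
      | tmul c m => rw [Subsingleton.elim m 0, TensorProduct.tmul_zero]
    rw [h0 a, h0 b]⟩
  haveI : Subsingleton M' := hf.equiv.symm.toEquiv.subsingleton
  haveI : Subsingleton (LocalizedModule Q.primeCompl M') := ⟨fun a b => by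
    induction a using LocalizedModule.induction_on with
    | _ m s =>
      induction b using LocalizedModule.induction_on with
      | _ n t => exact LocalizedModule.mk_eq.mpr ⟨1, Subsingleton.elim _ _⟩⟩
  infer_instance

variable {R : Type u} [CommRing R] [IsLocalRing R] {S : Type u} [CommRing S] [Algebra R S]
  {N : Type u} [AddCommGroup N] [Module S N] [Module R N] [IsScalarTower R S N]

set_option maxHeartbeats 1000000 in
/-- **The ideal of flatness along a dévissage.** -/
theorem exists_ideal_of_dev (D : FlatCA.CompleteDevissage R S N (maximalIdeal R)) {q : Ideal S} [q.IsPrime]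
    (E : FlatCA.CompleteDevissageAt R S N (maximalIdeal R) q D) :
    ∃ I : Ideal R, ∀ (R' : Type u) [CommRing R'] [IsLocalRing R'] [Algebra R R'] [IsLocalHom (algebraMap R R')],
      FlatPts R S N q R' ↔ I ≤ RingHom.ker (algebraMap R R') := by
  have hqB := E.hqB
  have hqA := E.hqA
  have hoverA := E.overA
  have hoverB := E.overB
  haveI := fun i => isScalarTower_base D i
  haveI := isScalarTower_zero D
  haveI := fun i => isScalarTower_succ D i
  -- from the finite algebra to the smooth one
  have hAB : ∀ i (hi : i < D.n) (R' : Type u) [CommRing R'] [IsLocalRing R'] [Algebra R R'],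
      FlatPts R (D.A i) (D.M i) (E.qA i) R' ↔ FlatPts R (D.B i) (D.M i) (E.qB i) R' := fun i hi R' _ _ _ => by
    haveI := D.finiteBA i hi
    exact flatPts_transfer (E.qB i) (E.qA i) (Ideal.over_def (E.qA i) (E.qB i)).symm
      (fun z₁ _ h => E.uniq i hi z₁ ⟨h.symm⟩) R'
  have hmain : ∀ i, i < D.n → ∃ I : Ideal R, ∀ (R' : Type u) [CommRing R'] [IsLocalRing R'] [Algebra R R']
      [IsLocalHom (algebraMap R R')],
      FlatPts R (D.A i) (D.M i) (E.qA i) R' ↔ I ≤ RingHom.ker (algebraMap R R') := by
    have hstep : ∀ i (hi : i < D.n) (I₁ : Ideal R),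
        (∀ (R' : Type u) [CommRing R'] [IsLocalRing R'] [Algebra R R'] [IsLocalHom (algebraMap R R')],
          FlatPts R (D.B i) (D.M i ⧸ LinearMap.range (D.α i)) (E.qB i) R' ↔ I₁ ≤ RingHom.ker (algebraMap R R')) →
        ∃ I : Ideal R, ∀ (R' : Type u) [CommRing R'] [IsLocalRing R'] [Algebra R R'] [IsLocalHom (algebraMap R R')],
          FlatPts R (D.A i) (D.M i) (E.qA i) R' ↔ I ≤ RingHom.ker (algebraMap R R') := by
      intro i hi I₁ hI₁
      haveI := D.smooth i hi
      haveI := D.hp i
      have hdom := DomFib.of_smooth_geomIrredFibres (D.geomIrred i hi)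
      let ξ := (maximalIdeal R).map (algebraMap R (D.B i))
      obtain ⟨I, hI⟩ := step_global (D.α i) (E.qB i) hdom (Ideal.over_def (E.qB i) (maximalIdeal R)).symm
        (fun K _ _ hK => by
          let φ : ξ.ResidueField →+* K := Ideal.ResidueField.lift ξ (algebraMap (D.B i) K) hK.ge
            (fun x hx => isUnit_iff_ne_zero.mpr fun h => hx (hK.le (RingHom.mem_ker.mpr h)))
          letI := φ.toAlgebra
          haveI : IsScalarTower (D.B i) ξ.ResidueField K :=
            IsScalarTower.of_algebraMap_eq fun x => (Ideal.ResidueField.lift_algebraMap ..).symm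
          exact bijective_baseChange_of_bijective (D.α i) ξ.ResidueField K (D.fibreIso i hi)) I₁ hI₁
      exact ⟨I, fun R' _ _ _ _ => (hAB i hi R').trans (hI R')⟩
    refine descending (n := D.n) (P := fun i => ∃ I : Ideal R, ∀ (R' : Type u) [CommRing R'] [IsLocalRing R'] [Algebra R R']
      [IsLocalHom (algebraMap R R')],
      FlatPts R (D.A i) (D.M i) (E.qA i) R' ↔ I ≤ RingHom.ker (algebraMap R R')) ?_ ?_
    · have hn := Nat.sub_lt D.pos one_pos
      haveI : Subsingleton (D.M (D.n - 1) ⧸ LinearMap.range (D.α (D.n - 1))) :=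
        Submodule.Quotient.subsingleton_iff.mpr (LinearMap.range_eq_top.mpr D.cokerLast)
      exact hstep _ hn ⊥ fun R' _ _ _ _ => ⟨fun _ => bot_le, fun _ => flatPts_of_subsingleton _ R'⟩
    · intro i hi ih
      obtain ⟨I₁, hI₁⟩ := ih
      refine hstep i (by omega) I₁ fun R' _ _ _ _ => ?_
      rw [flatPts_congr (D.isoCoker i hi), ← hI₁ R']
      haveI : Module.Finite (D.B i) (D.A (i + 1)) :=
        Module.Finite.of_surjective (Algebra.linearMap (D.B i) (D.A (i + 1))) (D.surjBA' i hi)
      exact (flatPts_transfer (E.qB i) (E.qA (i + 1)) (E.qStep i hi) (fun z₁ _ h =>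
        Ideal.comap_injective_of_surjective _ (D.surjBA' i hi) (h.trans (E.qStep i hi).symm)) R').symm
  obtain ⟨I, hI⟩ := hmain 0 D.pos
  refine ⟨I, fun R' _ _ _ _ => ?_⟩
  rw [flatPts_congr D.isoN, ← hI R']
  haveI : Module.Finite S (D.A 0) := Module.Finite.of_surjective (Algebra.linearMap S (D.A 0)) D.surjSA
  exact (flatPts_transfer q (E.qA 0) E.q0 (fun z₁ _ h =>
    Ideal.comap_injective_of_surjective _ D.surjSA (h.trans E.q0.symm)) R').symm

end Groth.L20.RG
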