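import Groth.Agent.L20.RG.PureProj

/-!
# Models and content arguments for universal injectivity from the fibres
-/

set_option autoImplicit false
set_option linter.style.haveILetI false
set_option backward.isDefEq.respectTransparency.types false
universe u

open TensorProduct IsLocalRing

noncomputable section

namespace Groth.L20.RG

/-- A finitely presented module over a localisation comes from a finitely presented module. -/
theorem exists_fp_localization_model {B : Type u} [CommRing B] (T : Submonoid B) (N : Type u) [AddCommGroup N]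
    [Module (Localization T) N] [Module B N] [IsScalarTower B (Localization T) N]
    [Module.FinitePresentation (Localization T) N] :
    ∃ (N₀ : Type u) (_ : AddCommGroup N₀) (_ : Module B N₀) (_ : Module.FinitePresentation B N₀) (l : N₀ →ₗ[B] N),
      IsLocalizedModule T l := by
  classical
  let L := Localization T
  obtain ⟨n, π, hπ⟩ := Module.Finite.exists_fin' L N
  obtain ⟨F, hF⟩ := Module.FinitePresentation.fg_ker π hπ
  let ι : (Fin n → B) →ₗ[B] (Fin n → L) := (Algebra.linearMap B L).compLeft (Fin n)
  have hclear : ∀ v : Fin n → L, ∃ c : T, ∃ w, (c : B) • v = ι w := fun v => by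
    obtain ⟨c, hc⟩ := IsLocalization.exist_integer_multiples_of_finite T v
    choose w hw using hc
    exact ⟨c, w, funext fun i => (hw i).symm⟩
  choose c w hw using hclear
  let K₀ : Submodule B (Fin n → B) := Submodule.span B (w '' (F : Set (Fin n → L)))
  haveI : Module.FinitePresentation B ((Fin n → B) ⧸ K₀) :=
    Module.finitePresentation_of_surjective K₀.mkQ K₀.mkQ_surjective
      (by rw [Submodule.ker_mkQ]; exact Submodule.fg_span (F.finite_toSet.image w))
  let πB : (Fin n → B) →ₗ[B] N := (π.restrictScalars B).comp ι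
  have hK : K₀ ≤ LinearMap.ker πB := Submodule.span_le.mpr fun x hx => by
    obtain ⟨v, hv, rfl⟩ := hx
    show π (ι (w v)) = 0
    rw [← hw, LinearMap.map_smul_of_tower, show π v = 0 from hF.le (Submodule.subset_span hv), smul_zero]
  let l := K₀.liftQ πB hK
  refine ⟨_, inferInstance, inferInstance, inferInstance, l, ?_⟩
  refine IsLocalizedModule.mk (fun s => ?_) (fun y => ?_) fun {x x'} hxx' => ?_
  · obtain ⟨e, he⟩ := (IsLocalization.map_units L s).exists_left_inv
    refine (Module.End.isUnit_iff _).mpr ⟨fun a b hab => ?_, fun a => ⟨e • a, ?_⟩⟩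
    · have : algebraMap B L s • a = algebraMap B L s • b := by
        rw [algebraMap_smul, algebraMap_smul]; exact hab
      have h2 : e • algebraMap B L s • a = e • algebraMap B L s • b := congrArg (e • ·) this
      rwa [smul_smul, smul_smul, he, one_smul, one_smul] at h2
    · show (s : B) • e • a = a
      rw [← algebraMap_smul L (s : B) (e • a), smul_smul, mul_comm, he, one_smul]
  · obtain ⟨v, rfl⟩ := hπ y
    refine ⟨⟨K₀.mkQ (w v), c v⟩, ?_⟩
    show (c v : B) • π v = π (ι (w v))
    rw [← hw, LinearMap.map_smul_of_tower]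
  · obtain ⟨a, rfl⟩ := K₀.mkQ_surjective x
    obtain ⟨b, rfl⟩ := K₀.mkQ_surjective x'
    have h0 : ι (a - b) ∈ LinearMap.ker π := by
      show π (ι (a - b)) = 0
      rw [map_sub, map_sub, show π (ι a) = π (ι b) from hxx', sub_self]
    rw [← hF] at h0
    have key : ∀ v ∈ Submodule.span L (F : Set (Fin n → L)), ∃ d : T, ∃ k ∈ K₀, (d : B) • v = ι k := by
      intro v hv
      induction hv using Submodule.span_induction with
      | mem v hv => exact ⟨c v, w v, Submodule.subset_span ⟨v, hv, rfl⟩, hw v⟩
      | zero => exact ⟨1, 0, zero_mem _, by simp⟩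
      | add p q _ _ hp hq =>
        obtain ⟨d, k, hk, hd⟩ := hp
        obtain ⟨d', k', hk', hd'⟩ := hq
        refine ⟨d * d', (d' : B) • k + (d : B) • k', add_mem (Submodule.smul_mem _ _ hk) (Submodule.smul_mem _ _ hk'), ?_⟩
        rw [smul_add, map_add, map_smul, map_smul, ← hd, ← hd', Submonoid.coe_mul, smul_smul, smul_smul,
          mul_comm (d' : B) (d : B)]
      | smul r p _ hp =>
        obtain ⟨d, k, hk, hd⟩ := hp
        obtain ⟨⟨r₀, s⟩, hs⟩ := IsLocalization.surj T r
        refine ⟨s * d, r₀ • k, Submodule.smul_mem _ _ hk, ?_⟩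
        rw [map_smul, ← hd, Submonoid.coe_mul, mul_smul, smul_comm (d : B) r p, ← algebraMap_smul L (s : B),
          ← algebraMap_smul L r₀, ← hs, smul_smul, mul_comm]
    obtain ⟨d, k, hk, hd⟩ := key _ h0
    rw [← map_smul] at hd
    have hzero : ι ((d : B) • (a - b) - k) = 0 := by rw [map_sub, hd, sub_self]
    have hcomp : ∀ i, ∃ e : T, (e : B) * ((d : B) • (a - b) - k) i = 0 := fun i => by
      obtain ⟨e, he⟩ := (IsLocalization.map_eq_zero_iff T L _).mp (congrFun hzero i)
      exact ⟨e, he⟩
    choose e he using hcomp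
    let E : T := ∏ i, e i
    have hE : (E : B) • ((d : B) • (a - b) - k) = 0 := funext fun i => by
      show (E : B) * _ = 0
      rw [show (E : B) = (∏ j ∈ Finset.univ.erase i, (e j : B)) * (e i : B) by
        rw [Finset.prod_erase_mul _ _ (Finset.mem_univ i), ← Submonoid.coe_finsetProd], mul_assoc, he, mul_zero]
    refine ⟨E * d, ?_⟩
    show ((E * d : T) : B) • K₀.mkQ a = ((E * d : T) : B) • K₀.mkQ b
    rw [← sub_eq_zero, ← smul_sub, ← map_sub, ← map_smul, Submodule.mkQ_apply, Submodule.Quotient.mk_eq_zero,
      Submonoid.coe_mul, mul_smul]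
    rw [smul_sub, sub_eq_zero] at hE
    rw [hE]
    exact Submodule.smul_mem _ _ hk

/-- A nonzero tensor with a free module has a nonzero image whose content is killed by the maximal ideal. -/
theorem exists_content_quotient {R F X : Type u} [CommRing R] [IsLocalRing R] [AddCommGroup F] [Module R F]
    [Module.Free R F] [AddCommGroup X] [Module R X] (y : F ⊗[R] X) (hy : y ≠ 0) :
    ∃ (Y : Submodule R X) (K : Submodule R X), K ≤ Y ∧ maximalIdeal R • Y ≤ K ∧
      K.mkQ.lTensor F y ≠ 0 ∧ Y.mkQ.lTensor F y = 0 := by
  classical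
  let b := Module.Free.chooseBasis R F
  let e : ∀ (V : Type u) [AddCommGroup V] [Module R V], F ⊗[R] V ≃ₗ[R] Module.Free.ChooseBasisIndex R F →₀ V :=
    fun V _ _ => (TensorProduct.congr b.repr (LinearEquiv.refl R V)).trans (TensorProduct.finsuppScalarLeft R V _)
  have hnat : ∀ (V : Type u) [AddCommGroup V] [Module R V] (f : X →ₗ[R] V) (i), e V (f.lTensor F y) i = f (e X y i) := by
    intro V _ _ f i
    clear hy
    induction y using TensorProduct.induction_on with
    | zero => simp
    | add a c ha hc => simp only [map_add, Finsupp.add_apply, ha, hc]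
    | tmul n x => simp [e, TensorProduct.finsuppScalarLeft_apply_tmul_apply]
  let Y : Submodule R X := Submodule.span R ↑((e X y).support.image (fun i => e X y i))
  have hmem : ∀ i, e X y i ∈ Y := fun i => by
    by_cases hi : i ∈ (e X y).support
    · exact Submodule.subset_span (Finset.mem_image_of_mem _ hi)
    · rw [Finsupp.notMem_support_iff.mp hi]; exact zero_mem _
  refine ⟨Y, maximalIdeal R • Y, Submodule.smul_le_right, le_rfl, fun h => hy ?_, ?_⟩
  · have hle : Y ≤ maximalIdeal R • Y := Submodule.span_le.mpr fun x hx => by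
      obtain ⟨i, -, rfl⟩ := Finset.mem_image.mp hx
      have := hnat _ (maximalIdeal R • Y).mkQ i
      rw [h, map_zero, Finsupp.zero_apply] at this
      exact (Submodule.Quotient.mk_eq_zero _).mp this.symm
    have hYfg : Y.FG := ⟨_, rfl⟩
    have hbot : Y = ⊥ := Submodule.eq_bot_of_le_smul_of_le_jacobson_bot (maximalIdeal R) Y hYfg hle
      (IsLocalRing.maximalIdeal_le_jacobson ⊥)
    refine (e X).injective (Finsupp.ext fun i => ?_)
    rw [map_zero, Finsupp.zero_apply]
    exact (Submodule.mem_bot R).mp (hbot ▸ hmem i)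
  · refine (e _).injective (Finsupp.ext fun i => ?_)
    rw [map_zero, Finsupp.zero_apply, hnat]
    exact (Submodule.Quotient.mk_eq_zero _).mpr (hmem i)

end Groth.L20.RG
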