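import Groth.Agent.L20.RG.FlatPtsHensel
import Groth.Agent.L20.RG.ClosedFibreAss
import Groth.Agent.L20.RG.UnivInjModel

/-!
# The flat locus ideal for local algebras essentially of finite type
-/

set_option autoImplicit false
set_option linter.style.haveILetI false
set_option backward.isDefEq.respectTransparency.types false
universe u

open TensorProduct IsLocalRing

noncomputable section

namespace Groth.L20.RG

variable {A B : Type u} [CommRing A] [HenselianLocalRing A] [CommRing B] [IsLocalRing B] [Algebra A B]
  [IsLocalHom (algebraMap A B)]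
  (M : Type u) [AddCommGroup M] [Module B M] [Module A M] [IsScalarTower A B M]

/-- From a model. -/
theorem exists_ideal_of_model {S : Type u} [CommRing S] [Algebra A S] [Algebra S B] [IsScalarTower A S B]
    [Algebra.FiniteType A S] (T : Submonoid S) [IsLocalization T B] [Module S M] [IsScalarTower S B M]
    (N₀ : Type u) [AddCommGroup N₀] [Module S N₀] [Module.Finite S N₀] (l : N₀ →ₗ[S] M) [IsLocalizedModule T l] :
    ∃ I : Ideal A,
      (∀ (R' : Type u) [CommRing R'] [IsLocalRing R'] [Algebra A R'] [IsLocalHom (algebraMap A R')],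
        FlatPts A B M (maximalIdeal B) R' ↔ I ≤ RingHom.ker (algebraMap A R')) ∧
      (Algebra.FinitePresentation A S → Module.FinitePresentation S N₀ → I.FG) := by
  let q : Ideal S := (maximalIdeal B).comap (algebraMap S B)
  have hm : (maximalIdeal B).comap (algebraMap A B) = maximalIdeal A :=
    ((local_hom_TFAE (algebraMap A B)).out 0 4 rfl rfl).mp inferInstance
  have hq : q.comap (algebraMap A S) = maximalIdeal A := by
    rw [Ideal.comap_comap, ← IsScalarTower.algebraMap_eq, hm]
  haveI : q.LiesOver (maximalIdeal A) := ⟨hq.symm⟩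
  letI : Module A N₀ := Module.compHom N₀ (algebraMap A S)
  haveI : IsScalarTower A S N₀ := IsScalarTower.of_algebraMap_smul fun _ _ => rfl
  obtain ⟨I, hI⟩ := exists_ideal_of_henselian (A := A) q N₀
  haveI : Module.Flat S B := IsLocalization.flat B T
  have hiff : ∀ (R' : Type u) [CommRing R'] [IsLocalRing R'] [Algebra A R'],
      FlatPts A S N₀ q R' ↔ FlatPts A B M (maximalIdeal B) R' := fun R' _ _ _ =>
    flatPts_iff_of_flat l (IsLocalizedModule.isBaseChange T B l) q (maximalIdeal B) rfl R'
  refine ⟨I, fun R' _ _ _ _ => (hiff R').symm.trans (hI R'), fun hS hN => ?_⟩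
  exact fg_of_flatPts_iff q hq N₀ I hI

set_option maxHeartbeats 1000000 in
/-- **The ideal of the flat locus**, local version. -/
theorem exists_ideal_local [Algebra.EssFiniteType A B] [Module.Finite B M] :
    ∃ I : Ideal A,
      (∀ (R' : Type u) [CommRing R'] [IsLocalRing R'] [Algebra A R'] [IsLocalHom (algebraMap A R')],
        FlatPts A B M (maximalIdeal B) R' ↔ I ≤ RingHom.ker (algebraMap A R')) ∧
      (FlatCA.EssFinitePresentation A B → Module.FinitePresentation B M → I.FG) := by
  obtain ⟨I, hI⟩ : ∃ I : Ideal A, ∀ (R' : Type u) [CommRing R'] [IsLocalRing R'] [Algebra A R']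
      [IsLocalHom (algebraMap A R')], FlatPts A B M (maximalIdeal B) R' ↔ I ≤ RingHom.ker (algebraMap A R') := by
    let S := Algebra.EssFiniteType.subalgebra A B
    let T := Algebra.EssFiniteType.submonoid A B
    haveI : IsLocalization T B := Algebra.EssFiniteType.isLocalization A B
    haveI : IsScalarTower S B M := IsScalarTower.of_algebraMap_smul fun _ _ => rfl
    obtain ⟨N₀, hfin, hloc⟩ := exists_finite_model_of_isLocalization (B := B) T M
    haveI := hfin
    haveI := hloc
    obtain ⟨I, hI, -⟩ := exists_ideal_of_model (A := A) (B := B) M T N₀ N₀.subtype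
    exact ⟨I, hI⟩
  refine ⟨I, hI, fun ⟨S, _, _, _, _, T, hS, hT⟩ hM => ?_⟩
  haveI := hS
  haveI := hT
  let e : Localization T ≃ₐ[S] B := IsLocalization.algEquiv T (Localization T) B
  letI : Module S M := Module.compHom M (algebraMap S B)
  haveI : IsScalarTower S B M := IsScalarTower.of_algebraMap_smul fun _ _ => rfl
  letI : Module (Localization T) M := Module.compHom M e.toAlgHom.toRingHom
  haveI : IsScalarTower S (Localization T) M := IsScalarTower.of_algebraMap_smul fun s m => by
    show e (algebraMap S (Localization T) s) • m = s • m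
    rw [e.commutes, algebraMap_smul]
  haveI : Module.FinitePresentation (Localization T) M := by
    letI : Algebra B (Localization T) := e.symm.toAlgHom.toRingHom.toAlgebra
    haveI : IsScalarTower B (Localization T) M := IsScalarTower.of_algebraMap_smul fun b m => by
      show e (e.symm b) • m = b • m
      rw [e.apply_symm_apply]
    obtain ⟨eM⟩ := exists_equiv_of_bijective (A := B) (A₁ := Localization T) (M := M) e.symm.bijective
    exact Module.FinitePresentation.of_equiv eM
  obtain ⟨N₀, _, _, hN₀, l, hl⟩ := exists_fp_localization_model T M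
  haveI := hl
  haveI := hN₀
  obtain ⟨I', hI', hfg⟩ := exists_ideal_of_model (A := A) (B := B) M T N₀ l
  have hle : ∀ J J' : Ideal A,
      (∀ (R' : Type u) [CommRing R'] [IsLocalRing R'] [Algebra A R'] [IsLocalHom (algebraMap A R')],
        FlatPts A B M (maximalIdeal B) R' ↔ J ≤ RingHom.ker (algebraMap A R')) →
      (∀ (R' : Type u) [CommRing R'] [IsLocalRing R'] [Algebra A R'] [IsLocalHom (algebraMap A R')],
        FlatPts A B M (maximalIdeal B) R' ↔ J' ≤ RingHom.ker (algebraMap A R')) → J ≤ J' := by
    intro J J' hJ hJ'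
    have hJm : J' ≤ maximalIdeal A := by
      haveI : IsLocalHom (algebraMap A (ResidueField A)) := inferInstanceAs (IsLocalHom (IsLocalRing.residue A))
      have := (hJ' (ResidueField A)).mp fun D' M' _ _ _ _ _ _ _ _ _ _ _ _ _ f hf Q _ _ _ => inferInstance
      exact this.trans (IsLocalRing.ker_residue (R := A)).le
    haveI : Nontrivial (A ⧸ J') := Ideal.Quotient.nontrivial_iff.mpr fun h =>
      (maximalIdeal.isMaximal A).ne_top (top_le_iff.mp (h ▸ hJm))
    haveI : IsLocalRing (A ⧸ J') := IsLocalRing.of_surjective' (Ideal.Quotient.mk J') Ideal.Quotient.mk_surjective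
    haveI : IsLocalHom (algebraMap A (A ⧸ J')) := ((local_hom_TFAE (algebraMap A (A ⧸ J'))).out 0 4 rfl rfl).mpr
      (IsLocalRing.eq_maximalIdeal (Ideal.comap_isMaximal_of_surjective _ Ideal.Quotient.mk_surjective))
    exact ((hJ (A ⧸ J')).mp ((hJ' (A ⧸ J')).mpr Ideal.mk_ker.ge)).trans Ideal.mk_ker.le
  rw [le_antisymm (hle I I' hI hI') (hle I' I hI' hI)]
  exact hfg hS hN₀

end Groth.L20.RG
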