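import Groth.Agent.L20.RG.FlatPtsHensel

/-!
# Flatness at a point over a quotient spreads to a neighbourhood and a finitely generated ideal
-/

set_option autoImplicit false
set_option linter.style.haveILetI false
set_option backward.isDefEq.respectTransparency.types false
universe u

open TensorProduct IsLocalRing

noncomputable section

namespace Groth.L20.RG

attribute [local instance] Algebra.TensorProduct.rightAlgebra

variable {A S : Type u} [CommRing A] [IsLocalRing A] [CommRing S] [Algebra A S] [Algebra.FinitePresentation A S]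
  (q : Ideal S) [q.IsPrime] (hq : q.comap (algebraMap A S) = maximalIdeal A)
  (N : Type u) [AddCommGroup N] [Module S N] [Module.FinitePresentation S N]

set_option maxHeartbeats 1000000 in
include hq in
/-- If flat at `q` over `A / I`, flat near `q` over `A / c` for a finitely generated `c ≤ I`. -/
theorem exists_fg_flatPts_nbhd (I : Ideal A) (hIm : I ≤ maximalIdeal A)
    (hflatI : ∀ [IsLocalRing (A ⧸ I)], FlatPts A S N q (A ⧸ I)) :
    ∃ s : S, s ∉ q ∧ ∃ c : Ideal A, c.FG ∧ c ≤ I ∧ ∀ (q₁ : Ideal S), q₁.IsPrime → s ∉ q₁ →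
      ∀ (R' : Type u) [CommRing R'] [IsLocalRing R'] [Algebra A R'], c ≤ RingHom.ker (algebraMap A R') →
        FlatPts A S N q₁ R' := by
  classical
  haveI : Nontrivial (A ⧸ I) := Ideal.Quotient.nontrivial_iff.mpr fun h =>
    (maximalIdeal.isMaximal A).ne_top (top_le_iff.mp (h ▸ hIm))
  haveI : IsLocalRing (A ⧸ I) := IsLocalRing.of_surjective' (Ideal.Quotient.mk I) Ideal.Quotient.mk_surjective
  have hc2 : (maximalIdeal (A ⧸ I)).comap (algebraMap A (A ⧸ I)) = maximalIdeal A :=
    IsLocalRing.eq_maximalIdeal (Ideal.comap_isMaximal_of_surjective _ Ideal.Quotient.mk_surjective)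
  let A₂ := A ⧸ I
  obtain ⟨S₂, N₂, _, _, _, _, _, _, hpush₂, _, _, _, _, _, _, f₂, hf₂⟩ := exists_baseChange_model A S N A₂
  haveI : Module.FinitePresentation S₂ N₂ := Module.FinitePresentation.of_equiv hf₂.equiv
  haveI : Algebra.FinitePresentation A₂ S₂ := Algebra.FinitePresentation.equiv (Algebra.IsPushout.equiv A A₂ S S₂)
  obtain ⟨Q₂, _, hQm, hQq⟩ := exists_prime_of_isPushout (R := A) (R' := A₂) (D := S) (D' := S₂) (maximalIdeal A₂) q
    (by rw [hc2, hq])
  haveI := hflatI S₂ N₂ f₂ hf₂ Q₂ hQm hQq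
  obtain ⟨g, hg, hflat⟩ := Groth.L20.exists_flat_away (R := A₂) (M := N₂) Q₂.primeCompl
  obtain ⟨s, rfl⟩ := surjective_of_isPushout (R := A) (R' := A₂) (D := S) (D' := S₂) Ideal.Quotient.mk_surjective g
  have hsq : s ∉ q := fun h => hg (by rw [← hQq] at h; exact h)
  let C := Localization.Away s
  haveI : Module.Flat S C := IsLocalization.flat C (Submonoid.powers s)
  haveI : Algebra.FinitePresentation A C :=
    Algebra.FinitePresentation.trans A S C
  let Ns := C ⊗[S] N
  haveI : Module.FinitePresentation C Ns := inferInstance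
  haveI : IsScalarTower A C Ns := TensorProduct.isScalarTower_left
  have hg0 : IsBaseChange C (TensorProduct.mk S C N 1) := TensorProduct.isBaseChange S N C
  have hdisj : Disjoint (Submonoid.powers s : Set S) q :=
    Set.disjoint_left.mpr fun x ⟨n, hn⟩ hxq => hsq (Ideal.IsPrime.mem_of_pow_mem inferInstance n ((show s ^ n = x from hn) ▸ hxq))
  let z : Ideal C := q.map (algebraMap S C)
  haveI hz : z.IsPrime := IsLocalization.isPrime_of_isPrime_disjoint _ C q inferInstance hdisj
  have hzq : z.comap (algebraMap S C) = q :=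
    IsLocalization.under_map_of_isPrime_disjoint _ C inferInstance hdisj
  -- the base change to `A / I` of the basic open is flat
  obtain ⟨C₂, W₂, _, _, _, _, _, _, hpushC, _, _, _, _, _, _, g₂, hg₂⟩ := exists_baseChange_model A C Ns A₂
  letI : Algebra S C₂ := ((algebraMap C C₂).comp (algebraMap S C)).toAlgebra
  haveI : IsScalarTower S C C₂ := IsScalarTower.of_algebraMap_eq' rfl
  haveI : IsScalarTower A S C₂ := IsScalarTower.of_algebraMap_eq fun r => by
    show algebraMap A C₂ r = algebraMap C C₂ (algebraMap S C (algebraMap A S r))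
    rw [← IsScalarTower.algebraMap_apply A S C, ← IsScalarTower.algebraMap_apply A C C₂]
  letI : Module S W₂ := Module.compHom W₂ (algebraMap S C)
  haveI : IsScalarTower S C W₂ := IsScalarTower.of_algebraMap_smul fun _ _ => rfl
  haveI : IsScalarTower S C₂ W₂ := IsScalarTower.of_algebraMap_smul fun r w => by
    rw [IsScalarTower.algebraMap_apply S C C₂, algebraMap_smul, algebraMap_smul]
  let ψ : S₂ →ₐ[A] C₂ :=
    Algebra.pushoutDesc S₂ (IsScalarTower.toAlgHom A A₂ C₂) (IsScalarTower.toAlgHom A S C₂) fun _ _ => Commute.all _ _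
  letI : Algebra S₂ C₂ := ψ.toRingHom.toAlgebra
  haveI : IsScalarTower A₂ S₂ C₂ := IsScalarTower.of_algebraMap_eq fun x =>
    (Algebra.pushoutDesc_left S₂ (IsScalarTower.toAlgHom A A₂ C₂) (IsScalarTower.toAlgHom A S C₂) (fun _ _ => Commute.all _ _) x).symm
  haveI : IsScalarTower S S₂ C₂ := IsScalarTower.of_algebraMap_eq fun x =>
    (Algebra.pushoutDesc_right S₂ (IsScalarTower.toAlgHom A A₂ C₂) (IsScalarTower.toAlgHom A S C₂) (fun _ _ => Commute.all _ _) x).symm
  haveI : IsScalarTower A S₂ C₂ := IsScalarTower.of_algebraMap_eq fun x => (ψ.commutes x).symm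
  haveI : Module.Flat S₂ C₂ := by
    haveI : Algebra.IsPushout A S A₂ S₂ := Algebra.IsPushout.symm hpush₂
    haveI h' : Algebra.IsPushout A C A₂ C₂ := Algebra.IsPushout.symm hpushC
    haveI : Algebra.IsPushout S C S₂ C₂ := (Algebra.IsPushout.comp_iff A S A₂ S₂ (T := C) (T' := C₂)).mp h'
    exact Module.Flat.isBaseChange S S₂ C C₂ (Algebra.IsPushout.symm (inferInstance : Algebra.IsPushout S C S₂ C₂)).out
  letI : Module S₂ W₂ := Module.compHom W₂ (algebraMap S₂ C₂)
  haveI : IsScalarTower S₂ C₂ W₂ := IsScalarTower.of_algebraMap_smul fun _ _ => rfl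
  haveI : IsScalarTower S S₂ W₂ := IsScalarTower.of_algebraMap_smul fun d m => by
    show algebraMap S₂ C₂ (algebraMap S S₂ d) • m = d • m
    rw [← IsScalarTower.algebraMap_apply, algebraMap_smul]
  haveI : IsScalarTower A₂ S₂ W₂ := IsScalarTower.of_algebraMap_smul fun r m => by
    show algebraMap S₂ C₂ (algebraMap A₂ S₂ r) • m = r • m
    rw [← IsScalarTower.algebraMap_apply, algebraMap_smul]
  let g₀ : N →ₗ[S] W₂ := (g₂.restrictScalars S) ∘ₗ TensorProduct.mk S C N 1
  let G : N₂ →ₗ[S₂] W₂ := hf₂.lift g₀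
  have hG : IsBaseChange C₂ G := IsBaseChange.of_comp hf₂ (by rw [hf₂.lift_comp]; exact hg0.comp hg₂)
  haveI : IsScalarTower A₂ C₂ W₂ := inferInstance
  haveI : Module.Flat A₂ W₂ := by
    refine flat_of_forall_prime (S := C₂) fun P _ => ?_
    have hns : algebraMap S S₂ s ∉ P.comap (algebraMap S₂ C₂) := fun h => by
      rw [Ideal.mem_comap, ← IsScalarTower.algebraMap_apply, IsScalarTower.algebraMap_apply S C C₂] at h
      exact (inferInstance : P.IsPrime).ne_top
        (Ideal.eq_top_of_isUnit_mem _ h ((IsLocalization.Away.algebraMap_isUnit s).map _))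
    haveI : Module.Flat A₂ (LocalizedModule (P.comap (algebraMap S₂ C₂)).primeCompl N₂) :=
      (flat_away_iff _).mp hflat _ hns
    exact Groth.L20.AboveClosed.flat_of_flat_below G hG P
  -- descend to a stage
  letI : Module A W₂ := Module.compHom W₂ (algebraMap A A₂)
  haveI : IsScalarTower A A₂ W₂ := IsScalarTower.of_algebraMap_smul fun _ _ => rfl
  haveI : IsScalarTower A C W₂ := IsScalarTower.of_algebraMap_smul fun a w => by
    show algebraMap A C a • w = algebraMap A A₂ a • w
    rw [← algebraMap_smul C₂ (algebraMap A C a) w, ← IsScalarTower.algebraMap_apply,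
      IsScalarTower.algebraMap_apply A A₂ C₂, algebraMap_smul]
  have hW : IsBaseChange A₂ (g₂.restrictScalars A) := by
    haveI : Algebra.IsPushout A C A₂ C₂ := Algebra.IsPushout.symm hpushC
    exact Groth.L20.isBaseChange_restrictScalars hg₂
  obtain ⟨d, n, R, hRn, K, ⟨e⟩⟩ := Groth.L07.FlatDescent.exists_model A (B₀ := C) Ns
  haveI : IsNoetherianRing R := hRn
  obtain ⟨e₂⟩ := Groth.L07.FlatDescent.exists_modelEquiv K e A₂
  haveI : Module.Flat A₂ (Groth.L07.FlatDescent.MC A₂ K) :=
    Module.Flat.of_linearEquiv (e₂.symm.trans hW.equiv)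
  let ι := {c : Ideal A // c.FG ∧ c ≤ I}
  let G' : ι → Type u := fun c => A ⧸ c.1
  let φ : ∀ i j : ι, i ≤ j → G' i →+* G' j := fun i j h => Ideal.Quotient.factor h
  letI aGA : ∀ i : ι, Algebra (G' i) A₂ := fun i => (Ideal.Quotient.factor i.2.2).toAlgebra
  haveI : ∀ i : ι, IsScalarTower R (G' i) A₂ := fun i => IsScalarTower.of_algebraMap_eq fun r => rfl
  have hcolim : FlatCA.IsDirectedColimitRing G' φ A₂ := by
    refine ⟨⟨fun a b => ⟨⟨a.1 ⊔ b.1, Submodule.FG.sup a.2.1 b.2.1, sup_le a.2.2 b.2.2⟩,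
      show a.1 ≤ a.1 ⊔ b.1 from le_sup_left, show b.1 ≤ a.1 ⊔ b.1 from le_sup_right⟩⟩,
      ⟨⟨⊥, Submodule.fg_bot, bot_le⟩⟩, fun i => RingHom.ext fun x => ?_, fun i j k hij hjk => RingHom.ext fun x => ?_,
      fun i j h => RingHom.ext fun x => ?_, fun a => ?_, fun i x hx => ?_⟩
    · obtain ⟨a, rfl⟩ := Ideal.Quotient.mk_surjective x; rfl
    · obtain ⟨a, rfl⟩ := Ideal.Quotient.mk_surjective x; rfl
    · obtain ⟨a, rfl⟩ := Ideal.Quotient.mk_surjective x; rfl
    · obtain ⟨a, rfl⟩ := Ideal.Quotient.mk_surjective a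
      exact ⟨⟨⊥, Submodule.fg_bot, bot_le⟩, Ideal.Quotient.mk _ a, rfl⟩
    · obtain ⟨a, rfl⟩ := Ideal.Quotient.mk_surjective x
      have ha : a ∈ I := Ideal.Quotient.eq_zero_iff_mem.mp hx
      refine ⟨⟨i.1 ⊔ Ideal.span {a}, Submodule.FG.sup i.2.1 (Submodule.fg_span_singleton a),
        sup_le i.2.2 ((Ideal.span_singleton_le_iff_mem I).mpr ha)⟩, show i.1 ≤ _ from le_sup_left, ?_⟩
      exact Ideal.Quotient.eq_zero_iff_mem.mpr (Ideal.mem_sup_right (Ideal.subset_span rfl))
  obtain ⟨i, hi⟩ := Groth.L07.FlatDescent.exists_flat_stage K (G := G') (g := φ)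
    (fun i j h => RingHom.ext fun r => rfl) hcolim
  haveI := hi
  refine ⟨s, hsq, i.1, i.2.1, i.2.2, fun q₁ hq₁ hsq₁ R' _ _ _ hker => ?_⟩
  have hdisj₁ : Disjoint (Submonoid.powers s : Set S) q₁ :=
    Set.disjoint_left.mpr fun x ⟨n, hn⟩ hxq => hsq₁ (hq₁.mem_of_pow_mem n ((show s ^ n = x from hn) ▸ hxq))
  let z₁ : Ideal C := q₁.map (algebraMap S C)
  haveI : z₁.IsPrime := IsLocalization.isPrime_of_isPrime_disjoint _ C q₁ hq₁ hdisj₁
  have hz₁ : z₁.comap (algebraMap S C) = q₁ :=
    IsLocalization.under_map_of_isPrime_disjoint _ C hq₁ hdisj₁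
  refine (flatPts_iff_of_flat (R := A) (TensorProduct.mk S C N 1) hg0 q₁ z₁ hz₁ R').mpr ?_
  intro E W _ _ _ _ _ _ _ _ _ _ _ _ _ f hf Q _ _ _
  let ψc : A ⧸ i.1 →+* R' := Ideal.Quotient.lift i.1 (algebraMap A R') fun a ha => hker ha
  letI : Algebra (A ⧸ i.1) R' := ψc.toAlgebra
  haveI : IsScalarTower A (A ⧸ i.1) R' := IsScalarTower.of_algebraMap_eq fun a => rfl
  letI : Module A W := Module.compHom W (algebraMap A R')
  haveI : IsScalarTower A R' W := IsScalarTower.of_algebraMap_smul fun _ _ => rfl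
  haveI : IsScalarTower A C W := IsScalarTower.of_algebraMap_smul fun a m => by
    show algebraMap A C a • m = algebraMap A R' a • m
    rw [← algebraMap_smul E (algebraMap A C a) m, ← IsScalarTower.algebraMap_apply,
      IsScalarTower.algebraMap_apply A R' E, algebraMap_smul]
  letI : Module (A ⧸ i.1) W := Module.compHom W ψc
  haveI : IsScalarTower (A ⧸ i.1) R' W := IsScalarTower.of_algebraMap_smul fun _ _ => rfl
  haveI : IsScalarTower A (A ⧸ i.1) W := IsScalarTower.of_algebraMap_smul fun _ _ => rfl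
  haveI : Algebra.IsPushout A C R' E := Algebra.IsPushout.symm inferInstance
  have hb : IsBaseChange R' (f.restrictScalars A) := Groth.L20.isBaseChange_restrictScalars hf
  obtain ⟨ei⟩ := Groth.L07.FlatDescent.exists_modelEquiv K e (A ⧸ i.1)
  haveI : Module.Flat (A ⧸ i.1) ((A ⧸ i.1) ⊗[A] Ns) := Module.Flat.of_linearEquiv ei
  have h0 : IsBaseChange (A ⧸ i.1) (TensorProduct.mk A (A ⧸ i.1) Ns 1) := TensorProduct.isBaseChange A Ns _
  have h1 : IsBaseChange R' (h0.lift (f.restrictScalars A)) :=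
    IsBaseChange.of_comp h0 (by rw [h0.lift_comp]; exact hb)
  haveI : Module.Flat R' W := Module.Flat.isBaseChange _ _ _ _ h1
  exact Groth.L20.FibreCrit.flat_localizedModule_of_flat Q.primeCompl

end Groth.L20.RG
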