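import Groth.Agent.L20.RG.FlatPts
import Groth.Agent.L20.ModPullback
import Mathlib.AlgebraicGeometry.Morphisms.Affine

/-!
# Flatness at points of a base change and `FlatPts`
-/

set_option autoImplicit false
set_option linter.style.haveILetI false
set_option backward.isDefEq.respectTransparency false
universe u

open CategoryTheory CategoryTheory.Limits AlgebraicGeometry TensorProduct IsLocalRing

noncomputable section

namespace Groth.L20.RG

attribute [local instance] Algebra.TensorProduct.rightAlgebra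

set_option maxHeartbeats 800000 in
/-- `FlatPts` at a localisation, on a model before localising. -/
theorem flatPts_atPrime_iff {A S R₁ S₁ N N₁ : Type u} [CommRing A] [CommRing S] [CommRing R₁] [CommRing S₁]
    [Algebra A S] [Algebra A R₁] [Algebra S S₁] [Algebra R₁ S₁] [Algebra A S₁] [IsScalarTower A R₁ S₁]
    [IsScalarTower A S S₁] [Algebra.IsPushout A R₁ S S₁] [AddCommGroup N] [Module S N] [AddCommGroup N₁]
    [Module S₁ N₁] [Module S N₁] [IsScalarTower S S₁ N₁] [Module R₁ N₁] [IsScalarTower R₁ S₁ N₁]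
    (f : N →ₗ[S] N₁) (hf : IsBaseChange S₁ f) (p : Ideal R₁) [p.IsPrime]
    (R' : Type u) [CommRing R'] [Algebra R₁ R'] [IsLocalization.AtPrime R' p] [IsLocalRing R'] [Algebra A R']
    [IsScalarTower A R₁ R'] (q : Ideal S) :
    FlatPts A S N q R' ↔ ∀ (Q : Ideal S₁) [Q.IsPrime], Q.comap (algebraMap R₁ S₁) = p →
      Q.comap (algebraMap S S₁) = q → Module.Flat R₁ (LocalizedModule Q.primeCompl N₁) := by
  obtain ⟨D', M', _, _, _, _, _, _, hpush, _, _, _, _, _, _, f', hf'⟩ := exists_baseChange_model A S N R'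
  letI : Algebra R₁ D' := ((algebraMap R' D').comp (algebraMap R₁ R')).toAlgebra
  haveI : IsScalarTower R₁ R' D' := IsScalarTower.of_algebraMap_eq' rfl
  haveI : IsScalarTower A R₁ D' := IsScalarTower.of_algebraMap_eq fun a => by
    rw [IsScalarTower.algebraMap_apply R₁ R' D', ← IsScalarTower.algebraMap_apply A R₁ R',
      ← IsScalarTower.algebraMap_apply A R' D']
  let ψ : S₁ →ₐ[A] D' :=
    Algebra.pushoutDesc S₁ (IsScalarTower.toAlgHom A R₁ D') (IsScalarTower.toAlgHom A S D') fun _ _ => Commute.all _ _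
  letI : Algebra S₁ D' := ψ.toRingHom.toAlgebra
  haveI : IsScalarTower R₁ S₁ D' := IsScalarTower.of_algebraMap_eq fun x =>
    (Algebra.pushoutDesc_left S₁ (IsScalarTower.toAlgHom A R₁ D') (IsScalarTower.toAlgHom A S D') (fun _ _ => Commute.all _ _) x).symm
  haveI : IsScalarTower S S₁ D' := IsScalarTower.of_algebraMap_eq fun x =>
    (Algebra.pushoutDesc_right S₁ (IsScalarTower.toAlgHom A R₁ D') (IsScalarTower.toAlgHom A S D') (fun _ _ => Commute.all _ _) x).symm
  haveI : IsScalarTower A S₁ D' := IsScalarTower.of_algebraMap_eq fun x => (ψ.commutes x).symm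
  haveI hloc : Algebra.IsPushout R₁ R' S₁ D' :=
    (Algebra.IsPushout.comp_iff A R₁ S S₁ (T := R') (T' := D')).mp hpush
  haveI : Module.Flat R₁ R' := IsLocalization.flat R' p.primeCompl
  haveI : Module.Flat S₁ D' := Module.Flat.isBaseChange R₁ S₁ R' D' hloc.symm.out
  letI : Module S₁ M' := Module.compHom M' (algebraMap S₁ D')
  haveI : IsScalarTower S₁ D' M' := IsScalarTower.of_algebraMap_smul fun _ _ => rfl
  haveI : IsScalarTower S S₁ M' := IsScalarTower.of_algebraMap_smul fun s m => by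
    show algebraMap S₁ D' (algebraMap S S₁ s) • m = s • m
    rw [← IsScalarTower.algebraMap_apply, algebraMap_smul]
  letI : Module R₁ M' := Module.compHom M' (algebraMap R₁ R')
  haveI : IsScalarTower R₁ R' M' := IsScalarTower.of_algebraMap_smul fun _ _ => rfl
  haveI : IsScalarTower R₁ D' M' := IsScalarTower.of_algebraMap_smul fun r m => by
    rw [IsScalarTower.algebraMap_apply R₁ R' D', algebraMap_smul]; rfl
  let G : N₁ →ₗ[S₁] M' := hf.lift f'
  have hG : IsBaseChange D' G := IsBaseChange.of_comp hf (by rw [hf.lift_comp]; exact hf')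
  have hsc : ∀ (Q' : Ideal D') [Q'.IsPrime], IsScalarTower R₁ R' (LocalizedModule Q'.primeCompl M') :=
    fun Q' _ => IsScalarTower.of_algebraMap_smul fun r m => by
      rw [← algebraMap_smul D' (algebraMap R₁ R' r) m, ← IsScalarTower.algebraMap_apply, algebraMap_smul]
  have hp : (maximalIdeal R').comap (algebraMap R₁ R') = p :=
    IsLocalization.AtPrime.under_maximalIdeal R' p
  constructor
  · intro h Q _ hQp hQq
    obtain ⟨Q', hQ'p, hQ'm, hQ'Q⟩ := exists_prime_of_isPushout (R := R₁) (R' := R') (D := S₁) (D' := D')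
      (maximalIdeal R') Q (by rw [hp, hQp])
    haveI := hQ'p
    haveI := hsc Q'
    haveI := h D' M' f' hf' Q' hQ'm (by
      rw [IsScalarTower.algebraMap_eq S S₁ D', ← Ideal.comap_comap, hQ'Q, hQq])
    haveI : Module.Flat R₁ (LocalizedModule Q'.primeCompl M') :=
      (Module.flat_iff_of_isLocalization R' p.primeCompl _).mp inferInstance
    exact Groth.L20.AboveClosed.flat_of_flat_above G hG Q' Q hQ'Q
  · intro h
    refine flatPts_of_model f' hf' fun Q' _ hQm hQq => ?_
    haveI := hsc Q'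
    haveI := h (Q'.comap (algebraMap S₁ D'))
      (by rw [Ideal.comap_comap, ← IsScalarTower.algebraMap_eq, IsScalarTower.algebraMap_eq R₁ R' D',
        ← Ideal.comap_comap, hQm, hp])
      (by rw [Ideal.comap_comap, ← IsScalarTower.algebraMap_eq, hQq])
    haveI : Module.Flat R₁ (LocalizedModule Q'.primeCompl M') := Groth.L20.AboveClosed.flat_of_flat_below G hG Q'
    exact (Module.flat_iff_of_isLocalization R' p.primeCompl _).mpr inferInstance

section Scheme

variable {A : CommRingCat.{u}} {X : Scheme.{u}} (f : X ⟶ Spec A)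

/-- The structure map of sections over the base ring. -/
def baseHom (V : X.Opens) : A →+* Γ(X, V) :=
  (f.appLE ⊤ V le_top).hom.comp (Scheme.ΓSpecIso A).inv.hom

/-- The structure map of stalks over the base ring. -/
def stkHom (x : X) : A →+* X.presheaf.stalk x :=
  (X.presheaf.germ ⊤ x trivial).hom.comp (f.appTop.hom.comp (Scheme.ΓSpecIso A).inv.hom)

theorem germ_baseHom {V : X.Opens} {x : X} (hx : x ∈ V) (a : A) :
    X.presheaf.germ V x hx (baseHom f V a) = stkHom f x a := by
  show X.presheaf.germ V x hx (X.presheaf.map (homOfLE le_top).op (f.app ⊤ ((Scheme.ΓSpecIso A).inv.hom a))) = _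
  rw [TopCat.Presheaf.germ_res_apply]
  rfl

variable [IsLocalRing A]

theorem isUnit_of_isUnit_stkHom {x : X} (hx : f.base x = closedPoint A) {a : A} (ha : IsUnit (stkHom f x a)) :
    IsUnit a := by
  have h1 : x ∈ f ⁻¹ᵁ (Spec A).basicOpen ((Scheme.ΓSpecIso A).inv.hom a) := by
    rw [Scheme.preimage_basicOpen]
    exact (X.mem_basicOpen_top _ x).mpr ha
  have h2 : closedPoint A ∈ (Spec A).basicOpen ((Scheme.ΓSpecIso A).inv.hom a) := hx ▸ h1
  rw [basicOpen_eq_of_affine] at h2
  by_contra hna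
  exact h2 ((mem_maximalIdeal a).mpr hna)

theorem isLocalHom_stkHom {x : X} (hx : f.base x = closedPoint A) : IsLocalHom (stkHom f x) :=
  ⟨fun _ ha => isUnit_of_isUnit_stkHom f hx ha⟩

theorem comap_primeIdealOf_baseHom {V : X.Opens} (hV : IsAffineOpen V) {x : X} (hxV : x ∈ V)
    (hx : f.base x = closedPoint A) :
    (hV.primeIdealOf ⟨x, hxV⟩).asIdeal.comap (baseHom f V) = maximalIdeal A := by
  letI := X.presheaf.algebra_section_stalk ⟨x, hxV⟩
  haveI := hV.isLocalization_stalk ⟨x, hxV⟩
  refine le_antisymm (IsLocalRing.le_maximalIdeal (Ideal.IsPrime.comap _).ne_top) fun a ha => ?_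
  by_contra hna
  have hu : IsUnit (X.presheaf.germ V x hxV (baseHom f V a)) :=
    (IsLocalization.AtPrime.isUnit_to_map_iff (X.presheaf.stalk x) (hV.primeIdealOf ⟨x, hxV⟩).asIdeal _).mpr hna
  rw [germ_baseHom f hxV a] at hu
  exact (mem_maximalIdeal a).mp ha (isUnit_of_isUnit_stkHom f hx hu)

omit [IsLocalRing A] in
set_option maxHeartbeats 1000000 in
/-- Flatness at the points over `(x, t)` is `FlatPts` in a chart at `x`. -/
theorem flatPts_iff_points (F : X.Modules) [Coh.IsQCoh F] {T : Scheme.{u}} (g : T ⟶ Spec A) (t : T)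
    {V : X.Opens} (hV : IsAffineOpen V) {x : X} (hxV : x ∈ V) :
    letI : Algebra A Γ(X, V) := (baseHom f V).toAlgebra
    letI : Algebra A (T.presheaf.stalk t) := (stkHom g t).toAlgebra
    FlatPts A Γ(X, V) Γ(F, V) (hV.primeIdealOf ⟨x, hxV⟩).asIdeal (T.presheaf.stalk t) ↔
      ∀ x' : ↑(pullback f g), (pullback.snd f g).base x' = t → (pullback.fst f g).base x' = x →
        FlatMod.IsFlatOverAt (pullback.snd f g) ((Scheme.Modules.pullback (pullback.fst f g)).obj F) x' := by
  letI : Algebra A Γ(X, V) := (baseHom f V).toAlgebra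
  letI : Algebra A (T.presheaf.stalk t) := (stkHom g t).toAlgebra
  obtain ⟨_, ⟨W', hW', rfl⟩, htW', -⟩ :=
    T.isBasis_affineOpens.exists_subset_of_mem_open (Set.mem_univ t) isOpen_univ
  change T.Opens at W'
  replace hW' : IsAffineOpen W' := hW'
  let P := pullback.fst f g ⁻¹ᵁ V ⊓ pullback.snd f g ⁻¹ᵁ W'
  have eV : V ≤ f ⁻¹ᵁ ⊤ := le_top
  have eW : W' ≤ g ⁻¹ᵁ ⊤ := le_top
  have hpb := Scheme.Hom.isPullback_resLE (IsPullback.of_hasPullback f g) (UT := W') eW eV (UY := P) rfl
  haveI : IsAffine (⊤ : (Spec A).Opens).toScheme := isAffineOpen_top (Spec A)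
  haveI : IsAffine V.toScheme := hV
  haveI : IsAffine W'.toScheme := hW'
  have hU : IsAffineOpen P := IsAffine.of_isPullback hpb
  have eU : P ≤ pullback.fst f g ⁻¹ᵁ V := inf_le_left
  have eU' : P ≤ pullback.snd f g ⁻¹ᵁ W' := inf_le_right
  have hsq : IsPushout (f.appLE ⊤ V eV) (g.appLE ⊤ W' eW) ((pullback.fst f g).appLE V P eU)
      ((pullback.snd f g).appLE W' P eU') := by
    refine (isPushout_appTop_of_isPullback hpb).of_iso (⊤ : (Spec A).Opens).topIso V.topIso W'.topIso P.topIso
      ?_ ?_ ?_ ?_ <;>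
    simp only [Scheme.Hom.appTop, Scheme.Hom.resLE_app_top, Category.assoc, Iso.inv_hom_id, Category.comp_id]
  letI : Algebra A Γ(T, W') := (baseHom g W').toAlgebra
  letI : Algebra Γ(X, V) Γ(pullback f g, P) := ((pullback.fst f g).appLE V P eU).hom.toAlgebra
  letI : Algebra Γ(T, W') Γ(pullback f g, P) := ((pullback.snd f g).appLE W' P eU').hom.toAlgebra
  letI : Algebra A Γ(pullback f g, P) := ((algebraMap Γ(X, V) Γ(pullback f g, P)).comp (baseHom f V)).toAlgebra
  haveI : IsScalarTower A Γ(X, V) Γ(pullback f g, P) := IsScalarTower.of_algebraMap_eq' rfl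
  haveI : IsScalarTower A Γ(T, W') Γ(pullback f g, P) := IsScalarTower.of_algebraMap_eq fun a => by
    exact congr($(hsq.w).hom ((Scheme.ΓSpecIso A).inv.hom a))
  haveI : Algebra.IsPushout A Γ(T, W') Γ(X, V) Γ(pullback f g, P) := by
    refine CommRingCat.isPushout_iff_isPushout.mp ?_
    refine hsq.flip.of_iso (Scheme.ΓSpecIso A) (Iso.refl _) (Iso.refl _) (Iso.refl _) ?_ ?_ ?_ ?_
    · ext a
      show g.appLE ⊤ W' eW a = g.appLE ⊤ W' le_top ((Scheme.ΓSpecIso A).inv ((Scheme.ΓSpecIso A).hom a))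
      rw [← CommRingCat.comp_apply (Scheme.ΓSpecIso A).hom, Iso.hom_inv_id, CommRingCat.id_apply]
    · ext a
      show f.appLE ⊤ V eV a = f.appLE ⊤ V le_top ((Scheme.ΓSpecIso A).inv ((Scheme.ΓSpecIso A).hom a))
      rw [← CommRingCat.comp_apply (Scheme.ΓSpecIso A).hom, Iso.hom_inv_id, CommRingCat.id_apply]
    · rfl
    · rfl
  letI : Algebra Γ(T, W') (T.presheaf.stalk t) := T.presheaf.algebra_section_stalk ⟨t, htW'⟩
  haveI := hW'.isLocalization_stalk ⟨t, htW'⟩
  haveI : IsScalarTower A Γ(T, W') (T.presheaf.stalk t) := IsScalarTower.of_algebraMap_eq fun a =>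
    (germ_baseHom g htW' a).symm
  let N₁ := Γ(pullback f g, P) ⊗[Γ(X, V)] Γ(F, V)
  haveI : IsScalarTower Γ(T, W') Γ(pullback f g, P) N₁ := TensorProduct.isScalarTower_left
  have hf₁ : IsBaseChange Γ(pullback f g, P) (TensorProduct.mk Γ(X, V) Γ(pullback f g, P) Γ(F, V) 1) :=
    TensorProduct.isBaseChange _ _ _
  rw [flatPts_atPrime_iff _ hf₁ (hW'.primeIdealOf ⟨t, htW'⟩).asIdeal (T.presheaf.stalk t)]
  -- flatness at a point of the chart
  have key : ∀ (x' : ↑(pullback f g)) (hx' : x' ∈ P),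
      FlatMod.IsFlatOverAt (pullback.snd f g) ((Scheme.Modules.pullback (pullback.fst f g)).obj F) x' ↔
        Module.Flat Γ(T, W') (LocalizedModule (hU.primeIdealOf ⟨x', hx'⟩).asIdeal.primeCompl N₁) := by
    intro x' hx'
    let O := (pullback f g).presheaf.stalk x'
    let st := ((Scheme.Modules.pullback (pullback.fst f g)).obj F).presheaf.stalk x'
    letI : Algebra Γ(pullback f g, P) O := (pullback f g).presheaf.algebra_section_stalk ⟨x', hx'⟩
    haveI := hU.isLocalization_stalk ⟨x', hx'⟩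
    letI : Algebra Γ(X, V) O :=
      (((pullback.fst f g).stalkMap x').hom.comp (X.presheaf.germ V ((pullback.fst f g) x') (eU hx')).hom).toAlgebra
    haveI : IsScalarTower Γ(X, V) Γ(pullback f g, P) O := IsScalarTower.of_algebraMap_eq fun a =>
      Groth.L20.ModStalk.stalkMap_germ eU hx' (eU hx') a
    letI : Module Γ(X, V) st :=
      Module.compHom _ (((pullback.fst f g).stalkMap x').hom.comp (X.presheaf.germ V ((pullback.fst f g) x') (eU hx')).hom)
    haveI : IsScalarTower Γ(X, V) O st := IsScalarTower.of_algebraMap_smul fun _ _ => rfl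
    obtain ⟨g₀, hg₀⟩ := Groth.L20.ModStalk.exists_isBaseChange_pullback_stalk (pullback.fst f g) F hV (eU hx')
    letI : Module Γ(pullback f g, P) st := Module.compHom _ ((pullback f g).presheaf.germ P x' hx').hom
    haveI : IsScalarTower Γ(pullback f g, P) O st := IsScalarTower.of_algebraMap_smul fun _ _ => rfl
    haveI : IsScalarTower Γ(X, V) Γ(pullback f g, P) st := IsScalarTower.of_algebraMap_smul fun a m => by
      show algebraMap Γ(pullback f g, P) O (algebraMap Γ(X, V) Γ(pullback f g, P) a) • m = algebraMap Γ(X, V) O a • m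
      rw [← IsScalarTower.algebraMap_apply]
    let G : N₁ →ₗ[Γ(pullback f g, P)] st := hf₁.lift g₀
    have hG : IsBaseChange O G := IsBaseChange.of_comp hf₁ (by rw [hf₁.lift_comp]; exact hg₀)
    haveI : IsLocalizedModule (hU.primeIdealOf ⟨x', hx'⟩).asIdeal.primeCompl G :=
      (isLocalizedModule_iff_isBaseChange _ O G).mpr hG
    rw [Groth.L20.ModStalk.isFlatOverAt_iff_sections (pullback.snd f g) _ hW' eU' hx']
    letI : Module Γ(T, W') st := Module.compHom _
      (((pullback f g).presheaf.germ P x' hx').hom.comp ((pullback.snd f g).appLE W' P eU').hom)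
    haveI : IsScalarTower Γ(T, W') Γ(pullback f g, P) st := IsScalarTower.of_algebraMap_smul fun _ _ => rfl
    exact Module.Flat.equiv_iff ((IsLocalizedModule.linearEquiv (hU.primeIdealOf ⟨x', hx'⟩).asIdeal.primeCompl G
      (LocalizedModule.mkLinearMap _ N₁)).restrictScalars Γ(T, W'))
  constructor
  · intro h x' hsnd hfst
    have hx' : x' ∈ P := ⟨show (pullback.fst f g) x' ∈ V from hfst ▸ hxV, show (pullback.snd f g) x' ∈ W' from hsnd ▸ htW'⟩
    refine (key x' hx').mpr (h _ ?_ ?_)
    · subst hsnd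
      exact congrArg PrimeSpectrum.asIdeal (IsAffineOpen.comap_primeIdealOf_appLE W' hW' P hU eU' hx')
    · subst hfst
      exact congrArg PrimeSpectrum.asIdeal (IsAffineOpen.comap_primeIdealOf_appLE V hV P hU eU hx')
  · intro h Q hQ hQp hQq
    let z : Spec Γ(pullback f g, P) := ⟨Q, hQ⟩
    have hz : hU.fromSpec z ∈ P := by
      have : hU.fromSpec z ∈ Set.range hU.fromSpec := ⟨z, rfl⟩
      rwa [hU.range_fromSpec] at this
    have hzQ : hU.primeIdealOf ⟨hU.fromSpec z, hz⟩ = z :=
      hU.fromSpec.isOpenEmbedding.injective (hU.fromSpec_primeIdealOf _)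
    have h1 : (pullback.snd f g) (hU.fromSpec z) = t := by
      have hh := IsAffineOpen.comap_primeIdealOf_appLE W' hW' P hU eU' hz
      rw [hzQ] at hh
      have h' : hW'.primeIdealOf ⟨_, eU' hz⟩ = hW'.primeIdealOf ⟨t, htW'⟩ :=
        hh.symm.trans (PrimeSpectrum.ext hQp)
      simpa only [IsAffineOpen.fromSpec_primeIdealOf] using congrArg hW'.fromSpec h'
    have h2 : (pullback.fst f g) (hU.fromSpec z) = x := by
      have hh := IsAffineOpen.comap_primeIdealOf_appLE V hV P hU eU hz
      rw [hzQ] at hh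
      have h' : hV.primeIdealOf ⟨_, eU hz⟩ = hV.primeIdealOf ⟨x, hxV⟩ :=
        hh.symm.trans (PrimeSpectrum.ext hQq)
      simpa only [IsAffineOpen.fromSpec_primeIdealOf] using congrArg hV.fromSpec h'
    have h3 := (key _ hz).mp (h _ h1 h2)
    have h4 : (hU.primeIdealOf ⟨hU.fromSpec z, hz⟩).asIdeal = Q := congrArg PrimeSpectrum.asIdeal hzQ
    have h5 : ∀ (Q' : Ideal Γ(pullback f g, P)) [Q'.IsPrime],
        (hU.primeIdealOf ⟨hU.fromSpec z, hz⟩).asIdeal = Q' → Module.Flat Γ(T, W') (LocalizedModule Q'.primeCompl N₁) := by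
      intro Q' _ e; subst e; exact h3
    exact h5 Q h4

end Scheme

end Groth.L20.RG
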