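import Groth.Agent.L20.RG.RepStep
import Groth.Agent.L20.StrataScheme
import Groth.Agent.L06.FlatLimitPreserving
import Groth.Agent.L02.FibFlat.Pointwise
import Groth.Agent.L17.Strat.GenBase

/-!
# Flatness of a pulled back module over a base change, on affine squares
-/

set_option autoImplicit false
set_option linter.style.haveILetI false
set_option backward.isDefEq.respectTransparency.types false
universe u

open CategoryTheory CategoryTheory.Limits AlgebraicGeometry TopologicalSpace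
open scoped TensorProduct

noncomputable section

namespace Groth.L20.RG

variable {X S : Scheme.{u}}

/-- Flatness in dimensions at least zero is flatness at all the primes. -/
theorem flatInDimGE_zero_iff {A B : Type u} [CommRing A] [CommRing B] [Algebra A B] (N : Type u) [AddCommGroup N]
    [Module B N] [Module A N] [IsScalarTower A B N] :
    FlatCA.FlatInDimGE 0 A B N ↔ ∀ (Q : Ideal B) [Q.IsPrime], FlatCA.FlatAt A Q N := by
  rw [flatInDimGE_iff_relTrdeg]
  refine ⟨fun h Q _ => h (Q.under A) Q ?_, fun h t Q _ _ _ _ => h Q⟩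
  simp

theorem flatAt_congr_prime {A B : Type u} [CommRing A] [CommRing B] [Algebra A B] {M : Type u} [AddCommGroup M]
    [Module B M] [Module A M] [IsScalarTower A B M] {P Q : Ideal B} [P.IsPrime] [Q.IsPrime] (e : P = Q)
    (h : FlatCA.FlatAt A P M) : FlatCA.FlatAt A Q M := by
  subst e
  exact h

set_option maxHeartbeats 1000000 in
/-- On an affine square, flatness at a point is flatness of the sections at the prime of the point. -/
theorem isFlatOverAt_square_iff {X' S' : Scheme.{u}} {f : X ⟶ S} {f' : X' ⟶ S'} {g' : X' ⟶ X} {g : S' ⟶ S}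
    (F : X.Modules) [Coh.IsQCoh F] {W : S.Opens} {V : X.Opens} {W' : S'.Opens} {U : X'.Opens}
    (hV : IsAffineOpen V) (hW' : IsAffineOpen W') (hU : IsAffineOpen U)
    (eU : U ≤ g' ⁻¹ᵁ V) (eU' : U ≤ f' ⁻¹ᵁ W') (x' : X') (hxU : x' ∈ U) :
    FlatMod.IsFlatOverAt f' ((Scheme.Modules.pullback g').obj F) x' ↔
      letI := (g'.appLE V U eU).hom.toAlgebra
      letI := (f'.appLE W' U eU').hom.toAlgebra
      FlatCA.FlatAt Γ(S', W') (hU.primeIdealOf ⟨x', hxU⟩).asIdeal (Γ(X', U) ⊗[Γ(X, V)] Γ(F, V)) := by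
  letI := (g'.appLE V U eU).hom.toAlgebra
  letI := (f'.appLE W' U eU').hom.toAlgebra
  rw [Groth.L20.ModStalk.isFlatOverAt_iff_sections f' _ hW' eU' hxU]
  obtain ⟨ψ, hψ⟩ := Groth.L20.ModStalk.exists_isBaseChange_pullback_stalk g' F hV (eU hxU)
  letI : Algebra Γ(X', U) (X'.presheaf.stalk x') := (X'.presheaf.germ U x' hxU).hom.toAlgebra
  letI : Algebra Γ(X, V) (X'.presheaf.stalk x') :=
    ((g'.stalkMap x').hom.comp (X.presheaf.germ V (g' x') (eU hxU)).hom).toAlgebra
  haveI : IsScalarTower Γ(X, V) Γ(X', U) (X'.presheaf.stalk x') := IsScalarTower.of_algebraMap_eq fun a =>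
    Groth.L20.ModStalk.stalkMap_germ eU hxU (eU hxU) a
  let St := ((Scheme.Modules.pullback g').obj F).presheaf.stalk x'
  letI : Module Γ(X, V) St :=
    Module.compHom _ ((g'.stalkMap x').hom.comp (X.presheaf.germ V (g' x') (eU hxU)).hom)
  letI := Groth.L20.ModStalk.stalkModule ((Scheme.Modules.pullback g').obj F) hxU
  haveI : IsScalarTower Γ(X, V) (X'.presheaf.stalk x') St := IsScalarTower.of_algebraMap_smul fun _ _ => rfl
  haveI : IsScalarTower Γ(X', U) (X'.presheaf.stalk x') St := IsScalarTower.of_algebraMap_smul fun _ _ => rfl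
  haveI : IsScalarTower Γ(X, V) Γ(X', U) St := IsScalarTower.of_algebraMap_smul fun a m => by
    show (X'.presheaf.germ U x' hxU).hom ((g'.appLE V U eU).hom a) • m =
      (g'.stalkMap x').hom (X.presheaf.germ V (g' x') (eU hxU) a) • m
    congr 1
    exact (Groth.L20.ModStalk.stalkMap_germ eU hxU (eU hxU) a).symm
  have hb₁ : IsBaseChange Γ(X', U) (TensorProduct.mk Γ(X, V) Γ(X', U) Γ(F, V) 1) := TensorProduct.isBaseChange _ _ _
  have hb₂ : IsBaseChange (X'.presheaf.stalk x') (hb₁.lift ψ) := by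
    refine IsBaseChange.of_comp hb₁ ?_
    rw [show (hb₁.lift ψ).restrictScalars Γ(X, V) ∘ₗ TensorProduct.mk Γ(X, V) Γ(X', U) Γ(F, V) 1 = ψ from
      LinearMap.ext fun m => hb₁.lift_eq ψ m]
    exact hψ
  let P := (hU.primeIdealOf ⟨x', hxU⟩).asIdeal
  haveI : IsLocalization.AtPrime (X'.presheaf.stalk x') P := hU.isLocalization_stalk ⟨x', hxU⟩
  haveI : IsLocalizedModule P.primeCompl (hb₁.lift ψ) :=
    (isLocalizedModule_iff_isBaseChange P.primeCompl (X'.presheaf.stalk x') _).2 hb₂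
  letI : Module Γ(S', W') St := Module.compHom _ ((X'.presheaf.germ U x' hxU).hom.comp (f'.appLE W' U eU').hom)
  haveI : IsScalarTower Γ(S', W') Γ(X', U) St := IsScalarTower.of_algebraMap_smul fun _ _ => rfl
  let e := IsLocalizedModule.linearEquiv P.primeCompl
    (LocalizedModule.mkLinearMap P.primeCompl (Γ(X', U) ⊗[Γ(X, V)] Γ(F, V))) (hb₁.lift ψ)
  exact (Module.Flat.equiv_iff (e.restrictScalars Γ(S', W'))).symm

set_option maxHeartbeats 1000000 in
/-- Flatness over an affine square is flatness of the base change of the sections. -/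
theorem isFlatOver_square_iff {X' S' : Scheme.{u}} {f : X ⟶ S} {f' : X' ⟶ S'} {g' : X' ⟶ X} {g : S' ⟶ S}
    (hc : IsPullback g' f' f g) (F : X.Modules) [Coh.IsQCoh F] {W : S.Opens} {V : X.Opens} {W' : S'.Opens}
    (hW : IsAffineOpen W) (hV : IsAffineOpen V) (hW' : IsAffineOpen W') (eV : V ≤ f ⁻¹ᵁ W) (eW : W' ≤ g ⁻¹ᵁ W) :
    (∀ x' : X', g' x' ∈ V → f' x' ∈ W' → FlatMod.IsFlatOverAt f' ((Scheme.Modules.pullback g').obj F) x') ↔
      letI := (f.appLE W V eV).hom.toAlgebra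
      letI := (g.appLE W W' eW).hom.toAlgebra
      FlatBC Γ(S, W) 0 Γ(S', W') Γ(X, V) Γ(F, V) := by
  have hpb := Scheme.Hom.isPullback_resLE hc (UT := W') eW eV (UY := g' ⁻¹ᵁ V ⊓ f' ⁻¹ᵁ W') rfl
  haveI : IsAffine W.toScheme := hW
  haveI : IsAffine V.toScheme := hV
  haveI : IsAffine W'.toScheme := hW'
  have hU : IsAffineOpen (g' ⁻¹ᵁ V ⊓ f' ⁻¹ᵁ W') := IsAffine.of_isPullback hpb
  have hpo : IsPushout (f.appLE W V eV) (g.appLE W W' eW)
      (g'.appLE V (g' ⁻¹ᵁ V ⊓ f' ⁻¹ᵁ W') inf_le_left) (f'.appLE W' (g' ⁻¹ᵁ V ⊓ f' ⁻¹ᵁ W') inf_le_right) := by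
    refine (isPushout_appTop_of_isPullback hpb).of_iso W.topIso V.topIso W'.topIso
      (g' ⁻¹ᵁ V ⊓ f' ⁻¹ᵁ W').topIso ?_ ?_ ?_ ?_ <;>
    simp only [Scheme.Hom.appTop, Scheme.Hom.resLE_app_top, Category.assoc, Iso.inv_hom_id, Category.comp_id]
  set U := g' ⁻¹ᵁ V ⊓ f' ⁻¹ᵁ W' with hUdef
  have eU : U ≤ g' ⁻¹ᵁ V := inf_le_left
  have eU' : U ≤ f' ⁻¹ᵁ W' := inf_le_right
  letI := (f.appLE W V eV).hom.toAlgebra
  letI := (g.appLE W W' eW).hom.toAlgebra
  letI := (g'.appLE V U eU).hom.toAlgebra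
  letI := (f'.appLE W' U eU').hom.toAlgebra
  letI : Algebra Γ(S, W) Γ(X', U) := ((g'.appLE V U eU).hom.comp (f.appLE W V eV).hom).toAlgebra
  haveI : IsScalarTower Γ(S, W) Γ(X, V) Γ(X', U) := IsScalarTower.of_algebraMap_eq' rfl
  haveI : IsScalarTower Γ(S, W) Γ(S', W') Γ(X', U) := IsScalarTower.of_algebraMap_eq' (congrArg CommRingCat.Hom.hom hpo.w)
  haveI : Algebra.IsPushout Γ(S, W) Γ(X, V) Γ(S', W') Γ(X', U) := CommRingCat.isPushout_iff_isPushout.mp hpo
  rw [flatBC_iff_model (A := Γ(S, W)) (T := Γ(S', W')) (TensorProduct.mk Γ(X, V) Γ(X', U) Γ(F, V) 1)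
    (TensorProduct.isBaseChange Γ(X, V) Γ(F, V) Γ(X', U)) 0, flatInDimGE_zero_iff]
  constructor
  · intro h Q _
    let x' : X' := hU.fromSpec ⟨Q, inferInstance⟩
    have hxU : x' ∈ U := by
      have : x' ∈ Set.range hU.fromSpec := ⟨_, rfl⟩
      rwa [hU.range_fromSpec] at this
    have e : (hU.primeIdealOf ⟨x', hxU⟩).asIdeal = Q := congrArg (fun p : Spec Γ(X', U) => p.asIdeal)
      (hU.fromSpec.injective (hU.fromSpec_primeIdealOf ⟨x', hxU⟩))
    have := (isFlatOverAt_square_iff (f := f) (g := g) (W := W) F hV hW' hU eU eU' x' hxU).1 (h x' hxU.1 hxU.2)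
    exact flatAt_congr_prime e this
  · intro h x' hxV hxW
    exact (isFlatOverAt_square_iff (f := f) (g := g) (W := W) F hV hW' hU eU eU' x' ⟨hxV, hxW⟩).2 (h _)

end Groth.L20.RG
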