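import Groth.Agent.L20.RG.UnivPureFt
import Groth.Agent.L20.RG.PureProj

/-!
# Free modules on an affine open neighbourhood after an etale localisation of the base
-/

set_option autoImplicit false
set_option linter.style.haveILetI false
set_option backward.isDefEq.respectTransparency.types false
universe u

open TensorProduct IsLocalRing

noncomputable section

namespace Groth.L20.RG

open Groth.L03.WeakAss

/-- An element regular on the closed fibre of a free module acts universally injectively. -/
theorem smul_injective_of_free {A C : Type u} [CommRing A] [IsLocalRing A] [CommRing C] [Algebra A C]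
    (P : Type u) [AddCommGroup P] [Module C P] [Module A P] [IsScalarTower A C P] [Module.Free A P] (g : C)
    (hg : ∀ y : P ⊗[A] (maximalIdeal A).ResidueField, g • y = 0 → y = 0)
    (Q : Type u) [AddCommGroup Q] [Module A Q] (z : P ⊗[A] Q) (hz : g • z = 0) : z = 0 := by
  let τ : P →ₗ[A] P := (LinearMap.lsmul C P g).restrictScalars A
  have hinj : Function.Injective (τ.lTensor (ResidueField A)) := by
    rw [Groth.L20.injective_lTensor_residueField_iff]
    intro x hx
    have h1 : ∀ y ∈ maximalIdeal A • (⊤ : Submodule A P), y ⊗ₜ[A] (1 : (maximalIdeal A).ResidueField) = 0 := fun y hy => by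
      refine Submodule.smul_induction_on hy (fun a ha n _ => ?_) fun a b ha hb => by
        rw [TensorProduct.add_tmul, ha, hb, add_zero]
      rw [TensorProduct.smul_tmul, Algebra.smul_def, Ideal.algebraMap_residueField_eq_zero.mpr ha, zero_mul,
        TensorProduct.tmul_zero]
    obtain ⟨r, hr, hrx⟩ := exists_smul_mem_of_tmul_one_eq_zero (maximalIdeal A) (x := x) (hg _ (by
      rw [TensorProduct.smul_tmul']; exact h1 _ hx))
    obtain ⟨e, he⟩ := (IsLocalRing.notMem_maximalIdeal.mp hr).exists_left_inv
    rw [← one_smul A x, ← he, mul_smul]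
    exact Submodule.smul_mem _ _ hrx
  have h2 := (LinearMap.lTensor_inj_iff_rTensor_inj Q τ).mp (Groth.L20.lTensor_injective_of_projective τ hinj Q)
  refine h2 ?_
  rw [map_zero, ← hz, Groth.L20.smul_eq_rTensor]

set_option maxHeartbeats 1000000 in
/-- Localisation of a module mapping to a free module, with kernels dying at `g`. -/
theorem free_localizedModule_of_map {A SA : Type u} [CommRing A] [IsLocalRing A] [CommRing SA] [Algebra A SA]
    [Algebra.FiniteType A SA] (N : Type u) [AddCommGroup N] [Module SA N] [Module A N] [IsScalarTower A SA N]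
    [Module.Finite SA N] (P : Type u) [AddCommGroup P] [Module SA P] [Module A P] [IsScalarTower A SA P] [Module.Free A P]
    (ψ : N →ₗ[SA] P) (g : SA) (hreg : ∀ (Q : Type u) [AddCommGroup Q] [Module A Q] (z : P ⊗[A] Q), g • z = 0 → z = 0)
    (hker : ∀ (Q : Type u) [AddCommGroup Q] [Module A Q] (z : N ⊗[A] Q), (ψ.restrictScalars A).rTensor Q z = 0 →
      ∃ k : ℕ, g ^ k • z = 0) :
    Module.Free A (LocalizedModule (Submonoid.powers g) N) := by
  classical
  let T := Submonoid.powers g
  haveI : Module.Flat A (LocalizedModule T N) := by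
    refine Groth.L20.flat_localizedModule_of_forall T fun J z hz => ?_
    obtain ⟨k, hk⟩ := hker J z (Module.Flat.lTensor_preserves_injective_linearMap (M := P) J.subtype Subtype.val_injective (by
      rw [map_zero, ← LinearMap.comp_apply, LinearMap.lTensor_comp_rTensor, ← LinearMap.rTensor_comp_lTensor,
        LinearMap.comp_apply, hz, map_zero]))
    exact ⟨g ^ k, ⟨k, rfl⟩, hk⟩
  have hpow : ∀ (k : ℕ) (Q : Type u) [AddCommGroup Q] [Module A Q] (z : P ⊗[A] Q), g ^ k • z = 0 → z = 0 := fun k => by
    induction k with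
    | zero => intro Q _ _ z hz; simpa using hz
    | succ k ih =>
      intro Q _ _ z hz
      rw [pow_succ, mul_smul] at hz
      exact hreg Q z (ih Q _ hz)
  have hlin : ∀ (Q : Type u) [AddCommGroup Q] [Module A Q] (c : SA) (z : N ⊗[A] Q),
      (ψ.restrictScalars A).rTensor Q (c • z) = c • (ψ.restrictScalars A).rTensor Q z := fun Q _ _ c z => by
    induction z using TensorProduct.induction_on with
    | zero => simp
    | add a b ha hb => simp only [smul_add, map_add, ha, hb]
    | tmul n x =>
      show ψ (c • n) ⊗ₜ[A] x = c • (ψ n ⊗ₜ[A] x)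
      rw [map_smul, TensorProduct.smul_tmul']
  let f := LocalizedModule.mkLinearMap T N
  have hML : CAlg.IsMittagLeffler A (LocalizedModule T N) := by
    intro ι Q _ _
    refine (injective_iff_map_eq_zero _).mpr fun z hz => ?_
    let F := AlgebraTensorModule.rTensor A (∀ i, Q i) f
    obtain ⟨⟨z₀, s⟩, hs⟩ := IsLocalizedModule.surj T F z
    simp only at hs
    have hcomm : ∀ (i : ι) (w : N ⊗[A] ∀ i, Q i), TensorProduct.piRightHom A A (LocalizedModule T N) Q (F w) i =
        AlgebraTensorModule.rTensor A (Q i) f (TensorProduct.piRightHom A A N Q w i) := fun i w => by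
      induction w using TensorProduct.induction_on with
      | zero => simp
      | add a b ha hb => simp only [map_add, Pi.add_apply, ha, hb]
      | tmul n x => simp [F]
    have hcommP : ∀ (i : ι) (w : N ⊗[A] ∀ i, Q i), TensorProduct.piRightHom A A P Q ((ψ.restrictScalars A).rTensor _ w) i =
        (ψ.restrictScalars A).rTensor (Q i) (TensorProduct.piRightHom A A N Q w i) := fun i w => by
      induction w using TensorProduct.induction_on with
      | zero => simp
      | add a b ha hb => simp only [map_add, Pi.add_apply, ha, hb]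
      | tmul n x => simp
    have hsm : ∀ (i : ι) (c : SA) (w : LocalizedModule T N ⊗[A] ∀ i, Q i),
        TensorProduct.piRightHom A A (LocalizedModule T N) Q (c • w) i =
          c • TensorProduct.piRightHom A A (LocalizedModule T N) Q w i := fun i c w => by
      induction w using TensorProduct.induction_on with
      | zero => simp
      | add a b ha hb => simp only [smul_add, map_add, Pi.add_apply, ha, hb]
      | tmul n x => simp [TensorProduct.smul_tmul']
    have h1 : (ψ.restrictScalars A).rTensor _ z₀ = 0 := by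
      refine Groth.L01.ProjML.isMittagLeffler_of_projective (R := A) (M := P) ι Q ?_
      rw [map_zero]
      funext i
      have h2 : AlgebraTensorModule.rTensor A (Q i) f (TensorProduct.piRightHom A A N Q z₀ i) = 0 := by
        rw [← hcomm, ← hs, Submonoid.smul_def, hsm, hz, Pi.zero_apply, smul_zero]
      obtain ⟨⟨c, k, rfl⟩, hc⟩ := (IsLocalizedModule.eq_zero_iff T (AlgebraTensorModule.rTensor A (Q i) f)).mp h2
      rw [Pi.zero_apply, hcommP]
      refine hpow k (Q i) _ ?_
      rw [← hlin]
      exact (congrArg _ hc).trans (map_zero _)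
    obtain ⟨k, hk⟩ := hker _ z₀ h1
    refine IsLocalizedModule.smul_injective F ((⟨g ^ k, k, rfl⟩ : T) * s) ?_
    show (⟨g ^ k, k, rfl⟩ * s : T) • z = (⟨g ^ k, k, rfl⟩ * s : T) • 0
    rw [smul_zero, mul_smul, hs, Submonoid.smul_def, ← map_smul, hk, map_zero]
  haveI : Algebra.FiniteType A (Localization T) := by
    haveI : Algebra.FinitePresentation SA (Localization T) :=
      IsLocalization.Away.finitePresentation (S := Localization T) g
    exact Algebra.FiniteType.trans (S := SA) inferInstance inferInstance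
  haveI : Module.Finite (Localization T) (LocalizedModule T N) :=
    Module.Finite.of_isLocalizedModule T f
  haveI : Module.Projective A (LocalizedModule T N) :=
    Groth.L01.CountFlatML.projective hML (isCountablyGenerated_of_finite (B := Localization T) (LocalizedModule T N))
  exact Groth.L01.free_of_projective _

set_option maxHeartbeats 2000000 in
/-- **A free module on an affine open.** -/
theorem exists_free_basicOpen {R S : Type u} [CommRing R] [CommRing S] [Algebra R S] [Algebra.FiniteType R S]
    (N : Type u) [AddCommGroup N] [Module S N] [Module R N] [IsScalarTower R S N] [Module.Finite S N]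
    (p : Ideal R) [p.IsPrime] (q : Ideal S) [q.IsPrime] [q.LiesOver p] (hflat : FlatCA.FlatAt R q N) :
    ∃ (R' : Type u) (_ : CommRing R') (_ : Algebra R R') (p' : Ideal R') (_ : p'.IsPrime), FlatCA.IsEtaleNhd R R' p p' ∧
      ∀ (A : Type u) [CommRing A] [IsLocalRing A] [Algebra R A] [Algebra R' A] [IsScalarTower R R' A],
        IsLocalization.AtPrime A p' → TrivRes R' p' (maximalIdeal A) →
      ∀ (SA NA : Type u) [CommRing SA] [Algebra R SA] [Algebra S SA] [Algebra A SA] [IsScalarTower R S SA]
        [IsScalarTower R A SA] [Algebra.IsPushout R S A SA] [AddCommGroup NA] [Module SA NA] [Module S NA]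
        [IsScalarTower S SA NA] [Module A NA] [IsScalarTower A SA NA] (f : N →ₗ[S] NA), IsBaseChange SA f →
        ∃ (g : SA) (Q : Ideal SA), Q.IsPrime ∧ g ∉ Q ∧ Q.LiesOver q ∧ Q.LiesOver (maximalIdeal A) ∧
          Module.Free A (LocalizedModule (Submonoid.powers g) NA) := by
  classical
  obtain ⟨R₁, S₁, _, _, _, _, _, _, _, _, p₁, _, f₁, hn, het, hf₁, ⟨qS, _, hqSp, hqS⟩, -, H⟩ :=
    exists_free_local_ft N p q hflat
  haveI := hn.1
  haveI := het
  haveI := hqSp
  refine ⟨R₁, inferInstance, inferInstance, p₁, inferInstance, hn, ?_⟩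
  intro A _ _ _ _ _ hAloc h1 SA NA _ _ _ _ _ _ _ _ _ _ _ _ _ f hf
  haveI := hAloc
  have hA : TrivRes R p (maximalIdeal A) := (show TrivRes R p p₁ from hn.2).trans h1
  obtain ⟨C, _, _, _, _, _, _, _, _, _, _, _, hpush, hC, hptx, -⟩ :=
    exists_chart_local (R := R) (S := S) (R' := R₁) (S' := S₁) (A := A) (SA := SA) p p₁ (maximalIdeal A) hA h1
  haveI := hpush
  haveI := hC
  obtain ⟨x, _, hxm, hxS, -⟩ := hptx qS inferInstance hqSp
  haveI := hxm
  obtain ⟨Nc, _, _, _, _, _, _, ψ, hψ⟩ : ∃ (Nc : Type u) (_ : AddCommGroup Nc) (_ : Module C Nc) (_ : Module SA Nc)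
      (_ : IsScalarTower SA C Nc) (_ : Module A Nc) (_ : IsScalarTower A C Nc) (ψ : NA →ₗ[SA] Nc), IsBaseChange C ψ := by
    haveI : IsScalarTower A C (C ⊗[SA] NA) := TensorProduct.isScalarTower_left
    exact ⟨C ⊗[SA] NA, inferInstance, inferInstance, inferInstance, inferInstance, inferInstance, inferInstance,
      TensorProduct.mk SA C NA 1, TensorProduct.isBaseChange SA NA C⟩
  haveI : IsScalarTower A SA Nc := IsScalarTower.of_algebraMap_smul fun a m => by
    rw [← algebraMap_smul C (algebraMap A SA a) m, ← IsScalarTower.algebraMap_apply, algebraMap_smul]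
  letI : Module S Nc := Module.compHom Nc (algebraMap S C)
  haveI : IsScalarTower S C Nc := IsScalarTower.of_algebraMap_smul fun _ _ => rfl
  haveI : IsScalarTower S SA Nc := IsScalarTower.of_algebraMap_smul fun b m => by
    rw [← algebraMap_smul C (algebraMap S SA b) m, ← IsScalarTower.algebraMap_apply, algebraMap_smul]
  haveI : Module.Free A Nc := H A h1 (IsLocalization.map_units A (⟨f₁, hf₁⟩ : p₁.primeCompl)) C Nc
    ((ψ.restrictScalars S) ∘ₗ f) (IsBaseChange.comp hf hψ)
  haveI : Algebra.FiniteType A SA := Algebra.FiniteType.equiv inferInstance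
    (haveI : Algebra.IsPushout R A S SA := Algebra.IsPushout.symm inferInstance
     Algebra.IsPushout.equiv R A S SA)
  haveI : Algebra.FiniteType A C := Algebra.FiniteType.trans (S := SA) inferInstance inferInstance
  haveI : Module.Finite SA NA := Module.Finite.of_surjective hf.equiv.toLinearMap hf.equiv.surjective
  haveI : Module.Finite C Nc := Module.Finite.of_surjective hψ.equiv.toLinearMap hψ.equiv.surjective
  haveI : Module.Flat SA C := Algebra.Smooth.flat SA C
  -- the element
  let W := insert x (finite_weakAss_fibre (S := C) (maximalIdeal A) Nc).toFinset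
  let W' := W.image fun P => P.comap (algebraMap SA C)
  have hWprime : ∀ P ∈ W, P.IsPrime := by
    intro P hP
    rcases Finset.mem_insert.1 hP with rfl | hP
    · infer_instance
    · exact isPrime_of_mem_weakAss ((Set.Finite.mem_toFinset _).1 hP)
  have hopen : IsOpen (Set.range (PrimeSpectrum.comap (algebraMap SA C))) :=
    (PrimeSpectrum.isOpenMap_comap_of_hasGoingDown_of_finitePresentation (R := SA) (S := C)).isOpen_range
  obtain ⟨J, hJ⟩ := (PrimeSpectrum.isClosed_iff_zeroLocus_ideal _).mp hopen.isClosed_compl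
  obtain ⟨g, hgJ, hgW⟩ : ∃ g ∈ J, ∀ P ∈ W', g ∉ P := by
    by_contra! hcov
    have hsub : (J : Set SA) ⊆ ⋃ P ∈ (↑W' : Set (Ideal SA)), P := by
      intro b hb
      obtain ⟨P, hP, hbP⟩ := hcov b hb
      simp only [Set.mem_iUnion]
      exact ⟨P, Finset.mem_coe.2 hP, hbP⟩
    obtain ⟨P, hP, hle⟩ := (Ideal.subset_union_prime (f := id) ⊥ ⊥ (fun P hP _ _ => by
      obtain ⟨P', hP', rfl⟩ := Finset.mem_image.1 hP
      haveI := hWprime P' hP'
      exact Ideal.IsPrime.comap _)).1 hsub
    obtain ⟨P', hP', rfl⟩ := Finset.mem_image.1 hP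
    haveI := hWprime P' hP'
    have hmem : (⟨P'.comap (algebraMap SA C), inferInstance⟩ : PrimeSpectrum SA) ∈ PrimeSpectrum.zeroLocus (J : Set SA) := hle
    rw [← hJ] at hmem
    exact hmem ⟨⟨P', inferInstance⟩, rfl⟩
  let Q := x.comap (algebraMap SA C)
  have hQ : ∀ P ∈ W, g ∉ P.comap (algebraMap SA C) := fun P hP => hgW _ (Finset.mem_image_of_mem _ hP)
  refine ⟨g, Q, inferInstance, hQ x (Finset.mem_insert_self _ _), ⟨?_⟩, ⟨?_⟩, ?_⟩
  · rw [Ideal.under_def, Ideal.comap_comap, ← IsScalarTower.algebraMap_eq, IsScalarTower.algebraMap_eq S S₁ C,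
      ← Ideal.comap_comap, hxS]
    exact hqS.1.over
  · rw [Ideal.under_def, Ideal.comap_comap, ← IsScalarTower.algebraMap_eq]
    exact hxm.over
  refine free_localizedModule_of_map NA Nc ψ g (fun X _ _ z hz => ?_) fun X _ _ z hz => ?_
  · refine smul_injective_of_free Nc (algebraMap SA C g) (fun y hy => ?_) X z (by rwa [algebraMap_smul])
    by_contra hne
    obtain ⟨P, hP, hle⟩ := exists_mem_weakAss_of_ne_zero (R := C) hne
    exact hQ P (Finset.mem_insert_of_mem ((Set.Finite.mem_toFinset _).2 hP)) (hle (mem_annE.2 hy))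
  · let e' : C ⊗[SA] (NA ⊗[A] X) ≃ₗ[A] Nc ⊗[A] X :=
      ((AlgebraTensorModule.assoc A SA SA C NA X).symm.restrictScalars A).trans
        (TensorProduct.congr (hψ.equiv.restrictScalars A) (LinearEquiv.refl A X))
    have hkey : ∀ z : NA ⊗[A] X, e' ((1 : C) ⊗ₜ[SA] z) = (ψ.restrictScalars A).rTensor X z := fun z => by
      induction z using TensorProduct.induction_on with
      | zero => simp
      | add a b ha hb => simp only [TensorProduct.tmul_add, map_add, ha, hb]
      | tmul n x =>
        show (hψ.equiv ((1 : C) ⊗ₜ[SA] n)) ⊗ₜ[A] x = ψ n ⊗ₜ[A] x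
        rw [hψ.equiv_tmul 1 n, one_smul]
    have h0 : (1 : C) ⊗ₜ[SA] z = 0 := e'.injective (by rw [hkey, hz, map_zero])
    obtain ⟨k, hk⟩ : ∃ k : ℕ, g ^ k ∈ annE SA z := by
      refine Ideal.mem_radical_iff.mp ?_
      rw [Ideal.radical_eq_sInf, Submodule.mem_sInf]
      rintro P ⟨hle, hP⟩
      by_contra hgP
      have hmem : (⟨P, hP⟩ : PrimeSpectrum SA) ∈ Set.range (PrimeSpectrum.comap (algebraMap SA C)) := by
        by_contra hno
        have : (⟨P, hP⟩ : PrimeSpectrum SA) ∈ PrimeSpectrum.zeroLocus (J : Set SA) := hJ ▸ hno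
        exact hgP (this hgJ)
      obtain ⟨y, hy⟩ := hmem
      exact one_tmul_ne_zero_of_le y.asIdeal (hle.trans (congrArg PrimeSpectrum.asIdeal hy).ge) h0
    exact ⟨k, mem_annE.1 hk⟩

end Groth.L20.RG
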