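import Groth.Agent.L20.RG.PureTrans
import Groth.Agent.L07.SectionCompFlat
import Groth.Agent.L07.SectionCompConn
import Groth.Agent.S1327
import Groth.Agent.L02.SchDom.GeomFibre
import Groth.Agent.L26.AV.SmoothField
import Groth.Agent.L04.SupportSh.Components
import Groth.Agent.L07.QuasiSectionPrime
import Mathlib.Topology.LocalAtTarget

/-!
# Opens with geometrically irreducible fibres around a point, via a finite etale section
-/

set_option autoImplicit false
set_option linter.style.haveILetI false
universe u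

open TensorProduct

noncomputable section

namespace Groth.L20.RG

/-- Open and closed maps carry a component of a preimage onto the component of the image. -/
theorem exists_mem_connectedComponentIn {X Y : Type u} [TopologicalSpace X] [TopologicalSpace Y] {f : X → Y}
    (hf : Continuous f) (ho : IsOpenMap f) (hc : IsClosedMap f) (F : Set Y)
    [TopologicalSpace.NoetherianSpace ↥(f ⁻¹' F)] {x : X} (hx : f x ∈ F) {y : Y}
    (hy : y ∈ connectedComponentIn F (f x)) : ∃ x' ∈ connectedComponentIn (f ⁻¹' F) x, f x' = y := by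
  rw [connectedComponentIn_eq_image hx] at hy
  obtain ⟨y', hy', rfl⟩ := hy
  let g := F.restrictPreimage f
  have hC : IsClopen (g '' connectedComponent (⟨x, hx⟩ : ↥(f ⁻¹' F))) :=
    ⟨hc.restrictPreimage F _ isClosed_connectedComponent,
      ho.restrictPreimage F _ (Groth.L04.SupportSh.isOpen_connectedComponent_of_noetherianSpace _)⟩
  obtain ⟨x', hx', he⟩ := hC.connectedComponent_subset ⟨⟨x, hx⟩, mem_connectedComponent, rfl⟩ hy'
  refine ⟨x'.1, ?_, congrArg Subtype.val he⟩
  rw [connectedComponentIn_eq_image (show x ∈ f ⁻¹' F from hx)]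
  exact ⟨x', hx', rfl⟩

/-- Fibres of finite type ring maps are noetherian spaces. -/
theorem noetherianSpace_fibre {R S : Type u} [CommRing R] [CommRing S] [Algebra R S] [Algebra.FiniteType R S]
    (p : PrimeSpectrum R) :
    TopologicalSpace.NoetherianSpace ↥(PrimeSpectrum.comap (algebraMap R S) ⁻¹' {p}) := by
  let e := PrimeSpectrum.preimageHomeomorphFiber R S p
  haveI : IsNoetherianRing (p.asIdeal.Fiber S) := Algebra.FiniteType.isNoetherianRing p.asIdeal.ResidueField _
  exact TopologicalSpace.noetherianSpace_of_surjective e.symm e.symm.continuous e.symm.surjective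

open AlgebraicGeometry CategoryTheory Limits

/-- Connected components of smooth schemes over a field are irreducible. -/
theorem isIrreducible_connectedComponent {K : Type u} [Field K] {X : Scheme.{u}}
    (f : X ⟶ Spec (CommRingCat.of K)) [Smooth f] (x : X) : IsIrreducible (connectedComponent x) := by
  haveI : IsLocallyNoetherian X := LocallyOfFiniteType.isLocallyNoetherian f
  let U : X.Opens := ⟨connectedComponent x, Groth.L04.SupportSh.isOpen_connectedComponent x⟩
  haveI : Smooth (U.ι ≫ f) := inferInstance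
  haveI : IsLocallyNoetherian (U : Scheme.{u}) := LocallyOfFiniteType.isLocallyNoetherian (U.ι ≫ f)
  haveI : ConnectedSpace (U : Scheme.{u}) := isConnected_iff_connectedSpace.mp isConnected_connectedComponent
  haveI := Groth.L02.SchDom.irreducibleSpace_of_connected (X := (U : Scheme.{u}))
    fun w => Groth.L21.Smooth.isDomain_stalk (U.ι ≫ f) w
  have := (IrreducibleSpace.isIrreducible_univ (U : Scheme.{u})).image U.ι U.ι.continuous.continuousOn
  rwa [Set.image_univ, Scheme.Opens.range_ι] at this

section Nhd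

variable {R' A T : Type u} [CommRing R'] [CommRing A] [CommRing T] [Algebra R' A] [Algebra R' T]

/-- The ring map of the section defined by `θ`. -/
def secHom (θ : A →ₐ[R'] T) : A ⊗[R'] T →ₐ[R'] T :=
  Algebra.TensorProduct.lift θ (AlgHom.id R' T) fun _ _ => Commute.all _ _

/-- Near a point in the component of a finite etale section, the geometric fibres are irreducible. -/
theorem exists_basicOpen_irreducible [Algebra.Smooth R' A] [Algebra.Etale R' T] [Module.Finite R' T]
    (p' : Ideal R') [p'.IsPrime] (τ : Ideal T) [τ.IsPrime] [hτ : τ.LiesOver p']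
    (hτu : ∀ (τ₁ : Ideal T) [τ₁.IsPrime], τ₁.LiesOver p' → τ₁ = τ) (θ : A →ₐ[R'] T)
    (y : Ideal A) [y.IsPrime] [hy : y.LiesOver p']
    (hcomp : (⟨y, inferInstance⟩ : PrimeSpectrum A) ∈
      connectedComponentIn (PrimeSpectrum.comap (algebraMap R' A) ⁻¹' {⟨p', inferInstance⟩})
        (PrimeSpectrum.comap θ.toRingHom ⟨τ, inferInstance⟩))
    (hs : letI : Algebra p'.ResidueField τ.ResidueField :=
        (Ideal.ResidueField.mapₐ p' τ (Algebra.ofId R' T) hτ.over).toRingHom.toAlgebra
      letI : Algebra p'.ResidueField y.ResidueField :=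
        (Ideal.ResidueField.mapₐ p' y (Algebra.ofId R' A) hy.over).toRingHom.toAlgebra
      Subsingleton (PrimeSpectrum (τ.ResidueField ⊗[p'.ResidueField] y.ResidueField))) :
    ∃ g : A, g ∉ y ∧ ∀ (U : Scheme.{u}) (j : U ⟶ Spec (CommRingCat.of A)) [IsOpenImmersion j],
      Set.range j ⊆ (PrimeSpectrum.basicOpen g : Set (PrimeSpectrum A)) →
      ∀ (K : Type u) [Field K] (t : Spec (CommRingCat.of K) ⟶ Spec (CommRingCat.of T)),
        PreirreducibleSpace ↥(pullback (j ≫ Spec.map (CommRingCat.ofHom (algebraMap R' A)))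
          (t ≫ Spec.map (CommRingCat.ofHom (algebraMap R' T)))) := by
  let E := A ⊗[R'] T
  let iL : A →+* E := Algebra.TensorProduct.includeLeftRingHom
  let iR : T →+* E := (Algebra.TensorProduct.includeRight : T →ₐ[R'] E).toRingHom
  let π := Spec.map (CommRingCat.ofHom iL)
  let fT := Spec.map (CommRingCat.ofHom iR)
  let cA := Spec.map (CommRingCat.ofHom (algebraMap R' A))
  let cT := Spec.map (CommRingCat.ofHom (algebraMap R' T))
  let s := Spec.map (CommRingCat.ofHom (secHom θ).toRingHom)
  have sq : IsPullback π fT cA cT := by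
    refine IsPullback.of_iso (IsPullback.of_hasPullback cA cT) (pullbackSpecIso R' A T) (Iso.refl _) (Iso.refl _)
      (Iso.refl _) ?_ ?_ (by simp [cA]) (by simp [cT])
    · rw [Iso.refl_hom, Category.comp_id]; exact (pullbackSpecIso_hom_fst R' A T).symm
    · rw [Iso.refl_hom, Category.comp_id]; exact (pullbackSpecIso_hom_snd R' A T).symm
  have hsfT : s ≫ fT = 𝟙 _ := by
    rw [← Spec.map_comp, ← CommRingCat.ofHom_comp, show (secHom θ).toRingHom.comp iR = RingHom.id T from
      RingHom.ext fun t => by simp [secHom, iR], CommRingCat.ofHom_id, Spec.map_id]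
  haveI : Smooth cA := by
    rw [HasRingHomProperty.Spec_iff (P := @Smooth), CommRingCat.hom_ofHom, RingHom.smooth_algebraMap]
    infer_instance
  haveI : Smooth fT := MorphismProperty.of_isPullback (P := @Smooth) sq inferInstance
  haveI := Groth.Agent.AV.geometricallyReduced_of_smooth fT
  let τS : Spec (CommRingCat.of T) := ⟨τ, inferInstance⟩
  let SC := MoreMor.sectionComponents fT s
  have hint : connectedComponentIn (fT ⁻¹' {τS}) (s τS) ⊆ interior SC :=
    Groth.Agent.S1327.result fT s hsfT τS inferInstance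
  haveI : Module.Finite A (A ⊗[R'] T) := inferInstance
  haveI : Algebra.Etale A (A ⊗[R'] T) := inferInstance
  have hclosed : IsClosedMap (PrimeSpectrum.comap iL) :=
    PrimeSpectrum.isClosedMap_comap_of_isIntegral iL (algebraMap_isIntegral_iff.mpr (Algebra.IsIntegral.of_finite A (A ⊗[R'] T)))
  have hopen : IsOpenMap (PrimeSpectrum.comap iL) :=
    PrimeSpectrum.isOpenMap_comap_of_hasGoingDown_of_finitePresentation (R := A) (S := A ⊗[R'] T)
  -- the good open set
  let V : Set (PrimeSpectrum A) := (PrimeSpectrum.comap iL '' (interior SC)ᶜ)ᶜ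
  have hV : IsOpen V := (hclosed _ isOpen_interior.isClosed_compl).isOpen_compl
  let F : Set (PrimeSpectrum A) := PrimeSpectrum.comap (algebraMap R' A) ⁻¹' {⟨p', inferInstance⟩}
  have hpre : PrimeSpectrum.comap iL ⁻¹' F = fT ⁻¹' {τS} := by
    have hcomm : (iL.comp (algebraMap R' A)) = iR.comp (algebraMap R' T) := by
      ext c
      show algebraMap R' A c ⊗ₜ[R'] (1 : T) = (1 : A) ⊗ₜ[R'] algebraMap R' T c
      rw [Algebra.algebraMap_eq_smul_one, Algebra.algebraMap_eq_smul_one, TensorProduct.smul_tmul]
    ext Q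
    have h1 : (Q.asIdeal.comap iL).comap (algebraMap R' A) = (Q.asIdeal.comap iR).comap (algebraMap R' T) := by
      rw [Ideal.comap_comap, Ideal.comap_comap, hcomm]
    constructor
    · intro hQ
      have hQ' : (Q.asIdeal.comap iL).comap (algebraMap R' A) = p' := congrArg PrimeSpectrum.asIdeal hQ
      exact PrimeSpectrum.ext (hτu (Q.asIdeal.comap iR) ⟨(hQ'.symm.trans h1)⟩)
    · intro hQ
      have hQ' : Q.asIdeal.comap iR = τ := congrArg PrimeSpectrum.asIdeal hQ
      refine PrimeSpectrum.ext ?_
      show (Q.asIdeal.comap iL).comap (algebraMap R' A) = p'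
      rw [h1, hQ']
      exact hτ.over.symm
  haveI : TopologicalSpace.NoetherianSpace ↥(PrimeSpectrum.comap iL ⁻¹' F) := by
    rw [hpre]
    letI : Algebra T E := iR.toAlgebra
    haveI : Algebra.FiniteType T E :=
      RingHom.finiteType_algebraMap.mp ((HasRingHomProperty.Spec_iff (P := @LocallyOfFiniteType)).mp
        (inferInstance : LocallyOfFiniteType fT))
    exact noetherianSpace_fibre (R := T) (S := E) τS
  have hπs : PrimeSpectrum.comap iL (s τS) = PrimeSpectrum.comap θ.toRingHom ⟨τ, inferInstance⟩ := by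
    refine PrimeSpectrum.ext ?_
    show (τ.comap (secHom θ).toRingHom).comap iL = τ.comap θ.toRingHom
    rw [Ideal.comap_comap, show (secHom θ).toRingHom.comp iL = θ.toRingHom from
      RingHom.ext fun a => by simp [secHom, iL]]
  have hyV : (⟨y, inferInstance⟩ : PrimeSpectrum A) ∈ V := by
    rintro ⟨Q, hQ, hQy⟩
    have hsF : PrimeSpectrum.comap iL (s τS) ∈ F := by
      have : s τS ∈ PrimeSpectrum.comap iL ⁻¹' F := by
        rw [hpre]; show fT (s τS) = τS; rw [← Scheme.Hom.comp_apply, hsfT]; rfl
      exact this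
    obtain ⟨Q', hQ', hQ'y⟩ := exists_mem_connectedComponentIn (PrimeSpectrum.continuous_comap iL) hopen hclosed F
      hsF (by rw [hπs]; exact hcomp)
    rw [hpre] at hQ'
    refine hQ (hint ?_)
    have hover : ∀ W : PrimeSpectrum E, PrimeSpectrum.comap iL W = ⟨y, inferInstance⟩ → W.asIdeal.comap iR = τ := by
      intro W hW
      have : W ∈ PrimeSpectrum.comap iL ⁻¹' F := by
        show PrimeSpectrum.comap iL W ∈ F
        rw [hW]
        exact PrimeSpectrum.ext hy.over.symm
      rw [hpre] at this
      exact congrArg PrimeSpectrum.asIdeal this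
    have heq : Q.asIdeal = Q'.asIdeal := eq_of_liesOver_of_subsingleton p' y τ hs Q.asIdeal Q'.asIdeal
      (congrArg PrimeSpectrum.asIdeal hQy) (hover Q hQy) (congrArg PrimeSpectrum.asIdeal hQ'y) (hover Q' hQ'y)
    rwa [show Q = Q' from PrimeSpectrum.ext heq]
  obtain ⟨_, ⟨_, ⟨g, rfl⟩, rfl⟩, hyg, hgV⟩ :=
    PrimeSpectrum.isBasis_basic_opens.exists_subset_of_mem_open hyV hV
  refine ⟨g, hyg, fun W j _ hj K _ t => ?_⟩
  let fK := pullback.snd fT t
  let sK : Spec (CommRingCat.of K) ⟶ pullback fT t :=
    pullback.lift (t ≫ s) (𝟙 _) (by rw [Category.assoc, hsfT, Category.comp_id, Category.id_comp])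
  have hSC := Groth.L07.SectionComp.sectionComponents_baseChange fT s (IsPullback.of_hasPullback fT t) sK hsfT
    (pullback.lift_snd _ _ _) (pullback.lift_fst _ _ _)
  haveI : Smooth fK := inferInstanceAs (Smooth (pullback.snd fT t))
  let x0 := sK (IsLocalRing.closedPoint K)
  have hC : ∀ w : ↥(pullback fT t), pullback.fst fT t w ∈ SC → w ∈ connectedComponent x0 := by
    intro w hw
    have h1 : w ∈ MoreMor.sectionComponents fK sK := by rw [hSC]; exact hw
    have h2 : w ∈ connectedComponentIn (fK ⁻¹' {fK w}) (sK (fK w)) := h1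
    rw [show (fK ⁻¹' {fK w}) = Set.univ from Set.eq_univ_of_forall fun z =>
      Subsingleton.elim (α := PrimeSpectrum K) _ _, connectedComponentIn_univ,
      show fK w = IsLocalRing.closedPoint K from Subsingleton.elim (α := PrimeSpectrum K) _ _] at h2
    exact h2
  let big : pullback fT t ≅ pullback cA (t ≫ cT) :=
    ((IsPullback.of_hasPullback fT t).flip.paste_vert sq.flip).flip.isoPullback
  have hbig : big.hom ≫ pullback.fst cA (t ≫ cT) = pullback.fst fT t ≫ π :=
    IsPullback.isoPullback_hom_fst _
  let ι : pullback (j ≫ cA) (t ≫ cT) ⟶ pullback cA (t ≫ cT) :=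
    pullback.map (j ≫ cA) (t ≫ cT) cA (t ≫ cT) j (𝟙 _) (𝟙 _) (by rw [Category.comp_id]) (by simp)
  let ι' := ι ≫ big.inv
  haveI : IsOpenImmersion ι := inferInstance
  have hrange : Set.range ι' ⊆ connectedComponent x0 := by
    rintro _ ⟨z, rfl⟩
    refine hC _ (interior_subset ?_)
    have hz : π (pullback.fst fT t (ι' z)) ∈ (PrimeSpectrum.basicOpen g : Set (PrimeSpectrum A)) := by
      have : ι' ≫ pullback.fst fT t ≫ π = pullback.fst (j ≫ cA) (t ≫ cT) ≫ j := by
        rw [← hbig, Category.assoc, Iso.inv_hom_id_assoc]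
        exact pullback.lift_fst _ _ _
      rw [← Scheme.Hom.comp_apply, ← Scheme.Hom.comp_apply, this, Scheme.Hom.comp_apply]
      show _ ∈ (PrimeSpectrum.basicOpen g : Set (PrimeSpectrum A))
      exact hj ⟨_, rfl⟩
    by_contra hnot
    exact hgV hz ⟨_, hnot, rfl⟩
  have hpre' : IsPreirreducible (Set.range ι') :=
    (isIrreducible_connectedComponent fK x0).2.open_subset ι'.isOpenEmbedding.isOpen_range hrange
  haveI := Subtype.preirreducibleSpace hpre'
  let e := ι'.isOpenEmbedding.isEmbedding.toHomeomorph
  have := (PreirreducibleSpace.isPreirreducible_univ (X := ↥(Set.range ι'))).image e.symm e.symm.continuous.continuousOn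
  rw [Set.image_univ, e.symm.surjective.range_eq] at this
  exact ⟨this⟩

end Nhd

end Groth.L20.RG
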