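import Groth.Agent.L20.RG.GeomIntNhd
import Groth.Agent.L20.RG.DevLocComplete

/-!
# An open of an etale neighbourhood with geometrically irreducible fibres
-/

set_option autoImplicit false
set_option linter.style.haveILetI false
set_option backward.isDefEq.respectTransparency.types false
universe u

open TensorProduct AlgebraicGeometry CategoryTheory Limits

noncomputable section

namespace Groth.L20.RG

/-- A smooth algebra of relative dimension `n` is locally etale over affine space. -/
theorem exists_etale_mvPolynomial_away {R D : Type u} [CommRing R] [CommRing D] [Algebra R D] {n : ℕ}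
    (hn : FlatCA.SmoothRelDim n R D) (y : Ideal D) [y.IsPrime] :
    ∃ g ∉ y, ∃ φ : MvPolynomial (Fin n) R →ₐ[R] Localization.Away g, φ.Etale := by
  have h : RingHom.Locally (RingHom.IsStandardSmoothOfRelativeDimension n) (algebraMap R D) :=
    (HasRingHomProperty.Spec_iff (P := @SmoothOfRelativeDimension n) (φ := CommRingCat.ofHom (algebraMap R D))).mp hn
  obtain ⟨s, hs, hP⟩ := h
  obtain ⟨g, hgs, hgy⟩ : ∃ g ∈ s, g ∉ y := by
    by_contra! hc
    exact Ideal.IsPrime.ne_top inferInstance (top_le_iff.mp (hs ▸ Ideal.span_le.mpr hc : (⊤ : Ideal D) ≤ y))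
  have h2 := hP g hgs
  rw [← IsScalarTower.algebraMap_eq] at h2
  haveI : Algebra.IsStandardSmoothOfRelativeDimension n R (Localization.Away g) :=
    (RingHom.isStandardSmoothOfRelativeDimension_algebraMap n).mp h2
  exact ⟨g, hgy, Algebra.IsStandardSmoothOfRelativeDimension.exists_etale_mvPolynomial n R (Localization.Away g)⟩

attribute [local instance] Algebra.TensorProduct.rightAlgebra

/-- After an elementary etale localisation of the base, an open neighbourhood of the point in the base change of an
etale neighbourhood of a smooth algebra has geometrically irreducible fibres. -/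
theorem exists_geom_open {R D R' D' : Type u} [CommRing R] [CommRing D] [CommRing R'] [CommRing D'] [Algebra R D]
    [Algebra R R'] [Algebra.Etale R R'] [Algebra D D'] [Algebra.Etale D D'] [Algebra R' D'] [Algebra R D']
    [IsScalarTower R R' D'] [IsScalarTower R D D'] {n : ℕ} (hn : FlatCA.SmoothRelDim n R D)
    (y : Ideal D) [y.IsPrime] (p' : Ideal R') [p'.IsPrime] (y' : Ideal D') [y'.IsPrime] [hy'y : y'.LiesOver y]
    [y'.LiesOver p'] (hpt : FlatCA.PurelyTranscendental p' y') :
    ∃ (R'' : Type u) (_ : CommRing R'') (_ : Algebra R' R'') (p'' : Ideal R'') (_ : p''.IsPrime),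
      FlatCA.IsEtaleNhd R' R'' p' p'' ∧
    ∃ (T : Type u) (_ : CommRing T) (_ : Algebra R' T) (_ : Algebra R'' T) (_ : Algebra D' T)
      (_ : IsScalarTower R' R'' T) (_ : IsScalarTower R' D' T),
      Algebra.IsPushout R' R'' D' T ∧
    ∃ (D'' : Type u) (_ : CommRing D'') (_ : Algebra T D'') (_ : Algebra D' D'') (_ : Algebra R'' D'')
      (_ : IsScalarTower D' T D'') (_ : IsScalarTower R'' T D'') (y'' : Ideal D'') (_ : y''.IsPrime)
      (_ : y''.LiesOver p''),
      IsOpenImmersion (Spec.map (CommRingCat.ofHom (algebraMap T D''))) ∧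
      FlatCA.IsEtaleNhd D' D'' y' y'' ∧ FlatCA.SmoothRelDim n R'' D'' ∧ FlatCA.GeomIrredFibres R'' D'' := by
  obtain ⟨g, hg, φ, hφ⟩ := exists_etale_mvPolynomial_away hn y
  let D₀ := Localization.Away g
  let g' := algebraMap D D' g
  have hg' : g' ∉ y' := fun h => hg ((Ideal.mem_of_liesOver y' y g).mpr h)
  let P' := Localization.Away g'
  have hgu : IsUnit (algebraMap D P' g) := by
    rw [IsScalarTower.algebraMap_apply D D' P']
    exact IsLocalization.Away.algebraMap_isUnit g'
  letI : Algebra D₀ P' := (IsLocalization.Away.lift g hgu).toAlgebra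
  haveI : IsScalarTower D D₀ P' := IsScalarTower.of_algebraMap_eq fun x => (IsLocalization.Away.lift_eq g hgu x).symm
  haveI : Algebra.Etale D' P' := Algebra.Etale.of_isLocalizationAway g'
  haveI : Algebra.Etale D P' := Algebra.Etale.comp D D' P'
  haveI : Algebra.Etale D D₀ := Algebra.Etale.of_isLocalizationAway g
  haveI : Algebra.Etale D₀ P' := Algebra.Etale.of_restrictScalars (R := D) (A := D₀) (B := P')
  let Q := MvPolynomial (Fin n) R
  let Q' := MvPolynomial (Fin n) R'
  letI : Algebra Q D₀ := φ.toRingHom.toAlgebra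
  haveI : Algebra.Etale Q D₀ := hφ
  haveI : IsScalarTower R Q D₀ := IsScalarTower.of_algebraMap_eq' φ.comp_algebraMap.symm
  letI : Algebra Q P' := ((algebraMap D₀ P').comp (algebraMap Q D₀)).toAlgebra
  haveI : IsScalarTower Q D₀ P' := IsScalarTower.of_algebraMap_eq' rfl
  haveI : Algebra.Etale Q P' := Algebra.Etale.comp Q D₀ P'
  letI : Algebra Q Q' := MvPolynomial.algebraMvPolynomial
  haveI : Algebra.Etale Q Q' := by
    haveI : Algebra.IsPushout R Q R' Q' := by
      exact (inferInstance : Algebra.IsPushout R (MvPolynomial (Fin n) R) R' (MvPolynomial (Fin n) R'))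
    exact Algebra.Etale.of_equiv (Algebra.IsPushout.equiv R Q R' Q')
  let ψ : Q' →ₐ[R'] P' := MvPolynomial.aeval fun i => algebraMap Q P' (MvPolynomial.X i)
  letI : Algebra Q' P' := ψ.toRingHom.toAlgebra
  haveI : IsScalarTower R' Q' P' := IsScalarTower.of_algebraMap_eq' ψ.comp_algebraMap.symm
  haveI : IsScalarTower Q Q' P' := by
    refine IsScalarTower.of_algebraMap_eq' (MvPolynomial.ringHom_ext (fun r => ?_) fun i => ?_)
    · show algebraMap Q P' (algebraMap R Q r) = ψ (MvPolynomial.map (algebraMap R R') (MvPolynomial.C r))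
      rw [MvPolynomial.map_C, MvPolynomial.aeval_C, ← IsScalarTower.algebraMap_apply R R' P']
      show algebraMap D₀ P' (algebraMap Q D₀ (algebraMap R Q r)) = _
      rw [← IsScalarTower.algebraMap_apply R Q D₀, IsScalarTower.algebraMap_apply R D D₀,
        ← IsScalarTower.algebraMap_apply D D₀ P', IsScalarTower.algebraMap_apply D D' P',
        ← IsScalarTower.algebraMap_apply R D D', IsScalarTower.algebraMap_apply R R' D',
        ← IsScalarTower.algebraMap_apply R' D' P', ← IsScalarTower.algebraMap_apply R R' P']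
    · show algebraMap Q P' (MvPolynomial.X i) = ψ (MvPolynomial.map (algebraMap R R') (MvPolynomial.X i))
      rw [MvPolynomial.map_X, MvPolynomial.aeval_X]
  haveI : Algebra.Etale Q' P' := Algebra.Etale.of_restrictScalars (R := Q) (A := Q') (B := P')
  obtain ⟨y₁, hy₁P, hy₁⟩ := exists_prime_away y' hg'
  haveI := hy₁
  haveI : y₁.LiesOver p' := Ideal.LiesOver.trans y₁ y' p'
  have hn₁ : FlatCA.IsEtaleNhd D' P' y' y₁ := isEtaleNhd_away y' hg' y₁
  have hpt₁ : FlatCA.PurelyTranscendental p' y₁ := purelyTranscendental_transport (trivRes_id p') hn₁.2 hpt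
  obtain ⟨R₁, _, _, p₁, _, hR₁, g₁, f, hf, hd', hirr⟩ := exists_data p' (n := n) y₁ hpt₁
  haveI := hR₁.1
  haveI := hR₁.2.1
  let A := R₁ ⊗[R'] P'
  obtain ⟨yA, _, hyAp, hyAn, -⟩ := exists_nbhd_pushout p' y₁ p₁ hR₁
  haveI := hyAp
  have hd := hd' yA hyAn.2.1 hyAp
  let R'' := Localization.Away f
  let d := g₁ * algebraMap R₁ A f
  let D'' := Localization.Away d
  have hfu : IsUnit (algebraMap R₁ D'' f) := by
    rw [IsScalarTower.algebraMap_apply R₁ A D'']
    exact IsLocalization.Away.isUnit_of_dvd d (dvd_mul_left _ _)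
  letI : Algebra R'' D'' := (IsLocalization.Away.lift f hfu).toAlgebra
  haveI : IsScalarTower R₁ R'' D'' :=
    IsScalarTower.of_algebraMap_eq fun x => (IsLocalization.Away.lift_eq f hfu x).symm
  obtain ⟨p'', hp''P, hp''⟩ := exists_prime_away p₁ hf
  obtain ⟨y'', hy''P, hy''⟩ := exists_prime_away yA hd
  haveI := hp''
  haveI := hy''
  haveI hy''p : y''.LiesOver p'' := ⟨by
    haveI : y''.LiesOver p₁ := Ideal.LiesOver.trans y'' yA p₁
    rw [← IsLocalization.map_under (Submonoid.powers f) R'' p'', ← IsLocalization.map_under (Submonoid.powers f) R''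
      (y''.under R''), Ideal.under_under, ← Ideal.over_def p'' p₁, ← Ideal.over_def y'' p₁]⟩
  have hR'' : FlatCA.IsEtaleNhd R' R'' p' p'' := isEtaleNhd_trans hR₁ (isEtaleNhd_away p₁ hf p'')
  -- relative dimension
  have hP' : FlatCA.SmoothRelDim n R' P' := smoothRelDim_of_etale n
  haveI : Algebra.IsPushout R' R₁ P' A := inferInstance
  have hA : FlatCA.SmoothRelDim n R₁ A := smoothRelDim_baseChange (R := R') (B := P') hP'
  let Aw := Localization.Away g₁
  have hwD : IsUnit (algebraMap A D'' g₁) := IsLocalization.Away.isUnit_of_dvd d (dvd_mul_right _ _)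
  letI : Algebra Aw D'' := (IsLocalization.Away.lift g₁ hwD).toAlgebra
  haveI : IsScalarTower A Aw D'' := IsScalarTower.of_algebraMap_eq fun x => (IsLocalization.Away.lift_eq g₁ hwD x).symm
  haveI : IsScalarTower R₁ Aw D'' := IsScalarTower.of_algebraMap_eq fun x => by
    rw [IsScalarTower.algebraMap_apply R₁ A Aw, ← IsScalarTower.algebraMap_apply A Aw D'',
      ← IsScalarTower.algebraMap_apply R₁ A D'']
  haveI : Algebra.IsPushout R₁ R'' Aw D'' := isPushout_away_mul (D := A) g₁ f R'' Aw D''
  have hrel : FlatCA.SmoothRelDim n R'' D'' :=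
    smoothRelDim_baseChange (B := Aw) (smoothRelDim_away (B := A) (B' := Aw) g₁ hA)
  -- the base change of `D'`
  let T := R'' ⊗[R'] D'
  let T₁ := R₁ ⊗[R'] D'
  letI : Algebra D' A := ((algebraMap P' A).comp (algebraMap D' P')).toAlgebra
  haveI : IsScalarTower D' P' A := IsScalarTower.of_algebraMap_eq' rfl
  letI aT1A : Algebra T₁ A :=
    (Algebra.TensorProduct.map (AlgHom.id R₁ R₁) (IsScalarTower.toAlgHom R' D' P')).toRingHom.toAlgebra
  letI aT1T : Algebra T₁ T :=
    (Algebra.TensorProduct.map (IsScalarTower.toAlgHom R' R₁ R'') (AlgHom.id R' D')).toRingHom.toAlgebra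
  haveI : IsScalarTower D' P' D'' := IsScalarTower.of_algebraMap_eq fun x => by
    rw [IsScalarTower.algebraMap_apply D' A D'', IsScalarTower.algebraMap_apply D' P' A,
      ← IsScalarTower.algebraMap_apply P' A D'']
  haveI : IsScalarTower R' D' D'' := IsScalarTower.of_algebraMap_eq fun r => by
    rw [IsScalarTower.algebraMap_apply D' P' D'', ← IsScalarTower.algebraMap_apply R' D' P',
      IsScalarTower.algebraMap_apply P' A D'', IsScalarTower.algebraMap_apply R' A D'']
    congr 1
    exact Algebra.TensorProduct.tmul_one_eq_one_tmul (R := R') (A := R₁) (B := P') r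
  haveI : IsScalarTower R' R'' D'' := IsScalarTower.of_algebraMap_eq fun r => by
    rw [IsScalarTower.algebraMap_apply R' R₁ R'', ← IsScalarTower.algebraMap_apply R₁ R'' D'',
      ← IsScalarTower.algebraMap_apply R' R₁ D'']
  let θ : T →ₐ[R''] D'' :=
    Algebra.TensorProduct.lift (Algebra.ofId R'' D'') (IsScalarTower.toAlgHom R' D' D'') fun _ _ => Commute.all _ _
  letI : Algebra T D'' := θ.toRingHom.toAlgebra
  haveI : IsScalarTower R'' T D'' := IsScalarTower.of_algebraMap_eq' θ.comp_algebraMap.symm
  haveI : IsScalarTower D' T D'' := IsScalarTower.of_algebraMap_eq fun x => by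
    show _ = θ ((1 : R'') ⊗ₜ[R'] x)
    rw [Algebra.TensorProduct.lift_tmul, map_one, one_mul]
    rfl
  have hopen : IsOpenImmersion (Spec.map (CommRingCat.ofHom (algebraMap T D''))) := by
    haveI : IsScalarTower R₁ T₁ T := IsScalarTower.of_algebraMap_eq fun r => by
      show (algebraMap R₁ T r) = Algebra.TensorProduct.map _ _ (r ⊗ₜ[R'] (1 : D'))
      rw [Algebra.TensorProduct.map_tmul]
      rfl
    haveI : IsScalarTower D' T₁ T := IsScalarTower.of_algebraMap_eq fun r => by
      show (1 : R'') ⊗ₜ[R'] r = Algebra.TensorProduct.map _ _ ((1 : R₁) ⊗ₜ[R'] r)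
      rw [Algebra.TensorProduct.map_tmul, map_one]
      rfl
    haveI : IsScalarTower R₁ T₁ A := IsScalarTower.of_algebraMap_eq fun r => by
      show r ⊗ₜ[R'] (1 : P') = Algebra.TensorProduct.map _ _ (r ⊗ₜ[R'] (1 : D'))
      rw [Algebra.TensorProduct.map_tmul, map_one]
      rfl
    haveI : IsScalarTower D' T₁ A := IsScalarTower.of_algebraMap_eq fun r => by
      show (1 : R₁) ⊗ₜ[R'] algebraMap D' P' r = Algebra.TensorProduct.map _ _ ((1 : R₁) ⊗ₜ[R'] r)
      rw [Algebra.TensorProduct.map_tmul, map_one]
      rfl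
    haveI : Algebra.IsPushout R₁ R'' T₁ T := by
      haveI : Algebra.IsPushout R' R₁ D' T₁ := inferInstance
      haveI : Algebra.IsPushout R' R'' D' T := inferInstance
      exact Algebra.IsPushout.symm ((Algebra.IsPushout.comp_iff R' R₁ D' T₁ (T := R'') (T' := T)).mp inferInstance |>.symm)
    haveI : IsLocalization.Away (algebraMap R₁ T₁ f) T := by
      have := (Algebra.isLocalization_iff_isPushout (Submonoid.powers f) R'' (T := T₁) (B := T)).mpr
        (Algebra.IsPushout.symm inferInstance)
      rwa [Algebra.algebraMapSubmonoid, Submonoid.map_powers] at this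
    haveI : IsScalarTower R' T₁ A := IsScalarTower.of_algebraMap_eq fun r => by
      rw [IsScalarTower.algebraMap_apply R' R₁ T₁, ← IsScalarTower.algebraMap_apply R₁ T₁ A,
        ← IsScalarTower.algebraMap_apply R' R₁ A]
    haveI : Algebra.IsPushout D' P' T₁ A := by
      haveI : Algebra.IsPushout R' D' R₁ T₁ := Algebra.IsPushout.symm inferInstance
      exact (Algebra.IsPushout.comp_iff R' D' R₁ T₁ (T := P') (T' := A)).mp (Algebra.IsPushout.symm inferInstance)
    haveI : IsLocalization.Away (algebraMap D' T₁ g') A := by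
      have := (Algebra.isLocalization_iff_isPushout (Submonoid.powers g') P' (T := T₁) (B := A)).mpr
        (Algebra.IsPushout.symm inferInstance)
      rwa [Algebra.algebraMapSubmonoid, Submonoid.map_powers] at this
    let jT := Spec.map (CommRingCat.ofHom (algebraMap T₁ T))
    let jA := Spec.map (CommRingCat.ofHom (algebraMap T₁ A))
    let jd := Spec.map (CommRingCat.ofHom (algebraMap A D''))
    haveI : IsOpenImmersion jT := IsOpenImmersion.of_isLocalization (algebraMap R₁ T₁ f)
    haveI : IsOpenImmersion jA := IsOpenImmersion.of_isLocalization (algebraMap D' T₁ g')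
    haveI : IsOpenImmersion jd := IsOpenImmersion.of_isLocalization d
    have heq : Spec.map (CommRingCat.ofHom (algebraMap T D'')) ≫ jT = jd ≫ jA := by
      rw [← Spec.map_comp, ← Spec.map_comp, ← CommRingCat.ofHom_comp, ← CommRingCat.ofHom_comp]
      congr 2
      refine RingHom.ext fun x => ?_
      induction x using TensorProduct.induction_on with
      | zero => simp
      | add a b ha hb => rw [map_add, map_add, ha, hb]
      | tmul r c =>
        have : (r ⊗ₜ[R'] c : T₁) = algebraMap R₁ T₁ r * algebraMap D' T₁ c := by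
          show r ⊗ₜ[R'] c = (r ⊗ₜ[R'] (1 : D')) * ((1 : R₁) ⊗ₜ[R'] c)
          rw [Algebra.TensorProduct.tmul_mul_tmul, mul_one, one_mul]
        rw [this, map_mul, map_mul, RingHom.comp_apply, RingHom.comp_apply, RingHom.comp_apply, RingHom.comp_apply,
          ← IsScalarTower.algebraMap_apply R₁ T₁ T, ← IsScalarTower.algebraMap_apply D' T₁ T,
          ← IsScalarTower.algebraMap_apply R₁ T₁ A, ← IsScalarTower.algebraMap_apply D' T₁ A,
          IsScalarTower.algebraMap_apply R₁ R'' T, ← IsScalarTower.algebraMap_apply R'' T D'',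
          ← IsScalarTower.algebraMap_apply R₁ R'' D'', ← IsScalarTower.algebraMap_apply D' T D'',
          ← IsScalarTower.algebraMap_apply R₁ A D'', IsScalarTower.algebraMap_apply D' P' A,
          ← IsScalarTower.algebraMap_apply P' A D'', ← IsScalarTower.algebraMap_apply D' P' D'']
    haveI : IsOpenImmersion (Spec.map (CommRingCat.ofHom (algebraMap T D'')) ≫ jT) := by rw [heq]; infer_instance
    exact IsOpenImmersion.of_comp _ jT
  have hnA : FlatCA.IsEtaleNhd P' D'' y₁ y'' := isEtaleNhd_trans hyAn (isEtaleNhd_away yA hd y'')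
  have hn'' : FlatCA.IsEtaleNhd D' D'' y' y'' := isEtaleNhd_trans hn₁ hnA
  exact ⟨R'', inferInstance, inferInstance, p'', hp''P, hR'', T, inferInstance, inferInstance, inferInstance,
    inferInstance, inferInstance, inferInstance, inferInstance, D'', inferInstance, inferInstance, inferInstance,
    inferInstance, inferInstance, inferInstance, y'', hy''P, hy''p, hopen, hn'', hrel, hirr⟩

end Groth.L20.RG
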