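import Groth.Agent.L20.RG.RepStep
import Mathlib.AlgebraicGeometry.Morphisms.FormallyUnramified
import Mathlib.AlgebraicGeometry.Morphisms.Etale

/-!
# The functor of flatness in dimensions at least `n` of a pure module is representable
-/

set_option autoImplicit false
set_option linter.style.haveILetI false
set_option backward.isDefEq.respectTransparency.types false
universe u

open TensorProduct AlgebraicGeometry CategoryTheory CategoryTheory.Limits

noncomputable section

namespace Groth.L20.RG

attribute [local instance] Algebra.TensorProduct.rightAlgebra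

/-- A quasi-compact scheme has an affine étale chart. -/
theorem exists_affine_chart (Z : Scheme.{u}) [CompactSpace Z] :
    ∃ (R : CommRingCat.{u}) (π : Spec R ⟶ Z), Etale π ∧ Surjective π := by
  let 𝒰 := Z.affineCover.finiteSubcover
  haveI : ∀ x, IsAffine (𝒰.X x) := fun x => inferInstanceAs (IsAffine (Z.affineCover.X _))
  let W := ∐ fun x => 𝒰.X x
  haveI : IsAffine W := inferInstance
  let d : W ⟶ Z := Sigma.desc fun x => 𝒰.f x
  haveI : Etale d := IsZariskiLocalAtSource.sigmaDesc fun _ => inferInstance
  haveI : Surjective d := Surjective.sigmaDesc_of_union_range_eq_univ 𝒰.iUnion_range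
  exact ⟨Γ(W, ⊤), W.isoSpec.inv ≫ d, inferInstance, inferInstance⟩

/-- Residual transcendence degrees are bounded by the number of generators. -/
theorem relTrdeg_le_of_gens {A B : Type u} [CommRing A] [CommRing B] [Algebra A B] {m : ℕ} (x : Fin m → B)
    (hx : Algebra.adjoin A (Set.range x) = ⊤) (t : Ideal A) [t.IsPrime] (Q : Ideal B) [Q.IsPrime] [Q.LiesOver t] :
    relTrdeg t Q ≤ m := by
  obtain ⟨P, hP, e, -⟩ := exists_fibre_prime t Q
  let K := t.ResidueField
  let σ := ULift.{u} (Fin m)
  let ev : MvPolynomial σ K →ₐ[K] t.Fiber B := MvPolynomial.aeval fun j => (1 : K) ⊗ₜ[A] x j.down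
  have h1 : ∀ b : B, ((1 : K) ⊗ₜ[A] b : t.Fiber B) ∈ ev.range := fun b => by
    have hb : b ∈ Algebra.adjoin A (Set.range x) := hx ▸ Algebra.mem_top
    induction hb using Algebra.adjoin_induction with
    | mem z hz =>
      obtain ⟨j, rfl⟩ := hz
      exact ⟨MvPolynomial.X ⟨j⟩, MvPolynomial.aeval_X _ _⟩
    | algebraMap r =>
      refine ⟨MvPolynomial.C (algebraMap A K r), (MvPolynomial.aeval_C _ _).trans ?_⟩
      show algebraMap A K r ⊗ₜ[A] (1 : B) = (1 : K) ⊗ₜ[A] algebraMap A B r
      exact Algebra.TensorProduct.tmul_one_eq_one_tmul r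
    | add a b _ _ ha hb => rw [TensorProduct.tmul_add]; exact add_mem ha hb
    | mul a b _ _ ha hb =>
      rw [show ((1 : K) ⊗ₜ[A] (a * b) : t.Fiber B) = ((1 : K) ⊗ₜ[A] a) * ((1 : K) ⊗ₜ[A] b) by
        rw [Algebra.TensorProduct.tmul_mul_tmul, one_mul]]
      exact mul_mem ha hb
  have hev : Function.Surjective ev := fun z => by
    obtain ⟨r, hr, b, e'⟩ := exists_fibre_denom t z
    obtain ⟨w, hw⟩ := h1 b
    refine ⟨(algebraMap A K r)⁻¹ • w, ?_⟩
    rw [map_smul, show ev w = algebraMap A K r • z by rw [algebraMap_smul, e']; exact hw, smul_smul,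
      inv_mul_cancel₀ (by rwa [Ne, Ideal.algebraMap_residueField_eq_zero]), one_smul]
  rw [e]
  refine (trdeg_le_of_surjective ((Ideal.Quotient.mkₐ K P).comp ev)
    ((Ideal.Quotient.mkₐ_surjective K P).comp hev)).trans ?_
  rw [MvPolynomial.trdeg_of_isDomain, Cardinal.lift_id, Cardinal.mk_uLift, Cardinal.mk_fin, Cardinal.lift_natCast]

set_option maxHeartbeats 1000000 in
/-- **Flatness in dimensions at least `n` of a pure module is representable.** -/
theorem rep_fcond {A B : Type u} [CommRing A] [CommRing B] [Algebra A B] [Algebra.FinitePresentation A B]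
    (N : Type u) [AddCommGroup N] [Module B N] [Module A N] [IsScalarTower A B N] [Module.FinitePresentation B N]
    (hpure : FlatCA.IsPure A B N) (n : ℕ) : Rep (FCond A B N n) := by
  obtain ⟨G, hG⟩ := (inferInstance : Algebra.FiniteType A B).out
  let x : Fin G.card → B := fun j => (G.equivFin.symm j : B)
  have hx : Algebra.adjoin A (Set.range x) = ⊤ := by
    rw [← hG]
    congr 1
    ext b
    exact ⟨fun ⟨j, hj⟩ => hj ▸ (G.equivFin.symm j).2, fun hb => ⟨G.equivFin ⟨b, hb⟩, by simp [x]⟩⟩
  induction hk : G.card + 1 - n generalizing n with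
  | zero =>
    have hvac : FlatCA.FlatInDimGE n A B N := by
      rw [flatInDimGE_iff_relTrdeg]
      intro t Q _ _ _ hd
      exact absurd (hd.trans (relTrdeg_le_of_gens x hx t Q)) (not_le.2 (by exact_mod_cast (by omega : G.card < n)))
    refine rep_true.congr fun T _ φ => iff_of_true trivial ?_
    letI := φ.toAlgebra
    exact flatBC_of_flatInDimGE' N hvac
  | succ k ih =>
    obtain ⟨Z, i, hi⟩ := ih (n + 1) (by omega)
    haveI := hi.mono; haveI := hi.lfp; haveI := hi.qc
    haveI : CompactSpace Z := QuasiCompact.compactSpace_of_compactSpace i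
    obtain ⟨R, π, hπ, hπs⟩ := exists_affine_chart Z
    let ρ := (Spec.preimage (π ≫ i)).hom
    have hρ : Spec.map (CommRingCat.ofHom ρ) = π ≫ i := by rw [CommRingCat.ofHom_hom, Spec.map_preimage]
    refine rep_of_chart ((fcond_pointwise N n).isEtLocal (fcond_comp N n)) hi (fun T _ φ h => ?_) R π ?_
    · letI := φ.toAlgebra
      show FlatBC A (n + 1) T B N
      rw [FlatBC, flatInDimGE_iff_relTrdeg]
      intro t Q _ _ _ hd
      exact (flatInDimGE_iff_relTrdeg n _).1 h t Q (le_trans (by exact_mod_cast (Nat.le_succ n)) hd)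
    letI : Algebra A R := ρ.toAlgebra
    haveI : LocallyOfFinitePresentation (π ≫ i) := inferInstance
    haveI : IsIso (pullback.diagonal i) := inferInstance
    haveI : FormallyUnramified i := inferInstance
    haveI : FormallyUnramified π := inferInstance
    haveI : FormallyUnramified (π ≫ i) := MorphismProperty.comp_mem @FormallyUnramified π i ‹_› ‹_›
    haveI : Algebra.FinitePresentation A R := by
      have h2 : LocallyOfFinitePresentation (Spec.map (CommRingCat.ofHom ρ)) := by rw [hρ]; infer_instance
      rw [HasRingHomProperty.Spec_iff (P := @LocallyOfFinitePresentation), CommRingCat.hom_ofHom] at h2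
      exact h2
    haveI : Algebra.FormallyUnramified A R := by
      have h2 : FormallyUnramified (Spec.map (CommRingCat.ofHom ρ)) := by rw [hρ]; infer_instance
      rw [HasRingHomProperty.Spec_iff (P := @FormallyUnramified), CommRingCat.hom_ofHom] at h2
      exact h2
    haveI : Algebra.QuasiFinite A R := inferInstance
    let BR := R ⊗[A] B
    let NR := BR ⊗[B] N
    haveI : Algebra.IsPushout A B R BR := Algebra.IsPushout.symm inferInstance
    have hp : FlatCA.IsPure R BR NR := fun P _ => by
      let p := P.comap (algebraMap A R)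
      haveI : P.LiesOver p := ⟨rfl⟩
      exact Groth.Agent.S1226.result N p R BR NR (TensorProduct.mk B BR N 1) (TensorProduct.isBaseChange B N BR) P
        (hpure p)
    have hfl : FlatCA.FlatInDimGE (n + 1) R BR NR :=
      (hi.iff R ρ).2 ⟨π, hρ.symm⟩
    exact (rep_step (A := R) (B := BR) NR hp n hfl).congr fun T _ φ => (fcond_pull N n R T φ).symm

end Groth.L20.RG
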