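import Groth.Agent.L20.RG.ChartCond
import Groth.Agent.L20.RG.RepAll

/-!
# Flatness in high dimensions on finitely many linked affine pieces is representable
-/

set_option autoImplicit false
set_option linter.style.haveILetI false
set_option backward.isDefEq.respectTransparency.types false
universe u

open TensorProduct AlgebraicGeometry CategoryTheory CategoryTheory.Limits

noncomputable section

namespace Groth.L20.RG

/-- Evaluates maps of tensor products on pure tensors. -/
macro "tens" : tactic => `(tactic| first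
  | (repeat erw [Algebra.TensorProduct.map_tmul]) <;> (first | rfl | (simp; done) | (simp; rfl))
  | (simp; done))

attribute [local instance] Algebra.TensorProduct.rightAlgebra

variable {A : Type u} [CommRing A] {m : ℕ} (B : Fin m → Type u) [∀ j, CommRing (B j)] [∀ j, Algebra A (B j)]
  (N : Fin m → Type u) [∀ j, AddCommGroup (N j)] [∀ j, Module (B j) (N j)]

/-- Two pieces share an étale piece over a point, whose image in the second lies in `U`. -/
def LinkTo (j k : Fin m) (A' : Type u) [CommRing A'] [Algebra A A'] (P : PrimeSpectrum (A' ⊗[A] B j))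
    (U : Set (PrimeSpectrum (A' ⊗[A] B k))) : Prop :=
  ∃ (O : Type u) (_ : CommRing O) (_ : Algebra A O) (_ : Algebra (B j) O) (_ : Algebra (B k) O)
    (_ : IsScalarTower A (B j) O) (_ : IsScalarTower A (B k) O) (_ : Algebra.Etale (B j) O) (_ : Algebra.Etale (B k) O)
    (M : Type u) (_ : AddCommGroup M) (_ : Module O M) (_ : Module (B j) M) (_ : Module (B k) M)
    (_ : IsScalarTower (B j) O M) (_ : IsScalarTower (B k) O M)
    (f₁ : N j →ₗ[B j] M) (f₂ : N k →ₗ[B k] M) (o : PrimeSpectrum O),
    IsBaseChange O f₁ ∧ IsBaseChange O f₂ ∧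
    o.asIdeal.comap (algebraMap (B j) O) = P.asIdeal.comap (algebraMap (B j) (A' ⊗[A] B j)) ∧
    ∀ W : PrimeSpectrum (A' ⊗[A] O),
    PrimeSpectrum.comap (Algebra.TensorProduct.map (AlgHom.id A A') (IsScalarTower.toAlgHom A (B j) O)).toRingHom W = P →
    PrimeSpectrum.comap (Algebra.TensorProduct.map (AlgHom.id A A') (IsScalarTower.toAlgHom A (B k) O)).toRingHom W ∈ U

/-- The pieces cover a proper family: opens containing a fibre reach all the points of the nearby fibres. -/
def GoodCover (A : Type u) [CommRing A] {m : ℕ} (B : Fin m → Type u) [∀ j, CommRing (B j)] [∀ j, Algebra A (B j)]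
    (N : Fin m → Type u) [∀ j, AddCommGroup (N j)] [∀ j, Module (B j) (N j)] : Prop :=
  ∀ (A' : Type u) [CommRing A'] [Algebra A A'] (p' : Ideal A') [p'.IsPrime]
    (U : ∀ k, Set (PrimeSpectrum (A' ⊗[A] B k))), (∀ k, IsOpen (U k)) →
    (∀ (k : Fin m) (Q : PrimeSpectrum (A' ⊗[A] B k)), Q.asIdeal.LiesOver p' → Q ∈ U k) →
    ∃ r ∉ p', ∀ (j : Fin m) (P : PrimeSpectrum (A' ⊗[A] B j)), algebraMap A' (A' ⊗[A] B j) r ∉ P.asIdeal →
      ∃ k, LinkTo B N j k A' P (U k)

/-- Flatness in dimensions at least `n` on all the pieces. -/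
def AllCond (A : Type u) [CommRing A] {m : ℕ} (B : Fin m → Type u) [∀ j, CommRing (B j)] [∀ j, Algebra A (B j)]
    (N : Fin m → Type u) [∀ j, AddCommGroup (N j)] [∀ j, Module (B j) (N j)] (n : ℕ) : Cond A :=
  fun T _ φ => ∀ j, FCond A (B j) (N j) n T φ

theorem allCond_comp (n : ℕ) (T T' : Type u) [CommRing T] [CommRing T'] (φ : A →+* T) (ψ : T →+* T')
    (h : AllCond A B N n T φ) : AllCond A B N n T' (ψ.comp φ) := fun j => fcond_comp (N j) n T T' φ ψ (h j)

theorem allCond_pointwise (n : ℕ) : IsEtPointwise (AllCond A B N n) := fun T _ φ h j =>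
  fcond_pointwise (N j) n T φ fun t => by
    obtain ⟨T', _, ψ, h1, h2, h3⟩ := h t
    exact ⟨T', inferInstance, ψ, h1, h2, h3 j⟩

set_option maxHeartbeats 1000000 in
/-- Moving flatness along a link, after any change of the base. -/
theorem flatAt_of_link {B₁ B₂ O N₁ N₂ M : Type u} [CommRing B₁] [CommRing B₂] [CommRing O] [Algebra A B₁]
    [Algebra A B₂] [Algebra A O] [Algebra B₁ O] [IsScalarTower A B₁ O] [Algebra.Etale B₁ O] [AddCommGroup N₁]
    [Module B₁ N₁] [AddCommGroup M] [Module O M] [Module B₁ M] [IsScalarTower B₁ O M] (f : N₁ →ₗ[B₁] M)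
    (hf : IsBaseChange O f) (T : Type u) [CommRing T] [Algebra A T] (t : Ideal T) [t.IsPrime]
    (W : Ideal (T ⊗[A] O)) [W.IsPrime] [W.LiesOver t] (q : Ideal (T ⊗[A] B₁)) [q.IsPrime] [q.LiesOver t]
    (hq : W.comap (Algebra.TensorProduct.map (AlgHom.id A T) (IsScalarTower.toAlgHom A B₁ O)).toRingHom = q) :
    relTrdeg t W = relTrdeg t q ∧
      (FlatCA.FlatAt T q ((T ⊗[A] B₁) ⊗[B₁] N₁) ↔ FlatCA.FlatAt T W ((T ⊗[A] O) ⊗[O] M)) := by
  let BT := T ⊗[A] B₁
  let CT := T ⊗[A] O
  let ψ : BT →ₐ[T] CT := Algebra.TensorProduct.map (AlgHom.id T T) (IsScalarTower.toAlgHom A B₁ O)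
  letI : Algebra BT CT := ψ.toRingHom.toAlgebra
  haveI : IsScalarTower T BT CT := IsScalarTower.of_algebraMap_eq (R := T) (S := BT) (A := CT) fun x => (ψ.commutes x).symm
  letI : Algebra B₁ CT := ((algebraMap O CT).comp (algebraMap B₁ O)).toAlgebra
  haveI : IsScalarTower B₁ O CT := IsScalarTower.of_algebraMap_eq' rfl
  haveI : IsScalarTower B₁ BT CT := IsScalarTower.of_algebraMap_eq (R := B₁) (S := BT) (A := CT) fun x => by
    show (1 : T) ⊗ₜ[A] algebraMap B₁ O x = ψ ((1 : T) ⊗ₜ[A] x)
    tens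
  haveI : IsScalarTower A B₁ CT := IsScalarTower.of_algebraMap_eq (R := A) (S := B₁) (A := CT) fun a => by
    rw [IsScalarTower.algebraMap_apply A O CT, IsScalarTower.algebraMap_apply A B₁ O]
    rfl
  haveI : IsScalarTower A BT CT := IsScalarTower.of_algebraMap_eq (R := A) (S := BT) (A := CT) fun a => by
    rw [IsScalarTower.algebraMap_apply A T CT, IsScalarTower.algebraMap_apply A T BT,
      ← IsScalarTower.algebraMap_apply T BT CT]
  haveI : Algebra.IsPushout B₁ O BT CT := by
    haveI : Algebra.IsPushout A B₁ T BT := Algebra.IsPushout.symm inferInstance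
    haveI : Algebra.IsPushout A O T CT := Algebra.IsPushout.symm inferInstance
    exact (Algebra.IsPushout.comp_iff (R := A) (S := B₁) (T := O) (R' := T) BT (T' := CT)).1 inferInstance
  haveI : Algebra.Etale BT CT :=
    haveI : Algebra.IsPushout B₁ BT O CT := Algebra.IsPushout.symm inferInstance
    Algebra.Etale.of_equiv (Algebra.IsPushout.equiv B₁ BT O CT)
  haveI : IsScalarTower B₁ BT (CT ⊗[O] M) := IsScalarTower.of_algebraMap_smul fun b x => by
    rw [← algebraMap_smul CT (algebraMap B₁ BT b) x, ← IsScalarTower.algebraMap_apply B₁ BT CT, algebraMap_smul]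
  have hι := TensorProduct.isBaseChange B₁ N₁ BT
  let gT := hι.lift (((TensorProduct.mk O CT M 1).restrictScalars B₁) ∘ₗ f)
  have hgT : IsBaseChange CT gT := IsBaseChange.of_comp hι (by
    rw [show gT.restrictScalars B₁ ∘ₗ TensorProduct.mk B₁ BT N₁ 1 =
      ((TensorProduct.mk O CT M 1).restrictScalars B₁) ∘ₗ f from hι.lift_comp _]
    exact hf.comp (TensorProduct.isBaseChange O M CT))
  haveI : W.LiesOver q := ⟨hq.symm⟩
  exact flatAt_iff_etale gT hgT t q W

variable [∀ j, Algebra.FinitePresentation A (B j)] [∀ j, Module.FinitePresentation (B j) (N j)]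

set_option maxHeartbeats 2000000 in
/-- Near every prime of a base over which the pieces are flat above dimension `n`, the condition is representable on
an étale chart. -/
theorem exists_rep_chart_all (hgood : GoodCover A B N) (n : ℕ) (R : Type u) [CommRing R] [Algebra A R]
    (hflat : ∀ j, FlatBC A (n + 1) R (B j) (N j)) (P : Ideal R) [P.IsPrime] :
    ∃ (R' : Type u) (_ : CommRing R') (_ : Algebra R R'), Algebra.Etale R R' ∧
      (⟨P, inferInstance⟩ : PrimeSpectrum R) ∈ Set.range (PrimeSpectrum.comap (algebraMap R R')) ∧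
      Rep (((AllCond A B N n).pull (algebraMap A R)).pull (algebraMap R R')) := by
  classical
  choose Ai ci aRi aAi tAi pi hpi hnb U x Ψ hU hx hfib hΨ hiff using
    fun j => exists_chart_cond (N j) R P (hflat j)
  obtain ⟨A', _, _, p', _, hA', H⟩ := exists_common_aux (A := R) P m Ai pi hnb
  haveI := hA'.1
  haveI := hA'.2.1
  letI : Algebra A A' := ((algebraMap R A').comp (algebraMap A R)).toAlgebra
  haveI : IsScalarTower A R A' := IsScalarTower.of_algebraMap_eq' rfl
  choose ai ti li using H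
  have htow : ∀ j, @IsScalarTower A (Ai j) A' (aAi j).toSMul (ai j).toSMul _ := fun j => by
    letI := ai j
    haveI := ti j
    haveI := tAi j
    exact IsScalarTower.of_algebraMap_eq fun a => by
      rw [IsScalarTower.algebraMap_apply A R A', IsScalarTower.algebraMap_apply A R (Ai j),
        ← IsScalarTower.algebraMap_apply R (Ai j) A']
  let χ : ∀ j, Ai j ⊗[A] B j →+* A' ⊗[A] B j := fun j =>
    letI := ai j
    haveI := htow j
    (Algebra.TensorProduct.map ((Algebra.ofId (Ai j) A').restrictScalars A) (AlgHom.id A (B j))).toRingHom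
  let U' : ∀ j, Set (PrimeSpectrum (A' ⊗[A] B j)) := fun j => PrimeSpectrum.comap (χ j) ⁻¹' U j
  obtain ⟨r, hr, hlink⟩ := hgood A' p' U' (fun j => (hU j).preimage (PrimeSpectrum.continuous_comap _)) fun j Q hQ => by
    letI := ai j
    haveI := htow j
    haveI := li j
    refine hfib j _ ⟨?_⟩
    show pi j = (Q.asIdeal.comap (χ j)).comap (algebraMap (Ai j) (Ai j ⊗[A] B j))
    rw [Ideal.comap_comap, Ideal.over_def p' (pi j), Ideal.under_def, hQ.over, Ideal.under_def, Ideal.comap_comap]
    congr 1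
  let y : Fin m → A' := fun j => @algebraMap (Ai j) A' _ _ (ai j) (x j)
  let G₀ := r * ∏ j, y j
  have hG₀ : G₀ ∉ p' := fun h => (‹p'.IsPrime›.mem_or_mem h).elim hr fun h => by
    obtain ⟨j, -, hj⟩ := (Ideal.IsPrime.prod_mem_iff).mp h
    letI := ai j
    haveI := li j
    exact hx j ((Ideal.mem_of_liesOver p' (pi j) (x j)).mpr hj)
  let R' := Localization.Away G₀
  haveI : Algebra.Etale A' R' := Algebra.Etale.of_isLocalizationAway G₀
  refine ⟨R', inferInstance, inferInstance, Algebra.Etale.comp R A' R', ?_, ?_⟩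
  · obtain ⟨q, hq⟩ : (⟨p', inferInstance⟩ : PrimeSpectrum A') ∈ Set.range (PrimeSpectrum.comap (algebraMap A' R')) := by
      rw [PrimeSpectrum.localization_away_comap_range R' G₀]
      exact hG₀
    refine ⟨q, PrimeSpectrum.ext ?_⟩
    show q.asIdeal.comap (algebraMap R R') = P
    rw [IsScalarTower.algebraMap_eq R A' R', ← Ideal.comap_comap,
      show q.asIdeal.comap (algebraMap A' R') = p' from congrArg PrimeSpectrum.asIdeal hq]
    exact hA'.2.1.over.symm
  refine ((rep_forall (fun j => (Ψ j).pull ((algebraMap A' R').comp (@algebraMap (Ai j) A' _ _ (ai j))))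
    fun j => (hΨ j).pull _)).congr fun T _ φ => ?_
  let φ' := φ.comp (algebraMap A' R')
  have hu : IsUnit (φ' G₀) := (IsLocalization.Away.algebraMap_isUnit G₀).map φ
  letI : Algebra A' T := φ'.toAlgebra
  letI : Algebra A T := (φ'.comp (algebraMap A A')).toAlgebra
  haveI : IsScalarTower A A' T := IsScalarTower.of_algebraMap_eq' rfl
  have hall : ((AllCond A B N n).pull (algebraMap A R)).pull (algebraMap R R') T φ ↔ ∀ j, FlatBC A n T (B j) (N j) := by
    refine forall_congr' fun j => ?_
    rw [show (φ.comp (algebraMap R R')).comp (algebraMap A R) = algebraMap A T by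
      rw [IsScalarTower.algebraMap_eq R A' R']
      rfl]
    exact fcond_algebraMap (N j) n T
  refine Iff.trans ?_ hall.symm
  constructor
  · intro h j
    rw [FlatBC, flatInDimGE_iff_relTrdeg]
    intro t Q _ _ _ hd
    let BA := A' ⊗[A] B j
    let π : BA →ₐ[A] T ⊗[A] B j := Algebra.TensorProduct.map ((Algebra.ofId A' T).restrictScalars A) (AlgHom.id A (B j))
    let P₁ : PrimeSpectrum BA := PrimeSpectrum.comap π.toRingHom ⟨Q, inferInstance⟩
    have hrP : algebraMap A' BA r ∉ P₁.asIdeal := fun hm => by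
      have h1 : IsUnit (algebraMap T (T ⊗[A] B j) (algebraMap A' T r)) :=
        (isUnit_of_dvd_unit (map_dvd φ' (dvd_mul_right r _)) hu).map _
      refine (‹Q.IsPrime›).ne_top (Ideal.eq_top_of_isUnit_mem _ ?_ h1)
      have e : π (algebraMap A' BA r) = algebraMap T (T ⊗[A] B j) (algebraMap A' T r) := by
        show π (r ⊗ₜ[A] (1 : B j)) = algebraMap A' T r ⊗ₜ[A] (1 : B j)
        tens
      rw [← e]
      exact hm
    obtain ⟨k, O, _, _, _, _, _, _, _, _, M, _, _, _, _, _, _, f₁, f₂, o, hf₁, hf₂, ho, hW₂⟩ := hlink j P₁ hrP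
    let BO := A' ⊗[A] O
    let CO := T ⊗[A] O
    let o₁ : BA →ₐ[A] BO := Algebra.TensorProduct.map (AlgHom.id A A') (IsScalarTower.toAlgHom A (B j) O)
    let o₂ : A' ⊗[A] B k →ₐ[A] BO := Algebra.TensorProduct.map (AlgHom.id A A') (IsScalarTower.toAlgHom A (B k) O)
    let ψ₁ : T ⊗[A] B j →ₐ[A] CO := Algebra.TensorProduct.map (AlgHom.id A T) (IsScalarTower.toAlgHom A (B j) O)
    let ψ₂ : T ⊗[A] B k →ₐ[A] CO := Algebra.TensorProduct.map (AlgHom.id A T) (IsScalarTower.toAlgHom A (B k) O)
    let πO : BO →ₐ[A] CO := Algebra.TensorProduct.map ((Algebra.ofId A' T).restrictScalars A) (AlgHom.id A O)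
    obtain ⟨WT, hWT, eW₁⟩ : ∃ WT : Ideal CO, WT.IsPrime ∧ WT.comap ψ₁.toRingHom = Q := by
      let BT := T ⊗[A] B j
      letI : Algebra BT CO := ψ₁.toRingHom.toAlgebra
      letI : Algebra (B j) CO := ((algebraMap O CO).comp (algebraMap (B j) O)).toAlgebra
      haveI : IsScalarTower (B j) O CO := IsScalarTower.of_algebraMap_eq' rfl
      haveI : IsScalarTower (B j) BT CO := IsScalarTower.of_algebraMap_eq (R := B j) (S := BT) (A := CO) fun x => by
        show (1 : T) ⊗ₜ[A] algebraMap (B j) O x = ψ₁ ((1 : T) ⊗ₜ[A] x)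
        tens
      haveI : IsScalarTower T BT CO := IsScalarTower.of_algebraMap_eq (R := T) (S := BT) (A := CO) fun a => by
        show a ⊗ₜ[A] (1 : O) = ψ₁ (a ⊗ₜ[A] (1 : B j))
        tens
      haveI : IsScalarTower A (B j) CO := IsScalarTower.of_algebraMap_eq (R := A) (S := B j) (A := CO) fun a => by
        rw [IsScalarTower.algebraMap_apply A O CO, IsScalarTower.algebraMap_apply A (B j) O]
        rfl
      haveI : IsScalarTower A BT CO := IsScalarTower.of_algebraMap_eq (R := A) (S := BT) (A := CO) fun a => by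
        rw [IsScalarTower.algebraMap_apply A T CO, IsScalarTower.algebraMap_apply A T BT,
          ← IsScalarTower.algebraMap_apply T BT CO]
      haveI : Algebra.IsPushout (B j) BT O CO := by
        haveI : Algebra.IsPushout A (B j) T BT := Algebra.IsPushout.symm inferInstance
        haveI : Algebra.IsPushout A O T CO := Algebra.IsPushout.symm inferInstance
        exact Algebra.IsPushout.symm ((Algebra.IsPushout.comp_iff (R := A) (S := B j) (T := O) (R' := T) BT (T' := CO)).1 inferInstance)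
      obtain ⟨WT, hWT, e, -⟩ := Groth.L20.exists_prime_isPushout (R := B j) (S := BT) (R' := O) (S' := CO) Q o.asIdeal (by
        rw [ho]
        show Q.comap (algebraMap (B j) BT) = (Q.comap π.toRingHom).comap (algebraMap (B j) BA)
        rw [Ideal.comap_comap]
        congr 1
        refine RingHom.ext fun b => ?_
        show (1 : T) ⊗ₜ[A] b = π ((1 : A') ⊗ₜ[A] b)
        tens)
      exact ⟨WT, hWT, e⟩
    have hsq₁ : ψ₁.comp π = πO.comp o₁ := by
      refine Algebra.TensorProduct.ext' fun a b => ?_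
      tens
    haveI := hWT
    haveI : WT.LiesOver t := ⟨by
      have e : ψ₁.toRingHom.comp (algebraMap T (T ⊗[A] B j)) = algebraMap T CO := RingHom.ext fun a => by
        show ψ₁ (a ⊗ₜ[A] (1 : B j)) = a ⊗ₜ[A] (1 : O)
        tens
      rw [Ideal.under_def, ← e, ← Ideal.comap_comap, eW₁]
      exact Ideal.LiesOver.over⟩
    let Q₂ : PrimeSpectrum (T ⊗[A] B k) := PrimeSpectrum.comap ψ₂.toRingHom ⟨WT, hWT⟩
    haveI : Q₂.asIdeal.LiesOver t := ⟨by
      have e : ψ₂.toRingHom.comp (algebraMap T (T ⊗[A] B k)) = algebraMap T CO := RingHom.ext fun a => by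
        show ψ₂ (a ⊗ₜ[A] (1 : B k)) = a ⊗ₜ[A] (1 : O)
        tens
      show t = (WT.comap ψ₂.toRingHom).comap (algebraMap T (T ⊗[A] B k))
      rw [Ideal.comap_comap, e]
      exact Ideal.LiesOver.over⟩
    obtain ⟨e₁, e₁'⟩ := flatAt_of_link (A := A) (B₂ := B k) (N₂ := N k) f₁ hf₁ T t WT Q eW₁
    obtain ⟨e₂, e₂'⟩ := flatAt_of_link (A := A) (B₂ := B j) (N₂ := N j) f₂ hf₂ T t WT Q₂.asIdeal rfl
    refine e₁'.2 (e₂'.1 ?_)
    -- the chart of the piece `k`
    letI := ai k
    haveI := htow k
    letI : Algebra (Ai k) T := (φ'.comp (algebraMap (Ai k) A')).toAlgebra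
    haveI : IsScalarTower A (Ai k) T := IsScalarTower.of_algebraMap_eq fun a => by
      show φ' (algebraMap A A' a) = φ' (algebraMap (Ai k) A' (algebraMap A (Ai k) a))
      rw [← IsScalarTower.algebraMap_apply A (Ai k) A']
    refine (hiff k T (isUnit_of_dvd_unit (map_dvd φ' (dvd_mul_of_dvd_right
      (Finset.dvd_prod_of_mem y (Finset.mem_univ k)) r)) hu)).2 (h k) t Q₂ ?_ (by rw [← e₂, e₁]; exact hd)
    let π₂ : A' ⊗[A] B k →ₐ[A] T ⊗[A] B k := Algebra.TensorProduct.map ((Algebra.ofId A' T).restrictScalars A) (AlgHom.id A (B k))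
    have hsq : ψ₂.comp π₂ = πO.comp o₂ := by
      refine Algebra.TensorProduct.ext' fun a b => ?_
      tens
    let W : PrimeSpectrum BO := PrimeSpectrum.comap πO.toRingHom ⟨WT, hWT⟩
    have e3 : PrimeSpectrum.comap π₂.toRingHom Q₂ = PrimeSpectrum.comap o₂.toRingHom W := by
      refine PrimeSpectrum.ext ?_
      show (WT.comap ψ₂.toRingHom).comap π₂.toRingHom = (WT.comap πO.toRingHom).comap o₂.toRingHom
      rw [Ideal.comap_comap, Ideal.comap_comap]
      exact congrArg (fun f : A' ⊗[A] B k →ₐ[A] CO => WT.comap f.toRingHom) hsq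
    have e4 : (χ k).comp (RingHom.id _) = χ k := RingHom.comp_id _
    have hW' : PrimeSpectrum.comap (χ k) (PrimeSpectrum.comap π₂.toRingHom Q₂) ∈ U k := by
      rw [e3]
      refine hW₂ W (PrimeSpectrum.ext ?_)
      show (WT.comap πO.toRingHom).comap o₁.toRingHom = Q.comap π.toRingHom
      rw [← eW₁, Ideal.comap_comap, Ideal.comap_comap]
      exact congrArg (fun f : BA →ₐ[A] CO => WT.comap f.toRingHom) hsq₁.symm
    convert hW' using 1
    refine PrimeSpectrum.ext ?_
    show Q₂.asIdeal.comap _ = (Q₂.asIdeal.comap π₂.toRingHom).comap (χ k)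
    rw [Ideal.comap_comap]
    congr 1
    refine congrArg AlgHom.toRingHom (?_ : Algebra.TensorProduct.map ((Algebra.ofId (Ai k) T).restrictScalars A) (AlgHom.id A (B k)) =
      π₂.comp (Algebra.TensorProduct.map ((Algebra.ofId (Ai k) A').restrictScalars A) (AlgHom.id A (B k))))
    refine Algebra.TensorProduct.ext' fun a b => ?_
    tens
  · intro h j
    letI := ai j
    haveI := htow j
    letI : Algebra (Ai j) T := (φ'.comp (algebraMap (Ai j) A')).toAlgebra
    haveI : IsScalarTower A (Ai j) T := IsScalarTower.of_algebraMap_eq fun a => by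
      show φ' (algebraMap A A' a) = φ' (algebraMap (Ai j) A' (algebraMap A (Ai j) a))
      rw [← IsScalarTower.algebraMap_apply A (Ai j) A']
    exact (hiff j T (isUnit_of_dvd_unit (map_dvd φ' (dvd_mul_of_dvd_right
      (Finset.dvd_prod_of_mem y (Finset.mem_univ j)) r)) hu)).1 (h j)

set_option maxHeartbeats 1000000 in
/-- **Flatness in dimensions at least `n` on the pieces of a good cover is representable.** -/
theorem rep_allCond (hgood : GoodCover A B N) (n : ℕ) : Rep (AllCond A B N n) := by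
  classical
  have hfg : ∀ j, ∃ (g : ℕ) (x : Fin g → B j), Algebra.adjoin A (Set.range x) = ⊤ := fun j => by
    obtain ⟨G, hG⟩ := (inferInstance : Algebra.FiniteType A (B j)).out
    refine ⟨G.card, fun i => (G.equivFin.symm i : B j), ?_⟩
    rw [← hG]
    congr 1
    ext b
    exact ⟨fun ⟨i, hi⟩ => hi ▸ (G.equivFin.symm i).2, fun hb => ⟨G.equivFin ⟨b, hb⟩, by simp⟩⟩
  choose g x hx using hfg
  let D := ∑ j, g j
  induction hk : D + 1 - n generalizing n with
  | zero =>
    refine rep_true.congr fun T _ φ => iff_of_true trivial fun j => ?_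
    letI := φ.toAlgebra
    let MA := N j
    letI : Module A MA := Module.compHom MA (algebraMap A (B j))
    haveI : IsScalarTower A (B j) MA := IsScalarTower.of_algebraMap_smul fun _ _ => rfl
    have hlt : g j < n := lt_of_le_of_lt (Finset.single_le_sum (fun i _ => Nat.zero_le (g i)) (Finset.mem_univ j))
      (show D < n by omega)
    refine flatBC_of_flatInDimGE' (T := A) (T' := T) (C := B j) MA ?_
    rw [flatInDimGE_iff_relTrdeg]
    intro t Q _ _ _ hd
    exact absurd (hd.trans (relTrdeg_le_of_gens (x j) (hx j) t Q)) (not_le.2 (by exact_mod_cast hlt))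
  | succ k ih =>
    obtain ⟨Z, i, hi⟩ := ih (n + 1) (by omega)
    haveI := hi.mono; haveI := hi.qc
    haveI : CompactSpace Z := QuasiCompact.compactSpace_of_compactSpace i
    obtain ⟨R, π, hπ, hπs⟩ := exists_affine_chart Z
    let ρ := (Spec.preimage (π ≫ i)).hom
    have hρ : Spec.map (CommRingCat.ofHom ρ) = π ≫ i := by rw [CommRingCat.ofHom_hom, Spec.map_preimage]
    refine rep_of_chart ((allCond_pointwise B N n).isEtLocal (allCond_comp B N n)) hi (fun T _ φ h j => ?_) R π ?_
    · letI := φ.toAlgebra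
      show FlatBC A (n + 1) T (B j) (N j)
      rw [FlatBC, flatInDimGE_iff_relTrdeg]
      intro t Q _ _ _ hd
      exact (flatInDimGE_iff_relTrdeg n _).1 (h j) t Q (le_trans (by exact_mod_cast (Nat.le_succ n)) hd)
    letI : Algebra A R := ρ.toAlgebra
    have hfl : ∀ j, FlatBC A (n + 1) R (B j) (N j) := fun j => (hi.iff R ρ).2 ⟨π, hρ.symm⟩ j
    choose R' cR aR het hp hrep using fun p : PrimeSpectrum R =>
      exists_rep_chart_all B N hgood n R hfl p.asIdeal
    obtain ⟨s, hs⟩ := CompactSpace.elim_nhds_subcover (X := PrimeSpectrum R)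
      (fun p => Set.range (PrimeSpectrum.comap (algebraMap R (R' p)))) fun p => by
        haveI := het p
        exact (PrimeSpectrum.isOpenMap_comap_of_hasGoingDown_of_finitePresentation (R := R) (S := R' p)).isOpen_range.mem_nhds (hp p)
    let e := s.equivFin.symm
    refine rep_of_etale_family (Φ := (AllCond A B N n).pull ρ) (fun T T' _ _ φ ψ h => ?_) (fun T _ φ h => ?_)
      (fun a => R' (e a).1) (fun q => ?_) fun a => hrep (e a).1
    · show AllCond A B N n T' ((ψ.comp φ).comp ρ)
      rw [RingHom.comp_assoc]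
      exact allCond_comp B N n T T' _ ψ h
    · refine allCond_pointwise B N n T (φ.comp ρ) fun t => ?_
      obtain ⟨T', _, ψ, h1, h2, h3⟩ := h t
      exact ⟨T', inferInstance, ψ, h1, h2, by rw [← RingHom.comp_assoc]; exact h3⟩
    obtain ⟨p, hps, hq⟩ := Set.mem_iUnion₂.1 (hs.ge (Set.mem_univ q))
    obtain ⟨a, ha⟩ : ∃ a, e a = ⟨p, hps⟩ := ⟨e.symm ⟨p, hps⟩, e.apply_symm_apply _⟩
    exact ⟨a, by rw [ha]; exact hq⟩

end Groth.L20.RG
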