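import Groth.Agent.L05.Henselization.AtPrime
import Groth.Agent.L05.Henselization.StrictUniq
import Mathlib.RingTheory.Flat.Localization
import Groth.Agent.L20.RG.Nbhd

/-!
# Elementary étale neighbourhoods inside a henselization
-/

set_option autoImplicit false
set_option linter.style.haveILetI false
set_option backward.isDefEq.respectTransparency.types false
universe u

open TensorProduct IsLocalRing

noncomputable section

namespace Groth.L20.RG

attribute [local instance] Algebra.TensorProduct.rightAlgebra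

/-- Flatness cancels along an unramified map. -/
theorem flat_of_flat_of_unramified (A A₁ H : Type u) [CommRing A] [CommRing A₁] [CommRing H] [Algebra A A₁]
    [Algebra A H] [Algebra A₁ H] [IsScalarTower A A₁ H] [Algebra.FormallyUnramified A A₁]
    [Algebra.EssFiniteType A A₁] [Module.Flat A H] : Module.Flat A₁ H := by
  let φ : A₁ ⊗[A] A₁ →ₐ[A] A₁ ⊗[A] H :=
    Algebra.TensorProduct.map (AlgHom.id A A₁) (IsScalarTower.toAlgHom A A₁ H)
  let μ : A₁ ⊗[A] H →ₐ[A₁] H :=
    Algebra.TensorProduct.lift (Algebra.ofId A₁ H) (AlgHom.id A H) fun _ _ => Commute.all _ _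
  let e := φ (Algebra.FormallyUnramified.elem A A₁)
  have he : ∀ a : A₁, ((1 : A₁) ⊗ₜ[A] algebraMap A₁ H a) * e = (a ⊗ₜ[A] (1 : H)) * e := fun a => by
    have := congrArg φ (Algebra.FormallyUnramified.one_tmul_mul_elem (R := A) (S := A₁) a)
    simpa [e, φ] using this
  let σ : H →ₗ[A₁] A₁ ⊗[A] H :=
    { toFun := fun x => ((1 : A₁) ⊗ₜ[A] x) * e
      map_add' := fun x y => by rw [TensorProduct.tmul_add, add_mul]
      map_smul' := fun a x => by
        rw [RingHom.id_apply, Algebra.smul_def (R := A₁) (A := A₁ ⊗[A] H), Algebra.TensorProduct.algebraMap_apply,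
          Algebra.algebraMap_self, RingHom.id_apply, Algebra.smul_def, ← mul_assoc, mul_comm (a ⊗ₜ[A] (1 : H)),
          mul_assoc, ← he, ← mul_assoc, Algebra.TensorProduct.tmul_mul_tmul, mul_one, mul_comm (algebraMap A₁ H a)] }
  refine Module.Flat.of_retract σ μ.toLinearMap (LinearMap.ext fun x => ?_)
  show μ (((1 : A₁) ⊗ₜ[A] x) * e) = x
  have h1 : (μ.restrictScalars A).comp φ = (IsScalarTower.toAlgHom A A₁ H).comp (Algebra.TensorProduct.lmul' A) :=
    Algebra.TensorProduct.ext' fun a b => by simp [μ, φ]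
  rw [map_mul, show μ e = 1 from (DFunLike.congr_fun h1 _).trans (by simp [Algebra.FormallyUnramified.lmul_elem]),
    mul_one]
  simp [μ]

variable {A : Type u} [CommRing A] (p : Ideal A) [p.IsPrime] (H : Type u) [CommRing H] [IsLocalRing H]
  [Algebra (Localization.AtPrime p) H] [IsLocalHom (algebraMap (Localization.AtPrime p) H)]
  [Hensel.IsHenselization (Localization.AtPrime p) H] [Algebra A H] [IsScalarTower A (Localization.AtPrime p) H]

include p in
theorem flat_henselization : Module.Flat A H := by
  haveI := Groth.L05.Henselization.flat_of_isHenselization (Localization.AtPrime p) H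
  haveI := IsLocalization.flat (Localization.AtPrime p) p.primeCompl
  exact Module.Flat.trans A (Localization.AtPrime p) H

/-- Finitely many elements of the henselization come from one elementary étale neighbourhood. -/
theorem exists_nhd_of_finset (F : Finset H) :
    ∃ (S : Type u) (_ : CommRing S) (_ : Algebra A S) (f : S →ₐ[A] H) (q : Ideal S) (_ : q.IsPrime),
      FlatCA.IsEtaleNhd A S p q ∧ q = (maximalIdeal H).comap f.toRingHom ∧ ∀ x ∈ F, x ∈ f.range := by
  classical
  obtain ⟨σ, hσ, hu, hx, -⟩ := Groth.L05.Henselization.prime_henselization_colimit p H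
  suffices h : ∃ (S : Type u) (_ : CommRing S) (_ : Algebra A S) (_ : Algebra.Etale A S) (f : S →ₐ[A] H),
      ∀ x ∈ F, x ∈ f.range by
    obtain ⟨S, _, _, _, f, hf⟩ := h
    let φ := σ.comp f
    let q : Ideal S := RingHom.ker φ
    haveI hq : q.IsPrime := RingHom.ker_isPrime φ
    have hc := Groth.L05.Henselization.comap_ker_point p φ
    refine ⟨S, inferInstance, inferInstance, f, q, hq, ⟨inferInstance, ⟨hc⟩,
      Groth.L05.Henselization.bijective_of_point p φ q rfl hc⟩, ?_, hf⟩
    ext x
    show σ (f x) = 0 ↔ f x ∈ maximalIdeal H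
    rw [← hσ, RingHom.mem_ker]
  induction F using Finset.induction with
  | empty => exact ⟨A, inferInstance, inferInstance, inferInstance, Algebra.ofId A H, by simp⟩
  | insert x F _ ih =>
    obtain ⟨S, _, _, _, f, hf⟩ := ih
    obtain ⟨X, g, y, hg, rfl⟩ := hx x
    haveI : Algebra.Etale A (S ⊗[A] X.R) := Algebra.Etale.comp A S _
    obtain ⟨k, hk, -⟩ := hu (S ⊗[A] X.R) (Algebra.TensorProduct.lift (σ.comp f) (σ.comp g) fun _ _ => Commute.all _ _)
    have hk1 : k.comp Algebra.TensorProduct.includeLeft = f := (hu S (σ.comp f)).unique (by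
      rw [← AlgHom.comp_assoc, hk]; ext; simp) rfl
    have hk2 : k.comp Algebra.TensorProduct.includeRight = g := (hu X.R (σ.comp g)).unique (by
      rw [← AlgHom.comp_assoc, hk]; ext; simp) rfl
    refine ⟨S ⊗[A] X.R, inferInstance, inferInstance, inferInstance, k, fun z hz => ?_⟩
    rcases Finset.mem_insert.mp hz with rfl | hz
    · exact ⟨1 ⊗ₜ y, DFunLike.congr_fun hk2 y⟩
    · obtain ⟨w, hw⟩ := hf z hz
      exact ⟨w ⊗ₜ 1, (DFunLike.congr_fun hk1 w).trans hw⟩

/-- An elementary étale neighbourhood maps flatly to the henselization. -/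
theorem exists_algHom_henselization {S : Type u} [CommRing S] [Algebra A S] (q : Ideal S) [q.IsPrime]
    (h : FlatCA.IsEtaleNhd A S p q) :
    ∃ f : S →ₐ[A] H, q = (maximalIdeal H).comap f.toRingHom ∧ (letI := f.toRingHom.toAlgebra; Module.Flat S H) := by
  haveI := h.1
  obtain ⟨σ, hσ, hu, -, -⟩ := Groth.L05.Henselization.prime_henselization_colimit p H
  obtain ⟨φ, hφ⟩ := Groth.L05.Henselization.exists_point p q h.2.1.over h.2.2
  obtain ⟨f, hf, -⟩ := hu S φ
  refine ⟨f, ?_, ?_⟩
  · ext x
    show x ∈ q ↔ f x ∈ maximalIdeal H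
    rw [← hσ, RingHom.mem_ker, ← hφ, RingHom.mem_ker, ← hf]
    rfl
  · letI := f.toRingHom.toAlgebra
    haveI : IsScalarTower A S H := IsScalarTower.of_algebraMap_eq' f.comp_algebraMap.symm
    haveI := flat_henselization p H
    exact flat_of_flat_of_unramified A S H

end Groth.L20.RG
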