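import Groth.Agent.L20.RG.WeakAssFlat
import Groth.Agent.L20.RG.Nbhd
import Groth.Agent.L20.FlatAtBaseChange
import Mathlib.RingTheory.Ideal.GoingDown
import Mathlib.RingTheory.Ideal.MinimalPrime.Localization

/-!
# Descent of purity along flat maps

An impurity lifts along a flat local map of the bases.
-/

set_option autoImplicit false
set_option linter.style.haveILetI false
set_option backward.isDefEq.respectTransparency.types false
universe u

open TensorProduct

noncomputable section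

namespace Groth.L20.RG

open Groth.L03.WeakAss

/-- Extending the scalars of a fibre along a field extension is injective. -/
theorem lTensor_field_injective {R K L : Type u} [CommRing R] [Field K] [Field L] [Algebra R K] [Algebra R L]
    (σ : K →ₐ[R] L) (N : Type u) [AddCommGroup N] [Module R N] : Function.Injective (σ.toLinearMap.lTensor N) := by
  letI : Algebra K L := σ.toRingHom.toAlgebra
  obtain ⟨g, hg⟩ := (Algebra.linearMap K L).exists_leftInverse_of_injective
    (LinearMap.ker_eq_bot.mpr σ.toRingHom.injective)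
  let g' : L →ₗ[R] K :=
    { toFun := g
      map_add' := map_add g
      map_smul' := fun r x => by
        rw [RingHom.id_apply, Algebra.smul_def, ← AlgHom.commutes σ r,
          show σ (algebraMap R K r) * x = algebraMap R K r • x from rfl, map_smul, Algebra.smul_def r (g x), smul_eq_mul] }
  have hgσ : g' ∘ₗ σ.toLinearMap = LinearMap.id := LinearMap.ext fun x => LinearMap.congr_fun hg x
  intro a b hab
  have := congrArg (g'.lTensor N) hab
  rwa [← LinearMap.comp_apply, ← LinearMap.comp_apply, ← LinearMap.lTensor_comp, hgσ, LinearMap.lTensor_id,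
    LinearMap.id_apply, LinearMap.id_apply] at this

/-- An associated point of a fibre lifts along a base change. -/
theorem exists_weakAss_lift {A₂ B₂ A₃ B₃ : Type u} [CommRing A₂] [CommRing B₂] [CommRing A₃] [CommRing B₃]
    [Algebra A₂ B₂] [Algebra A₂ A₃] [Algebra B₂ B₃] [Algebra A₃ B₃] [Algebra A₂ B₃] [IsScalarTower A₂ B₂ B₃]
    [IsScalarTower A₂ A₃ B₃] [Algebra.IsPushout A₂ B₂ A₃ B₃] [Algebra.FiniteType A₂ B₂]
    (N₂ : Type u) [AddCommGroup N₂] [Module B₂ N₂] [Module A₂ N₂] [IsScalarTower A₂ B₂ N₂]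
    (N₃ : Type u) [AddCommGroup N₃] [Module B₃ N₃] [Module B₂ N₃] [IsScalarTower B₂ B₃ N₃] [Module A₃ N₃]
    [IsScalarTower A₃ B₃ N₃] (f : N₂ →ₗ[B₂] N₃) (hf : IsBaseChange B₃ f)
    (t' : Ideal A₂) [t'.IsPrime] (t₃ : Ideal A₃) [t₃.IsPrime] [t₃.LiesOver t'] (P : Ideal B₂) [P.IsPrime]
    [P.LiesOver t'] (hP : P ∈ FlatCA.weakAss B₂ (N₂ ⊗[A₂] t'.ResidueField)) :
    ∃ P₃ : Ideal B₃, P₃.IsPrime ∧ P₃.comap (algebraMap B₂ B₃) = P ∧ P₃.LiesOver t₃ ∧
      P₃ ∈ FlatCA.weakAss B₃ (N₃ ⊗[A₃] t₃.ResidueField) := by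
  classical
  letI : Module A₂ N₃ := Module.compHom N₃ (algebraMap A₂ A₃)
  haveI : IsScalarTower A₂ A₃ N₃ := IsScalarTower.of_algebraMap_smul fun _ _ => rfl
  haveI : IsScalarTower A₂ B₂ N₃ := IsScalarTower.of_algebraMap_smul fun a m => by
    show algebraMap A₂ B₂ a • m = algebraMap A₂ A₃ a • m
    rw [← algebraMap_smul B₃ (algebraMap A₂ B₂ a) m, ← algebraMap_smul B₃ (algebraMap A₂ A₃ a) m,
      ← IsScalarTower.algebraMap_apply, ← IsScalarTower.algebraMap_apply]
  have hbc : IsBaseChange A₃ (f.restrictScalars A₂) :=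
    Groth.L20.isBaseChange_restrictScalars (R := A₂) (S := B₂) (R' := A₃) (S' := B₃) hf
  let σ : t'.ResidueField →ₐ[A₂] t₃.ResidueField :=
    Ideal.ResidueField.mapₐ t' t₃ (Algebra.ofId A₂ A₃) (Ideal.LiesOver.over (P := t₃) (p := t'))
  let e : N₃ ⊗[A₃] t₃.ResidueField ≃ₗ[A₂] N₂ ⊗[A₂] t₃.ResidueField :=
    (((TensorProduct.comm A₃ N₃ t₃.ResidueField).trans
      (AlgebraTensorModule.congr (LinearEquiv.refl A₃ t₃.ResidueField) hbc.equiv.symm)).trans
      (AlgebraTensorModule.cancelBaseChange A₂ A₃ A₃ t₃.ResidueField N₂)).restrictScalars A₂ |>.trans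
      (TensorProduct.comm A₂ t₃.ResidueField N₂)
  let Φ : N₂ ⊗[A₂] t'.ResidueField →ₗ[A₂] N₃ ⊗[A₃] t₃.ResidueField :=
    TensorProduct.lift (LinearMap.mk₂ A₂ (fun n x => f n ⊗ₜ[A₃] σ x)
      (fun a b x => by rw [map_add, TensorProduct.add_tmul])
      (fun c n x => by rw [LinearMap.map_smul_of_tower, TensorProduct.smul_tmul'])
      (fun n a b => by rw [map_add, TensorProduct.tmul_add])
      (fun c n x => by rw [map_smul, TensorProduct.tmul_smul]))
  have hΦ : ∀ z, e (Φ z) = σ.toLinearMap.lTensor N₂ z := fun z => by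
    induction z using TensorProduct.induction_on with
    | zero => simp
    | add a b ha hb => simp only [map_add, ha, hb]
    | tmul n x =>
      have hfn : hbc.equiv.symm (f n) = 1 ⊗ₜ[A₂] n := hbc.equiv_symm_apply n
      simp [Φ, e, hfn]
  have hΦinj : Function.Injective Φ := fun a b hab => lTensor_field_injective σ N₂ (by rw [← hΦ, ← hΦ, hab])
  have hΦsmul : ∀ (b : B₂) (z : N₂ ⊗[A₂] t'.ResidueField), Φ (b • z) = algebraMap B₂ B₃ b • Φ z := fun b z => by
    induction z using TensorProduct.induction_on with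
    | zero => simp
    | add a c ha hc => simp only [smul_add, map_add, ha, hc]
    | tmul n x => simp [Φ, TensorProduct.smul_tmul', algebraMap_smul]
  obtain ⟨z, hz⟩ := hP
  have hann : (Submodule.span B₂ {z}).annihilator = (annE B₃ (Φ z)).comap (algebraMap B₂ B₃) := by
    ext b
    rw [Submodule.mem_annihilator_span_singleton, Ideal.mem_comap, mem_annE (R := B₃), ← hΦsmul, map_eq_zero_iff Φ hΦinj]
  rw [hann] at hz
  obtain ⟨P₃, hP₃, hP₃P⟩ := Ideal.exists_minimalPrimes_comap_eq (algebraMap B₂ B₃) P hz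
  haveI := hP₃.isPrime
  refine ⟨P₃, hP₃.isPrime, hP₃P, ?_, ⟨Φ z, hP₃⟩⟩
  exact liesOver_of_mem_weakAss_fibre t₃ N₃ ⟨Φ z, hP₃⟩

variable {A B A' B' : Type u} [CommRing A] [CommRing B] [CommRing A'] [CommRing B'] [Algebra A B] [Algebra A A']
  [Algebra B B'] [Algebra A' B'] [Algebra A B'] [IsScalarTower A B B'] [IsScalarTower A A' B']
  [Algebra.IsPushout A B A' B'] [Algebra.FiniteType A B]
  (N : Type u) [AddCommGroup N] [Module B N] (N' : Type u) [AddCommGroup N'] [Module B' N'] [Module B N']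
  [IsScalarTower B B' N'] (f : N →ₗ[B] N') (p : Ideal A) [p.IsPrime] (p' : Ideal A') [p'.IsPrime]

set_option maxHeartbeats 1000000 in
/-- **An impurity lifts along a flat map of the bases.** -/
theorem impurity_lift (hf : IsBaseChange B' f) {A₂ B₂ N₂ : Type u} [CommRing A₂] [CommRing B₂] [Algebra A A₂]
    [Algebra B B₂] [Algebra A₂ B₂] [Algebra A B₂] [IsScalarTower A B B₂] [IsScalarTower A A₂ B₂]
    [AddCommGroup N₂] [Module B₂ N₂] [Module B N₂] [IsScalarTower B B₂ N₂] [Module A₂ N₂] [IsScalarTower A₂ B₂ N₂]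
    (f₂ : N →ₗ[B] N₂) (t' t : Ideal A₂) [t'.IsPrime] [t.IsPrime] (P : Ideal B₂) [P.IsPrime]
    (himp : FlatCA.IsImpurity A B N p A₂ B₂ N₂ f₂ t' t P)
    (A₃ : Type u) [CommRing A₃] [Algebra A A₃] [Algebra A₂ A₃] [Algebra A' A₃] [IsScalarTower A A₂ A₃]
    [IsScalarTower A A' A₃] (t₃ : Ideal A₃) [t₃.IsPrime] [t₃.LiesOver t] [t₃.LiesOver p']
    [Module.Flat A₂ (Localization.AtPrime t₃)]
    (H : ∀ (B₃ N₃ : Type u) [CommRing B₃] [Algebra B' B₃] [Algebra A₃ B₃] [Algebra A' B₃] [IsScalarTower A' B' B₃]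
      [IsScalarTower A' A₃ B₃] [AddCommGroup N₃] [Module B₃ N₃] [Module B' N₃] [IsScalarTower B' B₃ N₃] [Module A₃ N₃]
      [IsScalarTower A₃ B₃ N₃] (f₃ : N' →ₗ[B'] N₃) (t₃' : Ideal A₃) [t₃'.IsPrime] (P₃ : Ideal B₃) [P₃.IsPrime],
      ¬ FlatCA.IsImpurity A' B' N' p' A₃ B₃ N₃ f₃ t₃' t₃ P₃) : False := by
  classical
  obtain ⟨hpush, hbc₂, hle, -, hPt', hass, hno⟩ := himp
  haveI := hpush
  haveI := hPt'
  -- a generisation of `t₃` over `t'`
  let L := Localization.AtPrime t₃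
  have hmax : (IsLocalRing.maximalIdeal L).LiesOver t := by
    refine ⟨?_⟩
    rw [Ideal.under_def, IsScalarTower.algebraMap_eq A₂ A₃ L, ← Ideal.comap_comap]
    exact (Ideal.LiesOver.over (P := t₃) (p := t)).trans
      (congrArg (Ideal.comap (algebraMap A₂ A₃)) (IsLocalization.AtPrime.under_maximalIdeal L t₃).symm)
  obtain ⟨Q, -, hQ, hQt'⟩ := Ideal.exists_ideal_le_liesOver_of_le (IsLocalRing.maximalIdeal L) hle
  let t₃' := Q.comap (algebraMap A₃ L)
  haveI : t₃'.LiesOver t' := ⟨by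
    rw [Ideal.under_def, Ideal.comap_comap, ← IsScalarTower.algebraMap_eq]
    exact hQt'.over⟩
  have hle₃ : t₃' ≤ t₃ := (Ideal.comap_mono (IsLocalRing.le_maximalIdeal hQ.ne_top)).trans
    (IsLocalization.AtPrime.under_maximalIdeal L t₃).le
  -- the base changes
  obtain ⟨B₃, _, _, _, _, _, _, _, _⟩ : ∃ (B₃ : Type u) (_ : CommRing B₃) (_ : Algebra B' B₃) (_ : Algebra A₃ B₃)
      (_ : Algebra A' B₃) (_ : IsScalarTower A' B' B₃) (_ : IsScalarTower A' A₃ B₃) (_ : Algebra.IsPushout A' B' A₃ B₃),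
      True := by
    letI : Algebra B' (A₃ ⊗[A'] B') := Algebra.TensorProduct.rightAlgebra
    haveI : IsScalarTower A' B' (A₃ ⊗[A'] B') := Algebra.TensorProduct.right_isScalarTower
    exact ⟨A₃ ⊗[A'] B', inferInstance, inferInstance, inferInstance, inferInstance, inferInstance, inferInstance,
      Algebra.IsPushout.symm inferInstance, trivial⟩
  letI : Algebra A B₃ := ((algebraMap A' B₃).comp (algebraMap A A')).toAlgebra
  haveI : IsScalarTower A A' B₃ := IsScalarTower.of_algebraMap_eq' rfl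
  haveI : IsScalarTower A A₃ B₃ := IsScalarTower.of_algebraMap_eq fun a => by
    rw [IsScalarTower.algebraMap_apply A A' B₃, IsScalarTower.algebraMap_apply A' A₃ B₃,
      ← IsScalarTower.algebraMap_apply A A' A₃]
  letI : Algebra B B₃ := ((algebraMap B' B₃).comp (algebraMap B B')).toAlgebra
  haveI : IsScalarTower B B' B₃ := IsScalarTower.of_algebraMap_eq' rfl
  haveI : IsScalarTower A B B₃ := IsScalarTower.of_algebraMap_eq fun a => by
    rw [IsScalarTower.algebraMap_apply B B' B₃, ← IsScalarTower.algebraMap_apply A B B',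
      IsScalarTower.algebraMap_apply A A' B', ← IsScalarTower.algebraMap_apply A' B' B₃, ← IsScalarTower.algebraMap_apply]
  letI : Algebra A₂ B₃ := ((algebraMap A₃ B₃).comp (algebraMap A₂ A₃)).toAlgebra
  haveI : IsScalarTower A₂ A₃ B₃ := IsScalarTower.of_algebraMap_eq' rfl
  haveI : IsScalarTower A A₂ B₃ := IsScalarTower.of_algebraMap_eq fun a => by
    rw [IsScalarTower.algebraMap_apply A₂ A₃ B₃, ← IsScalarTower.algebraMap_apply A A₂ A₃,
      ← IsScalarTower.algebraMap_apply A A₃ B₃]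
  haveI : Algebra.IsPushout A A' B B' := Algebra.IsPushout.symm inferInstance
  haveI : IsScalarTower A B' B₃ := IsScalarTower.of_algebraMap_eq fun a => by
    rw [IsScalarTower.algebraMap_apply A A' B', ← IsScalarTower.algebraMap_apply A' B' B₃,
      ← IsScalarTower.algebraMap_apply A A' B₃]
  haveI : Algebra.IsPushout A' A₃ B' B₃ := Algebra.IsPushout.symm inferInstance
  haveI : Algebra.IsPushout A A₃ B B₃ :=
    (Algebra.IsPushout.comp_iff A A' (T := A₃) (R' := B) (S' := B') (T' := B₃)).mpr inferInstance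
  let φ : B₂ →ₐ[A] B₃ := Algebra.pushoutDesc B₂ (IsScalarTower.toAlgHom A B B₃) (IsScalarTower.toAlgHom A A₂ B₃)
    fun _ _ => Commute.all _ _
  letI : Algebra B₂ B₃ := φ.toRingHom.toAlgebra
  haveI : IsScalarTower B B₂ B₃ := IsScalarTower.of_algebraMap_eq fun b =>
    (Algebra.pushoutDesc_left B₂ (IsScalarTower.toAlgHom A B B₃) (IsScalarTower.toAlgHom A A₂ B₃)
      (fun _ _ => Commute.all _ _) b).symm
  haveI : IsScalarTower A₂ B₂ B₃ := IsScalarTower.of_algebraMap_eq fun a =>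
    (Algebra.pushoutDesc_right B₂ (IsScalarTower.toAlgHom A B B₃) (IsScalarTower.toAlgHom A A₂ B₃)
      (fun _ _ => Commute.all _ _) a).symm
  haveI : Algebra.IsPushout A A₂ B B₂ := Algebra.IsPushout.symm inferInstance
  haveI : Algebra.IsPushout A₂ A₃ B₂ B₃ :=
    (Algebra.IsPushout.comp_iff A A₂ (T := A₃) (R' := B) (S' := B₂) (T' := B₃)).mp inferInstance
  haveI : Algebra.IsPushout A₂ B₂ A₃ B₃ := Algebra.IsPushout.symm inferInstance
  haveI : Algebra.FiniteType A₂ B₂ :=
    Algebra.FiniteType.equiv inferInstance (Algebra.IsPushout.equiv A A₂ B B₂)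
  haveI : Algebra.FiniteType A₃ B₃ :=
    Algebra.FiniteType.equiv inferInstance (Algebra.IsPushout.equiv A A₃ B B₃)
  obtain ⟨N₃, _, _, _, _, _, _, f₃, hf₃⟩ : ∃ (N₃ : Type u) (_ : AddCommGroup N₃) (_ : Module B₃ N₃) (_ : Module B' N₃)
      (_ : IsScalarTower B' B₃ N₃) (_ : Module A₃ N₃) (_ : IsScalarTower A₃ B₃ N₃) (f₃ : N' →ₗ[B'] N₃),
      IsBaseChange B₃ f₃ := by
    haveI : SMulCommClass B' A₃ B₃ := ⟨fun s a c => by simp only [Algebra.smul_def]; ring⟩
    haveI : IsScalarTower A₃ B₃ (B₃ ⊗[B'] N') := TensorProduct.isScalarTower_left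
    exact ⟨B₃ ⊗[B'] N', inferInstance, inferInstance, inferInstance, inferInstance, inferInstance, inferInstance,
      TensorProduct.mk B' B₃ N' 1, TensorProduct.isBaseChange B' N' B₃⟩
  letI : Module B N₃ := Module.compHom N₃ (algebraMap B B₃)
  haveI : IsScalarTower B B₃ N₃ := IsScalarTower.of_algebraMap_smul fun _ _ => rfl
  haveI : IsScalarTower B B' N₃ := IsScalarTower.of_algebraMap_smul fun b m => by
    show algebraMap B B' b • m = algebraMap B B₃ b • m
    rw [IsScalarTower.algebraMap_apply B B' B₃]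
    exact (algebraMap_smul B₃ _ m).symm
  letI : Module B₂ N₃ := Module.compHom N₃ (algebraMap B₂ B₃)
  haveI : IsScalarTower B₂ B₃ N₃ := IsScalarTower.of_algebraMap_smul fun _ _ => rfl
  haveI : IsScalarTower B B₂ N₃ := IsScalarTower.of_algebraMap_smul fun b m => by
    show algebraMap B₂ B₃ (algebraMap B B₂ b) • m = algebraMap B B₃ b • m
    rw [← IsScalarTower.algebraMap_apply]
  have hcomp : IsBaseChange B₃ ((f₃.restrictScalars B).comp f) := IsBaseChange.comp hf hf₃
  let h₂ : N₂ →ₗ[B₂] N₃ := hbc₂.lift ((f₃.restrictScalars B).comp f)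
  have hh₂ : IsBaseChange B₃ h₂ := IsBaseChange.of_comp hbc₂ (by rw [hbc₂.lift_comp]; exact hcomp)
  obtain ⟨P₃, hP₃, hP₃P, hP₃t, hP₃ass⟩ := exists_weakAss_lift N₂ N₃ h₂ hh₂ t' t₃' P
    ((fiberIdeal_mem_ass_iff_weakAss t' N₂ P).mp hass)
  haveI := hP₃
  haveI := hP₃t
  refine H B₃ N₃ f₃ t₃' P₃ ⟨inferInstance, hf₃, hle₃, inferInstance, inferInstance,
    (fiberIdeal_mem_ass_iff_weakAss t₃' N₃ P₃).mpr hP₃ass, fun P'' hP'' hle'' hover => ?_⟩
  refine hno (P''.comap (algebraMap B₂ B₃)) (hP₃P ▸ Ideal.comap_mono hle'') ⟨?_⟩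
  rw [Ideal.under_def, Ideal.comap_comap, ← IsScalarTower.algebraMap_eq, IsScalarTower.algebraMap_eq A₂ A₃ B₃,
    ← Ideal.comap_comap, ← Ideal.under_def (A := A₃), ← hover.over]
  exact Ideal.LiesOver.over (P := t₃) (p := t)

omit [Algebra.FiniteType A B] in
/-- Some prime of a tensor product lies over two primes over the same prime. -/
theorem exists_prime_tensor {A₂ : Type u} [CommRing A₂] [Algebra A A₂] (t : Ideal A₂) [t.IsPrime] [t.LiesOver p]
    [p'.LiesOver p] : ∃ Q : Ideal (A₂ ⊗[A] A'), Q.IsPrime ∧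
      Q.comap (Algebra.TensorProduct.includeLeftRingHom) = t ∧
      Q.comap (Algebra.TensorProduct.includeRight (R := A) (A := A₂) (B := A')).toRingHom = p' := by
  let σ : p.ResidueField →ₐ[A] t.ResidueField := Ideal.ResidueField.mapₐ p t (Algebra.ofId A A₂) (Ideal.LiesOver.over (P := t) (p := p))
  let τ : p.ResidueField →ₐ[A] p'.ResidueField := Ideal.ResidueField.mapₐ p p' (Algebra.ofId A A') (Ideal.LiesOver.over (P := p') (p := p))
  letI : Algebra p.ResidueField t.ResidueField := σ.toRingHom.toAlgebra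
  letI : Algebra p.ResidueField p'.ResidueField := τ.toRingHom.toAlgebra
  haveI : IsScalarTower A p.ResidueField t.ResidueField := IsScalarTower.of_algebraMap_eq fun a => (σ.commutes a).symm
  haveI : IsScalarTower A p.ResidueField p'.ResidueField := IsScalarTower.of_algebraMap_eq fun a => (τ.commutes a).symm
  obtain ⟨m, hm⟩ := Ideal.exists_maximal (t.ResidueField ⊗[p.ResidueField] p'.ResidueField)
  let L := (t.ResidueField ⊗[p.ResidueField] p'.ResidueField) ⧸ m
  let q : t.ResidueField ⊗[p.ResidueField] p'.ResidueField →ₐ[A] L := (Ideal.Quotient.mkₐ p.ResidueField m).restrictScalars A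
  let l₁ : t.ResidueField →ₐ[A] L := q.comp (Algebra.TensorProduct.includeLeft (R := p.ResidueField) (S := A) (A := t.ResidueField) (B := p'.ResidueField))
  let l₂ : p'.ResidueField →ₐ[A] L := q.comp ((Algebra.TensorProduct.includeRight (R := p.ResidueField) (A := t.ResidueField) (B := p'.ResidueField)).restrictScalars A)
  let φ : A₂ ⊗[A] A' →ₐ[A] L :=
    Algebra.TensorProduct.lift (l₁.comp (IsScalarTower.toAlgHom A A₂ t.ResidueField))
      (l₂.comp (IsScalarTower.toAlgHom A A' p'.ResidueField)) fun _ _ => Commute.all _ _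
  haveI := hm
  refine ⟨RingHom.ker φ, RingHom.ker_isPrime φ, Ideal.ext fun a => ?_, Ideal.ext fun a => ?_⟩
  · show φ (a ⊗ₜ 1) = 0 ↔ a ∈ t
    rw [show φ (a ⊗ₜ 1) = l₁ (algebraMap A₂ t.ResidueField a) by simp [φ], map_eq_zero_iff l₁ l₁.toRingHom.injective,
      Ideal.algebraMap_residueField_eq_zero]
  · show φ (1 ⊗ₜ a) = 0 ↔ a ∈ p'
    rw [show φ (1 ⊗ₜ a) = l₂ (algebraMap A' p'.ResidueField a) by simp [φ], map_eq_zero_iff l₂ l₂.toRingHom.injective,
      Ideal.algebraMap_residueField_eq_zero]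

omit [Algebra.FiniteType A B] in
/-- Flatness of the base change at a prime. -/
theorem flat_localization_pushout {A₂ A₃ : Type u} [CommRing A₂] [Algebra A A₂] [CommRing A₃] [Algebra A A₃]
    [Algebra A₂ A₃] [Algebra A' A₃] [IsScalarTower A A₂ A₃] [IsScalarTower A A' A₃] [Algebra.IsPushout A A' A₂ A₃]
    [Module.Flat A (Localization.AtPrime p')] (t₃ : Ideal A₃) [t₃.IsPrime] [t₃.LiesOver p'] :
    Module.Flat A₂ (Localization.AtPrime t₃) := by
  haveI : Algebra.IsPushout A A₂ A' A₃ := Algebra.IsPushout.symm inferInstance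
  haveI : Module.Flat A (LocalizedModule p'.primeCompl A') := ‹Module.Flat A (Localization.AtPrime p')›
  exact Groth.L20.flat_localizedModule_of_isBaseChange (R := A) (S := A') (R' := A₂) (S' := A₃)
    (Algebra.linearMap A' A₃) Algebra.IsPushout.out p'.primeCompl t₃.primeCompl
    fun a ha h => ha ((Ideal.mem_of_liesOver t₃ p' a).mpr h)

set_option maxHeartbeats 1000000 in
/-- **Descent of universal purity.** -/
theorem isUnivPureAlong_descent (hf : IsBaseChange B' f) [p'.LiesOver p] [Module.Flat A (Localization.AtPrime p')]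
    (h : FlatCA.IsUnivPureAlong A' B' N' p') : FlatCA.IsUnivPureAlong A B N p := by
  intro A₂ B₂ N₂ _ _ _ _ _ _ _ _ _ _ _ _ _ _ f₂ t' t _ _ P _ himp
  haveI : t.LiesOver p := himp.2.2.2.1
  obtain ⟨Q, hQ, hQt, hQp⟩ := exists_prime_tensor (A' := A') p p' t
  letI : Algebra A' (A₂ ⊗[A] A') := Algebra.TensorProduct.rightAlgebra
  haveI : IsScalarTower A A' (A₂ ⊗[A] A') := Algebra.TensorProduct.right_isScalarTower
  haveI := hQ
  haveI : Q.LiesOver t := ⟨hQt.symm⟩
  haveI : Q.LiesOver p' := ⟨hQp.symm⟩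
  haveI : Algebra.IsPushout A A' A₂ (A₂ ⊗[A] A') := Algebra.IsPushout.symm inferInstance
  haveI := flat_localization_pushout (A := A) (A₂ := A₂) p' Q
  exact impurity_lift N N' f p p' hf f₂ t' t P himp (A₂ ⊗[A] A') Q
    fun B₃ N₃ _ _ _ _ _ _ _ _ _ _ _ _ f₃ t₃' _ P₃ _ => h (A₂ ⊗[A] A') B₃ N₃ f₃ t₃' Q P₃

set_option maxHeartbeats 1000000 in
/-- **Descent of purity.** -/
theorem isPureAlong_descent (hf : IsBaseChange B' f) [p'.LiesOver p] [Module.Flat A (Localization.AtPrime p')]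
    (h : FlatCA.IsPureAlong A' B' N' p') : FlatCA.IsPureAlong A B N p := by
  intro A₂ B₂ N₂ _ _ _ _ _ _ _ _ _ _ _ _ _ _ f₂ t' t _ _ P _ hnhd himp
  haveI := hnhd.1
  letI : Algebra A' (A₂ ⊗[A] A') := Algebra.TensorProduct.rightAlgebra
  haveI : IsScalarTower A A' (A₂ ⊗[A] A') := Algebra.TensorProduct.right_isScalarTower
  obtain ⟨Q, hQ, hQt, hQres, -⟩ := exists_point_pushout p p' t hnhd.2
  haveI := hQ
  haveI := hQt
  haveI : Q.LiesOver p' := hQres.1
  haveI : Algebra.IsPushout A A₂ A' (A₂ ⊗[A] A') := inferInstance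
  haveI : Algebra.IsPushout A A' A₂ (A₂ ⊗[A] A') := Algebra.IsPushout.symm inferInstance
  haveI : Algebra.Etale A' (A₂ ⊗[A] A') := etale_pushout
  haveI := flat_localization_pushout (A := A) (A₂ := A₂) p' Q
  exact impurity_lift N N' f p p' hf f₂ t' t P himp (A₂ ⊗[A] A') Q
    fun B₃ N₃ _ _ _ _ _ _ _ _ _ _ _ _ f₃ t₃' _ P₃ _ => h (A₂ ⊗[A] A') B₃ N₃ f₃ t₃' Q P₃ ⟨inferInstance, hQres⟩

end Groth.L20.RG
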