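import Groth.Agent.L20.RG.PureOfProj
import Groth.Agent.L20.RG.PureDescent
import Groth.Agent.L20.RG.FreeNhd
import Groth.Agent.L20.RG.FibreCover
import Groth.Agent.L20.WeakAssFinite

/-!
# Flat and pure modules are universally pure
-/

set_option autoImplicit false
set_option linter.style.haveILetI false
set_option backward.isDefEq.respectTransparency.types false
universe u

open TensorProduct IsLocalRing

noncomputable section

namespace Groth.L20.RG

open Groth.L03.WeakAss Groth.L20.WeakAssFinite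

variable {A B A' B' : Type u} [CommRing A] [CommRing B] [CommRing A'] [CommRing B'] [Algebra A B] [Algebra A A']
  [Algebra B B'] [Algebra A' B'] [Algebra A B'] [IsScalarTower A B B'] [IsScalarTower A A' B']

set_option maxHeartbeats 1000000 in
/-- An associated point of the fibre of a base change lies over an associated point of the fibre. -/
theorem mem_weakAss_fibre_comap [Algebra.FiniteType A B] (N : Type u) [AddCommGroup N] [Module B N] [Module A N]
    [IsScalarTower A B N] [Module.Finite B N] (N' : Type u) [AddCommGroup N'] [Module B' N'] [Module B N']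
    [IsScalarTower B B' N'] [Module A' N'] [IsScalarTower A' B' N'] (f : N →ₗ[B] N') [Algebra.IsPushout A B A' B']
    (hf : IsBaseChange B' f) (t' : Ideal A') [t'.IsPrime] (s : Ideal A) [s.IsPrime] [t'.LiesOver s]
    (P : Ideal B') [P.IsPrime] (hP : P ∈ FlatCA.weakAss B' (N' ⊗[A'] t'.ResidueField)) :
    P.comap (algebraMap B B') ∈ FlatCA.weakAss B (N ⊗[A] s.ResidueField) := by
  classical
  haveI : P.LiesOver t' := liesOver_of_mem_weakAss_fibre t' N' hP
  let P₀ := P.comap (algebraMap B B')
  haveI : P₀.LiesOver s := ⟨by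
    rw [Ideal.under_def, Ideal.comap_comap, ← IsScalarTower.algebraMap_eq, IsScalarTower.algebraMap_eq A A' B',
      ← Ideal.comap_comap, show P.comap (algebraMap A' B') = t' from (Ideal.over_def P t').symm]
    exact Ideal.over_def t' s⟩
  by_contra hne
  -- the fibre of the base change, over the algebra
  letI : Module A N' := Module.compHom N' (algebraMap A A')
  haveI : IsScalarTower A A' N' := IsScalarTower.of_algebraMap_smul fun _ _ => rfl
  haveI : IsScalarTower A B N' := IsScalarTower.of_algebraMap_smul fun a m => by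
    show algebraMap A B a • m = algebraMap A A' a • m
    rw [← algebraMap_smul B' (algebraMap A B a) m, ← algebraMap_smul B' (algebraMap A A' a) m,
      ← IsScalarTower.algebraMap_apply, ← IsScalarTower.algebraMap_apply]
  have hbc : IsBaseChange A' (f.restrictScalars A) :=
    Groth.L20.isBaseChange_restrictScalars (R := A) (S := B) (R' := A') (S' := B') hf
  letI : Algebra s.ResidueField t'.ResidueField :=
    (Ideal.ResidueField.mapₐ s t' (Algebra.ofId A A') (Ideal.LiesOver.over (P := t') (p := s))).toRingHom.toAlgebra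
  haveI : IsScalarTower A s.ResidueField t'.ResidueField :=
    IsScalarTower.of_algebraMap_eq fun a => ((Ideal.ResidueField.mapₐ s t' (Algebra.ofId A A')
      (Ideal.LiesOver.over (P := t') (p := s))).commutes a).symm
  let E : N' ⊗[A'] t'.ResidueField ≃ₗ[A] N ⊗[A] t'.ResidueField :=
    ((((TensorProduct.comm A' N' t'.ResidueField).trans
      (AlgebraTensorModule.congr (LinearEquiv.refl A' t'.ResidueField) hbc.equiv.symm)).trans
      (AlgebraTensorModule.cancelBaseChange A A' A' t'.ResidueField N)).restrictScalars A).trans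
      (TensorProduct.comm A t'.ResidueField N)
  have hE : ∀ n x, E.symm (n ⊗ₜ x) = f n ⊗ₜ[A'] x := fun n x => E.injective (by
    have hfn : hbc.equiv.symm (f n) = 1 ⊗ₜ[A] n := hbc.equiv_symm_apply n
    simp [E, hfn])
  have hEsmul : ∀ (b : B) (w : N ⊗[A] t'.ResidueField), E.symm (b • w) = algebraMap B B' b • E.symm w := fun b w => by
    induction w using TensorProduct.induction_on with
    | zero => simp
    | add c d hc hd => simp only [smul_add, map_add, hc, hd]
    | tmul n x => rw [TensorProduct.smul_tmul', hE, hE, TensorProduct.smul_tmul', map_smul, algebraMap_smul]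
  -- an element of `P₀` acting injectively near `P₀`
  have hfin := finite_weakAss_fibre (S := B) s N
  obtain ⟨b, hb, hbW⟩ : ∃ b ∈ P₀, ∀ Q ∈ FlatCA.weakAss B (N ⊗[A] s.ResidueField), Q ≤ P₀ → b ∉ Q := by
    by_contra! hcov
    let I := hfin.toFinset.filter fun Q => Q ≤ P₀
    have hsub : (P₀ : Set B) ⊆ ⋃ Q ∈ (↑I : Set (Ideal B)), Q := by
      intro c hc
      obtain ⟨Q, hQ, hle, hcQ⟩ := hcov c hc
      simp only [Set.mem_iUnion]
      exact ⟨Q, Finset.mem_coe.2 (Finset.mem_filter.2 ⟨hfin.mem_toFinset.2 hQ, hle⟩), hcQ⟩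
    obtain ⟨Q, hQ, hle⟩ := (Ideal.subset_union_prime (f := id) ⊥ ⊥ (fun Q hQ _ _ =>
      isPrime_of_mem_weakAss (hfin.mem_toFinset.1 (Finset.mem_filter.1 hQ).1))).1 hsub
    refine hne (show P₀ ∈ _ from ?_)
    rw [← show Q = P₀ from le_antisymm (Finset.mem_filter.1 hQ).2 hle]
    exact hfin.mem_toFinset.1 (Finset.mem_filter.1 hQ).1
  have hreg : ∀ y : N ⊗[A] s.ResidueField, b • y = 0 → ∃ u ∉ P₀, u • y = 0 := fun y hy => by
    by_contra! hne'
    have hle : annE B y ≤ P₀ := fun u hu => by
      by_contra hu'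
      exact hne' u hu' (mem_annE.1 hu)
    obtain ⟨Q, hQ, hQP⟩ := Ideal.exists_minimalPrimes_le hle
    exact hbW Q ⟨y, hQ⟩ hQP (hQ.1.2 (mem_annE.2 hy))
  have hregK : ∀ (k : ℕ) (y : N ⊗[A] t'.ResidueField), b ^ k • y = 0 → ∃ u ∉ P₀, u • y = 0 := by
    intro k
    induction k with
    | zero => exact fun y hy => ⟨1, fun h => (inferInstance : P₀.IsPrime).ne_top ((Ideal.eq_top_iff_one P₀).mpr h),
        by simpa using hy⟩
    | succ k ih =>
      intro y hy
      rw [pow_succ, mul_smul] at hy
      obtain ⟨u, hu, huy⟩ := ih _ hy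
      rw [smul_comm] at huy
      let c := Module.Free.chooseBasis s.ResidueField t'.ResidueField
      let e : N ⊗[A] t'.ResidueField ≃ₗ[B] (Module.Free.ChooseBasisIndex s.ResidueField t'.ResidueField →₀ N ⊗[A] s.ResidueField) :=
        (AlgebraTensorModule.congr (LinearEquiv.refl B N) (c.repr.restrictScalars A)).trans
          (TensorProduct.finsuppRight A B N s.ResidueField _)
      choose v hv hvy using fun i => hreg (e (u • y) i) (by
        rw [← Finsupp.smul_apply, ← map_smul, huy, map_zero, Finsupp.zero_apply])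
      refine ⟨(∏ i ∈ (e (u • y)).support, v i) * u, fun h => (Ideal.IsPrime.mem_or_mem inferInstance h).elim (fun h' => ?_) hu,
        e.injective (Finsupp.ext fun i => ?_)⟩
      · obtain ⟨i, -, hi⟩ := (Ideal.IsPrime.prod_mem_iff).mp h'
        exact hv i hi
      · rw [mul_smul, map_smul, map_zero, Finsupp.smul_apply, Finsupp.zero_apply]
        by_cases hi : i ∈ (e (u • y)).support
        · obtain ⟨d, hd⟩ := Finset.dvd_prod_of_mem v hi
          rw [hd, mul_comm, mul_smul, hvy, smul_zero]
        · rw [Finsupp.notMem_support_iff.mp hi, smul_zero]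
  obtain ⟨w, hw1, hw2⟩ := mem_weakAss_iff_exists.1 hP
  obtain ⟨σ, hσ, k, hk⟩ := hw2 (algebraMap B B' b) hb
  obtain ⟨u, hu, huy⟩ := hregK k (E (σ • w)) (E.symm.injective (by
    rw [hEsmul, E.symm_apply_apply, map_zero, map_pow, smul_smul, mul_comm, hk]))
  refine hw1 (algebraMap B B' u * σ) (fun h => (Ideal.IsPrime.mem_or_mem inferInstance h).elim hu hσ) ?_
  rw [mul_smul]
  have := congrArg E.symm huy
  rwa [hEsmul, E.symm_apply_apply, map_zero] at this

set_option maxHeartbeats 1000000 in
/-- **Universal purity from étale charts with projective modules** through the associated points. -/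
theorem isUnivPureAlong_of_charts [Algebra.FiniteType A B] (N : Type u) [AddCommGroup N] [Module B N] [Module A N]
    [IsScalarTower A B N] [Module.Finite B N] (p : Ideal A) [p.IsPrime]
    (H : ∀ (s : Ideal A) [s.IsPrime] (P₀ : Ideal B) [P₀.IsPrime], s ≤ p → P₀ ∈ FlatCA.weakAss B (N ⊗[A] s.ResidueField) →
      ∃ (C : Type u) (_ : CommRing C) (_ : Algebra B C) (_ : Algebra A C) (_ : IsScalarTower A B C)
        (Nc : Type u) (_ : AddCommGroup Nc) (_ : Module C Nc) (_ : Module B Nc) (_ : IsScalarTower B C Nc)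
        (_ : Module A Nc) (_ : IsScalarTower A C Nc) (g : N →ₗ[B] Nc),
        Algebra.Etale B C ∧ IsBaseChange C g ∧ Module.Projective A Nc ∧
        ∃ x : Ideal C, x.IsPrime ∧ x.comap (algebraMap B C) = P₀) :
    FlatCA.IsUnivPureAlong A B N p := by
  intro A' B' N' _ _ _ _ _ _ _ _ _ _ _ _ _ _ f t' t _ _ P _ himp
  obtain ⟨hpush, hbc, hle, hover, hPt', hass, hno⟩ := himp
  haveI := hpush
  haveI := hPt'
  haveI hpush' : Algebra.IsPushout A A' B B' := Algebra.IsPushout.symm hpush
  haveI : Algebra.FiniteType A' B' := Algebra.FiniteType.equiv inferInstance (Algebra.IsPushout.equiv A A' B B')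
  haveI : Module.Finite B' N' :=
    Module.Finite.of_surjective hbc.equiv.toLinearMap hbc.equiv.surjective
  let s := t'.comap (algebraMap A A')
  haveI : t'.LiesOver s := ⟨rfl⟩
  have hsp : s ≤ p := by
    rw [hover.over]
    exact Ideal.comap_mono hle
  have hP : P ∈ FlatCA.weakAss B' (N' ⊗[A'] t'.ResidueField) := (fiberIdeal_mem_ass_iff_weakAss t' N' P).mp hass
  obtain ⟨C, _, _, _, _, Nc, _, _, _, _, _, _, g, hC, hg, hproj, x, hx, hxP⟩ :=
    H s (P.comap (algebraMap B B')) hsp (mem_weakAss_fibre_comap N N' f hbc t' s P hP)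
  haveI := hC
  haveI := hx
  obtain ⟨C', _, _, _, _, _, _, _, _, hpC⟩ : ∃ (C' : Type u) (_ : CommRing C') (_ : Algebra B' C') (_ : Algebra C C')
      (_ : Algebra B C') (_ : IsScalarTower B B' C') (_ : IsScalarTower B C C') (_ : Algebra A' C')
      (_ : IsScalarTower A' B' C'), Algebra.IsPushout B B' C C' := by
    letI : Algebra C (B' ⊗[B] C) := Algebra.TensorProduct.rightAlgebra
    exact ⟨B' ⊗[B] C, inferInstance, inferInstance, inferInstance, inferInstance, inferInstance, inferInstance,
      inferInstance, inferInstance, inferInstance⟩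
  haveI := hpC
  haveI : Algebra.Etale B' C' := Algebra.Etale.of_equiv (Algebra.IsPushout.equiv B B' C C')
  haveI : Algebra.FiniteType A' C' := Algebra.FiniteType.trans (S := B') inferInstance inferInstance
  obtain ⟨P', hP', hP'P, -⟩ := Groth.L20.exists_prime_isPushout (R := B) (S := B') (R' := C) (S' := C') P x hxP.symm
  haveI := hP'
  haveI : P'.LiesOver P := ⟨hP'P.symm⟩
  haveI : P'.LiesOver t' := Ideal.LiesOver.trans P' P t'
  letI : Algebra A C' := ((algebraMap A' C').comp (algebraMap A A')).toAlgebra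
  haveI : IsScalarTower A A' C' := IsScalarTower.of_algebraMap_eq' rfl
  haveI : IsScalarTower A B C' := IsScalarTower.of_algebraMap_eq fun a => by
    rw [IsScalarTower.algebraMap_apply A A' C', IsScalarTower.algebraMap_apply A' B' C',
      ← IsScalarTower.algebraMap_apply A A' B', IsScalarTower.algebraMap_apply A B B',
      ← IsScalarTower.algebraMap_apply B B' C']
  haveI : IsScalarTower A C C' := IsScalarTower.of_algebraMap_eq fun a => by
    rw [IsScalarTower.algebraMap_apply A B C', IsScalarTower.algebraMap_apply B C C',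
      ← IsScalarTower.algebraMap_apply A B C]
  haveI : IsScalarTower A B' C' := IsScalarTower.of_algebraMap_eq fun a => by
    rw [IsScalarTower.algebraMap_apply A A' C', IsScalarTower.algebraMap_apply A' B' C',
      ← IsScalarTower.algebraMap_apply A A' B']
  haveI : Algebra.IsPushout B C B' C' := Algebra.IsPushout.symm hpC
  haveI : Algebra.IsPushout A C A' C' :=
    (Algebra.IsPushout.comp_iff (R := A) (S := B) (T := C) (R' := A') (S' := B') (T' := C')).mpr inferInstance
  -- the module over the chart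
  obtain ⟨N₂, _, _, _, _, _, _, h₂, hh₂⟩ : ∃ (N₂ : Type u) (_ : AddCommGroup N₂) (_ : Module C' N₂) (_ : Module B' N₂)
      (_ : IsScalarTower B' C' N₂) (_ : Module A' N₂) (_ : IsScalarTower A' C' N₂) (h₂ : N' →ₗ[B'] N₂),
      IsBaseChange C' h₂ :=
    ⟨C' ⊗[B'] N', inferInstance, inferInstance, inferInstance, inferInstance, inferInstance, inferInstance,
      TensorProduct.mk B' C' N' 1, TensorProduct.isBaseChange B' N' C'⟩
  haveI : Module.Projective A' N₂ := by
    letI : Module B N₂ := Module.compHom N₂ (algebraMap B C')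
    haveI : IsScalarTower B C' N₂ := IsScalarTower.of_algebraMap_smul fun _ _ => rfl
    haveI : IsScalarTower B B' N₂ := IsScalarTower.of_algebraMap_smul fun b m => by
      rw [← algebraMap_smul C' (algebraMap B B' b) m, ← IsScalarTower.algebraMap_apply, algebraMap_smul]
    letI : Module C N₂ := Module.compHom N₂ (algebraMap C C')
    haveI : IsScalarTower C C' N₂ := IsScalarTower.of_algebraMap_smul fun _ _ => rfl
    haveI : IsScalarTower B C N₂ := IsScalarTower.of_algebraMap_smul fun b m => by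
      rw [← algebraMap_smul C' (algebraMap B C b) m, ← IsScalarTower.algebraMap_apply, algebraMap_smul]
    letI : Module A N₂ := Module.compHom N₂ (algebraMap A C')
    haveI : IsScalarTower A C' N₂ := IsScalarTower.of_algebraMap_smul fun _ _ => rfl
    haveI : IsScalarTower A A' N₂ := IsScalarTower.of_algebraMap_smul fun b m => by
      rw [← algebraMap_smul C' (algebraMap A A' b) m, ← IsScalarTower.algebraMap_apply, algebraMap_smul]
    haveI : IsScalarTower A C N₂ := IsScalarTower.of_algebraMap_smul fun b m => by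
      rw [← algebraMap_smul C' (algebraMap A C b) m, ← IsScalarTower.algebraMap_apply, algebraMap_smul]
    have hcomp : IsBaseChange C' ((h₂.restrictScalars B) ∘ₗ f) := IsBaseChange.comp hbc hh₂
    have hlift : IsBaseChange C' (hg.lift ((h₂.restrictScalars B) ∘ₗ f)) :=
      IsBaseChange.of_comp hg (by rw [hg.lift_comp]; exact hcomp)
    haveI := hproj
    exact Module.Projective.of_equiv
      (Groth.L20.isBaseChange_restrictScalars (R := A) (S := C) (R' := A') (S' := C') hlift).equiv
  have hP'ass : P' ∈ FlatCA.weakAss C' (N₂ ⊗[A'] t'.ResidueField) := by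
    let e : C' ⊗[B'] (N' ⊗[A'] t'.ResidueField) ≃ₗ[C'] N₂ ⊗[A'] t'.ResidueField :=
      (AlgebraTensorModule.assoc A' B' C' C' N' t'.ResidueField).symm.trans
        (AlgebraTensorModule.congr hh₂.equiv (LinearEquiv.refl A' t'.ResidueField))
    rw [← weakAss_congr e]
    exact (mem_weakAss_tensor_iff_of_etale P P').mpr hP
  obtain ⟨P'', hP'', hle'', hP''t⟩ := exists_over_of_projective N₂ t' t hle P' hP'ass
  haveI := hP''
  haveI := hP''t
  refine hno (P''.comap (algebraMap B' C')) (hP'P.symm.le.trans (Ideal.comap_mono hle'')) ⟨?_⟩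
  rw [Ideal.under_def, Ideal.comap_comap, ← IsScalarTower.algebraMap_eq]
  exact hP''t.over

end Groth.L20.RG

namespace Groth.L20.RG

open Groth.L03.WeakAss Groth.L20.WeakAssFinite

set_option maxHeartbeats 1000000 in
/-- An etale chart over a local ring of an etale neighbourhood. -/
theorem exists_free_chart {R S R₁ S₁ R₂ A SA NA : Type u} [CommRing R] [CommRing S] [CommRing R₁] [CommRing S₁]
    [CommRing R₂] [CommRing A] [IsLocalRing A] [CommRing SA] [Algebra R S] [Algebra R R₁] [Algebra S S₁] [Algebra R₁ S₁] [Algebra R S₁]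
    [IsScalarTower R R₁ S₁] [IsScalarTower R S S₁] [Algebra.Etale R R₁] [Algebra.Etale S S₁] [Algebra R R₂]
    [Algebra R₁ R₂] [IsScalarTower R R₁ R₂] [Algebra R₂ A] [Algebra R A] [IsScalarTower R R₂ A]
    [Algebra R SA] [Algebra S SA] [Algebra A SA] [IsScalarTower R S SA] [IsScalarTower R A SA]
    [Algebra.IsPushout R S A SA]
    (N : Type u) [AddCommGroup N] [Module S N] [AddCommGroup NA] [Module SA NA] [Module S NA] [IsScalarTower S SA NA]
    [Module A NA] [IsScalarTower A SA NA] (gA : N →ₗ[S] NA) (hgA : IsBaseChange SA gA)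
    (p : Ideal R) [p.IsPrime] (p₁ : Ideal R₁) [p₁.IsPrime] (p₂ : Ideal R₂) [p₂.IsPrime]
    (hA : TrivRes R p (maximalIdeal A)) (hA₂ : TrivRes R₂ p₂ (maximalIdeal A)) (h12 : TrivRes R₁ p₁ p₂)
    (f : R₁) (hf : IsUnit (algebraMap R₁ R₂ f))
    (H : ∀ (A : Type u) [CommRing A] [IsLocalRing A] [Algebra R₁ A], TrivRes R₁ p₁ (maximalIdeal A) →
        IsUnit (algebraMap R₁ A f) →
        ∀ (C : Type u) [CommRing C] [Algebra A C] [Algebra S₁ C] [Algebra R₁ C] [IsScalarTower R₁ A C]
          [IsScalarTower R₁ S₁ C] [Algebra.IsPushout R₁ A S₁ C] [Algebra S C] [IsScalarTower S S₁ C]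
          (Nc : Type u) [AddCommGroup Nc] [Module C Nc] [Module S Nc] [IsScalarTower S C Nc] [Module A Nc]
          [IsScalarTower A C Nc] (g : N →ₗ[S] Nc),
          IsBaseChange C g → Module.Free A Nc) :
    ∃ (C : Type u) (_ : CommRing C) (_ : Algebra SA C) (_ : Algebra A C) (_ : IsScalarTower A SA C)
      (Nc : Type u) (_ : AddCommGroup Nc) (_ : Module C Nc) (_ : Module SA Nc) (_ : IsScalarTower SA C Nc)
      (_ : Module A Nc) (_ : IsScalarTower A C Nc) (g : NA →ₗ[SA] Nc),
      Algebra.Etale SA C ∧ IsBaseChange C g ∧ Module.Projective A Nc ∧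
      ∀ (Q : Ideal SA) [Q.IsPrime], Q.LiesOver (maximalIdeal A) → ∀ (Qs : Ideal S₁), Qs.IsPrime →
        Qs.comap (algebraMap S S₁) = Q.comap (algebraMap S SA) → Qs.LiesOver p₁ →
        ∃ Q' : Ideal C, Q'.IsPrime ∧ Q'.comap (algebraMap SA C) = Q := by
  letI : Algebra R₁ A := ((algebraMap R₂ A).comp (algebraMap R₁ R₂)).toAlgebra
  haveI : IsScalarTower R₁ R₂ A := IsScalarTower.of_algebraMap_eq' rfl
  haveI : IsScalarTower R R₁ A := IsScalarTower.of_algebraMap_eq fun r => by
    rw [IsScalarTower.algebraMap_apply R R₂ A, IsScalarTower.algebraMap_apply R R₁ R₂,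
      ← IsScalarTower.algebraMap_apply R₁ R₂ A]
  have h1 : TrivRes R₁ p₁ (maximalIdeal A) := h12.trans hA₂
  obtain ⟨C, _, _, _, _, _, _, _, _, _, _, _, hpush, hC, -, hpts⟩ :=
    exists_chart_local (R := R) (S := S) (R' := R₁) (S' := S₁) (A := A) (SA := SA) p p₁ (maximalIdeal A) hA h1
  haveI := hpush
  obtain ⟨Nc, _, _, _, _, _, _, g, hg⟩ : ∃ (Nc : Type u) (_ : AddCommGroup Nc) (_ : Module C Nc) (_ : Module SA Nc)
      (_ : IsScalarTower SA C Nc) (_ : Module A Nc) (_ : IsScalarTower A C Nc) (g : NA →ₗ[SA] Nc), IsBaseChange C g := by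
    haveI : IsScalarTower A C (C ⊗[SA] NA) := TensorProduct.isScalarTower_left
    exact ⟨C ⊗[SA] NA, inferInstance, inferInstance, inferInstance, inferInstance, inferInstance, inferInstance,
      TensorProduct.mk SA C NA 1, TensorProduct.isBaseChange SA NA C⟩
  letI : Module S Nc := Module.compHom Nc (algebraMap S C)
  haveI : IsScalarTower S C Nc := IsScalarTower.of_algebraMap_smul fun _ _ => rfl
  haveI : IsScalarTower S SA Nc := IsScalarTower.of_algebraMap_smul fun b m => by
    rw [← algebraMap_smul C (algebraMap S SA b) m, ← IsScalarTower.algebraMap_apply, algebraMap_smul]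
  haveI : Module.Free A Nc := H A h1 (by
    rw [IsScalarTower.algebraMap_apply R₁ R₂ A]
    exact hf.map _) C Nc ((g.restrictScalars S) ∘ₗ gA) (IsBaseChange.comp hgA hg)
  exact ⟨C, inferInstance, inferInstance, inferInstance, inferInstance, Nc, inferInstance, inferInstance, inferInstance,
    inferInstance, inferInstance, inferInstance, g, hC, hg, inferInstance, hpts⟩

set_option maxHeartbeats 2000000 in
/-- **Flat and pure along a fibre gives universally pure.** -/
theorem isUnivPureAlong_of_flat_of_isPureAlong {R S : Type u} [CommRing R] [CommRing S] [Algebra R S] [Algebra.FiniteType R S]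
    (N : Type u) [AddCommGroup N] [Module S N] [Module R N] [IsScalarTower R S N] [Module.Finite S N]
    (p : Ideal R) [p.IsPrime] (hflat : ∀ (q : Ideal S) [q.IsPrime], q.LiesOver p → FlatCA.FlatAt R q N)
    (hpure : FlatCA.IsPureAlong R S N p) : FlatCA.IsUnivPureAlong R S N p := by
  classical
  let T := {q : PrimeSpectrum S // q.asIdeal.LiesOver p}
  have hloc := fun t : T => haveI := t.2; exists_free_local_ft N p t.1.asIdeal (hflat t.1.asIdeal t.2)
  choose R₁ S₁ cR cS aR aS aRS aRS' tR tS pR hpR f hn het hf _hq hU H using hloc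
  obtain ⟨R₂, _, _, p₂, _, hR₂, k, j, hj, hcov⟩ := exists_fibre_refinement (R := R) (S := S) p T
    (fun t => t.1) (fun q hq => ⟨⟨q, hq⟩, rfl⟩) R₁ S₁ pR f hn hf hU
  haveI := hR₂.1
  haveI := hR₂.2.1
  let A := Localization.AtPrime p₂
  obtain ⟨B₂, _, _, _, _, _, _, hpush₂⟩ : ∃ (B₂ : Type u) (_ : CommRing B₂) (_ : Algebra R₂ B₂) (_ : Algebra S B₂)
      (_ : Algebra R B₂) (_ : IsScalarTower R R₂ B₂) (_ : IsScalarTower R S B₂), Algebra.IsPushout R S R₂ B₂ := by
    letI : Algebra S (R₂ ⊗[R] S) := Algebra.TensorProduct.rightAlgebra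
    exact ⟨R₂ ⊗[R] S, inferInstance, inferInstance, inferInstance, inferInstance, inferInstance, inferInstance,
      Algebra.IsPushout.symm inferInstance⟩
  haveI := hpush₂
  obtain ⟨SA, _, _, _, _, _, _, hpushA⟩ : ∃ (SA : Type u) (_ : CommRing SA) (_ : Algebra A SA) (_ : Algebra B₂ SA)
      (_ : Algebra R₂ SA) (_ : IsScalarTower R₂ A SA) (_ : IsScalarTower R₂ B₂ SA), Algebra.IsPushout R₂ B₂ A SA := by
    letI : Algebra B₂ (A ⊗[R₂] B₂) := Algebra.TensorProduct.rightAlgebra
    exact ⟨A ⊗[R₂] B₂, inferInstance, inferInstance, inferInstance, inferInstance, inferInstance, inferInstance,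
      Algebra.IsPushout.symm inferInstance⟩
  haveI := hpushA
  haveI hlocA : IsLocalization (Algebra.algebraMapSubmonoid B₂ p₂.primeCompl) SA :=
    (Algebra.isLocalization_iff_isPushout p₂.primeCompl A).mpr hpushA
  letI : Algebra S SA := ((algebraMap B₂ SA).comp (algebraMap S B₂)).toAlgebra
  haveI : IsScalarTower S B₂ SA := IsScalarTower.of_algebraMap_eq' rfl
  letI : Algebra R SA := ((algebraMap A SA).comp (algebraMap R A)).toAlgebra
  haveI : IsScalarTower R A SA := IsScalarTower.of_algebraMap_eq' rfl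
  haveI : IsScalarTower R R₂ SA := IsScalarTower.of_algebraMap_eq fun r => by
    rw [IsScalarTower.algebraMap_apply R A SA, IsScalarTower.algebraMap_apply R R₂ A,
      ← IsScalarTower.algebraMap_apply R₂ A SA]
  haveI : IsScalarTower R B₂ SA := IsScalarTower.of_algebraMap_eq fun r => by
    rw [IsScalarTower.algebraMap_apply R R₂ SA, IsScalarTower.algebraMap_apply R₂ B₂ SA,
      ← IsScalarTower.algebraMap_apply R R₂ B₂]
  haveI : IsScalarTower R S SA := IsScalarTower.of_algebraMap_eq fun r => by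
    rw [IsScalarTower.algebraMap_apply R B₂ SA, IsScalarTower.algebraMap_apply R S B₂,
      ← IsScalarTower.algebraMap_apply S B₂ SA]
  haveI : Algebra.IsPushout R A S SA := by
    haveI : Algebra.IsPushout R R₂ S B₂ := Algebra.IsPushout.symm hpush₂
    haveI : Algebra.IsPushout R₂ A B₂ SA := Algebra.IsPushout.symm hpushA
    exact (Algebra.IsPushout.comp_iff (R := R) (S := R₂) (T := A) (R' := S) (S' := B₂) (T' := SA)).mpr inferInstance
  haveI : Algebra.IsPushout R S A SA := Algebra.IsPushout.symm inferInstance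
  obtain ⟨N₂, _, _, _, _, _, _, g₂, hg₂⟩ : ∃ (N₂ : Type u) (_ : AddCommGroup N₂) (_ : Module B₂ N₂) (_ : Module S N₂)
      (_ : IsScalarTower S B₂ N₂) (_ : Module R₂ N₂) (_ : IsScalarTower R₂ B₂ N₂) (g : N →ₗ[S] N₂), IsBaseChange B₂ g := by
    haveI : SMulCommClass S R₂ B₂ := ⟨fun s a c => by simp only [Algebra.smul_def]; ring⟩
    haveI : IsScalarTower R₂ B₂ (B₂ ⊗[S] N) := TensorProduct.isScalarTower_left
    exact ⟨B₂ ⊗[S] N, inferInstance, inferInstance, inferInstance, inferInstance, inferInstance, inferInstance,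
      TensorProduct.mk S B₂ N 1, TensorProduct.isBaseChange S N B₂⟩
  obtain ⟨NA, _, _, _, _, _, _, hA₂', hhA₂⟩ : ∃ (NA : Type u) (_ : AddCommGroup NA) (_ : Module SA NA) (_ : Module B₂ NA)
      (_ : IsScalarTower B₂ SA NA) (_ : Module A NA) (_ : IsScalarTower A SA NA) (g : N₂ →ₗ[B₂] NA), IsBaseChange SA g := by
    haveI : SMulCommClass B₂ A SA := ⟨fun s a c => by simp only [Algebra.smul_def]; ring⟩
    haveI : IsScalarTower A SA (SA ⊗[B₂] N₂) := TensorProduct.isScalarTower_left
    exact ⟨SA ⊗[B₂] N₂, inferInstance, inferInstance, inferInstance, inferInstance, inferInstance, inferInstance,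
      TensorProduct.mk B₂ SA N₂ 1, TensorProduct.isBaseChange B₂ N₂ SA⟩
  letI : Module S NA := Module.compHom NA (algebraMap S SA)
  haveI : IsScalarTower S SA NA := IsScalarTower.of_algebraMap_smul fun _ _ => rfl
  haveI : IsScalarTower S B₂ NA := IsScalarTower.of_algebraMap_smul fun b m => by
    rw [← algebraMap_smul SA (algebraMap S B₂ b) m, ← IsScalarTower.algebraMap_apply, algebraMap_smul]
  let gA : N →ₗ[S] NA := (hA₂'.restrictScalars S) ∘ₗ g₂
  have hgA : IsBaseChange SA gA := IsBaseChange.comp hg₂ hhA₂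
  haveI : Algebra.FiniteType A SA := Algebra.FiniteType.equiv inferInstance (Algebra.IsPushout.equiv R A S SA)
  haveI : Algebra.FiniteType R₂ B₂ := by
    haveI : Algebra.IsPushout R R₂ S B₂ := Algebra.IsPushout.symm hpush₂
    exact Algebra.FiniteType.equiv inferInstance (Algebra.IsPushout.equiv R R₂ S B₂)
  haveI : Module.Finite SA NA := Module.Finite.of_surjective hgA.equiv.toLinearMap hgA.equiv.surjective
  haveI : Module.Finite B₂ N₂ := Module.Finite.of_surjective hg₂.equiv.toLinearMap hg₂.equiv.surjective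
  have hA : TrivRes R p (maximalIdeal A) := (show TrivRes R p p₂ from hR₂.2).trans (trivRes_atPrime p₂)
  haveI : (maximalIdeal A).LiesOver p := hA.1
  haveI : Module.Flat R A := by
    haveI : Module.Flat R R₂ := Algebra.Smooth.flat R R₂
    haveI : Module.Flat R₂ A := IsLocalization.flat A p₂.primeCompl
    exact Module.Flat.trans R R₂ A
  haveI : Module.Flat R (Localization.AtPrime (maximalIdeal A)) := by
    haveI : Module.Flat A (Localization.AtPrime (maximalIdeal A)) := IsLocalization.flat _ (maximalIdeal A).primeCompl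
    exact Module.Flat.trans R A _
  refine isUnivPureAlong_descent (A := R) (B := S) (A' := A) (B' := SA) N NA gA p (maximalIdeal A) hgA ?_
  refine isUnivPureAlong_of_charts (A := A) (B := SA) NA (maximalIdeal A) fun s _ P₀ _ _ hP₀ => ?_
  haveI : P₀.LiesOver s := liesOver_of_mem_weakAss_fibre s NA hP₀
  -- a specialisation over the closed point
  let s₂ := s.comap (algebraMap R₂ A)
  haveI : s.LiesOver s₂ := ⟨rfl⟩
  let P₂ := P₀.comap (algebraMap B₂ SA)
  have hP₂ := mem_weakAss_fibre_comap (A := R₂) (B := B₂) (A' := A) (B' := SA) N₂ NA hA₂' hhA₂ s s₂ P₀ hP₀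
  haveI : P₂.LiesOver s₂ := liesOver_of_mem_weakAss_fibre s₂ N₂ hP₂
  have hs₂ : s₂ ≤ p₂ := by
    intro r hr
    by_contra hr'
    exact (inferInstance : s.IsPrime).ne_top (Ideal.eq_top_of_isUnit_mem s hr
      (IsLocalization.map_units A (⟨r, hr'⟩ : p₂.primeCompl)))
  obtain ⟨Q₂, hQ₂, hPQ, hQ₂p⟩ : ∃ Q₂ : Ideal B₂, Q₂.IsPrime ∧ P₂ ≤ Q₂ ∧ Q₂.LiesOver p₂ := by
    by_contra! hno
    refine hpure R₂ B₂ N₂ g₂ s₂ p₂ P₂ hR₂ ⟨hpush₂, hg₂, hs₂, hR₂.2.1, inferInstance,
      (fiberIdeal_mem_ass_iff_weakAss s₂ N₂ P₂).mpr hP₂, fun P' _ hle hover => hno P' inferInstance hle hover⟩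
  haveI := hQ₂
  haveI := hQ₂p
  obtain ⟨Q, hQ, hQc, hQm⟩ := Groth.L20.exists_prime_isPushout (R := R₂) (S := B₂) (R' := A) (S' := SA) Q₂
    (maximalIdeal A) (by rw [← Ideal.under_def, ← Ideal.under_def, IsLocalization.AtPrime.under_maximalIdeal A p₂]
                         exact hQ₂p.over.symm)
  haveI := hQ
  haveI hQm' : Q.LiesOver (maximalIdeal A) := ⟨hQm.symm⟩
  have hP₀Q : P₀ ≤ Q := by
    rw [← IsLocalization.map_under (Algebra.algebraMapSubmonoid B₂ p₂.primeCompl) SA P₀]
    exact Ideal.map_le_iff_le_comap.mpr (hPQ.trans hQc.ge)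
  -- the chart at that point
  let q₁ : PrimeSpectrum S := ⟨Q.comap (algebraMap S SA), inferInstance⟩
  have hq₁ : q₁.asIdeal.LiesOver p := ⟨by
    rw [Ideal.under_def, Ideal.comap_comap, ← IsScalarTower.algebraMap_eq, IsScalarTower.algebraMap_eq R A SA,
      ← Ideal.comap_comap]
    exact (Ideal.LiesOver.over (P := maximalIdeal A) (p := p)).trans (congrArg _ hQm.symm)⟩
  obtain ⟨i, Qs, hQs, hQsc, hQsp⟩ := hcov q₁ hq₁
  obtain ⟨_, htow, htr, hunit⟩ := hj i
  haveI := htow
  haveI := (hn (j i)).1
  haveI := het (j i)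
  obtain ⟨C, _, _, _, _, Nc, _, _, _, _, _, _, g, hC, hg, hproj, hpts⟩ :=
    exists_free_chart (R₂ := R₂) (A := A) (SA := SA) N gA hgA p (pR (j i)) p₂ hA (trivRes_atPrime p₂) htr (f (j i))
      hunit (H (j i))
  obtain ⟨Q', hQ', hQ'Q⟩ := hpts Q hQm' Qs hQs hQsc hQsp
  haveI := hQ'
  haveI := hC
  haveI : Q'.LiesOver Q := ⟨hQ'Q.symm⟩
  haveI : Module.Flat SA C := Algebra.Smooth.flat SA C
  obtain ⟨x, -, hx, hxP⟩ := Ideal.exists_ideal_le_liesOver_of_le (S := C) (p := P₀) (q := Q) Q' hP₀Q
  exact ⟨C, inferInstance, inferInstance, inferInstance, inferInstance, Nc, inferInstance, inferInstance, inferInstance,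
    inferInstance, inferInstance, inferInstance, g, hC, hg, hproj, x, hx, hxP.over.symm⟩

end Groth.L20.RG
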