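import Groth.Agent.L20.RG.PureDescent
import Groth.Agent.L20.RG.LocalStructure
import Groth.Agent.L20.RG.UnivPureFt
import Groth.Agent.L20.RG.DevBaseChange

/-!
# Witnesses of impurities

An impurity above a prime amounts to an associated point of a fibre together with an equation
`s = ∑ a k * b k` modulo that point, with `s` outside and all `a k` inside the special point.
-/

set_option autoImplicit false
set_option linter.style.haveILetI false
set_option backward.isDefEq.respectTransparency.types false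
universe u

open TensorProduct Groth.L03.WeakAss

noncomputable section

namespace Groth.L20.RG

attribute [local instance] Algebra.TensorProduct.rightAlgebra

variable {A B : Type u} [CommRing A] [CommRing B] [Algebra A B]

scoped instance smulCommClass_model (A₁ : Type u) [CommRing A₁] [Algebra A A₁] :
    SMulCommClass B A₁ (A₁ ⊗[A] B) :=
  ⟨fun b a c => by rw [Algebra.smul_def, Algebra.smul_def, Algebra.smul_def, Algebra.smul_def]; ring⟩

/-- A point of the fibre outside a closed set specializes to a closed point of the fibre outside it. -/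
theorem exists_maximal_fiber {A₁ : Type u} [CommRing A₁] [Algebra A A₁] [Algebra.FiniteType A A₁] (p : Ideal A)
    [p.IsPrime] (t : Ideal A₁) [t.IsPrime] [t.LiesOver p] {s : A₁} (hs : s ∉ t) :
    ∃ m : Ideal A₁, ∃ _ : m.IsPrime, t ≤ m ∧ m.LiesOver p ∧ s ∉ m ∧ (FlatCA.fiberIdeal p m).IsMaximal := by
  let F := p.Fiber A₁
  let ι : A₁ →+* F := (Algebra.TensorProduct.includeRight (R := A) (A := p.ResidueField) (B := A₁)).toRingHom
  haveI : IsJacobsonRing F := isJacobsonRing_of_finiteType (A := p.ResidueField)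
  let x := PrimeSpectrum.preimageHomeomorphFiber A A₁ ⟨p, inferInstance⟩
    ⟨⟨t, inferInstance⟩, PrimeSpectrum.ext (Ideal.over_def t p).symm⟩
  have hx : x.asIdeal.comap ι = t := congrArg PrimeSpectrum.asIdeal (congrArg Subtype.val
    ((PrimeSpectrum.preimageHomeomorphFiber A A₁ ⟨p, inferInstance⟩).symm_apply_apply
      ⟨⟨t, inferInstance⟩, PrimeSpectrum.ext (Ideal.over_def t p).symm⟩))
  have hxs : ι s ∉ x.asIdeal := fun h => hs (hx ▸ h)
  obtain ⟨M, ⟨hxM, hM⟩, hsM⟩ : ∃ M ∈ {J : Ideal F | x.asIdeal ≤ J ∧ J.IsMaximal}, ι s ∉ M := by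
    by_contra! hcon
    exact hxs (by rw [← IsJacobsonRing.out (inferInstance : IsJacobsonRing F) x.isPrime.isRadical]; exact Ideal.mem_sInf.mpr fun {J} hJ => hcon J hJ)
  haveI := hM
  refine ⟨M.comap ι, inferInstance, hx.ge.trans (Ideal.comap_mono hxM), ⟨?_⟩, hsM, ?_⟩
  · exact (liesOver_fibre_point p (⟨M, inferInstance⟩ : PrimeSpectrum F)).over
  · rw [← asIdeal_eq_fiberIdeal p (M.comap ι) ⟨M, inferInstance⟩ rfl]
    exact hM

/-- An associated point of the fibre at `t'` of the base change to `A₁`, containing `s - ∑ a k * b k`. -/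
def Wit (A : Type u) {B : Type u} [CommRing A] [CommRing B] [Algebra A B] (N : Type u) [AddCommGroup N] [Module B N] (A₁ : Type u) [CommRing A₁] [Algebra A A₁] (t' : Ideal A₁)
    [t'.IsPrime] {n : ℕ} (s : A₁) (a : Fin n → A₁) (b : Fin n → B) : Prop :=
  ∃ P : Ideal (A₁ ⊗[A] B), P.IsPrime ∧
    P ∈ FlatCA.weakAss (A₁ ⊗[A] B) (((A₁ ⊗[A] B) ⊗[B] N) ⊗[A₁] t'.ResidueField) ∧
    s ⊗ₜ[A] (1 : B) - ∑ k, a k ⊗ₜ[A] b k ∈ P

variable (N : Type u) [AddCommGroup N] [Module B N] [Module.Finite B N] [Algebra.FiniteType A B]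

set_option maxHeartbeats 1000000 in
/-- Associated points of fibres correspond along any base change. -/
theorem transfer {A₁ A₂ : Type u} [CommRing A₁] [CommRing A₂] [Algebra A A₁] [Algebra A A₂] [Algebra A₁ A₂]
    [IsScalarTower A A₁ A₂] (B₂ N₂ : Type u) [CommRing B₂] [Algebra B B₂] [Algebra A₂ B₂] [Algebra A B₂]
    [IsScalarTower A B B₂] [IsScalarTower A A₂ B₂] [Algebra.IsPushout A B A₂ B₂] [AddCommGroup N₂] [Module B₂ N₂]
    [Module B N₂] [IsScalarTower B B₂ N₂] [Module A₂ N₂] [IsScalarTower A₂ B₂ N₂] (f₂ : N →ₗ[B] N₂)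
    (hf₂ : IsBaseChange B₂ f₂) (t₁ : Ideal A₁) [t₁.IsPrime] (t₂ : Ideal A₂) [t₂.IsPrime] [t₂.LiesOver t₁] :
    ∃ χ : A₁ ⊗[A] B →+* B₂,
      (∀ a b, χ (a ⊗ₜ b) = algebraMap A₂ B₂ (algebraMap A₁ A₂ a) * algebraMap B B₂ b) ∧
      (∀ (P : Ideal B₂) [P.IsPrime], P ∈ FlatCA.weakAss B₂ (N₂ ⊗[A₂] t₂.ResidueField) →
        P.comap χ ∈ FlatCA.weakAss (A₁ ⊗[A] B) (((A₁ ⊗[A] B) ⊗[B] N) ⊗[A₁] t₁.ResidueField)) ∧
      ∀ (P₁ : Ideal (A₁ ⊗[A] B)) [P₁.IsPrime],
        P₁ ∈ FlatCA.weakAss (A₁ ⊗[A] B) (((A₁ ⊗[A] B) ⊗[B] N) ⊗[A₁] t₁.ResidueField) →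
        ∃ P : Ideal B₂, P.IsPrime ∧ P.comap χ = P₁ ∧ P ∈ FlatCA.weakAss B₂ (N₂ ⊗[A₂] t₂.ResidueField) := by
  let B₁ := A₁ ⊗[A] B
  let N₁ := B₁ ⊗[B] N
  let f₁ : N →ₗ[B] N₁ := TensorProduct.mk B B₁ N 1
  have hf₁ : IsBaseChange B₁ f₁ := TensorProduct.isBaseChange B N B₁
  letI : Algebra A₁ B₂ := ((algebraMap A₂ B₂).comp (algebraMap A₁ A₂)).toAlgebra
  haveI : IsScalarTower A₁ A₂ B₂ := IsScalarTower.of_algebraMap_eq' rfl
  haveI : IsScalarTower A A₁ B₂ := IsScalarTower.of_algebraMap_eq fun a => by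
    rw [IsScalarTower.algebraMap_apply A₁ A₂ B₂, ← IsScalarTower.algebraMap_apply A A₁ A₂,
      ← IsScalarTower.algebraMap_apply A A₂ B₂]
  haveI : IsScalarTower A₁ B₁ N₁ := TensorProduct.isScalarTower_left
  let φ : B₁ →ₐ[A₁] B₂ :=
    Algebra.TensorProduct.lift (Algebra.ofId A₁ B₂) (IsScalarTower.toAlgHom A B B₂) fun _ _ => Commute.all _ _
  letI : Algebra B₁ B₂ := φ.toRingHom.toAlgebra
  haveI : IsScalarTower A₁ B₁ B₂ := IsScalarTower.of_algebraMap_eq' φ.comp_algebraMap.symm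
  haveI : IsScalarTower B B₁ B₂ := IsScalarTower.of_algebraMap_eq fun b => by
    show algebraMap B B₂ b = φ ((1 : A₁) ⊗ₜ[A] b)
    rw [Algebra.TensorProduct.lift_tmul, map_one, one_mul]
    rfl
  haveI : IsScalarTower A B₁ B₂ := IsScalarTower.of_algebraMap_eq fun a => by
    rw [IsScalarTower.algebraMap_apply A B B₁, ← IsScalarTower.algebraMap_apply B B₁ B₂, ← IsScalarTower.algebraMap_apply A B B₂]
  haveI : Algebra.IsPushout A A₁ B B₁ := inferInstance
  haveI : Algebra.IsPushout A A₂ B B₂ := Algebra.IsPushout.symm inferInstance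
  haveI : Algebra.IsPushout A₁ A₂ B₁ B₂ :=
    (Algebra.IsPushout.comp_iff A A₁ (T := A₂) (R' := B) (S' := B₁) (T' := B₂)).mp inferInstance
  haveI : Algebra.IsPushout A₁ B₁ A₂ B₂ := Algebra.IsPushout.symm inferInstance
  haveI : Algebra.FiniteType A₁ B₁ := inferInstance
  letI : Module B₁ N₂ := Module.compHom N₂ (algebraMap B₁ B₂)
  haveI : IsScalarTower B₁ B₂ N₂ := IsScalarTower.of_algebraMap_smul fun _ _ => rfl
  haveI : IsScalarTower B B₁ N₂ := IsScalarTower.of_algebraMap_smul fun b m => by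
    show algebraMap B₁ B₂ (algebraMap B B₁ b) • m = b • m
    rw [← IsScalarTower.algebraMap_apply, algebraMap_smul]
  let h : N₁ →ₗ[B₁] N₂ := hf₁.lift f₂
  have hh : IsBaseChange B₂ h := IsBaseChange.of_comp hf₁ (by rw [hf₁.lift_comp]; exact hf₂)
  haveI : Module.Finite B₁ N₁ := Module.Finite.base_change B B₁ N
  refine ⟨φ.toRingHom, fun a b => ?_, fun P _ hP => ?_, fun P₁ _ hP₁ => ?_⟩
  · show φ (a ⊗ₜ b) = _
    rw [Algebra.TensorProduct.lift_tmul]
    rfl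
  · exact mem_weakAss_fibre_comap N₁ N₂ h hh t₂ t₁ P hP
  · haveI := liesOver_of_mem_weakAss_fibre t₁ N₁ hP₁
    obtain ⟨P, hP, hPP₁, -, hass⟩ := exists_weakAss_lift N₁ N₂ h hh t₁ t₂ P₁ hP₁
    exact ⟨P, hP, hPP₁, hass⟩

variable {N}

/-- Witnesses are insensitive to base change. -/
theorem wit_iff {A₁ A₂ : Type u} [CommRing A₁] [CommRing A₂] [Algebra A A₁] [Algebra A A₂] [Algebra A₁ A₂]
    [IsScalarTower A A₁ A₂] (t₁ : Ideal A₁) [t₁.IsPrime] (t₂ : Ideal A₂) [t₂.IsPrime] [t₂.LiesOver t₁] {n : ℕ}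
    (s : A₁) (a : Fin n → A₁) (b : Fin n → B) :
    Wit A N A₂ t₂ (algebraMap A₁ A₂ s) (fun k => algebraMap A₁ A₂ (a k)) b ↔ Wit A N A₁ t₁ s a b := by
  haveI : IsScalarTower A₂ (A₂ ⊗[A] B) ((A₂ ⊗[A] B) ⊗[B] N) := TensorProduct.isScalarTower_left
  haveI : Algebra.IsPushout A B A₂ (A₂ ⊗[A] B) := Algebra.IsPushout.symm inferInstance
  obtain ⟨χ, hχ, hdown, hup⟩ := transfer (A := A) N (A₁ := A₁) (A₂ := A₂) (A₂ ⊗[A] B) ((A₂ ⊗[A] B) ⊗[B] N)
    (TensorProduct.mk B (A₂ ⊗[A] B) N 1) (TensorProduct.isBaseChange B N (A₂ ⊗[A] B)) t₁ t₂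
  have hval : χ (s ⊗ₜ[A] (1 : B) - ∑ k, a k ⊗ₜ[A] b k) =
      algebraMap A₁ A₂ s ⊗ₜ[A] (1 : B) - ∑ k, algebraMap A₁ A₂ (a k) ⊗ₜ[A] b k := by
    simp [hχ, Algebra.TensorProduct.right_algebraMap_apply]
  constructor
  · rintro ⟨P, hP, hass, hmem⟩
    haveI := hP
    refine ⟨P.comap χ, inferInstance, hdown P hass, ?_⟩
    rw [Ideal.mem_comap, hval]
    exact hmem
  · rintro ⟨P₁, hP₁, hass, hmem⟩
    haveI := hP₁
    obtain ⟨P, hP, hPP₁, hass₂⟩ := hup P₁ hass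
    refine ⟨P, hP, hass₂, ?_⟩
    rw [← hval, ← Ideal.mem_comap, hPP₁]
    exact hmem

/-- An associated point whose closure misses the special fibre gives an impurity. -/
theorem hasImpurity_of_weakAss {A₁ : Type u} [CommRing A₁] [Algebra A A₁] (p : Ideal A) [p.IsPrime]
    {Q : ∀ (A' : Type u) [CommRing A'] [Algebra A A'], Ideal A' → Prop} (t' t : Ideal A₁) [t'.IsPrime] [t.IsPrime]
    (hle : t' ≤ t) (hp : t.LiesOver p) (P : Ideal (A₁ ⊗[A] B)) [P.IsPrime]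
    (hass : P ∈ FlatCA.weakAss (A₁ ⊗[A] B) (((A₁ ⊗[A] B) ⊗[B] N) ⊗[A₁] t'.ResidueField))
    (hno : ∀ (P' : Ideal (A₁ ⊗[A] B)) [P'.IsPrime], P ≤ P' → ¬ P'.LiesOver t) (hQ : Q A₁ t) :
    FlatCA.HasImpurity A B N p Q := by
  haveI : IsScalarTower A₁ (A₁ ⊗[A] B) ((A₁ ⊗[A] B) ⊗[B] N) := TensorProduct.isScalarTower_left
  haveI : P.LiesOver t' := liesOver_of_mem_weakAss_fibre t' _ hass
  haveI : Algebra.IsPushout A B A₁ (A₁ ⊗[A] B) := Algebra.IsPushout.symm inferInstance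
  haveI : Module.Finite (A₁ ⊗[A] B) ((A₁ ⊗[A] B) ⊗[B] N) := Module.Finite.base_change B _ N
  exact ⟨A₁, A₁ ⊗[A] B, (A₁ ⊗[A] B) ⊗[B] N, inferInstance, inferInstance, inferInstance, inferInstance,
    inferInstance, inferInstance, inferInstance, inferInstance, inferInstance, inferInstance, inferInstance,
    inferInstance, inferInstance, inferInstance, TensorProduct.mk B (A₁ ⊗[A] B) N 1, t', t, inferInstance,
    inferInstance, P, inferInstance, ⟨inferInstance, TensorProduct.isBaseChange B N _, hle, hp, inferInstance,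
      (fiberIdeal_mem_ass_iff_weakAss t' _ P).mpr hass, hno⟩, hQ⟩

/-- A witness gives an impurity. -/
theorem Wit.hasImpurity {A₁ : Type u} [CommRing A₁] [Algebra A A₁] (p : Ideal A) [p.IsPrime]
    {Q : ∀ (A' : Type u) [CommRing A'] [Algebra A A'], Ideal A' → Prop} {t' : Ideal A₁} [t'.IsPrime] {n : ℕ}
    {s : A₁} {a : Fin n → A₁} {b : Fin n → B} (h : Wit A N A₁ t' s a b) (t : Ideal A₁) [t.IsPrime] (hle : t' ≤ t)
    (hp : t.LiesOver p) (hs : s ∉ t) (ha : ∀ k, a k ∈ t) (hQ : Q A₁ t) : FlatCA.HasImpurity A B N p Q := by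
  obtain ⟨P, hP, hass, hmem⟩ := h
  haveI := hP
  refine hasImpurity_of_weakAss p t' t hle hp P hass (fun P' _ hle' hover => hs ?_) hQ
  haveI := hover
  have hsum : ∑ k, a k ⊗ₜ[A] b k ∈ P' := sum_mem fun k _ => by
    rw [show a k ⊗ₜ[A] b k = (a k ⊗ₜ[A] (1 : B)) * ((1 : A₁) ⊗ₜ[A] b k) by simp]
    exact P'.mul_mem_right _ ((Ideal.mem_of_liesOver P' t (a k)).mp (ha k))
  have := P'.add_mem (hle' hmem) hsum
  rw [sub_add_cancel] at this
  exact (Ideal.mem_of_liesOver P' t s).mpr this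

/-- An impurity gives a witness over the same base. -/
theorem exists_wit_of_isImpurity {p : Ideal A} [p.IsPrime] {A₁ B₁ N₁ : Type u} [CommRing A₁] [CommRing B₁]
    [Algebra A A₁] [Algebra B B₁] [Algebra A₁ B₁] [Algebra A B₁] [IsScalarTower A B B₁] [IsScalarTower A A₁ B₁]
    [AddCommGroup N₁] [Module B₁ N₁] [Module B N₁] [IsScalarTower B B₁ N₁] [Module A₁ N₁] [IsScalarTower A₁ B₁ N₁]
    {f : N →ₗ[B] N₁} {t' t : Ideal A₁} [t'.IsPrime] [t.IsPrime] {P : Ideal B₁} [P.IsPrime]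
    (himp : FlatCA.IsImpurity A B N p A₁ B₁ N₁ f t' t P) :
    ∃ (n : ℕ) (s : A₁) (a : Fin n → A₁) (b : Fin n → B),
      Wit A N A₁ t' s a b ∧ t' ≤ t ∧ t.LiesOver p ∧ s ∉ t ∧ ∀ k, a k ∈ t := by
  obtain ⟨hpush, hf, hle, hp, hPt', hass, hno⟩ := himp
  haveI := hpush
  haveI := hPt'
  haveI : Algebra.IsPushout A A₁ B B₁ := Algebra.IsPushout.symm inferInstance
  haveI : Algebra.FiniteType A₁ B₁ := Algebra.FiniteType.equiv inferInstance (Algebra.IsPushout.equiv A A₁ B B₁)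
  haveI : Module.Finite B₁ N₁ := Module.Finite.equiv hf.equiv
  haveI : t'.LiesOver t' := ⟨rfl⟩
  obtain ⟨χ, hχ, hdown, -⟩ := transfer (A := A) N (A₁ := A₁) (A₂ := A₁) B₁ N₁ f hf t' t'
  let e := Algebra.IsPushout.equiv A A₁ B B₁
  have hχe : χ = e.toAlgHom.toRingHom := RingHom.ext fun x => by
    induction x using TensorProduct.induction_on with
    | zero => simp
    | add x y hx hy => simp only [map_add, hx, hy]
    | tmul a b => simp [hχ, e, Algebra.IsPushout.equiv_tmul]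
  let P₁ := P.comap χ
  let J := P₁ ⊔ t.map (algebraMap A₁ (A₁ ⊗[A] B))
  obtain ⟨s, hst, hsJ⟩ : ∃ s ∉ t, algebraMap A₁ (A₁ ⊗[A] B) s ∈ J := by
    by_contra! hcon
    let M : Submonoid (A₁ ⊗[A] B) := t.primeCompl.map (algebraMap A₁ (A₁ ⊗[A] B))
    have hd : Disjoint (J : Set (A₁ ⊗[A] B)) M := Set.disjoint_right.mpr fun x ⟨s, hs, hx⟩ hxJ =>
      hcon s hs (hx ▸ hxJ)
    obtain ⟨Q', hQ', hJQ, hQM⟩ := Ideal.exists_le_prime_disjoint J M hd
    let P' : Ideal B₁ := Q'.comap e.symm.toAlgHom.toRingHom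
    haveI : P'.IsPrime := Ideal.comap_isPrime _ _
    refine hno P' (fun x hx => hJQ (Ideal.mem_sup_left ?_)) ⟨le_antisymm (fun a ha => ?_) fun a ha => ?_⟩
    · show χ (e.symm x) ∈ P
      rw [hχe]
      show e (e.symm x) ∈ P
      rwa [e.apply_symm_apply]
    · show e.symm (algebraMap A₁ B₁ a) ∈ Q'
      rw [e.symm.commutes]
      exact hJQ (Ideal.mem_sup_right (Ideal.mem_map_of_mem _ ha))
    · by_contra hat
      refine Set.disjoint_left.mp hQM ?_ ⟨a, hat, rfl⟩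
      have : e.symm (algebraMap A₁ B₁ a) ∈ Q' := ha
      rwa [e.symm.commutes] at this
  obtain ⟨π, hπ, y, hy, hsum⟩ := Submodule.mem_sup.mp hsJ
  have key : ∀ y ∈ t.map (algebraMap A₁ (A₁ ⊗[A] B)), ∀ z : A₁ ⊗[A] B,
      ∃ (n : ℕ) (a : Fin n → A₁) (b : Fin n → B), (∀ k, a k ∈ t) ∧ z * y = ∑ k, a k ⊗ₜ[A] b k := by
    intro y hy
    induction hy using Submodule.span_induction with
    | mem y hy =>
      obtain ⟨c, hc, rfl⟩ := hy
      intro z
      induction z using TensorProduct.induction_on with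
      | zero => exact ⟨0, fun k => k.elim0, fun k => k.elim0, fun k => k.elim0, by simp⟩
      | tmul a b =>
        exact ⟨1, fun _ => a * c, fun _ => b, fun _ => t.mul_mem_left _ hc, by simp⟩
      | add z w hz hw =>
        obtain ⟨m, a, b, ha, hab⟩ := hz
        obtain ⟨m', a', b', ha', hab'⟩ := hw
        refine ⟨m + m', Fin.append a a', Fin.append b b', fun k => ?_, by
          rw [add_mul, hab, hab', Fin.sum_univ_add]; simp⟩
        induction k using Fin.addCases <;> simp [ha, ha']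
    | zero => exact fun z => ⟨0, fun k => k.elim0, fun k => k.elim0, fun k => k.elim0, by simp⟩
    | add y w _ _ hy hw =>
      intro z
      obtain ⟨m, a, b, ha, hab⟩ := hy z
      obtain ⟨m', a', b', ha', hab'⟩ := hw z
      refine ⟨m + m', Fin.append a a', Fin.append b b', fun k => ?_, by
        rw [mul_add, hab, hab', Fin.sum_univ_add]; simp⟩
      induction k using Fin.addCases <;> simp [ha, ha']
    | smul r y _ hy => exact fun z => by simpa [smul_eq_mul, mul_assoc] using hy (z * r)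
  obtain ⟨n, a, b, ha, hab⟩ := key y hy 1
  rw [one_mul] at hab
  refine ⟨n, s, a, b, ⟨P₁, inferInstance, hdown P ((fiberIdeal_mem_ass_iff_weakAss t' N₁ P).mp hass), ?_⟩, hle, hp, hst, ha⟩
  rw [show s ⊗ₜ[A] (1 : B) = algebraMap A₁ (A₁ ⊗[A] B) s from rfl, ← hsum, ← hab, add_sub_cancel_right]
  exact hπ

/-- An impurity gives a witness. -/
theorem exists_wit {p : Ideal A} [p.IsPrime] {Q : ∀ (A' : Type u) [CommRing A'] [Algebra A A'], Ideal A' → Prop}
    (h : FlatCA.HasImpurity A B N p Q) :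
    ∃ (A₁ : Type u) (_ : CommRing A₁) (_ : Algebra A A₁) (t' t : Ideal A₁) (_ : t'.IsPrime) (_ : t.IsPrime)
      (n : ℕ) (s : A₁) (a : Fin n → A₁) (b : Fin n → B),
      Wit A N A₁ t' s a b ∧ t' ≤ t ∧ t.LiesOver p ∧ s ∉ t ∧ (∀ k, a k ∈ t) ∧ Q A₁ t := by
  obtain ⟨A₁, B₁, N₁, _, _, _, _, _, _, _, _, _, _, _, _, _, _, f, t', t, _, _, P, _, himp, hQ⟩ := h
  obtain ⟨n, s, a, b, hw, hle, hp, hs, ha⟩ := exists_wit_of_isImpurity himp
  exact ⟨A₁, inferInstance, inferInstance, t', t, inferInstance, inferInstance, n, s, a, b, hw, hle, hp, hs, ha, hQ⟩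

end Groth.L20.RG
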