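import Groth.Agent.L20.RG.Impurity
import Groth.Agent.L20.RG.Nbhd
import Mathlib.RingTheory.Etale.QuasiFinite

/-!
# From quasi-finite impurities to étale impurities
-/

set_option autoImplicit false
set_option linter.style.haveILetI false
set_option backward.isDefEq.respectTransparency.types false
universe u

open TensorProduct Groth.L03.WeakAss

noncomputable section

namespace Groth.L20.RG

attribute [local instance] Algebra.TensorProduct.rightAlgebra

variable {A B : Type u} [CommRing A] [CommRing B] [Algebra A B] [Algebra.FiniteType A B]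
variable {N : Type u} [AddCommGroup N] [Module B N] [Module.Finite B N]

set_option maxHeartbeats 1000000 in
/-- A witness over a finite algebra over `R'` with one point over `p'` descends to `R'`. -/
theorem hasImpurity_of_finite (p : Ideal A) [p.IsPrime] {R' C : Type u} [CommRing R'] [CommRing C] [Algebra A R']
    [Algebra A C] [Algebra R' C] [IsScalarTower A R' C] [Module.Finite R' C]
    {Q : ∀ (A' : Type u) [CommRing A'] [Algebra A A'], Ideal A' → Prop} (p' : Ideal R') [p'.IsPrime]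
    (hp' : p'.LiesOver p) (tC' tC : Ideal C) [tC'.IsPrime] [tC.IsPrime] [tC.LiesOver p'] (htC'le : tC' ≤ tC)
    (huniq : ∀ τ : Ideal C, τ.IsPrime → τ.LiesOver p' → τ = tC) {n : ℕ} {s : C} {a : Fin n → C} {b : Fin n → B}
    (hw : Wit A N C tC' s a b) (hs : s ∉ tC) (ha : ∀ k, a k ∈ tC) (hQ : Q R' p') :
    FlatCA.HasImpurity A B N p Q := by
  obtain ⟨P, hP, hass, hmem⟩ := hw
  haveI := hP
  haveI : IsScalarTower C (C ⊗[A] B) ((C ⊗[A] B) ⊗[B] N) := TensorProduct.isScalarTower_left
  haveI : Algebra.IsPushout A B C (C ⊗[A] B) := Algebra.IsPushout.symm inferInstance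
  obtain ⟨χ, hχ, hdown, -⟩ := transfer (A := A) N (A₁ := R') (A₂ := C) (C ⊗[A] B) ((C ⊗[A] B) ⊗[B] N)
    (TensorProduct.mk B (C ⊗[A] B) N 1) (TensorProduct.isBaseChange B N (C ⊗[A] B)) (tC'.under R') tC'
  have hχ' : ∀ r b, χ (r ⊗ₜ b) = algebraMap R' C r ⊗ₜ[A] b := fun r b => by
    rw [hχ, Algebra.TensorProduct.right_algebraMap_apply, Algebra.TensorProduct.algebraMap_apply,
      Algebra.TensorProduct.tmul_mul_tmul, mul_one, one_mul]
    rfl
  have hint : χ.IsIntegral := fun y => by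
    induction y using TensorProduct.induction_on with
    | zero => exact χ.isIntegralElem_zero
    | add y z hy hz => exact hy.add χ hz
    | tmul c b =>
      obtain ⟨F, hF, hFc⟩ := Algebra.IsIntegral.isIntegral (R := R') c
      have h1 : χ.IsIntegralElem (c ⊗ₜ[A] (1 : B)) := by
        let ι : R' →+* R' ⊗[A] B := Algebra.TensorProduct.includeLeftRingHom
        let ιC : C →+* C ⊗[A] B := Algebra.TensorProduct.includeLeftRingHom
        refine ⟨F.map ι, hF.map _, ?_⟩
        rw [Polynomial.eval₂_map, show χ.comp ι = ιC.comp (algebraMap R' C) from RingHom.ext fun r => hχ' r 1]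
        show Polynomial.eval₂ (ιC.comp (algebraMap R' C)) (ιC c) F = 0
        rw [← Polynomial.hom_eval₂, hFc, map_zero]
      have h2 : χ.IsIntegralElem ((1 : C) ⊗ₜ[A] b) := by
        rw [show (1 : C) ⊗ₜ[A] b = χ ((1 : R') ⊗ₜ[A] b) by rw [hχ', map_one]]
        exact χ.isIntegralElem_map
      have := h1.mul χ h2
      rwa [Algebra.TensorProduct.tmul_mul_tmul, mul_one, one_mul] at this
  haveI : p'.LiesOver p := hp'
  refine hasImpurity_of_weakAss p (tC'.under R') p' ((Ideal.comap_mono htC'le).trans (Ideal.over_def tC p').ge) hp'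
    (P.comap χ) (hdown P hass) (fun Q _ hPQ hover => ?_) hQ
  obtain ⟨Q', hQ', hQP', hQQ⟩ : ∃ Q' ≥ P, Q'.IsPrime ∧ Q'.comap χ = Q := by
    letI := χ.toAlgebra
    haveI : Algebra.IsIntegral (R' ⊗[A] B) (C ⊗[A] B) := ⟨hint⟩
    exact Ideal.exists_ideal_over_prime_of_isIntegral_of_isPrime Q P hPQ
  haveI := hQP'
  let τ := Q'.comap (algebraMap C (C ⊗[A] B))
  haveI : τ.IsPrime := Ideal.comap_isPrime _ _
  have hτ : τ = tC := huniq τ inferInstance ⟨by
    rw [hover.over, Ideal.under_def, Ideal.under_def, ← hQQ, Ideal.comap_comap, Ideal.comap_comap]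
    congr 1
    exact RingHom.ext fun r => hχ' r 1⟩
  have hsum : ∑ k, a k ⊗ₜ[A] b k ∈ Q' := sum_mem fun k _ => by
    rw [show a k ⊗ₜ[A] b k = (a k ⊗ₜ[A] (1 : B)) * ((1 : C) ⊗ₜ[A] b k) by simp]
    exact Q'.mul_mem_right _ (show a k ∈ τ from hτ ▸ ha k)
  have h3 := Q'.add_mem (hQ' hmem) hsum
  rw [sub_add_cancel] at h3
  exact hs (hτ ▸ (show s ∈ τ from h3))

theorem hasImpurity_etale_of_quasiFinite (p : Ideal A) [p.IsPrime] {L A₁ : Type u} [CommRing L] [CommRing A₁]
    [Algebra A L] [Algebra A A₁] [Algebra L A₁] [IsScalarTower A L A₁] (pL : Ideal L) [pL.IsPrime] [pL.LiesOver p]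
    [Algebra.FiniteType L A₁] (t' t : Ideal A₁) [t'.IsPrime] [t.IsPrime] [t.LiesOver pL] [Algebra.QuasiFiniteAt L t]
    (hle : t' ≤ t) {n : ℕ} {s : A₁} {a : Fin n → A₁} {b : Fin n → B} (hw : Wit A N A₁ t' s a b) (hs : s ∉ t)
    (ha : ∀ k, a k ∈ t) :
    FlatCA.HasImpurity A B N p (fun A' _ _ t => ∃ (_ : t.IsPrime) (_ : Algebra L A') (_ : IsScalarTower A L A'),
      FlatCA.IsEtaleNhd L A' pL t) := by
  obtain ⟨R', _, _, hEt, p', _, hp', e, he, T₀, _, hT₀p, hT₀t, heT, hbij, hfin, huniq⟩ :=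
    Algebra.exists_etale_isIdempotentElem_forall_liesOver_eq (R := L) (S := A₁) pL t
  let C := Localization.Away e
  haveI : Module.Finite R' C := hfin
  haveI : Module.Flat A₁ (R' ⊗[L] A₁) :=
    Module.Flat.of_linearEquiv (Algebra.IsPushout.equiv L A₁ R' (R' ⊗[L] A₁)).toLinearEquiv.symm
  haveI : Module.Flat (R' ⊗[L] A₁) C := IsLocalization.flat C (Submonoid.powers e)
  haveI : Module.Flat A₁ C := Module.Flat.trans A₁ (R' ⊗[L] A₁) C
  obtain ⟨tC, htC, htCT⟩ := exists_prime_away T₀ heT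
  haveI := htC
  haveI := htCT
  haveI : T₀.LiesOver t := ⟨hT₀t.symm⟩
  haveI : tC.LiesOver t := Ideal.LiesOver.trans tC T₀ t
  haveI : tC.LiesOver p' := Ideal.LiesOver.trans tC T₀ p'
  obtain ⟨tC', htC'le, htC', htC't⟩ := Ideal.exists_ideal_le_liesOver_of_le (p := t') (q := t) tC hle
  haveI := htC'
  haveI := htC't
  haveI := hp'
  letI : Algebra A R' := ((algebraMap L R').comp (algebraMap A L)).toAlgebra
  haveI : IsScalarTower A L R' := IsScalarTower.of_algebraMap_eq' rfl
  haveI : IsScalarTower A R' C := inferInstance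
  haveI : IsScalarTower A A₁ C := IsScalarTower.of_algebraMap_eq fun x => by
    rw [IsScalarTower.algebraMap_apply A L A₁, ← IsScalarTower.algebraMap_apply L A₁ C,
      IsScalarTower.algebraMap_apply A R' C, IsScalarTower.algebraMap_apply A L R',
      ← IsScalarTower.algebraMap_apply L R' C]
  haveI hp'A : p'.LiesOver p := Ideal.LiesOver.trans p' pL p
  refine hasImpurity_of_finite p p' hp'A tC' tC htC'le (fun τ _ _ => ?_) ((wit_iff t' tC' s a b).mpr hw)
    (fun h => hs ((Ideal.mem_of_liesOver tC t s).mpr h)) (fun k => (Ideal.mem_of_liesOver tC t (a k)).mp (ha k))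
    ⟨inferInstance, inferInstance, inferInstance, hEt, hp', hbij⟩
  have heτ : e ∉ τ.under (R' ⊗[L] A₁) := fun hh =>
    (inferInstance : τ.IsPrime).ne_top (Ideal.eq_top_of_isUnit_mem _ hh (IsLocalization.Away.algebraMap_isUnit e))
  haveI : (τ.under (R' ⊗[L] A₁)).LiesOver p' := ⟨by rw [Ideal.under_under]; exact Ideal.over_def τ p'⟩
  have hT := huniq (τ.under (R' ⊗[L] A₁)) inferInstance inferInstance heτ
  rw [← IsLocalization.map_under (Submonoid.powers e) C τ, hT, ← IsLocalization.map_under (Submonoid.powers e) C tC,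
    ← Ideal.over_def tC T₀]

end Groth.L20.RG
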