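import Groth.Agent.L20.RG.Induction
import Groth.Agent.L20.RG.StepFacts
import Groth.Agent.L20.RG.LocalStructure
import Groth.Agent.L20.RG.DevBaseChange
import Groth.Agent.L03.MiracleQF
import Groth.Agent.L05.SmoothCrit.Projective

/-!
# The dimension conditions of a one-step dévissage from its support at the generic point of the fibre
-/

set_option autoImplicit false
set_option linter.style.haveILetI false
set_option backward.isDefEq.respectTransparency.types false
universe u

open TensorProduct

noncomputable section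

namespace Groth.L20.RG

/-- A generization in the support with quotient of dimension `n` forces local dimension at least `n`. -/
theorem le_localDim_support {k F M : Type u} [Field k] [CommRing F] [Algebra k F] [Algebra.FiniteType k F]
    [AddCommGroup M] [Module F M] [Module.Finite F M] (x : Module.support F M) (x₀ : PrimeSpectrum F)
    (hx₀ : x₀ ∈ Module.support F M) (hle : x₀.asIdeal ≤ x.1.asIdeal) {n : ℕ}
    (hn : ringKrullDim (F ⧸ x₀.asIdeal) = n) :
    (n : WithBot ℕ∞) ≤ FlatMor.localDim (Module.support F M) x := by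
  let J := Module.annihilator F M
  let c := PrimeSpectrum.comap (Ideal.Quotient.mk J)
  have hrange : Set.range c = Module.support F M := by
    rw [range_comap_of_surjective _ _ Ideal.Quotient.mk_surjective, Ideal.mk_ker, Module.support_eq_zeroLocus]
  let e := (PrimeSpectrum.isClosedEmbedding_comap_of_surjective _ (Ideal.Quotient.mk J)
    Ideal.Quotient.mk_surjective).isEmbedding.toHomeomorph.trans (Homeomorph.setCongr hrange)
  obtain ⟨a, rfl⟩ := e.surjective x
  obtain ⟨a₀, ha₀⟩ : x₀ ∈ Set.range c := hrange.symm ▸ hx₀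
  rw [Groth.L03.FibreLocalDim.localDim_homeomorph e a]
  have hle' : a₀.asIdeal ≤ a.asIdeal := fun z hz => by
    obtain ⟨z, rfl⟩ := Ideal.Quotient.mk_surjective z
    exact hle (by rw [← ha₀]; exact hz)
  refine le_trans ?_ (Groth.L05.SmoothCrit.localDim_mono (k := k) hle')
  obtain ⟨b, c', hb, -, hd⟩ := Groth.L03.MiracleQF.exists_localDim_eq k (F ⧸ J) a₀.asIdeal
  refine le_of_le_of_eq ?_ hd.symm
  have hq : ringKrullDim ((F ⧸ J) ⧸ a₀.asIdeal) = n := by
    rw [← hn]
    refine ringKrullDim_eq_of_ringEquiv ((Ideal.quotEquivOfEq ?_).trans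
      (DoubleQuot.quotQuotEquivQuotOfLE (I := J) (J := x₀.asIdeal) ?_))
    · rw [← ha₀]; exact (Ideal.map_comap_of_surjective _ Ideal.Quotient.mk_surjective _).symm
    · exact Module.annihilator_le_of_mem_support hx₀
  have hbn : b = n := by exact_mod_cast hb.symm.trans hq
  rw [hbn]
  exact_mod_cast Nat.le_add_right n c'

theorem ringKrullDim_quotient_eq_of_isIntegral {A B : Type u} [CommRing A] [CommRing B] (ψ : A →+* B)
    (hψ : ψ.IsIntegral) (w : Ideal B) (hw : w.comap ψ = ⊥) : ringKrullDim (B ⧸ w) = ringKrullDim A := by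
  letI := ((Ideal.Quotient.mk w).comp ψ).toAlgebra
  haveI : Algebra.IsIntegral A (B ⧸ w) := ⟨fun x => by
    obtain ⟨x, rfl⟩ := Ideal.Quotient.mk_surjective x
    obtain ⟨P, hP, hPx⟩ := hψ x
    exact ⟨P, hP, by
      show Polynomial.eval₂ ((Ideal.Quotient.mk w).comp ψ) _ P = 0
      rw [← Polynomial.hom_eval₂, hPx, map_zero]⟩⟩
  refine Groth.L22.AffineDim.ringKrullDim_eq_of_isIntegral ?_
  rw [RingHom.algebraMap_toAlgebra, RingHom.injective_iff_ker_eq_bot, ← RingHom.comap_ker, Ideal.mk_ker, hw]

attribute [local instance] Algebra.TensorProduct.rightAlgebra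

theorem isEmbedding_comap_fibre_point {R S : Type u} [CommRing R] [CommRing S] [Algebra R S] (p : Ideal R) [p.IsPrime] :
    Topology.IsEmbedding (PrimeSpectrum.comap (algebraMap S (p.Fiber S))) :=
  Topology.IsEmbedding.subtypeVal.comp (PrimeSpectrum.preimageHomeomorphFiber R S ⟨p, inferInstance⟩).symm.isEmbedding

theorem range_comap_fibre_point {R S : Type u} [CommRing R] [CommRing S] [Algebra R S] (p : Ideal R) [p.IsPrime]
    (x : PrimeSpectrum S) (hx : x.asIdeal.LiesOver p) : ∃ y, PrimeSpectrum.comap (algebraMap S (p.Fiber S)) y = x := by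
  let e := PrimeSpectrum.preimageHomeomorphFiber R S ⟨p, inferInstance⟩
  let x' : PrimeSpectrum.comap (algebraMap R S) ⁻¹' {(⟨p, inferInstance⟩ : PrimeSpectrum R)} :=
    ⟨x, PrimeSpectrum.ext hx.over.symm⟩
  exact ⟨e x', congrArg Subtype.val (e.symm_apply_apply x')⟩

/-- Fibres of integral maps are integral. -/
theorem isIntegral_fibre_map {R D C : Type u} [CommRing R] [CommRing D] [CommRing C] [Algebra R D] [Algebra R C]
    [Algebra D C] [IsScalarTower R D C] [Algebra.IsIntegral D C] (p : Ideal R) [p.IsPrime] :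
    (Algebra.TensorProduct.map (AlgHom.id p.ResidueField p.ResidueField)
      (IsScalarTower.toAlgHom R D C)).toRingHom.IsIntegral := by
  set φ := Algebra.TensorProduct.map (AlgHom.id p.ResidueField p.ResidueField) (IsScalarTower.toAlgHom R D C)
  intro y
  induction y using TensorProduct.induction_on with
  | zero => exact φ.toRingHom.isIntegralElem_zero
  | add y z hy hz => exact hy.add φ.toRingHom hz
  | tmul a c =>
    have h1 : φ.toRingHom.IsIntegralElem (a ⊗ₜ[R] (1 : C) : p.Fiber C) := by
      have : φ.toRingHom (a ⊗ₜ[R] (1 : D) : p.Fiber D) = (a ⊗ₜ[R] (1 : C) : p.Fiber C) := by simp [φ]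
      rw [← this]
      exact φ.toRingHom.isIntegralElem_map
    have h2 : φ.toRingHom.IsIntegralElem ((1 : p.ResidueField) ⊗ₜ[R] c : p.Fiber C) := by
      obtain ⟨P, hP, hPc⟩ := Algebra.IsIntegral.isIntegral (R := D) c
      let ι : D →+* p.Fiber D := (Algebra.TensorProduct.includeRight : D →ₐ[R] p.Fiber D).toRingHom
      let ιC : C →+* p.Fiber C := (Algebra.TensorProduct.includeRight : C →ₐ[R] p.Fiber C).toRingHom
      refine ⟨P.map ι, hP.map _, ?_⟩
      have hc : φ.toRingHom.comp ι = ιC.comp (algebraMap D C) := RingHom.ext fun s => by simp [φ, ι, ιC]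
      rw [Polynomial.eval₂_map, hc]
      show Polynomial.eval₂ (ιC.comp (algebraMap D C)) (ιC c) P = 0
      rw [← Polynomial.hom_eval₂, hPc, map_zero]
    have := h1.mul φ.toRingHom h2
    rwa [Algebra.TensorProduct.tmul_mul_tmul, mul_one, one_mul] at this

/-- **The dimension conditions of a one-step dévissage.** -/
theorem oneStep_dim {R S C D N G : Type u} [CommRing R] [CommRing S] [CommRing C] [CommRing D] [Algebra R S]
    [Algebra.FiniteType R S] [Algebra S C] [Algebra R C] [IsScalarTower R S C] [Algebra R D] [Algebra D C]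
    [IsScalarTower R D C] [AddCommGroup N] [Module S N] [Module.Finite S N] [AddCommGroup G] [Module C G] [Module S G]
    [IsScalarTower S C G] [Module D G] [IsScalarTower D C G] [Module.Finite D C] [Module.Finite C G]
    (e : N ≃ₗ[S] G) (hsurj : Function.Surjective (algebraMap S C)) {n : ℕ} (hn : FlatCA.SmoothRelDim n R D)
    (hdom : DomFib R D) (p : Ideal R) [p.IsPrime] [(p.map (algebraMap R D)).IsPrime]
    (hgen : (⟨p.map (algebraMap R D), inferInstance⟩ : PrimeSpectrum D) ∈ Module.support D G)
    (q : Ideal S) [q.IsPrime] [q.LiesOver p] (z : Ideal C) [z.IsPrime] (y : Ideal D) [y.IsPrime] [z.LiesOver q]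
    [z.LiesOver y] [y.LiesOver p] (huniq : ∀ (z₁ : Ideal C) [z₁.IsPrime], z₁.LiesOver y → z₁ = z) :
    Module.supportDim (p.Fiber S) (FlatCA.fiberMod p S N) = n ∧
      ∃ (ξ : PrimeSpectrum (p.Fiber S)) (hξ : ξ ∈ Module.support (p.Fiber S) (FlatCA.fiberMod p S N)),
        ξ.asIdeal = FlatCA.fiberIdeal p q ∧
        FlatMor.localDim (Module.support (p.Fiber S) (FlatCA.fiberMod p S N)) ⟨ξ, hξ⟩ = n := by
  haveI := smooth_of_relDim hn
  letI : Module R G := Module.compHom G (algebraMap R C)
  haveI : IsScalarTower R C G := IsScalarTower.of_algebraMap_smul fun _ _ => rfl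
  haveI : IsScalarTower R S G := IsScalarTower.of_algebraMap_smul fun r g => by
    rw [← algebraMap_smul C (algebraMap R S r) g, ← IsScalarTower.algebraMap_apply]
    rfl
  haveI : IsScalarTower R D G := IsScalarTower.of_algebraMap_smul fun r g => by
    rw [← algebraMap_smul C (algebraMap R D r) g, ← IsScalarTower.algebraMap_apply]
    rfl
  letI : Module R N := Module.compHom N (algebraMap R S)
  haveI : IsScalarTower R S N := IsScalarTower.of_algebraMap_smul fun _ _ => rfl
  haveI : Module.Finite S C := Module.Finite.of_surjective (Algebra.linearMap S C) hsurj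
  haveI : Module.Finite S G := Module.Finite.trans C G
  haveI : Module.Finite D G := Module.Finite.trans C G
  haveI hFdom : IsDomain (p.Fiber D) := hdom p.ResidueField
  let eN : FlatCA.fiberMod p S N ≃ₗ[p.Fiber S] FlatCA.fiberMod p S G :=
    TensorProduct.AlgebraTensorModule.congr (LinearEquiv.refl (p.Fiber S) (p.Fiber S)) e
  have hD : Module.supportDim (p.Fiber S) (FlatCA.fiberMod p S N) =
      Module.supportDim (p.Fiber D) (FlatCA.fiberMod p D G) := by
    rw [Module.supportDim_eq_of_equiv eN, supportDim_fiberMod (S := S) (C := C) p G,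
      ← supportDim_fiberMod (S := D) (C := C) p G]
  have hle : Module.supportDim (p.Fiber S) (FlatCA.fiberMod p S N) ≤ n :=
    hD.le.trans ((Module.supportDim_le_ringKrullDim _ _).trans (ringKrullDim_fiber hn p).le)
  -- a point of the support over the generic point of the fibre, below `z`
  have hann : (Module.annihilator C G).comap (algebraMap D C) ≤ p.map (algebraMap R D) := by
    intro d hd
    have h1 := Module.mem_support_iff_of_finite.mp hgen
    refine h1 (Module.mem_annihilator.mpr fun g => ?_)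
    rw [← algebraMap_smul C d g]
    exact Module.mem_annihilator.mp hd g
  obtain ⟨z₀, hz₀ann, hz₀P, hz₀⟩ :=
    Ideal.exists_ideal_over_prime_of_isIntegral (p.map (algebraMap R D)) (Module.annihilator C G) hann
  haveI := hz₀P
  have hξy : p.map (algebraMap R D) ≤ y := Ideal.map_le_iff_le_comap.mpr (Ideal.over_def y p).le
  obtain ⟨z₁, hz₁, hz₁P, hz₁y⟩ :=
    Ideal.exists_ideal_over_prime_of_isIntegral_of_isPrime y z₀ (hz₀.le.trans hξy)
  haveI := hz₁P
  have hz₀z : z₀ ≤ z := (huniq z₁ ⟨hz₁y.symm⟩) ▸ hz₁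
  haveI : (p.map (algebraMap R D)).LiesOver p := liesOver_map p hdom
  haveI : z₀.LiesOver (p.map (algebraMap R D)) := ⟨hz₀.symm⟩
  haveI : z₀.LiesOver p := Ideal.LiesOver.trans z₀ (p.map (algebraMap R D)) p
  -- the two points of the fibre
  let ιS := PrimeSpectrum.comap (algebraMap S (p.Fiber S))
  let χ : p.Fiber S →ₐ[R] p.Fiber C :=
    Algebra.TensorProduct.map (AlgHom.id R p.ResidueField) (IsScalarTower.toAlgHom R S C)
  have hχ : Function.Surjective χ := TensorProduct.map_surjective (fun a => ⟨a, rfl⟩) hsurj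
  obtain ⟨w, hw⟩ := range_comap_fibre_point p (⟨z₀, inferInstance⟩ : PrimeSpectrum C) inferInstance
  let x₀ : PrimeSpectrum (p.Fiber S) := PrimeSpectrum.comap χ.toRingHom w
  have hx₀S : x₀.asIdeal.comap (algebraMap S (p.Fiber S)) = z₀.comap (algebraMap S C) := by
    have hc : χ.toRingHom.comp (algebraMap S (p.Fiber S)) = (algebraMap C (p.Fiber C)).comp (algebraMap S C) :=
      RingHom.ext fun s => by
        show χ ((1 : p.ResidueField) ⊗ₜ[R] s) = (1 : p.ResidueField) ⊗ₜ[R] algebraMap S C s
        simp [χ]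
    show (w.asIdeal.comap χ.toRingHom).comap _ = _
    rw [Ideal.comap_comap, hc, ← Ideal.comap_comap]
    exact congrArg (Ideal.comap (algebraMap S C)) (congrArg PrimeSpectrum.asIdeal hw)
  have hx₀supp : x₀ ∈ Module.support (p.Fiber S) (FlatCA.fiberMod p S N) := by
    refine (Groth.L20.FibreSupport.mem_support_baseChange S (p.Fiber S) N x₀).mpr ?_
    rw [Module.mem_support_iff_of_finite]
    show _ ≤ x₀.asIdeal.comap _
    rw [hx₀S, e.annihilator_eq]
    intro s hs
    refine hz₀ann (Module.mem_annihilator.mpr fun g => ?_)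
    rw [algebraMap_smul]
    exact Module.mem_annihilator.mp hs g
  obtain ⟨ξ, hξ⟩ := range_comap_fibre_point p (⟨q, inferInstance⟩ : PrimeSpectrum S) inferInstance
  have hξq : ξ.asIdeal = FlatCA.fiberIdeal p q := asIdeal_eq_fiberIdeal p q ξ (congrArg PrimeSpectrum.asIdeal hξ)
  have hx₀ξ : x₀.asIdeal ≤ ξ.asIdeal := by
    rw [hξq, asIdeal_eq_fiberIdeal p (z₀.comap (algebraMap S C)) x₀ hx₀S]
    refine Ideal.map_mono (le_trans (Ideal.comap_mono hz₀z) ?_)
    exact (Ideal.over_def z q).ge
  have hξsupp : ξ ∈ Module.support (p.Fiber S) (FlatCA.fiberMod p S N) := Module.mem_support_mono hx₀ξ hx₀supp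
  -- the quotient at the generization has full dimension
  have hdimx : ringKrullDim (p.Fiber S ⧸ x₀.asIdeal) = n := by
    have h1 : ringKrullDim (p.Fiber S ⧸ x₀.asIdeal) = ringKrullDim (p.Fiber C ⧸ w.asIdeal) := by
      have hs : Function.Surjective ((Ideal.Quotient.mk w.asIdeal).comp χ.toRingHom) :=
        Ideal.Quotient.mk_surjective.comp hχ
      refine ringKrullDim_eq_of_ringEquiv ((Ideal.quotEquivOfEq ?_).trans (RingHom.quotientKerEquivOfSurjective hs))
      rw [← RingHom.comap_ker, Ideal.mk_ker]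
      rfl
    let ψ : p.Fiber D →ₐ[p.ResidueField] p.Fiber C :=
      Algebra.TensorProduct.map (AlgHom.id p.ResidueField p.ResidueField) (IsScalarTower.toAlgHom R D C)
    have hint : ψ.toRingHom.IsIntegral := isIntegral_fibre_map p
    have hθi : w.asIdeal.comap ψ.toRingHom = ⊥ := by
      let b : PrimeSpectrum (p.Fiber D) := ⟨⊥, Ideal.isPrime_bot⟩
      let b' : PrimeSpectrum (p.Fiber D) := PrimeSpectrum.comap ψ.toRingHom w
      suffices hbb : b' = b from congrArg PrimeSpectrum.asIdeal hbb
      apply (isEmbedding_comap_fibre_point (R := R) (S := D) p).injective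
      refine PrimeSpectrum.ext ?_
      show (w.asIdeal.comap ψ.toRingHom).comap (algebraMap D (p.Fiber D)) =
        Ideal.comap (algebraMap D (p.Fiber D)) ⊥
      have hc : ψ.toRingHom.comp (algebraMap D (p.Fiber D)) = (algebraMap C (p.Fiber C)).comp (algebraMap D C) :=
        RingHom.ext fun s => by
          show ψ ((1 : p.ResidueField) ⊗ₜ[R] s) = (1 : p.ResidueField) ⊗ₜ[R] algebraMap D C s
          simp [ψ]
      rw [Ideal.comap_comap, hc, ← Ideal.comap_comap,
        show w.asIdeal.comap (algebraMap C (p.Fiber C)) = z₀ from congrArg PrimeSpectrum.asIdeal hw, hz₀]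
      refine Ideal.ext fun d => ?_
      haveI := flat_of_smooth_relDim hn
      rw [Ideal.mem_comap, Ideal.mem_bot]
      exact (one_tmul_eq_zero_iff p d).symm
    rw [h1, ringKrullDim_quotient_eq_of_isIntegral ψ.toRingHom hint w.asIdeal hθi]
    exact ringKrullDim_fiber hn p
  have hge := le_localDim_support (k := p.ResidueField) ⟨ξ, hξsupp⟩ x₀ hx₀supp hx₀ξ hdimx
  have hle' := (localDim_support_le (p := p) (N := N) ⟨ξ, hξsupp⟩).1
  exact ⟨le_antisymm hle (hge.trans hle'), ξ, hξsupp, hξq, le_antisymm (hle'.trans hle) hge⟩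

end Groth.L20.RG
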