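import Groth.Agent.L20.RG.Impurity
import Mathlib.RingTheory.Etale.QuasiFinite
import Groth.Agent.L20.RG.OneStepDim

/-!
# Purity for modules with finite fibre supports
-/

set_option autoImplicit false
set_option linter.style.haveILetI false
set_option backward.isDefEq.respectTransparency.types false
universe u

open TensorProduct Groth.L03.WeakAss

noncomputable section

namespace Groth.L20.RG

attribute [local instance] Algebra.TensorProduct.rightAlgebra

/-- A quasi-finite algebra is finite as soon as it is closed in a finite algebra given by Zariski's main theorem. -/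
theorem exists_finite_model {A W : Type u} [CommRing A] [CommRing W] [Algebra A W] [Algebra.FiniteType A W]
    [Algebra.QuasiFinite A W] :
    ∃ (C : Type u) (_ : CommRing C) (_ : Algebra A C) (_ : Algebra C W) (_ : IsScalarTower A C W),
      Module.Finite A C ∧ Function.Injective (algebraMap C W) ∧ ∃ R : Finset C,
      Ideal.span ((fun r : C => algebraMap C W r) '' (R : Set C)) = ⊤ ∧
      (Ideal.span (R : Set C) = ⊤ → Module.Finite A W) := by
  classical
  have hz : ∀ w : PrimeSpectrum W, ∃ r, r ∉ w.asIdeal ∧ IsIntegral A r ∧ ∀ x, ∃ m, IsIntegral A (r ^ m * x) :=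
    fun w => Algebra.zariskisMainProperty_iff.mp (.of_finiteType w.asIdeal)
  choose r hrw hr hrx using hz
  have hcov : Ideal.span (Set.range r) = ⊤ := by
    by_contra hne
    obtain ⟨M, hM, hle⟩ := Ideal.exists_le_maximal _ hne
    exact hrw ⟨M, hM.isPrime⟩ (hle (Ideal.subset_span ⟨⟨M, hM.isPrime⟩, rfl⟩))
  obtain ⟨T, hT, hT1⟩ := Submodule.mem_span_finite_of_mem_span (show (1 : W) ∈ Ideal.span (Set.range r) by simp [hcov])
  have hTr : ∀ t ∈ T, IsIntegral A t ∧ ∀ x, ∃ m, IsIntegral A (t ^ m * x) := fun t ht => by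
    obtain ⟨w, rfl⟩ := hT ht
    exact ⟨hr w, hrx w⟩
  obtain ⟨G, hG⟩ := Algebra.FiniteType.out (R := A) (A := W)
  choose! m hm using fun t (ht : t ∈ T) => (hTr t ht).2
  let gens : Finset W := T ∪ (T ×ˢ G).image fun tx => tx.1 ^ m tx.1 tx.2 * tx.2
  let C := Algebra.adjoin A (gens : Set W)
  have hint : ∀ x ∈ (gens : Set W), IsIntegral A x := fun x hx => by
    rcases Finset.mem_union.mp hx with h | h
    · exact (hTr x h).1
    · obtain ⟨⟨t, y⟩, hty, rfl⟩ := Finset.mem_image.mp h
      exact hm t (Finset.mem_product.mp hty).1 y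
  haveI hfin : Module.Finite A C :=
    Module.Finite.iff_fg.mpr (fg_adjoin_of_finite gens.finite_toSet hint)
  have hTC : ∀ t ∈ T, t ∈ C := fun t ht => Algebra.subset_adjoin (Finset.mem_union_left _ ht)
  let R : Finset C := T.attach.image fun t => ⟨t.1, hTC t.1 t.2⟩
  have himg : (fun r : C => (r : W)) '' (R : Set C) = (T : Set W) := by
    ext x
    simp only [R, Finset.coe_image, Set.mem_image, Finset.mem_coe, Finset.mem_attach, true_and]
    exact ⟨fun ⟨r, ⟨t, ht⟩, hr⟩ => hr ▸ ht ▸ t.2, fun h => ⟨⟨x, hTC x h⟩, ⟨⟨x, h⟩, rfl⟩, rfl⟩⟩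
  refine ⟨C, inferInstance, inferInstance, inferInstance, inferInstance, hfin, Subtype.val_injective, R, ?_, fun h => ?_⟩
  · show Ideal.span ((fun r : C => (r : W)) '' (R : Set C)) = ⊤
    rw [himg, Ideal.eq_top_iff_one]
    exact hT1
  have key : ∀ t ∈ T, ∀ x : W, ∃ k, t ^ k * x ∈ C := fun t ht x => by
    have hx : x ∈ Algebra.adjoin A (G : Set W) := hG ▸ Algebra.mem_top
    induction hx using Algebra.adjoin_induction with
    | mem y hy =>
      exact ⟨m t y, Algebra.subset_adjoin (Finset.mem_union_right _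
        (Finset.mem_image.mpr ⟨(t, y), Finset.mem_product.mpr ⟨ht, hy⟩, rfl⟩))⟩
    | algebraMap a => exact ⟨0, by simp [C.algebraMap_mem]⟩
    | add y z _ _ hy hz =>
      obtain ⟨k, hk⟩ := hy
      obtain ⟨l, hl⟩ := hz
      exact ⟨k + l, by
        rw [show t ^ (k + l) * (y + z) = t ^ l * (t ^ k * y) + t ^ k * (t ^ l * z) by ring]
        exact C.add_mem (C.mul_mem (C.pow_mem (hTC t ht) _) hk) (C.mul_mem (C.pow_mem (hTC t ht) _) hl)⟩
    | mul y z _ _ hy hz =>
      obtain ⟨k, hk⟩ := hy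
      obtain ⟨l, hl⟩ := hz
      exact ⟨k + l, by
        rw [show t ^ (k + l) * (y * z) = (t ^ k * y) * (t ^ l * z) by ring]
        exact C.mul_mem hk hl⟩
  refine Module.Finite.of_surjective C.val.toLinearMap fun x => ⟨⟨x, ?_⟩, rfl⟩
  let I : Ideal C :=
    { carrier := {c | (c : W) * x ∈ C}
      add_mem' := fun {a b} ha hb => by
        show ((a + b : C) : W) * x ∈ C
        rw [Subalgebra.coe_add, add_mul]; exact C.add_mem ha hb
      zero_mem' := by show ((0 : C) : W) * x ∈ C; simp [C.zero_mem]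
      smul_mem' := fun a b hb => by
        show ((a * b : C) : W) * x ∈ C
        rw [Subalgebra.coe_mul, mul_assoc]; exact C.mul_mem a.2 hb }
  have h1 : I.radical = ⊤ := top_le_iff.mp (h ▸ Ideal.span_le.mpr fun c hc => by
    obtain ⟨t, -, rfl⟩ := Finset.mem_image.mp hc
    obtain ⟨k, hk⟩ := key t.1 t.2 x
    exact ⟨k, hk⟩)
  rw [Ideal.radical_eq_top] at h1
  have : (1 : C) ∈ I := h1 ▸ Submodule.mem_top
  simpa [I] using this

variable {A B : Type u} [CommRing A] [CommRing B] [Algebra A B] [Algebra.FiniteType A B]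
variable {N : Type u} [AddCommGroup N] [Module B N] [Module.Finite B N]

/-- A point of the support isolated among the points of the support in its fibre is associated. -/
theorem mem_weakAss_fibre_of_isolated {R S M : Type u} [CommRing R] [CommRing S] [Algebra R S] [AddCommGroup M]
    [Module S M] [Module R M] [IsScalarTower R S M] [Module.Finite S M] (t : Ideal R) [t.IsPrime] (P : Ideal S)
    [P.IsPrime] [P.LiesOver t] (hP : Module.annihilator S M ≤ P)
    (hiso : ∀ Q : Ideal S, Q.IsPrime → Q.LiesOver t → Module.annihilator S M ≤ Q → Q ≤ P → Q = P) :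
    P ∈ FlatCA.weakAss S (M ⊗[R] t.ResidueField) := by
  obtain ⟨ξ, hξ⟩ := range_comap_fibre_point t (⟨P, inferInstance⟩ : PrimeSpectrum S) inferInstance
  have hξsupp : ξ ∈ Module.support (t.Fiber S) (FlatCA.fiberMod t S M) := by
    refine (Groth.L20.FibreSupport.mem_support_baseChange S (t.Fiber S) M ξ).mpr ?_
    rw [hξ, Module.mem_support_iff_of_finite]
    exact hP
  obtain ⟨z, hz⟩ := Module.mem_support_iff_exists_annihilator.mp hξsupp
  let z₂ := Groth.L20.fiberModEquiv t S M z
  refine ⟨z₂, ⟨⟨inferInstance, fun c hc => ?_⟩, fun Q hQ hQP => ?_⟩⟩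
  · have h1 : algebraMap S (t.Fiber S) c • z = 0 := by
      haveI : IsScalarTower S (t.Fiber S) (FlatCA.fiberMod t S M) :=
        inferInstanceAs (IsScalarTower S (t.Fiber S) ((t.Fiber S) ⊗[S] M))
      rw [algebraMap_smul]
      apply (Groth.L20.fiberModEquiv t S M).injective
      rw [map_smul, map_zero]
      exact mem_annE.1 hc
    have h2 : algebraMap S (t.Fiber S) c ∈ ξ.asIdeal :=
      hz ((Submodule.mem_annihilator_span_singleton _ _).mpr h1)
    have e : ξ.asIdeal.comap (algebraMap S (t.Fiber S)) = P := congrArg PrimeSpectrum.asIdeal hξ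
    rw [← e]
    exact h2
  · have hann : ∀ c ∈ Module.annihilator S M, c ∈ annE S z₂ := fun c hc => by
      refine mem_annE.2 ?_
      generalize z₂ = w
      induction w using TensorProduct.induction_on with
      | zero => exact smul_zero _
      | add x y hx hy => rw [smul_add, hx, hy, add_zero]
      | tmul x k => rw [TensorProduct.smul_tmul', Module.mem_annihilator.mp hc x, TensorProduct.zero_tmul]
    haveI := hQ.1
    haveI : Q.LiesOver t := ⟨le_antisymm (fun a ha => hQ.2 (mem_annE.2 (smul_fibre_eq_zero t M ha z₂)))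
      ((Ideal.comap_mono hQP).trans (Ideal.over_def P t).ge)⟩
    exact (hiso Q hQ.1 inferInstance (fun c hc => hQ.2 (hann c hc)) hQP).ge

/-- The annihilator kills associated points of fibres. -/
theorem annihilator_le_of_mem_weakAss {R S M : Type u} [CommRing R] [CommRing S] [Algebra R S] [AddCommGroup M]
    [Module S M] [Module R M] [IsScalarTower R S M] (t : Ideal R) [t.IsPrime] (P : Ideal S)
    (hP : P ∈ FlatCA.weakAss S (M ⊗[R] t.ResidueField)) : Module.annihilator S M ≤ P := by
  obtain ⟨z, hz⟩ := hP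
  intro c hc
  refine hz.le (mem_annE.2 ?_)
  clear hz
  induction z using TensorProduct.induction_on with
  | zero => exact smul_zero _
  | add x y hx hy => rw [smul_add, hx, hy, add_zero]
  | tmul x k => rw [TensorProduct.smul_tmul', Module.mem_annihilator.mp hc x, TensorProduct.zero_tmul]

/-- Scalars killing a module kill its base change. -/
theorem algebraMap_mem_annihilator_tensor {R S : Type u} [CommRing R] [CommRing S] [Algebra R S] {X : Type u}
    [AddCommGroup X] [Module R X] {c : R} (hc : c ∈ Module.annihilator R X) :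
    algebraMap R S c ∈ Module.annihilator S (S ⊗[R] X) :=
  Module.mem_annihilator.mpr fun m => by
    induction m using TensorProduct.induction_on with
    | zero => exact smul_zero _
    | add x y hx hy => rw [smul_add, hx, hy, add_zero]
    | tmul x n =>
      rw [TensorProduct.smul_tmul', smul_eq_mul, ← Algebra.smul_def, TensorProduct.smul_tmul,
        Module.mem_annihilator.mp hc n, TensorProduct.tmul_zero]

/-- The projection to the pushout of a quotient is surjective. -/
theorem surjective_map_mk {A₁ : Type u} [CommRing A₁] [Algebra A A₁] (J : Ideal B) :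
    Function.Surjective (Algebra.TensorProduct.map (AlgHom.id A₁ A₁) (Ideal.Quotient.mkₐ A J)) := fun z => by
  induction z using TensorProduct.induction_on with
  | zero => exact ⟨0, map_zero _⟩
  | add x y hx hy =>
    obtain ⟨x, rfl⟩ := hx
    obtain ⟨y, rfl⟩ := hy
    exact ⟨x + y, map_add _ _ _⟩
  | tmul a b =>
    obtain ⟨b, rfl⟩ := Ideal.Quotient.mk_surjective b
    exact ⟨a ⊗ₜ b, rfl⟩

/-- The points of a pushout of a quotient are the points above the ideal. -/
theorem exists_comap_quotient {A₁ : Type u} [CommRing A₁] [Algebra A A₁] (J : Ideal B) (Q : Ideal (A₁ ⊗[A] B))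
    [Q.IsPrime] (hQ : ∀ c ∈ J, algebraMap B (A₁ ⊗[A] B) c ∈ Q) :
    ∃ QW : Ideal (A₁ ⊗[A] (B ⧸ J)), QW.IsPrime ∧
      QW.comap (Algebra.TensorProduct.map (AlgHom.id A₁ A₁) (Ideal.Quotient.mkₐ A J)).toRingHom = Q := by
  let π := Algebra.TensorProduct.map (AlgHom.id A₁ A₁) (Ideal.Quotient.mkₐ A J)
  have hπs : Function.Surjective π := surjective_map_mk J
  have hker : RingHom.ker π.toRingHom ≤ Q := by
    intro c hc
    have hc' : c ∈ RingHom.ker (Algebra.TensorProduct.map (AlgHom.id A A₁) (Ideal.Quotient.mkₐ A J)) := hc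
    rw [Algebra.TensorProduct.lTensor_ker _ (Ideal.Quotient.mkₐ_surjective A J)] at hc'
    refine Ideal.map_le_iff_le_comap.mpr (fun b hb => ?_) hc'
    exact hQ b (by simpa [Ideal.Quotient.eq_zero_iff_mem] using hb)
  refine ⟨Q.map π.toRingHom, Ideal.map_isPrime_of_surjective (f := π.toRingHom) hπs hker, ?_⟩
  show (Q.map π.toRingHom).comap π.toRingHom = Q
  rw [Ideal.comap_map_of_surjective π.toRingHom hπs, ← RingHom.ker_eq_comap_bot, sup_eq_left]
  exact hker

/-- An isolated point of the fibre support gives an associated point of the base change. -/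
theorem mem_weakAss_of_isolated {A₁ : Type u} [CommRing A₁] [Algebra A A₁] (J : Ideal B)
    (hJ : J = Module.annihilator B N) [Algebra.QuasiFinite A₁ (A₁ ⊗[A] (B ⧸ J))] (t' : Ideal A₁) [t'.IsPrime]
    (PW : Ideal (A₁ ⊗[A] (B ⧸ J))) [PW.IsPrime] [PW.LiesOver t'] :
    PW.comap (Algebra.TensorProduct.map (AlgHom.id A₁ A₁) (Ideal.Quotient.mkₐ A J)).toRingHom ∈
      FlatCA.weakAss (A₁ ⊗[A] B) (((A₁ ⊗[A] B) ⊗[B] N) ⊗[A₁] t'.ResidueField) := by
  let π := Algebra.TensorProduct.map (AlgHom.id A₁ A₁) (Ideal.Quotient.mkₐ A J)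
  haveI : IsScalarTower A₁ (A₁ ⊗[A] B) ((A₁ ⊗[A] B) ⊗[B] N) := TensorProduct.isScalarTower_left
  haveI : Module.Finite (A₁ ⊗[A] B) ((A₁ ⊗[A] B) ⊗[B] N) := Module.Finite.base_change B _ N
  haveI : (PW.comap π.toRingHom).IsPrime := Ideal.comap_isPrime _ _
  haveI : (PW.comap π.toRingHom).LiesOver t' := ⟨by
    ext a
    show a ∈ t' ↔ π (algebraMap A₁ (A₁ ⊗[A] B) a) ∈ PW
    rw [π.commutes]
    exact Ideal.mem_of_liesOver PW t' a⟩
  have hQmem : ∀ (Q : Ideal (A₁ ⊗[A] B)), Module.annihilator (A₁ ⊗[A] B) ((A₁ ⊗[A] B) ⊗[B] N) ≤ Q →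
      ∀ c ∈ J, algebraMap B (A₁ ⊗[A] B) c ∈ Q := fun Q hQ c hc =>
    hQ (algebraMap_mem_annihilator_tensor (hJ ▸ hc))
  refine mem_weakAss_fibre_of_isolated t' (PW.comap π.toRingHom) ?_ fun Q hQ hQt hQann hQP => ?_
  · refine (Module.mem_support_iff_of_finite (p := (⟨PW.comap π.toRingHom, inferInstance⟩ : PrimeSpectrum _))).mp
      ((Groth.L20.FibreSupport.mem_support_baseChange B (A₁ ⊗[A] B) N _).mpr ?_)
    rw [Module.mem_support_iff_of_finite, ← hJ]
    intro b hb
    show π ((1 : A₁) ⊗ₜ[A] b) ∈ PW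
    rw [Algebra.TensorProduct.map_tmul, Ideal.Quotient.mkₐ_eq_mk, Ideal.Quotient.eq_zero_iff_mem.mpr hb,
      TensorProduct.tmul_zero]
    exact PW.zero_mem
  · obtain ⟨QW, hQW, hQWQ⟩ := exists_comap_quotient J Q (hQmem Q hQann)
    have hle : QW ≤ PW := fun c hc => by
      obtain ⟨c, rfl⟩ := surjective_map_mk J c
      exact hQP (hQWQ ▸ hc)
    have hund : QW.under A₁ = PW.under A₁ := by
      rw [← Ideal.over_def PW t', Ideal.over_def Q t', ← hQWQ]
      ext a
      show algebraMap A₁ (A₁ ⊗[A] (B ⧸ J)) a ∈ QW ↔ π (algebraMap A₁ (A₁ ⊗[A] B) a) ∈ QW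
      rw [π.commutes]
    haveI := hQW
    rw [← hQWQ, Algebra.QuasiFinite.eq_of_le_of_under_eq (R := A₁) QW PW hle hund]

set_option maxHeartbeats 1000000 in
/-- A pure module with finite fibre supports has finite support. -/
theorem finite_of_isPure [Algebra.QuasiFinite A (B ⧸ Module.annihilator B N)] (h : FlatCA.IsPure A B N) :
    Module.Finite A (B ⧸ Module.annihilator B N) := by
  classical
  let J := Module.annihilator B N
  let W := B ⧸ J
  obtain ⟨C, _, _, _, _, hC, hinj, R, hR, hfin⟩ := exists_finite_model (A := A) (W := W)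
  refine hfin ?_
  by_contra hne
  obtain ⟨x, hxM, hRx⟩ := Ideal.exists_le_maximal _ hne
  haveI := hxM
  let p := x.under A
  obtain ⟨q₀, hq₀, hq₀x⟩ := Ideal.exists_minimalPrimes_le (J := x) (bot_le : (⊥ : Ideal C) ≤ x)
  haveI := hq₀.isPrime
  obtain ⟨w, hw, hwq⟩ := Ideal.exists_comap_eq_of_mem_minimalPrimes_of_injective
    (f := algebraMap C W) hinj q₀ (by simpa using hq₀)
  haveI := hw
  haveI : w.LiesOver q₀ := ⟨hwq.symm⟩
  obtain ⟨A', _, _, _, p', _, hp', k, e, he, P', hP'prime, hP'over, hbij, heP, huniq⟩ :=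
    Algebra.exists_etale_completeOrthogonalIdempotents_forall_liesOver_eq (R := A) (S := C) p
  haveI := hp'
  have hnhd : FlatCA.IsEtaleNhd A A' p p' := ⟨inferInstance, hp', hbij⟩
  let C' := A' ⊗[A] C
  haveI : x.LiesOver p := ⟨rfl⟩
  obtain ⟨x', hx', hx'p, hx'x, -⟩ := exists_point_pushout (A := A) (B := C) p x p' hnhd.2
  haveI := hx'
  haveI := hx'p
  haveI := hx'x.1
  obtain ⟨i, hi⟩ : ∃ i : Fin k, e i.castSucc ∉ x' := by
    by_contra! hall
    refine hx'.ne_top ((Ideal.eq_top_iff_one _).mpr (he.complete ▸ sum_mem fun j _ => ?_))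
    refine Fin.lastCases ?_ (fun i => hall i) j
    exact (huniq x' hx' hx'p).1
  haveI : Module.Flat A A' := inferInstance
  haveI : Module.Flat C C' :=
    Module.Flat.of_linearEquiv (Algebra.IsPushout.equiv A C A' C').toLinearEquiv.symm
  obtain ⟨q', hq'x, hq', hq'q⟩ := Ideal.exists_ideal_le_liesOver_of_le (p := q₀) (q := x) x' hq₀x
  haveI := hq'
  haveI := hq'q
  obtain ⟨Q, hQ, hQq', hQw⟩ := exists_prime_tensor (A := C) (A' := W) q₀ w (A₂ := C') q'
  haveI := hQ
  let W' := A' ⊗[A] W
  let ψ : W' →ₐ[A] C' ⊗[C] W :=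
    Algebra.TensorProduct.lift
      (((Algebra.TensorProduct.includeLeft (R := C) (S := C) (A := C') (B := W)).restrictScalars A).comp
        (Algebra.TensorProduct.includeLeft (R := A) (S := A) (A := A') (B := C)))
      ((Algebra.TensorProduct.includeRight (R := C) (A := C') (B := W)).restrictScalars A)
      fun _ _ => Commute.all _ _
  let θ : C' →ₐ[A'] W' := Algebra.TensorProduct.map (AlgHom.id A' A') (IsScalarTower.toAlgHom A C W)
  have hψθ : ∀ c, ψ (θ c) = c ⊗ₜ[C] (1 : W) := fun c => by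
    induction c using TensorProduct.induction_on with
    | zero => simp
    | add a b ha hb => rw [map_add, map_add, ha, hb, TensorProduct.add_tmul]
    | tmul a c =>
      show ψ (a ⊗ₜ[A] algebraMap C W c) = _
      rw [Algebra.TensorProduct.lift_tmul]
      show ((a ⊗ₜ[A] (1 : C)) ⊗ₜ[C] (1 : W)) * ((1 : C') ⊗ₜ[C] algebraMap C W c) = _
      rw [Algebra.TensorProduct.tmul_mul_tmul, mul_one, one_mul,
        show algebraMap C W c = c • (1 : W) from Algebra.algebraMap_eq_smul_one c, ← TensorProduct.smul_tmul, Algebra.smul_def]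
      congr 1
      show ((1 : A') ⊗ₜ[A] c) * (a ⊗ₜ[A] (1 : C)) = a ⊗ₜ[A] c
      rw [Algebra.TensorProduct.tmul_mul_tmul, one_mul, mul_one]
  let PW : Ideal W' := Q.comap ψ.toRingHom
  haveI : PW.IsPrime := Ideal.comap_isPrime _ _
  have hPWq : ∀ c, θ c ∈ PW ↔ c ∈ q' := fun c => by
    show ψ (θ c) ∈ Q ↔ c ∈ q'
    rw [hψθ, ← hQq', Ideal.mem_comap]
    rfl
  have hθA : ∀ a : A', θ (algebraMap A' C' a) = algebraMap A' W' a := θ.commutes
  haveI : PW.LiesOver (q'.under A') := ⟨by
    ext a
    show algebraMap A' C' a ∈ q' ↔ algebraMap A' W' a ∈ PW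
    rw [← hθA, hPWq]⟩
  let π := Algebra.TensorProduct.map (AlgHom.id A' A') (Ideal.Quotient.mkₐ A J)
  have hass := mem_weakAss_of_isolated (N := N) J rfl (q'.under A') PW
  haveI : (PW.comap π).IsPrime := Ideal.comap_isPrime _ _
  have himp : FlatCA.HasImpurity A B N p (fun R _ _ t => ∃ _ : t.IsPrime, FlatCA.IsEtaleNhd A R p t) := by
    refine hasImpurity_of_weakAss p (q'.under A') p' ((Ideal.comap_mono hq'x).trans (Ideal.over_def x' p').ge) hp'
      (PW.comap π) hass (fun Qb _ hle hover => ?_) ⟨inferInstance, hnhd⟩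
    haveI := hover
    have hJQ : ∀ c ∈ J, algebraMap B (A' ⊗[A] B) c ∈ Qb := fun c hc => hle (by
      show π ((1 : A') ⊗ₜ[A] c) ∈ PW
      rw [Algebra.TensorProduct.map_tmul, Ideal.Quotient.mkₐ_eq_mk, Ideal.Quotient.eq_zero_iff_mem.mpr hc,
        TensorProduct.tmul_zero]
      exact PW.zero_mem)
    obtain ⟨QW, hQWp, hQW⟩ := exists_comap_quotient J Qb hJQ
    haveI := hQWp
    have hPQ : PW ≤ QW := fun c hc => by
      obtain ⟨c, rfl⟩ := surjective_map_mk J c
      have := hle (show c ∈ PW.comap π.toRingHom from hc)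
      rw [← hQW] at this
      exact this
    let y := QW.comap θ.toRingHom
    haveI : y.IsPrime := Ideal.comap_isPrime _ _
    haveI : y.LiesOver p' := ⟨by
      ext a
      show a ∈ p' ↔ θ (algebraMap A' C' a) ∈ QW
      rw [hθA, Ideal.mem_of_liesOver Qb p', ← hQW, Ideal.mem_comap,
        show π.toRingHom (algebraMap A' (A' ⊗[A] B) a) = algebraMap A' W' a from π.commutes a]⟩
    have hidem : e i.castSucc * (1 - e i.castSucc) = 0 := by
      rw [mul_sub, mul_one, (he.idem i.castSucc).eq, sub_self]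
    have h1 : 1 - e i.castSucc ∈ q' :=
      (hq'.mem_or_mem (hidem ▸ q'.zero_mem)).resolve_left fun h => hi (hq'x h)
    have hey : e i.castSucc ∉ y := fun h => by
      have h2 : (1 - e i.castSucc) ∈ y := hPQ ((hPWq _).mpr h1)
      exact (inferInstance : y.IsPrime).ne_top ((Ideal.eq_top_iff_one _).mpr (by simpa using y.add_mem h h2))
    have hyx : y = x' := ((huniq y inferInstance inferInstance).2 i hey).trans ((huniq x' hx' hx'p).2 i hi).symm
    have hall : ∀ r ∈ R, ((1 : A') ⊗ₜ[A] algebraMap C W r) ∈ QW := fun r hr => by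
      have hrx : algebraMap C C' r ∈ x' := (Ideal.mem_of_liesOver x' x r).mp (hRx (Ideal.subset_span hr))
      have hθr : θ (algebraMap C C' r) = (1 : A') ⊗ₜ[A] algebraMap C W r := by
        show θ ((1 : A') ⊗ₜ[A] r) = _
        rw [Algebra.TensorProduct.map_tmul, map_one]
        rfl
      rw [← hθr]
      have h5 : algebraMap C C' r ∈ y := by rw [hyx]; exact hrx
      exact h5
    let ιW : W →+* W' := (Algebra.TensorProduct.includeRight (R := A) (A := A') (B := W)).toRingHom
    haveI : (QW.comap ιW).IsPrime := Ideal.comap_isPrime _ _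
    exact (inferInstance : (QW.comap ιW).IsPrime).ne_top (top_le_iff.mp (hR ▸ Ideal.span_le.mpr fun c ⟨r, hr, hrc⟩ =>
      hrc ▸ hall r hr))
  obtain ⟨A₂, B₂, N₂, _, _, _, _, _, _, _, _, _, _, _, _, _, _, f, t', t, _, _, P, _, himp', _, hn⟩ := himp
  exact h p A₂ B₂ N₂ f t' t P hn himp'

set_option maxHeartbeats 2000000 in
/-- A module with finite support is universally pure. -/
theorem isUnivPure_of_finite [Module.Finite A (B ⧸ Module.annihilator B N)] : FlatCA.IsUnivPure A B N := by
  intro p _ A₁ B₁ N₁ _ _ _ _ _ _ _ _ _ _ _ _ _ _ f t' t _ _ P₀ _ himp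
  obtain ⟨n, s, a, b, ⟨P, hP, hass, hmem⟩, hle, -, hs, ha⟩ := exists_wit_of_isImpurity himp
  haveI := hP
  let J := Module.annihilator B N
  let S := A₁ ⊗[A] B
  haveI : IsScalarTower A₁ S (S ⊗[B] N) := TensorProduct.isScalarTower_left
  haveI : P.LiesOver t' := liesOver_of_mem_weakAss_fibre t' _ hass
  have hJP : ∀ c ∈ J, algebraMap B S c ∈ P := fun c hc =>
    annihilator_le_of_mem_weakAss t' P hass (algebraMap_mem_annihilator_tensor hc)
  let ψ : B →ₐ[A] S ⧸ P := (Ideal.Quotient.mkₐ A P).comp Algebra.TensorProduct.includeRight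
  have hψb : ∀ c, IsIntegral A (ψ c) := fun c => by
    have := (Algebra.IsIntegral.isIntegral (R := A) (Ideal.Quotient.mk J c)).map
      (Ideal.Quotient.liftₐ J ψ fun c hc => Ideal.Quotient.eq_zero_iff_mem.mpr (hJP c hc))
    exact this
  haveI : Algebra.IsIntegral A₁ (S ⧸ P) := ⟨fun y => by
    obtain ⟨y, rfl⟩ := Ideal.Quotient.mk_surjective y
    induction y using TensorProduct.induction_on with
    | zero => exact isIntegral_zero
    | add y z hy hz => rw [map_add]; exact hy.add hz
    | tmul a' c =>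
      have he : Ideal.Quotient.mk P (a' ⊗ₜ[A] c) = algebraMap A₁ (S ⧸ P) a' * ψ c := by
        rw [show a' ⊗ₜ[A] c = algebraMap A₁ S a' * ((1 : A₁) ⊗ₜ[A] c) by rw [Algebra.TensorProduct.algebraMap_apply, Algebra.TensorProduct.tmul_mul_tmul, Algebra.algebraMap_self, RingHom.id_apply, mul_one, one_mul], map_mul, Ideal.Quotient.mk_algebraMap]
        rfl
      rw [he]
      exact isIntegral_algebraMap.mul (hψb c).tower_top⟩
  have hker : RingHom.ker (algebraMap A₁ (S ⧸ P)) ≤ t := by
    intro a' ha'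
    refine hle ((Ideal.mem_of_liesOver P t' a').mpr ?_)
    rw [← Ideal.Quotient.eq_zero_iff_mem, Ideal.Quotient.mk_algebraMap]
    exact ha'
  obtain ⟨QK, -, hQK, hQKt⟩ := Ideal.exists_ideal_over_prime_of_isIntegral t (⊥ : Ideal (S ⧸ P))
    (by rwa [← RingHom.ker_eq_comap_bot])
  haveI := hQK
  let Q := QK.comap (Ideal.Quotient.mk P)
  haveI : Q.IsPrime := Ideal.comap_isPrime _ _
  have hQt : ∀ a', algebraMap A₁ S a' ∈ Q ↔ a' ∈ t := fun a' => by
    rw [Ideal.mem_comap, Ideal.Quotient.mk_algebraMap, ← hQKt, Ideal.mem_comap]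
  have hPQ : P ≤ Q := fun c hc => by
    rw [Ideal.mem_comap, Ideal.Quotient.eq_zero_iff_mem.mpr hc]; exact QK.zero_mem
  have hsum : ∑ i, a i ⊗ₜ[A] b i ∈ Q := sum_mem fun i _ => by
    rw [show a i ⊗ₜ[A] b i = (algebraMap A₁ S (a i)) * ((1 : A₁) ⊗ₜ[A] b i) by rw [Algebra.TensorProduct.algebraMap_apply, Algebra.TensorProduct.tmul_mul_tmul, Algebra.algebraMap_self, RingHom.id_apply, mul_one, one_mul]]
    exact Q.mul_mem_right _ ((hQt (a i)).mpr (ha i))
  have := Q.add_mem (hPQ hmem) hsum
  rw [sub_add_cancel] at this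
  exact hs ((hQt s).mp this)

/-- Finite fibre supports make the support quasi-finite. -/
theorem quasiFinite_of_finite_support
    (hfin : ∀ (p : Ideal A) [p.IsPrime], (Module.support (p.Fiber B) (FlatCA.fiberMod p B N)).Finite) :
    Algebra.QuasiFinite A (B ⧸ Module.annihilator B N) := by
  let J := Module.annihilator B N
  refine Algebra.QuasiFinite.iff_finite_primesOver.mpr fun p hp => ?_
  haveI := hp
  let c : Ideal (B ⧸ J) → Ideal B := fun w => w.comap (Ideal.Quotient.mk J)
  have hsub : c '' (p.primesOver (B ⧸ J)) ⊆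
      (fun ξ : PrimeSpectrum (p.Fiber B) => ξ.asIdeal.comap (algebraMap B (p.Fiber B))) ''
        Module.support (p.Fiber B) (FlatCA.fiberMod p B N) := by
    rintro _ ⟨w, ⟨hw, hwp⟩, rfl⟩
    haveI := hw
    haveI := hwp
    have hover : (c w).LiesOver p := ⟨by
      rw [Ideal.under_def, Ideal.comap_comap]
      exact Ideal.over_def w p⟩
    obtain ⟨ξ, hξ⟩ := range_comap_fibre_point p (⟨c w, Ideal.comap_isPrime _ _⟩ : PrimeSpectrum B) hover
    refine ⟨ξ, (Groth.L20.FibreSupport.mem_support_baseChange B (p.Fiber B) N ξ).mpr ?_,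
      congrArg PrimeSpectrum.asIdeal hξ⟩
    rw [hξ, Module.mem_support_iff_of_finite]
    intro b hb
    show Ideal.Quotient.mk J b ∈ w
    rw [Ideal.Quotient.eq_zero_iff_mem.mpr hb]
    exact w.zero_mem
  exact Set.Finite.of_finite_image (((hfin p).image _).subset hsub)
    (Ideal.comap_injective_of_surjective _ Ideal.Quotient.mk_surjective).injOn

end Groth.L20.RG
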