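import Groth.Agent.L20.RG.ImpurityEtale
import Groth.Agent.L20.RG.HenselNhd

/-!
# Impurities over the henselization
-/

set_option autoImplicit false
set_option linter.style.haveILetI false
set_option backward.isDefEq.respectTransparency.types false
universe u

open TensorProduct IsLocalRing

noncomputable section

namespace Groth.L20.RG

variable {A B : Type u} [CommRing A] [CommRing B] [Algebra A B] [Algebra.FiniteType A B]
variable {N : Type u} [AddCommGroup N] [Module B N] [Module.Finite B N]
variable (p : Ideal A) [p.IsPrime]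

section

variable (H : Type u) [CommRing H] [IsLocalRing H]
  [Algebra (Localization.AtPrime p) H] [IsLocalHom (algebraMap (Localization.AtPrime p) H)]
  [Hensel.IsHenselization (Localization.AtPrime p) H] [Algebra A H] [IsScalarTower A (Localization.AtPrime p) H]

include p in
theorem liesOver_maximal_henselization : (maximalIdeal H).LiesOver p := ⟨by
  rw [Ideal.under_def, IsScalarTower.algebraMap_eq A (Localization.AtPrime p) H, ← Ideal.comap_comap,
    IsLocalRing.maximalIdeal_comap]
  exact (IsLocalization.AtPrime.under_maximalIdeal (Localization.AtPrime p) p).symm⟩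

/-- An impurity over the henselization descends to an elementary étale neighbourhood. -/
theorem hasImpurity_etale_of_henselization (t' : Ideal H) [t'.IsPrime] {n : ℕ} {s : H} {a : Fin n → H}
    {b : Fin n → B} (hw : Wit A N H t' s a b) (hle : t' ≤ maximalIdeal H) (hs : s ∉ maximalIdeal H)
    (ha : ∀ k, a k ∈ maximalIdeal H) :
    FlatCA.HasImpurity A B N p (fun A' _ _ t => ∃ _ : t.IsPrime, FlatCA.IsEtaleNhd A A' p t) := by
  classical
  obtain ⟨S, _, _, f, q, _, hnhd, hq, hF⟩ := exists_nhd_of_finset p H (insert s (Finset.univ.image a))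
  obtain ⟨s₁, hs₁⟩ := hF s (Finset.mem_insert_self _ _)
  choose a₁ ha₁ using fun k => hF (a k) (Finset.mem_insert_of_mem (Finset.mem_image_of_mem _ (Finset.mem_univ k)))
  letI : Algebra S H := f.toRingHom.toAlgebra
  haveI : IsScalarTower A S H := IsScalarTower.of_algebraMap_eq' f.comp_algebraMap.symm
  rw [show s = algebraMap S H s₁ from hs₁.symm,
    show a = fun k => algebraMap S H (a₁ k) from funext fun k => (ha₁ k).symm] at hw
  refine ((wit_iff (t'.under S) t' _ _ b).mp hw).hasImpurity p q ((Ideal.comap_mono hle).trans hq.ge) hnhd.2.1 ?_ ?_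
    ⟨inferInstance, hnhd⟩
  · rw [hq, Ideal.mem_comap]
    exact fun h => hs (hs₁ ▸ h)
  · intro k
    rw [hq, Ideal.mem_comap]
    exact (ha₁ k).symm ▸ ha k

/-- An impurity over an elementary étale neighbourhood gives one over the henselization. -/
theorem exists_wit_henselization {S : Type u} [CommRing S] [Algebra A S] (q : Ideal S) [q.IsPrime]
    (hnhd : FlatCA.IsEtaleNhd A S p q) (t' : Ideal S) [t'.IsPrime] {n : ℕ} {s : S} {a : Fin n → S} {b : Fin n → B}
    (hw : Wit A N S t' s a b) (hle : t' ≤ q) (hs : s ∉ q) (ha : ∀ k, a k ∈ q) :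
    ∃ (t₂ : Ideal H) (_ : t₂.IsPrime) (s₂ : H) (a₂ : Fin n → H), Wit A N H t₂ s₂ a₂ b ∧ t₂ ≤ maximalIdeal H ∧
      s₂ ∉ maximalIdeal H ∧ ∀ k, a₂ k ∈ maximalIdeal H := by
  obtain ⟨f, hq, hflat⟩ := exists_algHom_henselization p H q hnhd
  letI : Algebra S H := f.toRingHom.toAlgebra
  haveI : IsScalarTower A S H := IsScalarTower.of_algebraMap_eq' f.comp_algebraMap.symm
  haveI : Module.Flat S H := hflat
  haveI : (maximalIdeal H).LiesOver q := ⟨hq⟩
  obtain ⟨t₂, hle₂, ht₂, ht₂t⟩ := Ideal.exists_ideal_le_liesOver_of_le (p := t') (q := q) (maximalIdeal H) hle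
  haveI := ht₂
  haveI := ht₂t
  exact ⟨t₂, ht₂, algebraMap S H s, fun k => algebraMap S H (a k), (wit_iff t' t₂ s a b).mpr hw, hle₂,
    fun h => hs (hq ▸ h), fun k => show a k ∈ (maximalIdeal H).comap f.toRingHom from hq ▸ ha k⟩

/-- An impurity over an elementary étale neighbourhood gives one over the henselization. -/
theorem hasImpurity_henselization {S : Type u} [CommRing S] [Algebra A S] (q : Ideal S) [q.IsPrime]
    (hnhd : FlatCA.IsEtaleNhd A S p q) (t' : Ideal S) [t'.IsPrime] {n : ℕ} {s : S} {a : Fin n → S} {b : Fin n → B}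
    (hw : Wit A N S t' s a b) (hle : t' ≤ q) (hs : s ∉ q) (ha : ∀ k, a k ∈ q)
    {Q : ∀ (A' : Type u) [CommRing A'] [Algebra A A'], Ideal A' → Prop} (hQ : Q H (maximalIdeal H)) :
    FlatCA.HasImpurity A B N p Q := by
  obtain ⟨t₂, _, s₂, a₂, hw₂, hle₂, hs₂, ha₂⟩ := exists_wit_henselization p H q hnhd t' hw hle hs ha
  exact hw₂.hasImpurity p (maximalIdeal H) hle₂ (liesOver_maximal_henselization p H) hs₂ ha₂ hQ

end

/-- An impurity over an elementary étale neighbourhood of the local ring gives one over one of the base. -/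
theorem hasImpurity_etale_of_local {S : Type u} [CommRing S] [Algebra A S] [Algebra (Localization.AtPrime p) S]
    [IsScalarTower A (Localization.AtPrime p) S] (q : Ideal S) [q.IsPrime]
    (hnhd : FlatCA.IsEtaleNhd (Localization.AtPrime p) S (maximalIdeal _) q) (t' : Ideal S) [t'.IsPrime] {n : ℕ}
    {s : S} {a : Fin n → S} {b : Fin n → B} (hw : Wit A N S t' s a b) (hle : t' ≤ q) (hs : s ∉ q) (ha : ∀ k, a k ∈ q) :
    FlatCA.HasImpurity A B N p (fun A' _ _ t => ∃ _ : t.IsPrime, FlatCA.IsEtaleNhd A A' p t) := by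
  haveI := hnhd.1
  let L := Localization.AtPrime p
  obtain ⟨H, _, _, _, _, _⟩ := Groth.L05.Henselization.exists_isHenselization (R := L)
  letI : Algebra A H := ((algebraMap L H).comp (algebraMap A L)).toAlgebra
  haveI : IsScalarTower A L H := IsScalarTower.of_algebraMap_eq' rfl
  haveI : HenselianLocalRing H := Hensel.IsHenselization.henselian (R := L)
  haveI := Groth.L05.Henselization.flat_of_isHenselization L H
  obtain ⟨φ, hφ⟩ := Groth.L05.Henselization.exists_point (maximalIdeal L) q hnhd.2.1.over hnhd.2.2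
  let σ : (maximalIdeal L).ResidueField →ₐ[L] H ⧸ maximalIdeal H :=
    Ideal.ResidueField.liftₐ (maximalIdeal L) (Algebra.ofId L _)
      (fun r hr => Ideal.Quotient.eq_zero_iff_mem.mpr
        (((IsLocalRing.local_hom_TFAE (algebraMap L H)).out 0 2 rfl rfl).mp inferInstance (Ideal.mem_map_of_mem _ hr)))
      (fun r hr => ((IsLocalRing.notMem_maximalIdeal.mp hr).map (algebraMap L H)).map (Ideal.Quotient.mk _))
  obtain ⟨f, hf, -⟩ := Groth.L05.existsUnique_algHom_lift_etale (maximalIdeal H) (σ.comp φ)
  letI : Algebra S H := f.toRingHom.toAlgebra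
  haveI : IsScalarTower L S H := IsScalarTower.of_algebraMap_eq' f.comp_algebraMap.symm
  haveI : IsScalarTower A S H := IsScalarTower.of_algebraMap_eq fun x => by
    rw [IsScalarTower.algebraMap_apply A L H, IsScalarTower.algebraMap_apply A L S,
      ← IsScalarTower.algebraMap_apply L S H]
  haveI : Module.Flat S H := flat_of_flat_of_unramified L S H
  haveI : (maximalIdeal H).LiesOver q := ⟨by
    ext x
    show x ∈ q ↔ f x ∈ maximalIdeal H
    rw [← hφ, RingHom.mem_ker, ← Ideal.Quotient.eq_zero_iff_mem (I := maximalIdeal H),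
      show Ideal.Quotient.mk (maximalIdeal H) (f x) = σ (φ x) from DFunLike.congr_fun hf x,
      map_eq_zero_iff σ σ.toRingHom.injective]⟩
  obtain ⟨t₂, hle₂, ht₂, ht₂t⟩ := Ideal.exists_ideal_le_liesOver_of_le (p := t') (q := q) (maximalIdeal H) hle
  haveI := ht₂
  haveI := ht₂t
  exact hasImpurity_etale_of_henselization p H t₂ ((wit_iff t' t₂ s a b).mpr hw) hle₂
    (fun h => hs ((Ideal.mem_of_liesOver (maximalIdeal H) q s).mpr h))
    (fun k => (Ideal.mem_of_liesOver (maximalIdeal H) q (a k)).mp (ha k))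

end Groth.L20.RG
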