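import Groth.Agent.L20.RG.ImpuritySpread
import Groth.Agent.L20.RG.UnivPureFt
import Groth.Agent.L20.RG.OneStepDim
import Mathlib.RingTheory.Unramified.LocalStructure

/-!
# Impurities over a Noetherian base are quasi-finite
-/

set_option autoImplicit false
set_option linter.style.haveILetI false
set_option backward.isDefEq.respectTransparency.types false
universe u

open TensorProduct IsLocalRing Groth.L03.WeakAss

noncomputable section

namespace Groth.L20.RG

attribute [local instance] Algebra.TensorProduct.rightAlgebra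

/-- Finitely generated modules over algebras over a field are universally pure. -/
theorem isUnivPureAlong_field {k B : Type u} [Field k] [CommRing B] [Algebra k B] [Algebra.FiniteType k B]
    (N : Type u) [AddCommGroup N] [Module B N] [Module.Finite B N] (p : Ideal k) [p.IsPrime] :
    FlatCA.IsUnivPureAlong k B N p := by
  letI : Module k N := Module.compHom N (algebraMap k B)
  haveI : IsScalarTower k B N := IsScalarTower.of_algebraMap_smul fun _ _ => rfl
  refine isUnivPureAlong_of_flat_of_isPureAlong N p (fun q _ _ => show Module.Flat k _ from inferInstance) ?_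
  intro A' B' N' _ _ _ _ _ _ _ _ _ _ _ _ _ _ f t' t _ _ P _ hn himp
  haveI := hn.1
  obtain ⟨-, -, hle, -, hP, -, hno⟩ := himp
  haveI : Algebra.QuasiFiniteAt k t := inferInstance
  have hunder : t'.under k = t.under k := ((Ideal.eq_bot_or_top _).resolve_right (inferInstance : (t'.under k).IsPrime).ne_top).trans
    ((Ideal.eq_bot_or_top _).resolve_right (inferInstance : (t.under k).IsPrime).ne_top).symm
  exact hno P le_rfl (Algebra.QuasiFiniteAt.eq_of_le_of_under_eq hle hunder ▸ hP)

variable {A B : Type u} [CommRing A] [CommRing B] [Algebra A B] [Algebra.FiniteType A B]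
variable {N : Type u} [AddCommGroup N] [Module B N] [Module.Finite B N]

set_option maxHeartbeats 1000000 in
/-- There are no witnesses over algebras over a field. -/
theorem false_of_wit_field {k R : Type u} [Field k] [CommRing R] [Algebra A k] [Algebra A R] [Algebra k R]
    [IsScalarTower A k R] (t' t : Ideal R) [t'.IsPrime] [t.IsPrime] (hle : t' ≤ t) {n : ℕ} {s : R} {a : Fin n → R}
    {b : Fin n → B} (hw : Wit A N R t' s a b) (hs : s ∉ t) (ha : ∀ i, a i ∈ t) : False := by
  obtain ⟨P, hP, hass, hmem⟩ := hw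
  haveI := hP
  let B₁ := k ⊗[A] B
  let N₁ := B₁ ⊗[B] N
  let B₂ := R ⊗[A] B
  let N₂ := B₂ ⊗[B] N
  haveI : IsScalarTower R B₂ N₂ := TensorProduct.isScalarTower_left
  haveI : IsScalarTower k B₁ N₁ := TensorProduct.isScalarTower_left
  haveI : P.LiesOver t' := liesOver_of_mem_weakAss_fibre t' _ hass
  haveI : IsScalarTower A k B₂ := IsScalarTower.of_algebraMap_eq fun x => by
    show algebraMap A R x ⊗ₜ[A] (1 : B) = algebraMap k R (algebraMap A k x) ⊗ₜ[A] 1
    rw [← IsScalarTower.algebraMap_apply A k R]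
  let φ : B₁ →ₐ[k] B₂ :=
    Algebra.TensorProduct.map (IsScalarTower.toAlgHom k k R) (AlgHom.id A B)
  letI : Algebra B₁ B₂ := φ.toRingHom.toAlgebra
  haveI : IsScalarTower k B₁ B₂ := IsScalarTower.of_algebraMap_eq' φ.comp_algebraMap.symm
  haveI : IsScalarTower B B₁ B₂ := IsScalarTower.of_algebraMap_eq fun x => by
    show (1 : R) ⊗ₜ[A] x = φ ((1 : k) ⊗ₜ[A] x)
    rw [Algebra.TensorProduct.map_tmul, map_one]
    rfl
  haveI : IsScalarTower A B₁ B₂ := IsScalarTower.of_algebraMap_eq fun x => by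
    rw [IsScalarTower.algebraMap_apply A k B₁, ← IsScalarTower.algebraMap_apply k B₁ B₂,
      ← IsScalarTower.algebraMap_apply A k B₂]
  haveI : Algebra.IsPushout A k B B₁ := inferInstance
  haveI : Algebra.IsPushout A R B B₂ := inferInstance
  haveI : Algebra.IsPushout k R B₁ B₂ :=
    (Algebra.IsPushout.comp_iff A k (T := R) (R' := B) (S' := B₁) (T' := B₂)).mp inferInstance
  haveI : Algebra.IsPushout k B₁ R B₂ := Algebra.IsPushout.symm inferInstance
  haveI : SMulCommClass B B₁ B₂ := ⟨fun b c d => by simp only [Algebra.smul_def]; ring⟩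
  haveI : IsScalarTower B₁ B₂ N₂ := TensorProduct.isScalarTower_left
  haveI : IsScalarTower B B₁ N₂ := TensorProduct.isScalarTower_left
  have hf₁ : IsBaseChange B₁ (TensorProduct.mk B B₁ N 1) := TensorProduct.isBaseChange B N B₁
  let h : N₁ →ₗ[B₁] N₂ := hf₁.lift (TensorProduct.mk B B₂ N 1)
  have hh : IsBaseChange B₂ h :=
    IsBaseChange.of_comp hf₁ (by rw [hf₁.lift_comp]; exact TensorProduct.isBaseChange B N B₂)
  haveI : Module.Finite B₁ N₁ := Module.Finite.base_change B B₁ N
  haveI : Algebra.FiniteType k B₁ := inferInstance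
  haveI : Module.Finite B₂ N₂ := Module.Finite.base_change B B₂ N
  haveI : Algebra.FiniteType R B₂ := inferInstance
  haveI : t.LiesOver (t.under k) := ⟨rfl⟩
  refine isUnivPureAlong_field N₁ (t.under k) R B₂ N₂ h t' t P ⟨inferInstance, hh, hle, inferInstance, inferInstance,
    (fiberIdeal_mem_ass_iff_weakAss t' _ P).mpr hass, fun P' _ hle' hover => hs ?_⟩
  haveI := hover
  have hsum : ∑ i, a i ⊗ₜ[A] b i ∈ P' := sum_mem fun i _ => by
    rw [show a i ⊗ₜ[A] b i = (a i ⊗ₜ[A] (1 : B)) * ((1 : R) ⊗ₜ[A] b i) by simp]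
    exact P'.mul_mem_right _ ((Ideal.mem_of_liesOver P' t (a i)).mp (ha i))
  have := P'.add_mem (hle' hmem) hsum
  rw [sub_add_cancel] at this
  exact (Ideal.mem_of_liesOver P' t s).mpr this

/-- A prime that is maximal and minimal among the primes above `p` is quasi-finite. -/
theorem quasiFiniteAt_of_isolated_point {R T : Type u} [CommRing R] [CommRing T] [Algebra R T] [Algebra.FiniteType R T]
    (p : Ideal R) [p.IsPrime] (q : Ideal T) [hq : q.IsPrime] [hqp : q.LiesOver p]
    (hiso : ∀ q' : Ideal T, q'.IsPrime → q'.LiesOver p → (q' ≤ q ∨ q ≤ q') → q' = q) :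
    Algebra.QuasiFiniteAt R q := by
  let e := PrimeSpectrum.primesOverOrderIsoFiber R T p
  let P := e ⟨q, hq, hqp⟩
  haveI : IsNoetherianRing (p.Fiber T) := Algebra.FiniteType.isNoetherianRing p.ResidueField _
  haveI : IsJacobsonRing (p.Fiber T) := isJacobsonRing_of_finiteType (A := p.ResidueField)
  have hopen : IsOpen ({P} : Set (PrimeSpectrum (p.Fiber T))) := by
    have key : ∀ P' : PrimeSpectrum (p.Fiber T), P' ≤ P ∨ P ≤ P' → P' = P := fun P' hP' => by
      have hle : (e.symm P').1 ≤ q ∨ q ≤ (e.symm P').1 := by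
        rcases hP' with h | h
        · exact Or.inl (show (e.symm P') ≤ (⟨q, hq, hqp⟩ : p.primesOver T) from by
            rw [← e.symm_apply_apply ⟨q, hq, hqp⟩]; exact e.symm.monotone h)
        · exact Or.inr (show (⟨q, hq, hqp⟩ : p.primesOver T) ≤ e.symm P' from by
            rw [← e.symm_apply_apply ⟨q, hq, hqp⟩]; exact e.symm.monotone h)
      have := hiso _ (e.symm P').2.1 (e.symm P').2.2 hle
      rw [← e.apply_symm_apply P']
      exact congrArg e (Subtype.ext this)
    refine ((PrimeSpectrum.isOpen_singleton_tfae_of_isNoetherian_of_isJacobsonRing P).out 0 2 rfl rfl).mpr ⟨?_, ?_⟩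
    · rw [← closure_subset_iff_isClosed]
      intro P' hP'
      exact key P' (Or.inr ((PrimeSpectrum.le_iff_mem_closure P P').mpr hP'))
    · intro P₁ P₂ h h₁
      rw [Set.mem_singleton_iff] at h₁ ⊢
      subst h₁
      exact key P₂ (Or.inl ((PrimeSpectrum.le_iff_specializes P₂ P).mpr h))
  haveI : Algebra.QuasiFiniteAt p.ResidueField P.asIdeal := Algebra.QuasiFiniteAt.of_isOpen_singleton P hopen
  exact Algebra.QuasiFiniteAt.of_quasiFiniteAt_residueField p q P.asIdeal
    (congrArg Subtype.val (e.symm_apply_apply (⟨q, hq, hqp⟩ : p.primesOver T)))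

/-- A witness at the generic point spreads to nearby points. -/
theorem exists_wit_spread {R : Type u} [CommRing R] [IsDomain R] [IsNoetherianRing R] [Algebra A R] {n : ℕ} {s : R}
    {a : Fin n → R} {b : Fin n → B} (hw : Wit A N R (⊥ : Ideal R) s a b) :
    ∃ f : R, f ≠ 0 ∧ ∀ (q : Ideal R) (_ : q.IsPrime), f ∉ q → Wit A N R q s a b := by
  classical
  obtain ⟨P, hP, hass, hmem⟩ := hw
  haveI := hP
  let S := R ⊗[A] B
  let M := S ⊗[B] N
  haveI : IsScalarTower R S M := TensorProduct.isScalarTower_left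
  haveI : Module.Finite S M := Module.Finite.base_change B S N
  haveI : Algebra.FiniteType R S := inferInstance
  haveI : IsNoetherianRing S := Algebra.FiniteType.isNoetherianRing R S
  haveI : P.LiesOver (⊥ : Ideal R) := liesOver_of_mem_weakAss_fibre ⊥ M hass
  obtain ⟨-, z, hz⟩ := mem_ass_of_mem_weakAss_of_fg (IsNoetherian.noetherian P) hass
  change P = annE S z at hz
  -- clear denominators
  obtain ⟨r, hr, x, hrx⟩ : ∃ r : R, r ≠ 0 ∧ ∃ x : M, algebraMap R S r • z = x ⊗ₜ[R] (1 : (⊥ : Ideal R).ResidueField) := by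
    clear hz
    induction z using TensorProduct.induction_on with
    | zero => exact ⟨1, one_ne_zero, 0, by simp⟩
    | tmul m c =>
      obtain ⟨u, v, hv, huv⟩ := exists_mul_eq_residue (⊥ : Ideal R) c
      refine ⟨v, fun h => hv (h ▸ Submodule.zero_mem _), u • m, ?_⟩
      rw [algebraMap_smul, ← TensorProduct.tmul_smul, TensorProduct.smul_tmul]
      congr 1
      rw [Algebra.smul_def, Algebra.smul_def, mul_one, huv]
    | add z w hz hw =>
      obtain ⟨r, hr, x, hx⟩ := hz
      obtain ⟨r', hr', x', hx'⟩ := hw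
      refine ⟨r * r', mul_ne_zero hr hr', r' • x + r • x', ?_⟩
      rw [TensorProduct.add_tmul, ← TensorProduct.smul_tmul', ← TensorProduct.smul_tmul', ← hx, ← hx', smul_add,
        algebraMap_smul, algebraMap_smul, algebraMap_smul, algebraMap_smul, smul_smul, smul_smul, mul_comm r' r]
  have hbij := bijective_smul_fibre (⊥ : Ideal R) M (S := S) (r := r) (fun h => hr h)
  have hPx : ∀ c : S, c ∈ P ↔ (c • x) ⊗ₜ[R] (1 : (⊥ : Ideal R).ResidueField) = 0 := fun c => by
    rw [hz, mem_annE, ← TensorProduct.smul_tmul', ← hrx, smul_comm]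
    exact ⟨fun h => by rw [h, smul_zero], fun h => hbij.1 (by simpa using h)⟩
  obtain ⟨G, hG⟩ := IsNoetherian.noetherian P
  have hg : ∀ g : G, ∃ r : R, r ≠ 0 ∧ r • ((g : S) • x) = 0 := fun g => by
    obtain ⟨r, hr, hrm⟩ := exists_smul_mem_of_tmul_one_eq_zero (⊥ : Ideal R) ((g : S) • x)
      ((hPx g).mp (hG ▸ Submodule.subset_span g.2))
    exact ⟨r, fun h => hr (h ▸ Submodule.zero_mem _), by simpa using hrm⟩
  choose rg hrg hrg0 using hg
  let r₀ := ∏ g : G, rg g
  have hr₀ : r₀ ≠ 0 := Finset.prod_ne_zero_iff.mpr fun g _ => hrg g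
  have hbij₀ := bijective_smul_fibre (⊥ : Ideal R) M (S := S) (r := r₀) (fun h => hr₀ h)
  have hann : annE S (r₀ • x) = P := by
    refine le_antisymm (fun c hc => ?_) ?_
    · rw [mem_annE, smul_comm] at hc
      refine (hPx c).mpr (hbij₀.1 (a₂ := 0) ?_ ▸ rfl)
      show algebraMap R S r₀ • ((c • x) ⊗ₜ[R] (1 : (⊥ : Ideal R).ResidueField)) = algebraMap R S r₀ • 0
      rw [smul_zero, TensorProduct.smul_tmul', algebraMap_smul, hc, TensorProduct.zero_tmul]
    · rw [← hG, Ideal.span_le]
      intro g hg'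
      obtain ⟨d, hd⟩ := Finset.dvd_prod_of_mem rg (Finset.mem_univ (⟨g, hg'⟩ : G))
      show g ∈ annE S (r₀ • x)
      rw [mem_annE, smul_comm, show r₀ = rg ⟨g, hg'⟩ * d from hd, mul_comm, mul_smul, hrg0 ⟨g, hg'⟩, smul_zero]
  obtain ⟨f, hf, hfq⟩ := exists_tmul_ne_zero P (Ideal.over_def P (⊥ : Ideal R)).symm (r₀ • x) hann
  refine ⟨f, hf, fun q hq hqf => ?_⟩
  obtain ⟨Q, hQ, hQle⟩ := exists_mem_weakAss_of_ne_zero (R := S) (M := M ⊗[R] q.ResidueField) (m := (r₀ • x) ⊗ₜ[R] 1) (hfq q hq hqf)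
  refine ⟨Q, isPrime_of_mem_weakAss hQ, hQ, hQle ?_⟩
  rw [mem_annE, TensorProduct.smul_tmul', mem_annE.1 (hann.symm ▸ hmem), TensorProduct.zero_tmul]

set_option maxHeartbeats 1000000 in
/-- Over a Noetherian base algebra a witness with closed special point gives a quasi-finite one. -/
theorem exists_quasiFinite_wit {L A₁ : Type u} [CommRing L] [IsNoetherianRing L] [CommRing A₁] [Algebra A L]
    [Algebra A A₁] [Algebra L A₁] [IsScalarTower A L A₁] [Algebra.FiniteType L A₁] (pL : Ideal L) [pL.IsPrime]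
    (t' t : Ideal A₁) [t'.IsPrime] [t.IsPrime] [t.LiesOver pL]
    (hclosed : ∀ τ : Ideal A₁, τ.IsPrime → τ.LiesOver pL → t ≤ τ → τ = t) (hle : t' ≤ t) {n : ℕ} {s : A₁}
    {a : Fin n → A₁} {b : Fin n → B} (hw : Wit A N A₁ t' s a b) (hs : s ∉ t) (ha : ∀ i, a i ∈ t) :
    ∃ (A₂ : Type u) (_ : CommRing A₂) (_ : Algebra A A₂) (_ : Algebra L A₂) (_ : IsScalarTower A L A₂)
      (t₂' t₂ : Ideal A₂) (_ : t₂'.IsPrime) (_ : t₂.IsPrime) (s₂ : A₂) (a₂ : Fin n → A₂),
      Algebra.FiniteType L A₂ ∧ t₂.LiesOver pL ∧ Algebra.QuasiFiniteAt L t₂ ∧ t₂' ≤ t₂ ∧ Wit A N A₂ t₂' s₂ a₂ b ∧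
      s₂ ∉ t₂ ∧ ∀ i, a₂ i ∈ t₂ := by
  have hle₀ : t'.under L ≤ pL := (Ideal.comap_mono hle).trans (Ideal.over_def t pL).ge
  by_cases hc : pL ≤ t'.under L
  · exfalso
    haveI : t'.LiesOver pL := ⟨le_antisymm hc hle₀⟩
    let k := pL.ResidueField
    let F := pL.Fiber A₁
    obtain ⟨T', hT'⟩ := range_comap_fibre_point pL (⟨t', inferInstance⟩ : PrimeSpectrum A₁) inferInstance
    obtain ⟨T, hT⟩ := range_comap_fibre_point pL (⟨t, inferInstance⟩ : PrimeSpectrum A₁) inferInstance
    haveI : T'.asIdeal.LiesOver t' := ⟨(congrArg PrimeSpectrum.asIdeal hT').symm⟩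
    haveI : T.asIdeal.LiesOver t := ⟨(congrArg PrimeSpectrum.asIdeal hT).symm⟩
    have hTle : T'.asIdeal ≤ T.asIdeal := by
      rw [asIdeal_eq_fiberIdeal pL t' T' (congrArg PrimeSpectrum.asIdeal hT'),
        asIdeal_eq_fiberIdeal pL t T (congrArg PrimeSpectrum.asIdeal hT)]
      exact Ideal.map_mono hle
    haveI : IsScalarTower A A₁ F := IsScalarTower.of_algebraMap_eq fun x => by
      show algebraMap A pL.ResidueField x ⊗ₜ[L] (1 : A₁) = (1 : pL.ResidueField) ⊗ₜ[L] algebraMap A A₁ x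
      rw [IsScalarTower.algebraMap_apply A L pL.ResidueField, IsScalarTower.algebraMap_apply A L A₁]
      exact Algebra.TensorProduct.tmul_one_eq_one_tmul (R := L) (A := pL.ResidueField) (B := A₁) _
    exact false_of_wit_field (k := k) T'.asIdeal T.asIdeal hTle ((wit_iff t' T'.asIdeal s a b).mpr hw)
      (fun h => hs ((Ideal.mem_of_liesOver T.asIdeal t s).mpr h))
      (fun i => (Ideal.mem_of_liesOver T.asIdeal t (a i)).mp (ha i))
  obtain ⟨c, hcp, hct⟩ := SetLike.not_le_iff_exists.mp hc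
  haveI : IsNoetherianRing A₁ := Algebra.FiniteType.isNoetherianRing L A₁
  let R := A₁ ⧸ t'
  haveI : (⊥ : Ideal R).LiesOver t' := ⟨by rw [Ideal.under_def, Ideal.Quotient.algebraMap_eq, ← RingHom.ker_eq_comap_bot, Ideal.mk_ker]⟩
  obtain ⟨f, hf, hspread⟩ := exists_wit_spread ((wit_iff t' (⊥ : Ideal R) s a b).mpr hw)
  let tb : Ideal R := t.map (Ideal.Quotient.mk t')
  haveI : tb.IsPrime := Ideal.map_isPrime_of_surjective Ideal.Quotient.mk_surjective (by rwa [Ideal.mk_ker])
  haveI : tb.LiesOver t := ⟨by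
    rw [Ideal.under_def, Ideal.Quotient.algebraMap_eq, Ideal.comap_map_of_surjective _ Ideal.Quotient.mk_surjective,
      ← RingHom.ker_eq_comap_bot, Ideal.mk_ker, sup_eq_left.mpr hle]⟩
  haveI : tb.LiesOver pL := Ideal.LiesOver.trans tb t pL
  let cb := algebraMap L R c
  have hcb : cb ∈ tb := (Ideal.mem_of_liesOver tb pL c).mp hcp
  have hcb0 : cb ≠ 0 := fun h => hct (by
    rw [Ideal.under_def, Ideal.mem_comap, ← Ideal.Quotient.eq_zero_iff_mem, Ideal.Quotient.mk_algebraMap]
    exact h)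
  obtain ⟨q, hq, hqt, hFq, hbetween⟩ := exists_coheight_one tb (mul_ne_zero hf hcb0) (tb.mul_mem_left f hcb)
  haveI := hq
  have hfq : f ∉ q := fun h => hFq (q.mul_mem_right _ h)
  have hwq := hspread q hq hfq
  let A₂ := R ⧸ q
  haveI : (⊥ : Ideal A₂).LiesOver q := ⟨by rw [Ideal.under_def, Ideal.Quotient.algebraMap_eq, ← RingHom.ker_eq_comap_bot, Ideal.mk_ker]⟩
  let t₂ : Ideal A₂ := tb.map (Ideal.Quotient.mk q)
  haveI : t₂.IsPrime := Ideal.map_isPrime_of_surjective Ideal.Quotient.mk_surjective (by rwa [Ideal.mk_ker])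
  haveI : t₂.LiesOver tb := ⟨by
    rw [Ideal.under_def, Ideal.Quotient.algebraMap_eq, Ideal.comap_map_of_surjective _ Ideal.Quotient.mk_surjective,
      ← RingHom.ker_eq_comap_bot, Ideal.mk_ker, sup_eq_left.mpr hqt]⟩
  haveI : t₂.LiesOver pL := Ideal.LiesOver.trans t₂ tb pL
  haveI : Algebra.FiniteType L A₂ :=
    Algebra.FiniteType.of_surjective ((Ideal.Quotient.mkₐ L q).comp (Ideal.Quotient.mkₐ L t'))
      (Ideal.Quotient.mk_surjective.comp Ideal.Quotient.mk_surjective)
  have hqf : Algebra.QuasiFiniteAt L t₂ := by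
    refine quasiFiniteAt_of_isolated_point pL t₂ fun τ hτ hτp hcmp => ?_
    haveI := hτ
    haveI := hτp
    have hqτ : q ≤ τ.under R := fun x hx => by
      show Ideal.Quotient.mk q x ∈ τ
      rw [Ideal.Quotient.eq_zero_iff_mem.mpr hx]
      exact τ.zero_mem
    haveI : (τ.under R).LiesOver pL := ⟨by rw [Ideal.under_under]; exact Ideal.over_def τ pL⟩
    haveI : ((τ.under R).under A₁).LiesOver pL := ⟨by rw [Ideal.under_under]; exact Ideal.over_def _ pL⟩
    have key : τ.under R = tb := by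
      rcases hcmp with h | h
      · have hle' : τ.under R ≤ tb := (Ideal.comap_mono h).trans (Ideal.over_def t₂ tb).ge
        rcases hbetween _ inferInstance hqτ hle' with h' | h'
        · exact absurd (tb.mul_mem_left f hcb |> fun _ => q.mul_mem_left f
            (h' ▸ (Ideal.mem_of_liesOver (τ.under R) pL c).mp hcp)) hFq
        · exact h'
      · have h1 : t ≤ (τ.under R).under A₁ :=
          (Ideal.over_def tb t).le.trans (Ideal.comap_mono ((Ideal.over_def t₂ tb).le.trans (Ideal.comap_mono h)))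
        refine Ideal.comap_injective_of_surjective _ (Ideal.Quotient.mk_surjective (I := t')) ?_
        exact (hclosed _ inferInstance inferInstance h1).trans (Ideal.over_def tb t)
    rw [← Ideal.map_comap_of_surjective _ (Ideal.Quotient.mk_surjective (I := q)) τ]
    exact congrArg (Ideal.map (Ideal.Quotient.mk q)) key
  refine ⟨A₂, inferInstance, inferInstance, inferInstance, inferInstance, ⊥, t₂, inferInstance, inferInstance, _, _,
    inferInstance, inferInstance, hqf, bot_le, (wit_iff q (⊥ : Ideal A₂) _ _ b).mpr hwq, fun h => ?_, fun i => ?_⟩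
  · exact hs ((Ideal.mem_of_liesOver tb t s).mpr ((Ideal.mem_of_liesOver t₂ tb _).mpr h))
  · exact (Ideal.mem_of_liesOver t₂ tb _).mp ((Ideal.mem_of_liesOver tb t (a i)).mp (ha i))

end Groth.L20.RG
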