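import Groth.Agent.L07.GenericFree
import Groth.Agent.L20.RG.Impurity
import Groth.Agent.L20.RG.Point
import Mathlib.RingTheory.Ideal.KrullsHeightTheorem

/-!
# Spreading an associated point of the generic fibre
-/

set_option autoImplicit false
set_option linter.style.haveILetI false
set_option backward.isDefEq.respectTransparency.types false
universe u

open TensorProduct IsLocalRing Groth.L03.WeakAss

noncomputable section

namespace Groth.L20.RG

/-- In a Noetherian local domain with an element in every nonzero prime, there are only two primes. -/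
theorem eq_maximalIdeal_of_mem_all {D : Type u} [CommRing D] [IsDomain D] [IsNoetherianRing D] [IsLocalRing D]
    {F : D} (hF : F ≠ 0) (hall : ∀ P : Ideal D, P.IsPrime → P ≠ ⊥ → F ∈ P) (P : Ideal D) [hP : P.IsPrime]
    (hP0 : P ≠ ⊥) : P = maximalIdeal D := by
  classical
  let T := Ideal.finite_minimalPrimes_of_isNoetherianRing D (Ideal.span {F})
  have hT : (maximalIdeal D : Set D) ⊆ ⋃ Q ∈ (↑T.toFinset : Set (Ideal D)), (Q : Set D) := by
    intro x hx
    simp only [Set.mem_iUnion, Set.Finite.coe_toFinset, SetLike.mem_coe, exists_prop]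
    by_cases hx0 : x = 0
    · obtain ⟨Q, hQ⟩ := (Ideal.span {F}).nonempty_minimalPrimes (fun h => by
        obtain ⟨y, hy⟩ := Ideal.mem_span_singleton'.mp (h ▸ (Submodule.mem_top : (1 : D) ∈ (⊤ : Ideal D)))
        exact (maximalIdeal.isMaximal D).ne_top (Ideal.eq_top_of_isUnit_mem _
          ((le_maximalIdeal hP.ne_top) (hall P hP hP0)) (IsUnit.of_mul_eq_one y (mul_comm y F ▸ hy))))
      exact ⟨Q, hQ, hx0 ▸ Q.zero_mem⟩
    · obtain ⟨Q, hQ, hQle⟩ := Ideal.exists_minimalPrimes_le (J := maximalIdeal D)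
        ((Ideal.span_singleton_le_iff_mem _).mpr hx : Ideal.span {x} ≤ maximalIdeal D)
      haveI := hQ.isPrime
      have hxQ : x ∈ Q := hQ.le (Ideal.mem_span_singleton_self x)
      have hQ0 : Q ≠ ⊥ := fun h => hx0 (by simpa [h] using hxQ)
      obtain ⟨Q', hQ', hQ'le⟩ := Ideal.exists_minimalPrimes_le (J := Q)
        ((Ideal.span_singleton_le_iff_mem _).mpr (hall Q inferInstance hQ0) : Ideal.span {F} ≤ Q)
      haveI := hQ'.isPrime
      refine ⟨Q', hQ', ?_⟩
      rcases eq_or_lt_of_le hQ'le with h | h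
      · exact h ▸ hxQ
      · exfalso
        have h1 : Q'.height < Q.height := Ideal.height_strict_mono_of_isPrime h
        have h2 : Q.height ≤ 1 := Ideal.height_le_one_of_isPrincipal_of_mem_minimalPrimes _ Q hQ
        have h3 : Q'.height = 0 := Order.lt_one_iff.mp (h1.trans_le h2)
        exact hF (by simpa [Ideal.height_eq_zero_iff_eq_bot.mp h3] using hQ'.le (Ideal.mem_span_singleton_self F))
  obtain ⟨Q, hQ, hQle⟩ := (Ideal.subset_union_prime (f := fun Q : Ideal D => Q) ⊥ ⊥ fun Q hQ _ _ =>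
    (T.mem_toFinset.mp hQ).isPrime).mp hT
  have hQmin := T.mem_toFinset.mp hQ
  refine le_antisymm (le_maximalIdeal hP.ne_top) (hQle.trans ?_)
  exact hQmin.2 ⟨hP, (Ideal.span_singleton_le_iff_mem _).mpr (hall P hP hP0)⟩
    ((le_maximalIdeal hP.ne_top).trans hQle)

/-- Below a prime of a Noetherian domain there is a prime of coheight one avoiding a nonzero element of it. -/
theorem exists_coheight_one {R : Type u} [CommRing R] [IsDomain R] [IsNoetherianRing R] (t : Ideal R) [t.IsPrime]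
    {F : R} (hF : F ≠ 0) (hFt : F ∈ t) :
    ∃ q : Ideal R, q.IsPrime ∧ q ≤ t ∧ F ∉ q ∧ ∀ τ : Ideal R, τ.IsPrime → q ≤ τ → τ ≤ t → τ = q ∨ τ = t := by
  classical
  obtain ⟨q, ⟨hq, hqt, hFq⟩, hmax⟩ := set_has_maximal_iff_noetherian.mpr (inferInstance : IsNoetherian R R)
    {q : Ideal R | q.IsPrime ∧ q ≤ t ∧ F ∉ q} ⟨⊥, Ideal.isPrime_bot, bot_le, fun h => hF h⟩
  refine ⟨q, hq, hqt, hFq, fun τ hτ hqτ hτt => ?_⟩
  haveI := hq
  by_cases hτq : τ = q
  · exact Or.inl hτq
  right
  let t₁ := t.map (Ideal.Quotient.mk q)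
  haveI : t₁.IsPrime := Ideal.map_isPrime_of_surjective Ideal.Quotient.mk_surjective (by rwa [Ideal.mk_ker])
  let L := Localization.AtPrime t₁
  have ht₁ : t₁.comap (Ideal.Quotient.mk q) = t := by
    rw [Ideal.comap_map_of_surjective _ Ideal.Quotient.mk_surjective, ← RingHom.ker_eq_comap_bot, Ideal.mk_ker,
      sup_eq_left.mpr hqt]
  let g : R →+* L := (algebraMap (R ⧸ q) L).comp (Ideal.Quotient.mk q)
  have hg0 : ∀ x, g x = 0 ↔ x ∈ q := fun x => by
    rw [RingHom.comp_apply, map_eq_zero_iff _ (IsLocalization.injective L t₁.primeCompl_le_nonZeroDivisors),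
      Ideal.Quotient.eq_zero_iff_mem]
  have hall : ∀ P : Ideal L, P.IsPrime → P ≠ ⊥ → g F ∈ P := by
    intro P hP hP0
    by_contra hFP
    haveI : (P.comap g).IsPrime := Ideal.comap_isPrime _ _
    have hle : q ≤ P.comap g := fun x hx => by rw [Ideal.mem_comap, (hg0 x).mpr hx]; exact P.zero_mem
    have hPt : P.comap g ≤ t := by
      show (P.comap (algebraMap _ L)).comap (Ideal.Quotient.mk q) ≤ t
      refine le_of_le_of_eq (Ideal.comap_mono ?_) ht₁
      exact (Ideal.comap_mono (le_maximalIdeal hP.ne_top)).trans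
        (IsLocalization.AtPrime.under_maximalIdeal L t₁).le
    refine hmax _ ⟨inferInstance, hPt, hFP⟩ (lt_of_le_of_ne hle fun h => hP0 ?_)
    rw [← IsLocalization.map_under t₁.primeCompl L P, eq_bot_iff, Ideal.map_le_iff_le_comap]
    intro y hy
    obtain ⟨y, rfl⟩ := Ideal.Quotient.mk_surjective y
    have : y ∈ q := h.symm ▸ (show y ∈ P.comap g from hy)
    simp [Ideal.Quotient.eq_zero_iff_mem.mpr this]
  let τ₁ := (τ.map (Ideal.Quotient.mk q)).map (algebraMap (R ⧸ q) L)
  haveI : (τ.map (Ideal.Quotient.mk q)).IsPrime :=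
    Ideal.map_isPrime_of_surjective Ideal.Quotient.mk_surjective (by rwa [Ideal.mk_ker])
  have hdisj : Disjoint (t₁.primeCompl : Set (R ⧸ q)) ↑(τ.map (Ideal.Quotient.mk q)) :=
    Set.disjoint_left.mpr fun x hx hxτ => hx (Ideal.map_mono hτt hxτ)
  haveI : τ₁.IsPrime := IsLocalization.isPrime_of_isPrime_disjoint t₁.primeCompl L _ inferInstance hdisj
  have hτ₁ : τ₁.comap g = τ := by
    show (τ₁.comap (algebraMap _ L)).comap (Ideal.Quotient.mk q) = τ
    rw [show τ₁.comap (algebraMap _ L) = _ from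
      IsLocalization.under_map_of_isPrime_disjoint t₁.primeCompl L inferInstance hdisj,
      Ideal.comap_map_of_surjective _ Ideal.Quotient.mk_surjective, ← RingHom.ker_eq_comap_bot, Ideal.mk_ker,
      sup_eq_left.mpr hqτ]
  have hτ₁0 : τ₁ ≠ ⊥ := fun h => hτq (le_antisymm (fun x hx => (hg0 x).mp (by
    have : g x ∈ τ₁ := (show x ∈ τ₁.comap g from hτ₁.symm ▸ hx)
    simpa [h] using this)) hqτ)
  have := eq_maximalIdeal_of_mem_all (fun h => hFq ((hg0 F).mp h)) hall τ₁ hτ₁0
  rw [← hτ₁, this]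
  show ((maximalIdeal L).comap (algebraMap _ L)).comap (Ideal.Quotient.mk q) = t
  exact (congrArg _ (IsLocalization.AtPrime.under_maximalIdeal L t₁)).trans ht₁

set_option maxHeartbeats 2000000 in
/-- An element whose annihilator is a prime over the generic point stays nonzero in nearby fibres. -/
theorem exists_tmul_ne_zero {R S M : Type u} [CommRing R] [IsDomain R] [IsNoetherianRing R] [CommRing S] [Algebra R S]
    [Algebra.FiniteType R S] [AddCommGroup M] [Module S M] [Module R M] [IsScalarTower R S M] [Module.Finite S M]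
    (P : Ideal S) [P.IsPrime] (hP : P.comap (algebraMap R S) = ⊥) (x : M) (hx : annE S x = P) :
    ∃ f : R, f ≠ 0 ∧ ∀ q : Ideal R, ∀ _ : q.IsPrime, f ∉ q → x ⊗ₜ[R] (1 : q.ResidueField) ≠ 0 := by
  classical
  let ι₀ : (S ⧸ P) →ₗ[S] M := P.liftQ (LinearMap.toSpanSingleton S M x) fun s hs => by
    rw [← hx] at hs
    simpa using (mem_annE.1 hs)
  have hι : Function.Injective ι₀ := by
    rw [← LinearMap.ker_eq_bot, Submodule.ker_liftQ_eq_bot']
    ext s
    rw [LinearMap.mem_ker, ← hx]
    exact mem_annE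
  let ι : (S ⧸ P) →ₗ[R] M := ι₀.restrictScalars R
  let π : M →ₗ[R] M ⧸ LinearMap.range ι₀ := (LinearMap.range ι₀).mkQ.restrictScalars R
  have hex : Function.Exact ι π := LinearMap.exact_iff.mpr (by
    ext m
    exact Submodule.Quotient.mk_eq_zero _)
  obtain ⟨f₁, hf₁, hF₁⟩ := Groth.L07.GenFree.exists_freeAt (R := R) (S := S) (M ⧸ LinearMap.range ι₀)
  obtain ⟨f₂, hf₂, hF₂⟩ := Groth.L07.GenFree.exists_freeAt (R := R) (S := S) (S ⧸ P)
  let f := f₁ * f₂
  have hf : f ≠ 0 := mul_ne_zero hf₁ hf₂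
  let Sf := Submonoid.powers f
  let Rf := Localization.Away f
  let iP := LocalizedModule.mkLinearMap Sf (S ⧸ P)
  let iM := LocalizedModule.mkLinearMap Sf M
  let iC := LocalizedModule.mkLinearMap Sf (M ⧸ LinearMap.range ι₀)
  let ιf : LocalizedModule Sf (S ⧸ P) →ₗ[Rf] LocalizedModule Sf M := IsLocalizedModule.mapExtendScalars Sf iP iM Rf ι
  let πf : LocalizedModule Sf M →ₗ[Rf] LocalizedModule Sf (M ⧸ LinearMap.range ι₀) :=
    IsLocalizedModule.mapExtendScalars Sf iM iC Rf π
  have hιf : Function.Injective ιf := IsLocalizedModule.map_injective Sf iP iM ι hι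
  have hexf : Function.Exact ιf πf := IsLocalizedModule.map_exact Sf iP iM iC ι π hex
  have hπf : Function.Surjective πf := IsLocalizedModule.map_surjective Sf iM iC π (Submodule.mkQ_surjective _)
  haveI : Module.Free Rf (LocalizedModule Sf (M ⧸ LinearMap.range ι₀)) :=
    (hF₁.mono (dvd_mul_right f₁ f₂)).free hf Rf _ iC
  haveI : Module.Free Rf (LocalizedModule Sf (S ⧸ P)) := (hF₂.mono (dvd_mul_left f₂ f₁)).free hf Rf _ iP
  obtain ⟨σ, hσ⟩ := Module.projective_lifting_property πf LinearMap.id hπf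
  let er := LinearEquiv.ofInjective ιf hιf
  let ρ : LocalizedModule Sf M →ₗ[Rf] LocalizedModule Sf (S ⧸ P) :=
    er.symm.toLinearMap.comp (LinearMap.codRestrict _ (LinearMap.id - σ.comp πf) fun y => by
      rw [← hexf.linearMap_ker_eq, LinearMap.mem_ker]
      simp [show ∀ z, πf (σ z) = z from fun z => LinearMap.congr_fun hσ z])
  have hρ : ∀ y, ρ (ιf y) = y := fun y => er.injective (Subtype.ext (by
    simp [ρ, er, hexf.apply_apply_eq_zero y]))
  haveI : Nontrivial (LocalizedModule Sf (S ⧸ P)) := by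
    refine ⟨⟨iP 1, 0, fun h => ?_⟩⟩
    obtain ⟨⟨c, hc⟩, hc0⟩ := (IsLocalizedModule.eq_zero_iff Sf iP).mp h
    obtain ⟨k, rfl⟩ := hc
    rw [Submonoid.smul_def, Algebra.smul_def, mul_one] at hc0
    have : algebraMap R S (f ^ k) ∈ P := Ideal.Quotient.eq_zero_iff_mem.mp
      (by rw [Ideal.Quotient.mk_algebraMap]; exact hc0)
    rw [← Ideal.mem_comap] at this
    rw [hP, Ideal.mem_bot] at this
    exact pow_ne_zero k hf this
  let bas := Module.Free.chooseBasis Rf (LocalizedModule Sf (S ⧸ P))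
  obtain ⟨i⟩ := bas.index_nonempty
  obtain ⟨⟨v, c⟩, hv⟩ := IsLocalizedModule.surj Sf iP (bas i)
  obtain ⟨v, rfl⟩ := Ideal.Quotient.mk_surjective v
  refine ⟨f, hf, fun q _ hfq h0 => ?_⟩
  let k : Rf →+* q.ResidueField := IsLocalization.Away.lift f
    (g := algebraMap R q.ResidueField) (isUnit_iff_ne_zero.mpr fun h => hfq (Ideal.algebraMap_residueField_eq_zero.mp h))
  have hk : ∀ r, k (algebraMap R Rf r) = algebraMap R q.ResidueField r := fun r =>
    IsLocalization.Away.lift_eq (g := algebraMap R q.ResidueField) f _ r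
  let e : LocalizedModule Sf (S ⧸ P) →ₗ[Rf] Rf := bas.coord i
  let φ : M →ₗ[R] q.ResidueField :=
    { toFun := fun m => k (e (ρ (iM m)))
      map_add' := fun a b => by simp only [map_add]
      map_smul' := fun r a => by
        rw [map_smul, ← algebraMap_smul Rf r (iM a), map_smul, map_smul, smul_eq_mul, map_mul, hk, RingHom.id_apply,
          Algebra.smul_def] }
  have hι1 : ι (Ideal.Quotient.mk P v) = v • x := by
    show ι₀ (Submodule.Quotient.mk v) = v • x
    rw [Submodule.liftQ_apply, LinearMap.toSpanSingleton_apply]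
  have hcne : algebraMap R q.ResidueField (c : R) ≠ 0 := fun h => by
    obtain ⟨j, hj⟩ := c.2
    exact hfq ((inferInstance : q.IsPrime).mem_of_pow_mem j ((congrArg (· ∈ q) hj).mpr (Ideal.algebraMap_residueField_eq_zero.mp h)))
  have hφ : φ (v • x) ≠ 0 := by
    show k (e (ρ (iM (v • x)))) ≠ 0
    rw [← hι1, show iM (ι (Ideal.Quotient.mk P v)) = ιf (iP (Ideal.Quotient.mk P v)) from
      (IsLocalizedModule.map_apply Sf iP iM ι _).symm, hρ, ← hv, Submonoid.smul_def, ← algebraMap_smul Rf (c : R),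
      map_smul, smul_eq_mul, map_mul, hk, show e (bas i) = 1 by simp [e], map_one, mul_one]
    exact hcne
  refine hφ ?_
  have hvx : (v • x) ⊗ₜ[R] (1 : q.ResidueField) = 0 := by
    rw [← TensorProduct.smul_tmul', h0, smul_zero]
  simpa using congrArg ((LinearMap.mul' R q.ResidueField).comp (φ.rTensor q.ResidueField)) hvx

end Groth.L20.RG
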