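import Groth.Agent.L20.RG.FlatFp
import Groth.Agent.L20.RG.StepFacts
import Groth.Agent.L20.FiberAss
import Groth.Agent.L20.WeakAssFinite

/-!
# Weakly associated primes of flat modules of finite type

For a finite module `N` over a finite type `R`-algebra `S` and a prime `q` at which `N` is flat over `R`:
`q` is weakly associated to `N ⊗[R] M` iff the prime below is weakly associated to `M` and `q` is associated to the
fibre module.
-/

set_option autoImplicit false
set_option linter.style.haveILetI false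
set_option backward.isDefEq.respectTransparency.types false
universe u

open TensorProduct IsLocalRing

noncomputable section

namespace Groth.L20.RG

open Groth.L03.WeakAss

/-- Weakly associated primes through elements. -/
theorem mem_weakAss_iff_exists {R M : Type*} [CommRing R] [AddCommGroup M] [Module R M] {q : Ideal R} [hq : q.IsPrime] :
    q ∈ FlatCA.weakAss R M ↔
      ∃ z : M, (∀ s ∉ q, s • z ≠ 0) ∧ ∀ b ∈ q, ∃ s ∉ q, ∃ k : ℕ, (s * b ^ k) • z = 0 := by
  constructor
  · rintro ⟨z, hz⟩
    obtain ⟨-, hle, h⟩ := minimalPrimes_iff.1 hz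
    exact ⟨z, fun s hs h0 => hs (hle (mem_annE.2 h0)), fun b hb => by
      obtain ⟨s, hs, k, hk⟩ := h b hb
      exact ⟨s, hs, k, mem_annE.1 hk⟩⟩
  · rintro ⟨z, h1, h2⟩
    refine ⟨z, minimalPrimes_iff.2 ⟨hq, fun s hs => ?_, fun b hb => ?_⟩⟩
    · by_contra hsq
      exact h1 s hsq (mem_annE.1 hs)
    · obtain ⟨s, hs, k, hk⟩ := h2 b hb
      exact ⟨s, hs, k, mem_annE.2 hk⟩

section Fibre

variable {R S : Type u} [CommRing R] [CommRing S] [Algebra R S] (p : Ideal R) [p.IsPrime]
  (N : Type u) [AddCommGroup N] [Module S N] [Module R N] [IsScalarTower R S N]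

theorem bijective_smul_fibre {r : R} (hr : r ∉ p) :
    Function.Bijective fun z : N ⊗[R] p.ResidueField => algebraMap R S r • z := by
  have hu : algebraMap R p.ResidueField r ≠ 0 := fun h => hr (Ideal.algebraMap_residueField_eq_zero.mp h)
  let e : N ⊗[R] p.ResidueField ≃ₗ[R] N ⊗[R] p.ResidueField :=
    (LinearEquiv.smulOfNeZero p.ResidueField p.ResidueField _ hu).restrictScalars R |>.lTensor N
  have he : ∀ z, e z = algebraMap R S r • z := fun z => by
    induction z using TensorProduct.induction_on with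
    | zero => simp
    | add a b ha hb => rw [map_add, ha, hb, smul_add]
    | tmul n k =>
      show n ⊗ₜ[R] (algebraMap R p.ResidueField r • k) = _
      rw [algebraMap_smul, algebraMap_smul, TensorProduct.smul_tmul', TensorProduct.smul_tmul]
  rw [show (fun z : N ⊗[R] p.ResidueField => algebraMap R S r • z) = e from funext fun z => (he z).symm]
  exact e.bijective

theorem smul_fibre_eq_zero {a : R} (ha : a ∈ p) (z : N ⊗[R] p.ResidueField) : algebraMap R S a • z = 0 := by
  induction z using TensorProduct.induction_on with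
  | zero => simp
  | add x y hx hy => rw [smul_add, hx, hy, add_zero]
  | tmul n k =>
    rw [algebraMap_smul, TensorProduct.smul_tmul', TensorProduct.smul_tmul,
      Algebra.smul_def, Ideal.algebraMap_residueField_eq_zero.mpr ha, zero_mul, TensorProduct.tmul_zero]

/-- Weakly associated primes of the fibre lie over the prime. -/
theorem liesOver_of_mem_weakAss_fibre {P : Ideal S} (hP : P ∈ FlatCA.weakAss S (N ⊗[R] p.ResidueField)) :
    P.LiesOver p := by
  haveI := isPrime_of_mem_weakAss hP
  obtain ⟨z, h1, h2⟩ := mem_weakAss_iff_exists.1 hP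
  refine ⟨le_antisymm (fun a ha => ?_) (fun a ha => ?_)⟩
  · rw [Ideal.under_def, Ideal.mem_comap]
    by_contra h
    exact h1 _ h (smul_fibre_eq_zero p N ha z)
  · by_contra hap
    obtain ⟨s, hs, k, hk⟩ := h2 _ ha
    refine h1 s hs ((bijective_smul_fibre (S := S) p N (r := a ^ k) fun h => hap (Ideal.IsPrime.mem_of_pow_mem ‹p.IsPrime› k h)).1 ?_)
    show algebraMap R S (a ^ k) • (s • z) = algebraMap R S (a ^ k) • (0 : N ⊗[R] p.ResidueField)
    rw [smul_zero, smul_smul, map_pow, mul_comm, hk]

variable [Algebra.FiniteType R S] [Module.Finite S N]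

omit [Module.Finite S N] in
/-- Associated primes of the fibre module, seen on the algebra. -/
theorem fiberIdeal_mem_ass_iff_weakAss (P : Ideal S) [hP : P.IsPrime] [P.LiesOver p] :
    FlatCA.fiberIdeal p P ∈ associatedPrimes (p.Fiber S) (FlatCA.fiberMod p S N) ↔
      P ∈ FlatCA.weakAss S (N ⊗[R] p.ResidueField) := by
  constructor
  · intro h
    obtain ⟨z, hz⟩ := (Groth.L20.fiberIdeal_mem_associatedPrimes_iff p N P).mp h
    refine mem_weakAss_iff_exists.2 ⟨z, fun s hs h0 => hs ((hz s).2 ⟨1, by rwa [pow_one]⟩), fun b hb => ?_⟩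
    obtain ⟨k, hk⟩ := (hz b).1 hb
    exact ⟨1, fun h1 => hP.ne_top ((Ideal.eq_top_iff_one P).mpr h1), k, by rwa [one_mul]⟩
  · intro h
    obtain ⟨z, hz⟩ := h
    let e := fiberModEquiv p S N
    let w := e.symm z
    let incl := (Algebra.TensorProduct.includeRight (R := R) (A := p.ResidueField) (B := S)).toRingHom
    let J : Ideal (p.Fiber S) := annE (p.Fiber S) w
    have hJ : J.comap incl = annE S z := by
      letI : Algebra S (p.Fiber S) := Algebra.TensorProduct.rightAlgebra
      haveI : IsScalarTower S (p.Fiber S) (FlatCA.fiberMod p S N) :=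
        inferInstanceAs (IsScalarTower S (p.Fiber S) ((p.Fiber S) ⊗[S] N))
      ext b
      rw [Ideal.mem_comap, mem_annE, mem_annE, show incl b = algebraMap S (p.Fiber S) b from rfl, algebraMap_smul,
        ← e.symm.map_smul, LinearEquiv.map_eq_zero_iff]
    haveI := Groth.L20.isPrime_fiberIdeal p P
    have hQ : FlatCA.fiberIdeal p P ∈ J.minimalPrimes := by
      have hQc : (FlatCA.fiberIdeal p P).comap incl = P := Groth.L20.comap_fiberIdeal p P
      refine ⟨⟨inferInstance, ?_⟩, fun Q hQ hQP => ?_⟩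
      · rw [← Groth.L20.fiberIdeal_comap p J]
        exact Ideal.map_mono (hJ.trans_le hz.le)
      · haveI := hQ.1
        have h1 : Q.comap incl ≤ P := (Ideal.comap_mono hQP).trans hQc.le
        have h2 : P ≤ Q.comap incl := hz.2 ⟨inferInstance, hJ.ge.trans (Ideal.comap_mono hQ.2)⟩ h1
        rw [← Groth.L20.fiberIdeal_comap p Q]
        exact Ideal.map_mono h2
    haveI : IsNoetherianRing (p.Fiber S) := Algebra.FiniteType.isNoetherianRing p.ResidueField _
    obtain ⟨hprime, x, hx⟩ := mem_ass_of_mem_weakAss_of_fg (IsNoetherian.noetherian _) ⟨w, hQ⟩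
    refine ⟨hprime, x, ?_⟩
    have : (⊥ : Submodule (p.Fiber S) (FlatCA.fiberMod p S N)).colon {x} = FlatCA.fiberIdeal p P := by
      ext b
      rw [Submodule.mem_colon_singleton, Submodule.mem_bot, hx, mem_annE]
    rw [this, hprime.radical]

/-- The fibre has finitely many weakly associated primes. -/
theorem finite_weakAss_fibre : (FlatCA.weakAss S (N ⊗[R] p.ResidueField)).Finite := by
  haveI : IsNoetherianRing (p.Fiber S) := Algebra.FiniteType.isNoetherianRing p.ResidueField _
  refine ((associatedPrimes.finite (p.Fiber S) (FlatCA.fiberMod p S N)).image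
    fun Q => Q.comap (Algebra.TensorProduct.includeRight (R := R) (A := p.ResidueField) (B := S)).toRingHom).subset
    fun P hP => ?_
  haveI := isPrime_of_mem_weakAss hP
  haveI := liesOver_of_mem_weakAss_fibre p N hP
  exact ⟨_, (fiberIdeal_mem_ass_iff_weakAss p N P).mpr hP, Groth.L20.comap_fiberIdeal p P⟩

end Fibre

/-- Prime avoidance for the primes not contained in a given prime. -/
theorem exists_notMem_mem_of_not_le {S : Type*} [CommRing S] {W : Set (Ideal S)} (hW : W.Finite) (q : Ideal S)
    [hq : q.IsPrime] : ∃ g ∉ q, ∀ P ∈ W, ¬P ≤ q → g ∈ P := by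
  classical
  choose t ht htq using fun P : { P : Ideal S // P ∈ W ∧ ¬P ≤ q } => SetLike.not_le_iff_exists.1 P.2.2
  haveI : Finite { P : Ideal S // P ∈ W ∧ ¬P ≤ q } := (hW.subset fun P hP => hP.1).to_subtype
  haveI := Fintype.ofFinite { P : Ideal S // P ∈ W ∧ ¬P ≤ q }
  refine ⟨∏ P, t P, fun h => ?_, fun P hP hPq => ?_⟩
  · obtain ⟨P, -, hP⟩ := (Ideal.IsPrime.prod_mem_iff).mp h
    exact htq P hP
  · exact P.prod_mem (Finset.mem_univ ⟨P, hP, hPq⟩) (ht ⟨P, hP, hPq⟩)

/-- An element regular at `q` has kernel killed by powers of an element in all the other weakly associated primes. -/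
theorem exists_pow_smul_eq_zero {S V : Type*} [CommRing S] [AddCommGroup V] [Module S V] {q : Ideal S} [q.IsPrime] {g : S}
    (hg : ∀ P ∈ FlatCA.weakAss S V, ¬P ≤ q → g ∈ P) {z : V} (hz : ∃ s ∉ q, s • z = 0) : ∃ k : ℕ, g ^ k • z = 0 := by
  obtain ⟨s, hs, hsz⟩ := hz
  have : g ∈ (annE S z).radical := by
    rw [← Ideal.sInf_minimalPrimes]
    refine Submodule.mem_sInf.2 fun P hP => hg P ⟨z, hP⟩ fun hle => hs (hle (hP.le (mem_annE.2 hsz)))
  obtain ⟨k, hk⟩ := Ideal.mem_radical_iff.1 this
  exact ⟨k, mem_annE.1 hk⟩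

/-- Vanishing at the residue field. -/
theorem exists_smul_mem_of_tmul_one_eq_zero {R X : Type u} [CommRing R] [AddCommGroup X] [Module R X] (p : Ideal R)
    [p.IsPrime] (x : X) (h : x ⊗ₜ[R] (1 : p.ResidueField) = 0) : ∃ r ∉ p, r • x ∈ p • (⊤ : Submodule R X) := by
  let L := Localization.AtPrime p
  let Y := L ⊗[R] X
  have h1 : (1 : p.ResidueField) ⊗ₜ[L] ((1 : L) ⊗ₜ[R] x) = 0 := by
    apply (AlgebraTensorModule.cancelBaseChange R L L p.ResidueField X).injective
    rw [AlgebraTensorModule.cancelBaseChange_tmul, map_zero, one_smul]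
    simpa using congrArg (TensorProduct.comm R X p.ResidueField) h
  have h2 : (1 : L) ⊗ₜ[R] x ∈ maximalIdeal L • (⊤ : Submodule L Y) := by
    rw [← Submodule.Quotient.mk_eq_zero, ← quotTensorEquivQuotSMul_mk_one_tmul]
    exact (quotTensorEquivQuotSMul Y (maximalIdeal L)).map_eq_zero_iff.mpr h1
  let f : X →ₗ[R] Y := TensorProduct.mk R L X 1
  haveI : IsLocalizedModule p.primeCompl f :=
    (isLocalizedModule_iff_isBaseChange p.primeCompl L _).mpr (TensorProduct.isBaseChange R X L)
  have h3 : ∀ y ∈ maximalIdeal L • (⊤ : Submodule L Y),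
      ∃ (r : p.primeCompl) (x' : X), x' ∈ p • (⊤ : Submodule R X) ∧ r • y = f x' := by
    intro y hy
    refine Submodule.smul_induction_on hy (fun a ha n _ => ?_) ?_
    · obtain ⟨⟨a₀, s⟩, hs⟩ := IsLocalization.surj p.primeCompl a
      obtain ⟨⟨n₀, t⟩, ht⟩ := IsLocalizedModule.surj p.primeCompl f n
      have ha₀ : a₀ ∈ p := by
        have : algebraMap R L a₀ ∈ maximalIdeal L := hs ▸ Ideal.mul_mem_right _ _ ha
        exact (IsLocalization.AtPrime.to_map_mem_maximal_iff L p a₀).mp this
      refine ⟨s * t, a₀ • n₀, Submodule.smul_mem_smul ha₀ trivial, ?_⟩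
      rw [map_smul, ← ht, Submonoid.smul_def, Submonoid.smul_def, Submonoid.coe_mul, ← algebraMap_smul L a₀,
        ← hs, mul_smul (s : R) (t : R), ← algebraMap_smul L (s : R), smul_comm (t : R) a n, smul_smul,
        mul_comm (algebraMap R L (s : R)) a]
    · rintro y y' ⟨r, x₁, hx₁, h₁⟩ ⟨r', x₂, hx₂, h₂⟩
      refine ⟨r * r', (r' : R) • x₁ + (r : R) • x₂, add_mem (Submodule.smul_mem _ _ hx₁) (Submodule.smul_mem _ _ hx₂), ?_⟩
      rw [smul_add, map_add, map_smul, map_smul, ← h₁, ← h₂, Submonoid.smul_def, Submonoid.smul_def, Submonoid.smul_def,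
        Submonoid.smul_def, Submonoid.coe_mul, smul_smul, smul_smul, mul_comm (r' : R) (r : R)]
  obtain ⟨r, x', hx', hr⟩ := h3 _ h2
  have h4 : f (r • x) = f x' := by rw [Submonoid.smul_def, map_smul]; exact hr
  obtain ⟨c, hc⟩ := IsLocalizedModule.exists_of_eq (S := p.primeCompl) h4
  refine ⟨(c : R) * r, fun hm => ((inferInstance : p.IsPrime).mem_or_mem hm).elim c.2 r.2, ?_⟩
  rw [mul_smul, ← Submonoid.smul_def r x, ← Submonoid.smul_def c, hc, Submonoid.smul_def]
  exact Submodule.smul_mem _ _ hx'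

/-- The local ring of an etale neighbourhood, with what is needed for descent. -/
theorem exists_localRing {R R' : Type u} [CommRing R] [CommRing R'] [Algebra R R'] [Algebra.Etale R R'] (p : Ideal R)
    [p.IsPrime] (p' : Ideal R') [p'.IsPrime] [p'.LiesOver p] (f : R') (hf : f ∉ p') :
    ∃ (A : Type u) (_ : CommRing A) (_ : IsLocalRing A) (_ : Algebra R' A) (_ : Algebra R A) (_ : IsScalarTower R R' A),
      TrivRes R' p' (maximalIdeal A) ∧ Module.Flat R' A ∧ IsUnit (algebraMap R' A f) ∧
      p.map (algebraMap R A) = maximalIdeal A ∧ (∀ r ∉ p, IsUnit (algebraMap R A r)) ∧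
      (∀ (M : Type u) [AddCommGroup M] [Module R M],
        maximalIdeal A ∈ FlatCA.weakAss A (A ⊗[R] M) → p ∈ FlatCA.weakAss R M) ∧
      Module.Flat R A ∧ Algebra.FormallyUnramified R A ∧ Algebra.EssFiniteType R A := by
  letI := Localization.AtPrime.algebraOfLiesOver p p'
  haveI : Algebra.IsUnramifiedAt R p' := inferInstance
  refine ⟨Localization.AtPrime p', inferInstance, inferInstance, inferInstance, inferInstance, inferInstance,
    trivRes_atPrime p', IsLocalization.flat _ p'.primeCompl, IsLocalization.map_units _ (⟨f, hf⟩ : p'.primeCompl),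
    ((Algebra.isUnramifiedAt_iff_map_eq R p p').mp inferInstance).2, fun r hr => ?_, fun M _ _ h => ?_, ?_, ?_, ?_⟩
  · rw [IsScalarTower.algebraMap_apply R R' (Localization.AtPrime p')]
    exact IsLocalization.map_units _ (⟨algebraMap R R' r, fun h => hr ((Ideal.mem_of_liesOver p' p r).mpr h)⟩ : p'.primeCompl)
  · rw [Groth.L20.WeakAssFinite.mem_weakAss_tensor_localization_iff (A := R) (R := R') p'.primeCompl,
      Localization.AtPrime.under_maximalIdeal] at h
    exact (Groth.L20.WeakAssFinite.mem_weakAss_tensor_iff_of_etale p p').mp h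
  · haveI : Module.Flat R R' := Algebra.Smooth.flat R R'
    haveI : Module.Flat R' (Localization.AtPrime p') := IsLocalization.flat _ p'.primeCompl
    exact Module.Flat.trans R R' (Localization.AtPrime p')
  · haveI : Algebra.FormallyUnramified R' (Localization.AtPrime p') :=
      Algebra.FormallyUnramified.of_isLocalization p'.primeCompl
    exact Algebra.FormallyUnramified.comp R R' (Localization.AtPrime p')
  · haveI : Algebra.EssFiniteType R' (Localization.AtPrime p') := Algebra.EssFiniteType.of_isLocalization _ p'.primeCompl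
    exact Algebra.EssFiniteType.comp R R' (Localization.AtPrime p')

/-- A principal localisation, with the transfer of flatness at a point. -/
theorem exists_away_chart {R S : Type u} [CommRing R] [CommRing S] [Algebra R S] [Algebra.FiniteType R S]
    (N : Type u) [AddCommGroup N] [Module S N] [Module R N] [IsScalarTower R S N] (q : Ideal S) [q.IsPrime] {g : S}
    (hg : g ∉ q) (hflat : FlatCA.FlatAt R q N) :
    ∃ (Sg : Type u) (_ : CommRing Sg) (_ : Algebra S Sg) (_ : Algebra R Sg) (_ : IsScalarTower R S Sg)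
      (qg : Ideal Sg) (_ : qg.IsPrime), qg.LiesOver q ∧ Module.Flat S Sg ∧ Algebra.FiniteType R Sg ∧
      IsUnit (algebraMap S Sg g) ∧ FlatCA.FlatAt R qg (Sg ⊗[S] N) := by
  obtain ⟨qg, _, hqg⟩ := exists_prime_away q hg
  haveI := hqg
  haveI : Module.Flat R (LocalizedModule (qg.comap (algebraMap S (Localization.Away g))).primeCompl N) := by
    have : qg.comap (algebraMap S (Localization.Away g)) = q := hqg.over.symm
    subst this
    exact hflat
  haveI : Module.Flat S (Localization.Away g) := IsLocalization.flat _ (Submonoid.powers g)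
  exact ⟨Localization.Away g, inferInstance, inferInstance, inferInstance, inferInstance, qg, inferInstance, hqg,
    inferInstance, Algebra.FiniteType.trans (S := S) inferInstance inferInstance,
    IsLocalization.Away.algebraMap_isUnit g,
    Groth.L20.AboveClosed.flat_of_flat_below (TensorProduct.mk S (Localization.Away g) N 1)
      (TensorProduct.isBaseChange S N (Localization.Away g)) qg⟩

set_option maxHeartbeats 400000 in
/-- A chart at a flat point over which the module is free and elements regular on the fibre stay regular. -/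
theorem exists_regular_chart' {R S : Type u} [CommRing R] [CommRing S] [Algebra R S] [Algebra.FiniteType R S]
    (N : Type u) [AddCommGroup N] [Module S N] [Module R N] [IsScalarTower R S N] [Module.Finite S N] (p : Ideal R)
    [p.IsPrime] (q : Ideal S) [q.IsPrime] [q.LiesOver p] (hflat : FlatCA.FlatAt R q N) :
    ∃ (A : Type u) (_ : CommRing A) (_ : IsLocalRing A) (_ : Algebra R A) (C : Type u) (_ : CommRing C) (_ : Algebra S C)
      (_ : Algebra A C) (_ : SMulCommClass S A C) (_ : Algebra R C) (_ : IsScalarTower R A C) (_ : IsScalarTower R S C)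
      (_ : SMulCommClass S R C),
      p.map (algebraMap R A) = maximalIdeal A ∧ (∀ r ∉ p, IsUnit (algebraMap R A r)) ∧
      (∀ (M : Type u) [AddCommGroup M] [Module R M],
        maximalIdeal A ∈ FlatCA.weakAss A (A ⊗[R] M) → p ∈ FlatCA.weakAss R M) ∧
      Module.Flat S C ∧ (∃ x : Ideal C, x.IsPrime ∧ x.comap (algebraMap S C) = q) ∧ Module.Free A (C ⊗[S] N) ∧
      (∀ t : S, (∀ z : N ⊗[R] p.ResidueField, t • z = 0 → ∃ s ∉ q, s • z = 0) →
        ∀ v : C ⊗[S] (N ⊗[R] p.ResidueField), algebraMap S C t • v = 0 → v = 0) ∧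
      Module.Flat R A ∧ Algebra.FormallyUnramified R A ∧ Algebra.EssFiniteType R A := by
  classical
  obtain ⟨g, hg, hgW⟩ := exists_notMem_mem_of_not_le (finite_weakAss_fibre (S := S) p N) q
  obtain ⟨Sg, _, _, _, _, qg, _, hqg, hflatSg, hftg, hgu, hflatg⟩ := exists_away_chart N q hg hflat
  haveI := hqg
  haveI := hftg
  haveI := hflatSg
  haveI : qg.LiesOver p := Ideal.LiesOver.trans qg q p
  haveI : IsScalarTower R Sg (Sg ⊗[S] N) := inferInstance
  obtain ⟨R', S', _, _, _, _, _, _, _, _, p', _, f, hp, hS, hf, ⟨q', _, hq'p, hq'⟩, -, H⟩ :=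
    exists_free_local_ft (Sg ⊗[S] N) p qg hflatg
  haveI := hp.1
  haveI := hp.2.1
  haveI := hS
  haveI := hq'p
  haveI := hq'.liesOver
  obtain ⟨A, _, _, _, _, _, hA, hAflat, hu, hmA, hrA, hdesc, hflR, hunr, hess⟩ := exists_localRing (R := R) p p' f hf
  obtain ⟨C, _, _, _, _, _, _, hpush, Qc, _, hQp, hQq⟩ := exists_pushout_point (A := A) p' q' (maximalIdeal A) hA
  haveI := hpush
  haveI := hQq.liesOver
  letI : Algebra Sg C := ((algebraMap S' C).comp (algebraMap Sg S')).toAlgebra
  haveI : IsScalarTower Sg S' C := IsScalarTower.of_algebraMap_eq' rfl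
  letI : Algebra S C := ((algebraMap Sg C).comp (algebraMap S Sg)).toAlgebra
  haveI : IsScalarTower S Sg C := IsScalarTower.of_algebraMap_eq' rfl
  letI : Algebra R C := ((algebraMap A C).comp (algebraMap R A)).toAlgebra
  haveI : IsScalarTower R A C := IsScalarTower.of_algebraMap_eq' rfl
  haveI : IsScalarTower R S C := IsScalarTower.of_algebraMap_eq fun r => by
    rw [IsScalarTower.algebraMap_apply R A C, IsScalarTower.algebraMap_apply R R' A,
      ← IsScalarTower.algebraMap_apply R' A C, IsScalarTower.algebraMap_apply R' S' C,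
      ← IsScalarTower.algebraMap_apply R R' S', IsScalarTower.algebraMap_apply S Sg C,
      ← IsScalarTower.algebraMap_apply R S Sg, IsScalarTower.algebraMap_apply Sg S' C,
      ← IsScalarTower.algebraMap_apply R Sg S']
  haveI : SMulCommClass S A C := ⟨fun s a c => by simp only [Algebra.smul_def]; ring⟩
  haveI : SMulCommClass S R C := ⟨fun s a c => by simp only [Algebra.smul_def]; ring⟩
  haveI : SMulCommClass S Sg C := ⟨fun s a c => by simp only [Algebra.smul_def]; ring⟩
  haveI := hAflat
  haveI hpush' : Algebra.IsPushout R' S' A C := Algebra.IsPushout.symm hpush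
  haveI : Module.Flat S' C := Module.Flat.isBaseChange R' S' A C hpush'.out
  haveI : Module.Flat Sg S' := Algebra.Smooth.flat Sg S'
  haveI : Module.Flat Sg C := Module.Flat.trans Sg S' C
  haveI hflatC : Module.Flat S C := Module.Flat.trans S Sg C
  haveI : IsScalarTower Sg C (C ⊗[S] N) := TensorProduct.isScalarTower_left
  haveI : IsScalarTower A C (C ⊗[S] N) := TensorProduct.isScalarTower_left
  haveI : IsScalarTower S Sg (C ⊗[S] N) := IsScalarTower.of_algebraMap_smul fun s m => by
    rw [← algebraMap_smul C (algebraMap S Sg s) m, ← IsScalarTower.algebraMap_apply, algebraMap_smul]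
  have h0 := TensorProduct.isBaseChange S N Sg
  let gN : N →ₗ[S] C ⊗[S] N := TensorProduct.mk S C N 1
  have hbc : IsBaseChange C (h0.lift gN) := IsBaseChange.of_comp h0 (by
    have : (h0.lift gN).restrictScalars S ∘ₗ TensorProduct.mk S Sg N 1 = gN := h0.lift_comp gN
    rw [this]; exact TensorProduct.isBaseChange S N C)
  refine ⟨A, inferInstance, inferInstance, inferInstance, C, inferInstance, inferInstance, inferInstance, inferInstance,
    inferInstance, inferInstance, inferInstance, inferInstance, hmA, hrA, hdesc, hflatC, ⟨Qc, inferInstance, ?_⟩,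
    H A hA hu C (C ⊗[S] N) (h0.lift gN) hbc, ?_, hflR, hunr, hess⟩
  · have h1 : q = qg.comap (algebraMap S Sg) := hqg.over
    have h2 : qg = q'.comap (algebraMap Sg S') := hq'.liesOver.over
    have h3 : q' = Qc.comap (algebraMap S' C) := hQq.liesOver.over
    rw [h1, h2, h3, Ideal.comap_comap, Ideal.comap_comap]
    rfl
  · intro t ht v hv
    let V := N ⊗[R] p.ResidueField
    let u : V →ₗ[S] V := LinearMap.lsmul S V t
    have hex := Module.Flat.lTensor_exact C (LinearMap.exact_subtype_ker_map u)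
    have hv' : u.lTensor C v = 0 := by
      have : ∀ w : C ⊗[S] V, u.lTensor C w = algebraMap S C t • w := fun w => by
        induction w using TensorProduct.induction_on with
        | zero => simp
        | add a b ha hb => rw [map_add, ha, hb, smul_add]
        | tmul c z =>
          rw [LinearMap.lTensor_tmul, LinearMap.lsmul_apply, TensorProduct.smul_tmul', smul_eq_mul,
            ← Algebra.smul_def, TensorProduct.smul_tmul]
      rw [this, hv]
    obtain ⟨w, hw⟩ := (hex v).1 hv'
    have hgC : IsUnit (algebraMap S C g) := by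
      rw [IsScalarTower.algebraMap_apply S Sg C]
      exact hgu.map _
    have key : ∀ w : C ⊗[S] LinearMap.ker u, (LinearMap.ker u).subtype.lTensor C w = 0 := fun w => by
      induction w using TensorProduct.induction_on with
      | zero => simp
      | add a b ha hb => rw [map_add, ha, hb, add_zero]
      | tmul c z =>
        obtain ⟨k, hk⟩ := exists_pow_smul_eq_zero hgW (ht z.1 z.2)
        rw [LinearMap.lTensor_tmul, Submodule.subtype_apply]
        obtain ⟨e, he⟩ := (hgC.pow k).exists_right_inv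
        have : c = (g ^ k) • (e * c) := by rw [Algebra.smul_def, map_pow, ← mul_assoc, he, one_mul]
        rw [this, TensorProduct.smul_tmul, hk, TensorProduct.tmul_zero]
    rw [← hw]
    exact key w

/-- A chart at a flat point over which the module is free and elements regular on the fibre stay regular. -/
theorem exists_regular_chart {R S : Type u} [CommRing R] [CommRing S] [Algebra R S] [Algebra.FiniteType R S]
    (N : Type u) [AddCommGroup N] [Module S N] [Module R N] [IsScalarTower R S N] [Module.Finite S N] (p : Ideal R)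
    [p.IsPrime] (q : Ideal S) [q.IsPrime] [q.LiesOver p] (hflat : FlatCA.FlatAt R q N) :
    ∃ (A : Type u) (_ : CommRing A) (_ : IsLocalRing A) (_ : Algebra R A) (C : Type u) (_ : CommRing C) (_ : Algebra S C)
      (_ : Algebra A C) (_ : SMulCommClass S A C) (_ : Algebra R C) (_ : IsScalarTower R A C) (_ : IsScalarTower R S C)
      (_ : SMulCommClass S R C),
      p.map (algebraMap R A) = maximalIdeal A ∧ (∀ r ∉ p, IsUnit (algebraMap R A r)) ∧
      (∀ (M : Type u) [AddCommGroup M] [Module R M],
        maximalIdeal A ∈ FlatCA.weakAss A (A ⊗[R] M) → p ∈ FlatCA.weakAss R M) ∧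
      Module.Flat S C ∧ (∃ x : Ideal C, x.IsPrime ∧ x.comap (algebraMap S C) = q) ∧ Module.Free A (C ⊗[S] N) ∧
      ∀ t : S, (∀ z : N ⊗[R] p.ResidueField, t • z = 0 → ∃ s ∉ q, s • z = 0) →
        ∀ v : C ⊗[S] (N ⊗[R] p.ResidueField), algebraMap S C t • v = 0 → v = 0 :=
  let ⟨A, i1, i2, i3, C, j1, j2, j3, j4, j5, j6, j7, j8, h1, h2, h3, h4, h5, h6, h7, _⟩ := exists_regular_chart' N p q hflat
  ⟨A, i1, i2, i3, C, j1, j2, j3, j4, j5, j6, j7, j8, h1, h2, h3, h4, h5, h6, h7⟩

section Regular

variable {R S A C : Type u} [CommRing R] [CommRing S] [CommRing A] [CommRing C] [IsLocalRing A] [Algebra R S] [Algebra R A]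
  [Algebra S C] [Algebra A C] [SMulCommClass S A C] [Algebra R C] [IsScalarTower R A C] [IsScalarTower R S C]
  [SMulCommClass S R C]
  (N : Type u) [AddCommGroup N] [Module S N] [Module R N] [IsScalarTower R S N] (M : Type u) [AddCommGroup M] [Module R M]

/-- The base change of `N ⊗[R] M` in terms of modules over the local ring. -/
def chartEquiv : C ⊗[S] (N ⊗[R] M) ≃ₗ[A] (C ⊗[S] N) ⊗[A] (A ⊗[R] M) :=
  haveI : IsScalarTower A C (C ⊗[S] N) := TensorProduct.isScalarTower_left
  haveI : IsScalarTower R A (C ⊗[S] N) := IsScalarTower.of_algebraMap_smul fun r m => by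
    rw [← algebraMap_smul C (algebraMap R A r) m, ← IsScalarTower.algebraMap_apply, algebraMap_smul]
  haveI : IsScalarTower A C (C ⊗[S] (N ⊗[R] M)) := TensorProduct.isScalarTower_left
  haveI : IsScalarTower A C ((C ⊗[S] N) ⊗[R] M) := TensorProduct.isScalarTower_left
  ((AlgebraTensorModule.assoc R S C C N M).symm.restrictScalars A).trans
    (AlgebraTensorModule.cancelBaseChange R A A (C ⊗[S] N) M).symm

theorem chartEquiv_tmul (c : C) (n : N) (m : M) :
    chartEquiv (A := A) N M (c ⊗ₜ[S] (n ⊗ₜ[R] m)) = (c ⊗ₜ[S] n) ⊗ₜ[A] ((1 : A) ⊗ₜ[R] m) := by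
  simp [chartEquiv]

theorem chartEquiv_smul (t : C) (z : C ⊗[S] (N ⊗[R] M)) :
    chartEquiv (A := A) N M (t • z) = t • chartEquiv (A := A) N M z := by
  induction z using TensorProduct.induction_on with
  | zero => simp
  | add a b ha hb => rw [smul_add, map_add, ha, hb, map_add, smul_add]
  | tmul c y =>
    induction y using TensorProduct.induction_on with
    | zero => simp
    | add a b ha hb =>
      rw [TensorProduct.tmul_add, smul_add, map_add, map_add, ha, hb, smul_add]
    | tmul n m =>
      rw [TensorProduct.smul_tmul', chartEquiv_tmul, chartEquiv_tmul, TensorProduct.smul_tmul', TensorProduct.smul_tmul']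

/-- An element regular on the fibre acts injectively. -/
theorem smul_injective_chart {p : Ideal R} [p.IsPrime] (hmA : p.map (algebraMap R A) = maximalIdeal A)
    (hrA : ∀ r ∉ p, IsUnit (algebraMap R A r)) [Module.Free A (C ⊗[S] N)] (t : C)
    (ht : ∀ v : C ⊗[S] (N ⊗[R] p.ResidueField), t • v = 0 → v = 0)
    (w : C ⊗[S] (N ⊗[R] M)) (hw : t • w = 0) : w = 0 := by
  let Nc := C ⊗[S] N
  haveI : IsScalarTower A C Nc := TensorProduct.isScalarTower_left
  haveI : IsScalarTower R A Nc := IsScalarTower.of_algebraMap_smul fun r m => by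
    rw [← algebraMap_smul C (algebraMap R A r) m, ← IsScalarTower.algebraMap_apply, algebraMap_smul]
  let τ : Nc →ₗ[A] Nc :=
    { toFun := fun x => t • x
      map_add' := fun x y => smul_add t x y
      map_smul' := fun a x => smul_comm t a x }
  have hm : maximalIdeal A • (⊤ : Submodule A Nc) ≤ Submodule.span A ((fun ax : R × Nc => algebraMap R A ax.1 • ax.2) ''
      {ax | ax.1 ∈ p}) := by
    rw [← hmA, Ideal.map, Submodule.span_smul_eq, ← Submodule.span_univ, Submodule.set_smul_span]
    refine Submodule.span_mono ?_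
    rintro _ ⟨_, ⟨a, ha, rfl⟩, x, -, rfl⟩
    exact ⟨(a, x), ha, rfl⟩
  have hinj : Function.Injective (τ.lTensor (ResidueField A)) := by
    rw [Groth.L20.injective_lTensor_residueField_iff]
    intro x hx
    let E := AlgebraTensorModule.assoc R S C C N p.ResidueField
    have h1 : ∀ y ∈ maximalIdeal A • (⊤ : Submodule A Nc), y ⊗ₜ[R] (1 : p.ResidueField) = 0 := fun y hy => by
      refine Submodule.span_induction ?_ ?_ ?_ ?_ (hm hy)
      · rintro _ ⟨⟨a, x⟩, ha, rfl⟩
        show (algebraMap R A a • x) ⊗ₜ[R] (1 : p.ResidueField) = 0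
        rw [algebraMap_smul, TensorProduct.smul_tmul, Algebra.smul_def,
          Ideal.algebraMap_residueField_eq_zero.mpr ha, zero_mul, TensorProduct.tmul_zero]
      · exact TensorProduct.zero_tmul _ _
      · intro a b _ _ ha hb
        rw [TensorProduct.add_tmul, ha, hb, add_zero]
      · intro a y _ hy
        rw [← TensorProduct.smul_tmul' (R := R) a y, hy, smul_zero]
    have h2 : E (x ⊗ₜ[R] (1 : p.ResidueField)) = 0 := by
      refine ht _ ?_
      rw [← E.map_smul, TensorProduct.smul_tmul', show t • x = τ x from rfl, h1 _ hx, map_zero]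
    obtain ⟨r, hr, hrx⟩ := exists_smul_mem_of_tmul_one_eq_zero p x (E.map_eq_zero_iff.mp h2)
    have h3 : ∀ y ∈ p • (⊤ : Submodule R Nc), y ∈ maximalIdeal A • (⊤ : Submodule A Nc) := fun y hy => by
      refine Submodule.smul_induction_on hy (fun a ha n _ => ?_) fun a b ha hb => add_mem ha hb
      rw [← algebraMap_smul A a n]
      exact Submodule.smul_mem_smul (hmA ▸ Ideal.mem_map_of_mem _ ha) trivial
    obtain ⟨e, he⟩ := (hrA r hr).exists_left_inv
    have : x = e • algebraMap R A r • x := by rw [smul_smul, he, one_smul]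
    rw [this, algebraMap_smul]
    exact Submodule.smul_mem _ _ (h3 _ hrx)
  have hQ := (LinearMap.lTensor_inj_iff_rTensor_inj (A ⊗[R] M) τ).mp
    (Groth.L20.lTensor_injective_of_projective τ hinj (A ⊗[R] M))
  have key : ∀ y : Nc ⊗[A] (A ⊗[R] M), τ.rTensor _ y = t • y := fun y => by
    induction y using TensorProduct.induction_on with
    | zero => simp
    | add a b ha hb => rw [map_add, ha, hb, smul_add]
    | tmul a b => rw [LinearMap.rTensor_tmul, TensorProduct.smul_tmul']; rfl
  have : chartEquiv (A := A) N M w = 0 := by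
    refine hQ ?_
    rw [map_zero, key, ← chartEquiv_smul, hw, map_zero]
  exact (LinearEquiv.map_eq_zero_iff _).mp this

end Regular

set_option maxHeartbeats 400000 in
/-- A weakly associated point of `N ⊗ M` at which `N` is flat. -/
theorem of_mem_weakAss_tensor {R S : Type u} [CommRing R] [CommRing S] [Algebra R S] [Algebra.FiniteType R S]
    (N : Type u) [AddCommGroup N] [Module S N] [Module R N] [IsScalarTower R S N] [Module.Finite S N]
    (M : Type u) [AddCommGroup M] [Module R M] (p : Ideal R) [p.IsPrime] (q : Ideal S) [q.IsPrime] [q.LiesOver p]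
    (hflat : FlatCA.FlatAt R q N) (h : q ∈ FlatCA.weakAss S (N ⊗[R] M)) :
    p ∈ FlatCA.weakAss R M ∧ q ∈ FlatCA.weakAss S (N ⊗[R] p.ResidueField) := by
  classical
  obtain ⟨A, _, _, _, C, _, _, _, _, _, _, _, _, hmA, hrA, hdesc, hflatC, ⟨x, hx, hxq⟩, hfree, hreg⟩ :=
    exists_regular_chart N p q hflat
  haveI := hflatC
  haveI := hfree
  haveI : IsScalarTower A C (C ⊗[S] N) := TensorProduct.isScalarTower_left
  haveI : IsScalarTower A C (C ⊗[S] (N ⊗[R] M)) := TensorProduct.isScalarTower_left
  obtain ⟨z, hz1, hz2⟩ := mem_weakAss_iff_exists.1 h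
  let W := N ⊗[R] M
  let w : C ⊗[S] W := (1 : C) ⊗ₜ[S] z
  have hinjS : ∀ t : S, (∀ y : N ⊗[R] p.ResidueField, t • y = 0 → ∃ s ∉ q, s • y = 0) →
      ∀ v : C ⊗[S] W, algebraMap S C t • v = 0 → v = 0 := fun t ht =>
    smul_injective_chart (A := A) N M hmA hrA _ (hreg t ht)
  have hw : w ≠ 0 := by
    intro hw0
    let u := LinearMap.toSpanSingleton S W z
    have h1 : u.lTensor C ((1 : C) ⊗ₜ[S] (1 : S)) = 0 := by
      rw [LinearMap.lTensor_tmul, LinearMap.toSpanSingleton_apply, one_smul]; exact hw0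
    obtain ⟨y, hy⟩ := (Module.Flat.lTensor_exact C (LinearMap.exact_subtype_ker_map u) _).1 h1
    have key : ∀ y : C ⊗[S] LinearMap.ker u, TensorProduct.rid S C ((LinearMap.ker u).subtype.lTensor C y) ∈ x := fun y => by
      induction y using TensorProduct.induction_on with
      | zero => simp
      | add a b ha hb => simpa using add_mem ha hb
      | tmul c i =>
        rw [LinearMap.lTensor_tmul, TensorProduct.rid_tmul, Algebra.smul_def]
        refine x.mul_mem_right _ ?_
        have hiq : (i : S) ∈ q := by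
          by_contra hi
          exact hz1 _ hi i.2
        rwa [← hxq, Ideal.mem_comap] at hiq
    have := key y
    rw [hy, TensorProduct.rid_tmul, one_smul] at this
    exact hx.ne_top ((Ideal.eq_top_iff_one x).mpr this)
  have hsmul : ∀ (t : S), algebraMap S C t • w = (1 : C) ⊗ₜ[S] (t • z) := fun t => by
    rw [algebraMap_smul, TensorProduct.smul_tmul', TensorProduct.smul_tmul]
  refine ⟨hdesc M ?_, ?_⟩
  · let Q := A ⊗[R] M
    let b := Module.Free.chooseBasis A (C ⊗[S] N)
    let F := (chartEquiv (A := A) N M).trans (TensorProduct.equivFinsuppOfBasisLeft (R := A) (N := A ⊗[R] M) b)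
    obtain ⟨i, hi⟩ : ∃ i, F w i ≠ 0 := by
      by_contra! h0
      exact hw ((LinearEquiv.map_eq_zero_iff F).mp (Finsupp.ext h0))
    refine mem_weakAss_iff_exists.2 ⟨F w i, fun a ha h0 => hi ?_, fun a ha => ?_⟩
    · exact (IsUnit.smul_eq_zero (IsLocalRing.notMem_maximalIdeal.mp ha)).mp h0
    · have hle : p.map (algebraMap R A) ≤ (annE A (F w i)).radical := by
        refine Ideal.map_le_iff_le_comap.mpr fun a ha => ?_
        have haq : algebraMap R S a ∈ q := by rwa [← Ideal.mem_comap, ← Ideal.under_def, ← Ideal.LiesOver.over (P := q) (p := p)]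
        obtain ⟨s, hs, k, hk⟩ := hz2 _ haq
        refine ⟨k, mem_annE.2 ?_⟩
        have h1 : algebraMap S C s • (algebraMap R A a ^ k • w) = 0 := by
          rw [← algebraMap_smul C (algebraMap R A a ^ k) w, smul_smul, map_pow, ← IsScalarTower.algebraMap_apply R A C,
            IsScalarTower.algebraMap_apply R S C, ← map_pow, ← map_mul, hsmul, hk, TensorProduct.tmul_zero]
        have h2 := hinjS s (fun y hy => ⟨s, hs, hy⟩) _ h1
        rw [← Finsupp.smul_apply, ← F.map_smul, h2, map_zero, Finsupp.zero_apply]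
      rw [hmA] at hle
      obtain ⟨k, hk⟩ := Ideal.mem_radical_iff.1 (hle ha)
      refine ⟨1, fun h1 => (maximalIdeal.isMaximal A).ne_top ((Ideal.eq_top_iff_one _).mpr h1), k, ?_⟩
      rw [one_mul]
      exact mem_annE.1 hk
  · by_contra hq
    have hfin := finite_weakAss_fibre (S := S) p N
    obtain ⟨b, hbq, hb⟩ : ∃ b ∈ q, ∀ P ∈ FlatCA.weakAss S (N ⊗[R] p.ResidueField), P ≤ q → b ∉ P := by
      by_contra! hne
      let I := hfin.toFinset.filter fun P => P ≤ q
      have hsub : (q : Set S) ⊆ ⋃ P ∈ (↑I : Set (Ideal S)), P := by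
        intro b hb
        obtain ⟨P, hP, hle, hbP⟩ := hne b hb
        simp only [Set.mem_iUnion]
        exact ⟨P, Finset.mem_coe.2 (Finset.mem_filter.2 ⟨hfin.mem_toFinset.2 hP, hle⟩), hbP⟩
      obtain ⟨P, hP, hle⟩ := (Ideal.subset_union_prime (f := id) ⊥ ⊥ (fun P hP _ _ =>
        isPrime_of_mem_weakAss (hfin.mem_toFinset.1 (Finset.mem_filter.1 hP).1))).1 hsub
      exact hq (le_antisymm hle (Finset.mem_filter.1 hP).2 ▸ hfin.mem_toFinset.1 (Finset.mem_filter.1 hP).1)
    obtain ⟨s, hs, k, hk⟩ := hz2 b hbq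
    have hregb : ∀ y : N ⊗[R] p.ResidueField, b • y = 0 → ∃ s ∉ q, s • y = 0 := by
      intro y hy
      by_contra! hne
      have hle : annE S y ≤ q := fun s hs => by
        by_contra hsq
        exact hne s hsq (mem_annE.1 hs)
      obtain ⟨P, hP, hPq⟩ := Ideal.exists_minimalPrimes_le hle
      exact hb P ⟨y, hP⟩ hPq (hP.le (mem_annE.2 hy))
    have hpow : ∀ (n : ℕ) (v : C ⊗[S] W), algebraMap S C b ^ n • v = 0 → v = 0 := fun n => by
      induction n with
      | zero => intro v hv; simpa using hv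
      | succ n ih =>
        intro v hv
        rw [pow_succ, mul_smul] at hv
        exact hinjS b hregb v (ih _ hv)
    refine hw (hpow k w (hinjS s (fun y hy => ⟨s, hs, hy⟩) _ ?_))
    rw [smul_smul, ← map_pow, ← map_mul, hsmul, hk, TensorProduct.tmul_zero]

theorem smul_mem_smul_top' {R S N : Type*} [CommRing R] [CommRing S] [Algebra R S] [AddCommGroup N] [Module S N]
    [Module R N] [IsScalarTower R S N] {I : Ideal R} (s : S) {m : N} (hm : m ∈ I • (⊤ : Submodule R N)) :
    s • m ∈ I • (⊤ : Submodule R N) :=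
  Submodule.smul_induction_on hm (fun a ha n _ => by rw [smul_comm]; exact Submodule.smul_mem_smul ha trivial)
    fun a b ha hb => by rw [smul_add]; exact add_mem ha hb

set_option maxHeartbeats 400000 in
/-- A module flat at a point has a weakly associated point there if the fibre does. -/
theorem mem_weakAss_tensor_of {R S : Type u} [CommRing R] [CommRing S] [Algebra R S] [Algebra.FiniteType R S]
    (N : Type u) [AddCommGroup N] [Module S N] [Module R N] [IsScalarTower R S N]
    (M : Type u) [AddCommGroup M] [Module R M] (p : Ideal R) [p.IsPrime] (q : Ideal S) [q.IsPrime] [q.LiesOver p]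
    (hflat : FlatCA.FlatAt R q N) (hpM : p ∈ FlatCA.weakAss R M)
    (hass : q ∈ FlatCA.weakAss S (N ⊗[R] p.ResidueField)) : q ∈ FlatCA.weakAss S (N ⊗[R] M) := by
  classical
  haveI hflat' : Module.Flat R (LocalizedModule q.primeCompl N) := hflat
  obtain ⟨x₀, hx1, hx2⟩ := mem_weakAss_iff_exists.1 hpM
  obtain ⟨y₀, hy1, hy2⟩ := mem_weakAss_iff_exists.1 hass
  have hpq : ∀ a : R, algebraMap R S a ∈ q ↔ a ∈ p := fun a => (Ideal.mem_of_liesOver q p a).symm
  -- a pure tensor witness
  have hpure : ∀ y : N ⊗[R] p.ResidueField, ∃ r ∉ p, ∃ n : N, algebraMap R S r • y = n ⊗ₜ[R] (1 : p.ResidueField) := by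
    intro y
    induction y using TensorProduct.induction_on with
    | zero => exact ⟨1, fun h => (inferInstance : p.IsPrime).ne_top ((Ideal.eq_top_iff_one p).mpr h), 0,
        by rw [smul_zero, TensorProduct.zero_tmul]⟩
    | add a b ha hb =>
      obtain ⟨r, hr, n, hn⟩ := ha
      obtain ⟨r', hr', n', hn'⟩ := hb
      refine ⟨r * r', fun h => ((inferInstance : p.IsPrime).mem_or_mem h).elim hr hr',
        algebraMap R S r' • n + algebraMap R S r • n', ?_⟩
      rw [TensorProduct.add_tmul, ← TensorProduct.smul_tmul' (R := R), ← TensorProduct.smul_tmul' (R := R), ← hn,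
        ← hn', smul_add, smul_smul, smul_smul, map_mul, mul_comm (algebraMap R S r)]
    | tmul n c =>
      obtain ⟨r₀, r, hr, hc⟩ := IsFractionRing.div_surjective (A := R ⧸ p) (K := p.ResidueField) c
      obtain ⟨r₀, rfl⟩ := Ideal.Quotient.mk_surjective r₀
      obtain ⟨r, rfl⟩ := Ideal.Quotient.mk_surjective r
      have hr' : r ∉ p := fun h => nonZeroDivisors.ne_zero hr (Ideal.Quotient.eq_zero_iff_mem.mpr h)
      refine ⟨r, hr', r₀ • n, ?_⟩
      rw [algebraMap_smul, ← TensorProduct.tmul_smul, TensorProduct.smul_tmul]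
      congr 1
      rw [Algebra.smul_def, Algebra.smul_def, mul_one, ← hc, Ideal.algebraMap_quotient_residueField_mk,
        Ideal.algebraMap_quotient_residueField_mk, mul_div_cancel₀]
      exact fun h => hr' (Ideal.algebraMap_residueField_eq_zero.mp h)
  obtain ⟨r, hr, n, hn⟩ := hpure y₀
  have hn1 : ∀ s ∉ q, s • n ⊗ₜ[R] (1 : p.ResidueField) ≠ 0 := fun s hs h => by
    refine hy1 (s * algebraMap R S r) (fun h' => (Ideal.IsPrime.mem_or_mem inferInstance h').elim hs
      fun h'' => hr ((hpq r).1 h'')) ?_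
    rw [mul_smul, hn, h]
  -- finitely many generators of `q` in the fibre
  let incl := (Algebra.TensorProduct.includeRight (R := R) (A := p.ResidueField) (B := S)).toRingHom
  haveI : IsNoetherianRing (p.Fiber S) := Algebra.FiniteType.isNoetherianRing p.ResidueField _
  obtain ⟨T, hTsub, hT⟩ := Submodule.fg_span_iff_fg_span_finset_subset _ |>.mp
    (IsNoetherian.noetherian (Ideal.span (incl '' (q : Set S)) : Ideal (p.Fiber S)))
  choose t ht htT using fun i : T => hTsub i.2
  choose s' hs' k' hk' using fun i : T => hy2 (t i) (ht i)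
  have hpmem : ∀ i : T, ∃ c ∉ q, c • (t i ^ k' i) • n ∈ p • (⊤ : Submodule R N) := fun i => by
    have h1 : ((s' i * t i ^ k' i) • n) ⊗ₜ[R] (1 : p.ResidueField) = 0 := by
      rw [← TensorProduct.smul_tmul', ← hn, smul_smul, mul_comm, ← smul_smul, hk' i, smul_zero]
    obtain ⟨r', hr', h2⟩ := exists_smul_mem_of_tmul_one_eq_zero p _ h1
    refine ⟨algebraMap R S r' * s' i, fun h => (Ideal.IsPrime.mem_or_mem inferInstance h).elim
      (fun h' => hr' ((hpq r').1 h')) (hs' i), ?_⟩
    rwa [mul_smul, algebraMap_smul, ← mul_smul (s' i)]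
  choose c hc hcp using hpmem
  have hfin : ∀ y ∈ p • (⊤ : Submodule R N), ∃ J : Ideal R, J.FG ∧ J ≤ p ∧ y ∈ J • (⊤ : Submodule R N) := by
    intro y hy
    refine Submodule.smul_induction_on hy (fun a ha m _ => ⟨Ideal.span {a}, ⟨{a}, by simp⟩,
      (Ideal.span_singleton_le_iff_mem p).mpr ha, Submodule.smul_mem_smul (Ideal.mem_span_singleton_self a) trivial⟩) ?_
    rintro a b ⟨J, hJ, hJp, ha⟩ ⟨J', hJ', hJp', hb⟩
    exact ⟨J ⊔ J', Submodule.FG.sup hJ hJ', sup_le hJp hJp', add_mem (Submodule.smul_mono_left le_sup_left ha)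
      (Submodule.smul_mono_left le_sup_right hb)⟩
  choose Jf hJf hJfp hJm using fun i => hfin _ (hcp i)
  let I : Ideal R := ⨆ i, Jf i
  have hI : I.FG := Submodule.fg_iSup _ hJf
  have hIp : I ≤ p := iSup_le hJfp
  -- a power of `I` kills `x₀` near `p`
  have hrad : ∃ e : ℕ, ∃ r ∉ p, ∀ a ∈ I ^ e, (r * a) • x₀ = 0 := by
    obtain ⟨G, hG⟩ := hI
    choose u hu e he using fun a : G => hx2 a (hIp (hG ▸ Ideal.subset_span a.2))
    let r := ∏ a, u a
    have hr : r ∉ p := fun h => by
      obtain ⟨a, -, ha⟩ := (Ideal.IsPrime.prod_mem_iff).mp h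
      exact hu a ha
    let J₀ : Ideal R := annE R (r • x₀)
    have : I ≤ J₀.radical := by
      rw [← hG]
      refine Ideal.span_le.mpr fun a ha => ⟨e ⟨a, ha⟩, mem_annE.2 ?_⟩
      rw [smul_smul, show a ^ e ⟨a, ha⟩ * r = (∏ b ∈ Finset.univ.erase ⟨a, ha⟩, u b) * (u ⟨a, ha⟩ * a ^ e ⟨a, ha⟩) by
        rw [← mul_assoc, Finset.prod_erase_mul _ _ (Finset.mem_univ _), mul_comm], mul_smul, he, smul_zero]
    obtain ⟨e₀, he₀⟩ := Ideal.exists_pow_le_of_le_radical_of_fg this ⟨G, hG⟩
    exact ⟨e₀, r, hr, fun a ha => by rw [mul_comm, mul_smul]; exact mem_annE.1 (he₀ ha)⟩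
  obtain ⟨e, ⟨r₁, hr₁, he⟩, hmin⟩ : ∃ e : ℕ, (∃ r ∉ p, ∀ a ∈ I ^ e, (r * a) • x₀ = 0) ∧
      ∀ m < e, ¬∃ r ∉ p, ∀ a ∈ I ^ m, (r * a) • x₀ = 0 :=
    ⟨Nat.find hrad, Nat.find_spec hrad, fun m hm => Nat.find_min hrad hm⟩
  have he0 : e ≠ 0 := by
    rintro rfl
    exact hx1 r₁ hr₁ (by simpa using he 1 (by simp))
  obtain ⟨d, hd, hdx⟩ : ∃ d ∈ I ^ (e - 1), ∀ r ∉ p, r • d • x₀ ≠ 0 := by
    by_contra! hne
    obtain ⟨G, hG⟩ := hI.pow (n := e - 1)
    choose u hu hu0 using fun a : G => hne a (hG ▸ Ideal.subset_span a.2)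
    refine hmin (e - 1) (by omega) ⟨∏ a, u a, fun h => ?_, fun a ha => ?_⟩
    · obtain ⟨a, -, h⟩ := (Ideal.IsPrime.prod_mem_iff).mp h
      exact hu a h
    · rw [← hG] at ha
      induction ha using Submodule.span_induction with
      | mem a ha => rw [← Finset.prod_erase_mul _ _ (Finset.mem_univ (⟨a, ha⟩ : G)), mul_assoc, mul_smul,
          mul_smul, hu0, smul_zero]
      | zero => rw [mul_zero, zero_smul]
      | add a b _ _ ha hb => rw [mul_add, add_smul, ha, hb, add_zero]
      | smul c a _ ha => rw [smul_eq_mul, mul_left_comm, mul_smul, ha, smul_zero]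
  refine mem_weakAss_iff_exists.2 ⟨n ⊗ₜ[R] (d • x₀), fun s hs h0 => ?_, ?_⟩
  · -- nonvanishing, by flatness
    let L := LocalizedModule q.primeCompl N
    let ι : N →ₗ[R] L := (LocalizedModule.mkLinearMap q.primeCompl N).restrictScalars R
    let u := LinearMap.toSpanSingleton R M (d • x₀)
    have h1 : u.lTensor L (ι (s • n) ⊗ₜ[R] (1 : R)) = 0 := by
      rw [LinearMap.lTensor_tmul, LinearMap.toSpanSingleton_apply, one_smul, ← LinearMap.rTensor_tmul]
      rw [show (s • n) ⊗ₜ[R] (d • x₀) = 0 from (TensorProduct.smul_tmul' s n _).symm.trans h0, map_zero]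
    obtain ⟨w, hw⟩ := (Module.Flat.lTensor_exact L (LinearMap.exact_subtype_ker_map u) _).1 h1
    have key : ∀ w : L ⊗[R] LinearMap.ker u, ∃ v ∉ q, ∃ m ∈ p • (⊤ : Submodule R N),
        v • TensorProduct.rid R L ((LinearMap.ker u).subtype.lTensor L w) = ι m := fun w => by
      induction w using TensorProduct.induction_on with
      | zero => exact ⟨1, fun h => (inferInstance : q.IsPrime).ne_top ((Ideal.eq_top_iff_one q).mpr h), 0, zero_mem _,
          by simp⟩
      | add a b ha hb =>
        obtain ⟨v, hv, m, hm, h⟩ := ha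
        obtain ⟨v', hv', m', hm', h'⟩ := hb
        refine ⟨v * v', fun hh => (Ideal.IsPrime.mem_or_mem inferInstance hh).elim hv hv', v' • m + v • m', ?_, ?_⟩
        · exact add_mem (smul_mem_smul_top' (S := S) v' hm) (smul_mem_smul_top' (S := S) v hm')
        · rw [map_add, map_add, smul_add, map_add, mul_smul, mul_smul, smul_comm v v', h, h']
          congr 1 <;> exact ((LocalizedModule.mkLinearMap q.primeCompl N).map_smul _ _).symm
      | tmul l i =>
        obtain ⟨⟨m, v⟩, hm⟩ := IsLocalizedModule.surj q.primeCompl (LocalizedModule.mkLinearMap q.primeCompl N) l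
        have hi : (i : R) ∈ p := by
          by_contra hi
          exact hdx _ hi i.2
        refine ⟨v, v.2, (i : R) • m, Submodule.smul_mem_smul hi trivial, ?_⟩
        rw [LinearMap.lTensor_tmul, TensorProduct.rid_tmul, Submodule.subtype_apply, smul_comm, map_smul]
        congr 1
    obtain ⟨v, hv, m, hm, hvm⟩ := key w
    rw [hw, TensorProduct.rid_tmul, one_smul] at hvm
    have hvm' : LocalizedModule.mkLinearMap q.primeCompl N (v • s • n) = LocalizedModule.mkLinearMap q.primeCompl N m :=
      (map_smul _ _ _).trans hvm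
    obtain ⟨⟨v', hv'⟩, hv''⟩ := IsLocalizedModule.exists_of_eq (S := q.primeCompl) hvm'
    refine hn1 (v' * v * s) (fun hh => ?_) ?_
    · rcases Ideal.IsPrime.mem_or_mem inferInstance hh with hh | hh
      · exact (Ideal.IsPrime.mem_or_mem inferInstance hh).elim hv' hv
      · exact hs hh
    · rw [TensorProduct.smul_tmul', mul_smul, mul_smul, show v' • v • s • n = v' • m from hv'']
      have hm' : v' • m ∈ p • (⊤ : Submodule R N) := smul_mem_smul_top' (S := S) v' hm
      refine Submodule.smul_induction_on hm' (fun a ha y _ => ?_) fun a b ha hb => by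
        rw [TensorProduct.add_tmul, ha, hb, add_zero]
      rw [TensorProduct.smul_tmul, Algebra.smul_def, Ideal.algebraMap_residueField_eq_zero.mpr ha, zero_mul,
        TensorProduct.tmul_zero]
  · -- every element of `q` is nilpotent on the witness near `q`
    let J : Ideal S :=
      { carrier := {b | ∃ s ∉ q, ∃ z : S, z = s * b ∧ z • (n ⊗ₜ[R] (d • x₀)) = 0}
        add_mem' := by
          rintro a b ⟨s, hs, _, rfl, h⟩ ⟨s', hs', _, rfl, h'⟩
          refine ⟨s * s', fun hh => (Ideal.IsPrime.mem_or_mem inferInstance hh).elim hs hs', _, rfl, ?_⟩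
          rw [show s * s' * (a + b) = s' * (s * a) + s * (s' * b) by ring, add_smul, mul_smul, h, mul_smul, h',
            smul_zero, smul_zero, add_zero]
        zero_mem' := ⟨1, fun h => (inferInstance : q.IsPrime).ne_top ((Ideal.eq_top_iff_one q).mpr h), 0, by simp,
          zero_smul _ _⟩
        smul_mem' := by
          rintro c b ⟨s, hs, _, rfl, h⟩
          exact ⟨s, hs, _, rfl, by rw [smul_eq_mul, mul_left_comm, mul_smul, h, smul_zero]⟩ }
    have hmem : ∀ (b s : S), s ∉ q → (s * b) • (n ⊗ₜ[R] (d • x₀)) = 0 → ∀ (a : S) (k : ℕ), a ^ k = b → a ∈ J.radical :=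
      fun b s hs h a k hk => Ideal.mem_radical_iff.2 ⟨k, hk ▸ (show b ∈ J from ⟨s, hs, s * b, rfl, h⟩)⟩
    have hJ : ∀ b ∈ J, ∃ s ∉ q, (s * b) • (n ⊗ₜ[R] (d • x₀)) = 0 := by
      rintro b ⟨s, hs, _, rfl, h⟩
      exact ⟨s, hs, h⟩
    clear_value J
    suffices hqJ : q ≤ J.radical by
      intro b hb
      obtain ⟨k, hk⟩ := Ideal.mem_radical_iff.1 (hqJ hb)
      obtain ⟨s, hs, hs'⟩ := hJ _ hk
      exact ⟨s, hs, k, hs'⟩
    have hpJ : ∀ a ∈ p, algebraMap R S a ∈ J.radical := fun a ha => by
      obtain ⟨u, hu, k, hk⟩ := hx2 a ha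
      refine hmem _ (algebraMap R S u) (fun h => hu ((hpq u).1 h)) ?_ _ k rfl
      rw [← map_pow, ← map_mul, algebraMap_smul, TensorProduct.smul_tmul', TensorProduct.smul_tmul, smul_comm, hk,
        smul_zero, TensorProduct.tmul_zero]
    have hTJ : ∀ i : T, t i ∈ J.radical := fun i => by
      have hnq : c i * algebraMap R S r₁ ∉ q := fun hh =>
        (Ideal.IsPrime.mem_or_mem ‹q.IsPrime› hh).elim (hc i) (fun h => hr₁ ((hpq r₁).1 h))
      refine hmem (t i ^ k' i) (c i * algebraMap R S r₁) hnq ?_ (t i) (k' i) rfl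
      have hcn : c i • t i ^ k' i • n ∈ I • (⊤ : Submodule R N) := Submodule.smul_mono_left (le_iSup Jf i) (hJm i)
      have key : ∀ y ∈ I • (⊤ : Submodule R N), r₁ • (y ⊗ₜ[R] (d • x₀)) = 0 := fun y hy => by
        refine Submodule.smul_induction_on hy (fun a ha m _ => ?_) fun a b ha hb => by
          rw [TensorProduct.add_tmul, smul_add, ha, hb, add_zero]
        have h := Ideal.mul_mem_mul ha hd
        rw [← pow_succ', Nat.sub_add_cancel (Nat.pos_of_ne_zero he0)] at h
        rw [TensorProduct.smul_tmul, ← TensorProduct.tmul_smul, smul_smul, smul_smul, mul_assoc, he _ h,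
          TensorProduct.tmul_zero]
      rw [show c i * algebraMap R S r₁ * t i ^ k' i = algebraMap R S r₁ * (c i * t i ^ k' i) by ring, mul_smul,
        TensorProduct.smul_tmul', algebraMap_smul, mul_smul]
      exact key _ hcn
    haveI : (J.radical).IsRadical := Ideal.radical_isRadical J
    intro b hb
    have hbT : incl b ∈ Ideal.span ((fun i : T => incl (t i)) '' Set.univ) := by
      have h1 : incl b ∈ Ideal.span (incl '' (q : Set S)) := Ideal.subset_span ⟨b, hb, rfl⟩
      rw [← Ideal.submodule_span_eq, hT, Ideal.submodule_span_eq] at h1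
      refine Ideal.span_mono ?_ h1
      intro y hy
      exact ⟨⟨y, hy⟩, trivial, htT ⟨y, hy⟩⟩
    by_contra hbJ
    have hdis : Disjoint (J : Set S) (q.primeCompl ⊔ Submonoid.powers b : Submonoid S) := by
      rw [Set.disjoint_left]
      intro y hyJ hy
      obtain ⟨v, hv, w, ⟨k, rfl⟩, rfl⟩ := Submonoid.mem_sup.1 hy
      obtain ⟨s, hs, h⟩ := hJ _ hyJ
      refine hbJ (hmem (b ^ k) (s * v) (fun hh => (Ideal.IsPrime.mem_or_mem ‹q.IsPrime› hh).elim hs hv) ?_ b k rfl)
      rwa [mul_assoc]
    obtain ⟨P, hP, hJP, hPS⟩ := Ideal.exists_le_prime_disjoint _ _ hdis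
    haveI := hP
    have hradP : J.radical ≤ P := hP.radical_le_iff.mpr hJP
    have hbP : b ∉ P := fun h => Set.disjoint_left.1 hPS h (Submonoid.mem_sup_right (Submonoid.mem_powers b))
    haveI : P.LiesOver p := ⟨le_antisymm (fun a ha => hradP (hpJ a ha)) fun a ha => by
      by_contra hap
      exact Set.disjoint_left.1 hPS (show algebraMap R S a ∈ P from ha)
        (Submonoid.mem_sup_left (S := q.primeCompl) fun h => hap ((hpq a).1 h))⟩
    have h2 : incl b ∈ FlatCA.fiberIdeal p P := by
      refine Ideal.span_le.mpr ?_ hbT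
      rintro _ ⟨i, -, rfl⟩
      exact Ideal.mem_map_of_mem _ (hradP (hTJ i))
    exact hbP (by rw [← Groth.L20.comap_fiberIdeal p P]; exact h2)

/-- **Weakly associated primes of flat modules.** -/
theorem mem_weakAss_tensor_iff {R S : Type u} [CommRing R] [CommRing S] [Algebra R S] [Algebra.FiniteType R S]
    (N : Type u) [AddCommGroup N] [Module S N] [Module R N] [IsScalarTower R S N] [Module.Finite S N]
    (M : Type u) [AddCommGroup M] [Module R M] (p : Ideal R) [p.IsPrime] (q : Ideal S) [q.IsPrime] [q.LiesOver p]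
    (hflat : FlatCA.FlatAt R q N) :
    q ∈ FlatCA.weakAss S (N ⊗[R] M) ↔ p ∈ FlatCA.weakAss R M ∧ q ∈ FlatCA.weakAss S (N ⊗[R] p.ResidueField) :=
  ⟨of_mem_weakAss_tensor N M p q hflat, fun h => mem_weakAss_tensor_of N M p q hflat h.1 h.2⟩

/-- Finitely many weakly associated points in the flat locus. -/
theorem finite_weakAss_flat {R S : Type u} [CommRing R] [CommRing S] [Algebra R S] [Algebra.FiniteType R S]
    (hR : (FlatCA.weakAss R R).Finite)
    (N : Type u) [AddCommGroup N] [Module S N] [Module R N] [IsScalarTower R S N] [Module.Finite S N] :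
    {P | P ∈ FlatCA.weakAss S N ∧ ∀ [P.IsPrime], FlatCA.FlatAt R P N}.Finite := by
  haveI := hR.to_subtype
  refine (Set.finite_iUnion (f := fun a : ↥(FlatCA.weakAss R R) =>
    haveI : a.1.IsPrime := isPrime_of_mem_weakAss a.2
    FlatCA.weakAss S (N ⊗[R] a.1.ResidueField)) fun a =>
    haveI : a.1.IsPrime := isPrime_of_mem_weakAss a.2
    finite_weakAss_fibre (S := S) a.1 N).subset ?_
  rintro P ⟨hP, hflat⟩
  haveI := isPrime_of_mem_weakAss hP
  haveI : P.LiesOver (P.comap (algebraMap R S)) := ⟨rfl⟩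
  rw [← Groth.L20.WeakAssFinite.weakAss_congr (AlgebraTensorModule.rid R S N)] at hP
  obtain ⟨h1, h2⟩ := of_mem_weakAss_tensor N R (P.comap (algebraMap R S)) P hflat hP
  exact Set.mem_iUnion.2 ⟨⟨_, h1⟩, h2⟩

end Groth.L20.RG
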