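import Groth.Agent.L20.RG.Spreadout
import Groth.Agent.L20.RG.WeakAssFlat

/-!
# Injectivity on a fibre spreads to generisations containing a finitely generated ideal
-/

set_option autoImplicit false
set_option linter.style.haveILetI false
set_option backward.isDefEq.respectTransparency.types false
universe u

open TensorProduct IsLocalRing

noncomputable section

namespace Groth.L20.RG

open Groth.L03.WeakAss

/-- Tensoring a base change of a map with a module over the new base. -/
theorem injective_baseChange_lTensor_iff {A A₁ X Z Y : Type u} [CommRing A] [CommRing A₁] [Algebra A A₁]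
    [AddCommGroup X] [Module A X] [AddCommGroup Z] [Module A Z] [AddCommGroup Y] [Module A Y] [Module A₁ Y]
    [IsScalarTower A A₁ Y] (v : X →ₗ[A] Z) :
    Function.Injective ((v.baseChange A₁).lTensor Y) ↔ Function.Injective (v.lTensor Y) := by
  let eX := AlgebraTensorModule.cancelBaseChange A A₁ A₁ Y X
  let eZ := AlgebraTensorModule.cancelBaseChange A A₁ A₁ Y Z
  have hnat : ∀ w, eZ ((v.baseChange A₁).lTensor Y w) = v.lTensor Y (eX w) := fun w => by
    induction w using TensorProduct.induction_on with
    | zero => simp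
    | add a b ha hb => simp only [map_add, ha, hb]
    | tmul y x =>
      induction x using TensorProduct.induction_on with
      | zero => simp
      | add a b ha hb => simp only [TensorProduct.tmul_add, map_add, ha, hb]
      | tmul a x => simp [eX, eZ]
  constructor
  · intro h a b hab
    obtain ⟨a, rfl⟩ := eX.surjective a
    obtain ⟨b, rfl⟩ := eX.surjective b
    rw [← hnat, ← hnat] at hab
    rw [h (eZ.injective hab)]
  · intro h a b hab
    refine eX.injective (h ?_)
    rw [← hnat, ← hnat, hab]

/-- The maximal ideal of a quotient of a localisation at a prime contracts to the prime. -/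
theorem exists_local_quotient {A : Type u} [CommRing A] (t : Ideal A) [t.IsPrime] (I : Ideal (Localization.AtPrime t))
    (hI : I ≤ maximalIdeal (Localization.AtPrime t)) :
    ∃ _ : IsLocalRing (Localization.AtPrime t ⧸ I),
      (maximalIdeal (Localization.AtPrime t ⧸ I)).comap (algebraMap A (Localization.AtPrime t ⧸ I)) = t := by
  haveI : Nontrivial (Localization.AtPrime t ⧸ I) :=
    Ideal.Quotient.nontrivial_iff.mpr fun h => (maximalIdeal.isMaximal _).ne_top (top_le_iff.mp (h ▸ hI))
  haveI : IsLocalRing (Localization.AtPrime t ⧸ I) :=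
    IsLocalRing.of_surjective' (Ideal.Quotient.mk I) Ideal.Quotient.mk_surjective
  refine ⟨inferInstance, ?_⟩
  rw [show algebraMap A (Localization.AtPrime t ⧸ I) = (Ideal.Quotient.mk I).comp (algebraMap A (Localization.AtPrime t))
    from rfl, ← Ideal.comap_comap, IsLocalRing.eq_maximalIdeal (Ideal.comap_isMaximal_of_surjective _
      Ideal.Quotient.mk_surjective : ((maximalIdeal (Localization.AtPrime t ⧸ I)).comap (Ideal.Quotient.mk I)).IsMaximal)]
  exact Localization.AtPrime.comap_maximalIdeal

/-- The residue field of a prime maps to that of a local algebra over it. -/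
theorem exists_vector_of_comap {A A₁ : Type u} [CommRing A] [CommRing A₁] [IsLocalRing A₁] [Algebra A A₁] (p : Ideal A)
    [p.IsPrime] (hp : (maximalIdeal A₁).comap (algebraMap A A₁) = p) :
    ∃ ρ : p.ResidueField →+* A₁ ⧸ maximalIdeal A₁,
      ∀ a, ρ (algebraMap A p.ResidueField a) = algebraMap A (A₁ ⧸ maximalIdeal A₁) a := by
  refine ⟨Ideal.ResidueField.lift p (algebraMap A (A₁ ⧸ maximalIdeal A₁)) (fun a ha => ?_) fun a ha => ?_,
    fun a => Ideal.ResidueField.lift_algebraMap _ _ _ _ _⟩
  · rw [← hp, Ideal.mem_comap] at ha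
    exact Ideal.Quotient.eq_zero_iff_mem.mpr ha
  · exact (IsLocalRing.notMem_maximalIdeal.mp (fun h => ha (hp ▸ Ideal.mem_comap.mpr h) :
      algebraMap A A₁ a ∉ maximalIdeal A₁)).map (Ideal.Quotient.mk (maximalIdeal A₁))

set_option maxHeartbeats 1000000 in
/-- **Injectivity on a fibre spreads downwards** above a finitely generated ideal. -/
theorem exists_fg_injective_below {A S : Type u} [CommRing A] [CommRing S] [Algebra A S]
    [Algebra.FinitePresentation A S] (T : Submonoid S) (N₀ : Type u) [AddCommGroup N₀] [Module S N₀] [Module A N₀]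
    [IsScalarTower A S N₀] [Module.FinitePresentation S N₀] {N : Type u} [AddCommGroup N] [Module S N] [Module A N]
    [IsScalarTower A S N] (l : N₀ →ₗ[S] N) [IsLocalizedModule T l] {M : Type u} [AddCommGroup M] [Module A M]
    [Module.Flat A M] (u : N →ₗ[A] M) (t : Ideal A) [t.IsPrime] (hu : Function.Injective (u.rTensor t.ResidueField)) :
    ∃ I₀ : Ideal A, I₀.FG ∧ I₀ ≤ t ∧
      ∀ (t' : Ideal A) [t'.IsPrime], t' ≤ t → I₀ ≤ t' → Function.Injective (u.rTensor t'.ResidueField) := by
  classical
  obtain ⟨g, hgT, hg⟩ := exists_mem_submonoid_forall T (finite_weakAss_fibre (S := S) t N₀)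
  let C := Localization.Away g
  haveI : Algebra.FinitePresentation S C := IsLocalization.Away.finitePresentation g
  haveI : Algebra.FinitePresentation A C := Algebra.FinitePresentation.trans A S C
  haveI : SMulCommClass S A C := ⟨fun b a c => by simp only [Algebra.smul_def]; ring⟩
  let F := C ⊗[S] N₀
  haveI : IsScalarTower A C F := TensorProduct.isScalarTower_left
  haveI : IsScalarTower A S F := IsScalarTower.of_algebraMap_smul fun a x => by
    rw [← algebraMap_smul C (algebraMap A S a) x, ← IsScalarTower.algebraMap_apply, algebraMap_smul]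
  let fC : N₀ →ₗ[S] F := TensorProduct.mk S C N₀ 1
  haveI : IsLocalizedModule (Submonoid.powers g) fC :=
    (isLocalizedModule_iff_isBaseChange (Submonoid.powers g) C fC).mpr (TensorProduct.isBaseChange S N₀ C)
  obtain ⟨lC, hlC⟩ : ∃ lC : F →ₗ[S] N, lC ∘ₗ fC = l := by
    have h : ∀ x : Submonoid.powers g, IsUnit (algebraMap S (Module.End S N) x) := fun x =>
      IsLocalizedModule.map_units l (⟨x, Submonoid.powers_le.mpr hgT x.2⟩ : T)
    exact ⟨IsLocalizedModule.lift (Submonoid.powers g) fC l h, IsLocalizedModule.lift_comp _ fC l h⟩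
  haveI : IsLocalizedModule T (lC ∘ₗ fC) := by rw [hlC]; infer_instance
  haveI := isLocalizedModule_factor (Submonoid.powers g) T (Submonoid.powers_le.mpr hgT) fC lC
  obtain ⟨I, hfg, hle, hfree⟩ := exists_free_quotient (A := A) (C := C) F t
  haveI := hfree
  let L := Localization.AtPrime t
  obtain ⟨G, hG⟩ := hfg
  have hex : ∀ x : L, ∃ (a : A) (c : t.primeCompl), IsLocalization.mk' L a c = x := fun x =>
    IsLocalization.exists_mk'_eq t.primeCompl x
  choose num den hnum using hex
  obtain ⟨_, hp⟩ := exists_local_quotient t I hle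
  refine ⟨Ideal.span (num '' (G : Set L)), Submodule.fg_span (G.finite_toSet.image num), Ideal.span_le.mpr ?_, ?_⟩
  · rintro _ ⟨x, hx, rfl⟩
    have hxm : x ∈ maximalIdeal L := hle (hG ▸ Submodule.subset_span hx)
    rw [← hnum x] at hxm
    replace hxm := (IsLocalization.AtPrime.mk'_mem_maximal_iff L t (num x) (den x)).mp hxm
    exact hxm
  intro t' _ ht' hI0
  let K := t'.ResidueField
  have hun : ∀ s : t.primeCompl, IsUnit (algebraMap A K (s : A)) := fun s =>
    isUnit_iff_ne_zero.mpr fun h => s.2 (ht' (Ideal.algebraMap_residueField_eq_zero.mp h))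
  let τ : L →+* K := IsLocalization.lift hun
  let A₁ := L ⧸ I
  let τ₁ : A₁ →+* K := Ideal.Quotient.lift I τ fun x hx => by
    rw [← RingHom.mem_ker]
    refine (hG ▸ (Submodule.span_le.mpr fun y hy => ?_) : I ≤ RingHom.ker τ) hx
    rw [SetLike.mem_coe, RingHom.mem_ker, ← hnum y, IsLocalization.lift_mk']
    rw [Ideal.algebraMap_residueField_eq_zero.mpr (hI0 (Ideal.subset_span ⟨y, hy, rfl⟩)), zero_mul]
  letI : Algebra A₁ K := τ₁.toAlgebra
  haveI : IsScalarTower A A₁ K :=
    @IsScalarTower.of_algebraMap_eq A A₁ K _ _ _ _ _ _ fun a => (IsLocalization.lift_eq hun a).symm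
  refine (injective_iff_map_eq_zero _).mpr fun z hz => ?_
  let lK := AlgebraTensorModule.rTensor A K lC
  obtain ⟨⟨z₀, s⟩, hs⟩ := IsLocalizedModule.surj T lK z
  let σ : N ≃ₗ[A] N := (LinearEquiv.ofBijective (algebraMap S (Module.End S N) s)
    ((Module.End.isUnit_iff _).mp (IsLocalizedModule.map_units l s))).restrictScalars A
  let v : F →ₗ[A] M := u ∘ₗ σ.symm.toLinearMap ∘ₗ lC.restrictScalars A
  have hvK : Function.Injective (v.rTensor K) := by
    have h1 : Function.Injective ((lC.restrictScalars A).rTensor t.ResidueField) := by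
      refine (injective_iff_map_eq_zero _).mpr fun w hw => ?_
      obtain ⟨c, hc⟩ := (IsLocalizedModule.eq_zero_iff T (AlgebraTensorModule.rTensor A t.ResidueField lC)).mp hw
      refine regular_localized_fibre t g (c : S) fC (fun P hP hcP => hg P hP c c.2 hcP) ?_
      rw [map_zero, ← show (c : S) • w = 0 from hc]
      clear hc hw
      induction w using TensorProduct.induction_on with
      | zero => simp
      | add a b ha hb => rw [map_add, smul_add, ha, hb]
      | tmul n x => rw [LinearMap.rTensor_tmul, TensorProduct.smul_tmul']; rfl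
    have h2 : Function.Injective (v.rTensor t.ResidueField) := by
      rw [LinearMap.rTensor_comp, LinearMap.rTensor_comp, LinearMap.coe_comp, LinearMap.coe_comp]
      exact hu.comp ((σ.symm.rTensor t.ResidueField).injective.comp h1)
    obtain ⟨ρ, hρ⟩ := exists_vector_of_comap t hp
    let Y := A₁ ⧸ maximalIdeal A₁
    letI : Algebra t.ResidueField Y := ρ.toAlgebra
    haveI : IsScalarTower A t.ResidueField Y := IsScalarTower.of_algebraMap_eq fun a => (hρ a).symm
    have h3 : Function.Injective (v.lTensor Y) :=
      (LinearMap.lTensor_inj_iff_rTensor_inj _ _).mpr (injective_rTensor_vector v t.ResidueField h2 Y)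
    have h4 : FlatCA.UnivInj A₁ (v.baseChange A₁) := univInj_of_injMod_projective _ fun m hm => by
      obtain rfl : m = maximalIdeal A₁ := eq_maximalIdeal hm
      exact (LinearMap.lTensor_inj_iff_rTensor_inj _ _).mp ((injective_baseChange_lTensor_iff v).mpr h3)
    exact (LinearMap.lTensor_inj_iff_rTensor_inj _ _).mp ((injective_baseChange_lTensor_iff v).mp (h4 K))
  have h0 : z₀ = 0 := by
    refine hvK ?_
    rw [map_zero, LinearMap.rTensor_comp, LinearMap.comp_apply, LinearMap.rTensor_comp, LinearMap.comp_apply,
      show (lC.restrictScalars A).rTensor K z₀ = lK z₀ from rfl, ← hs,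
      show σ.symm.toLinearMap.rTensor K (s • z) = z from ?_, hz]
    clear hz hs
    induction z using TensorProduct.induction_on with
    | zero => simp
    | add a b ha hb => rw [smul_add, map_add, ha, hb]
    | tmul n x =>
      rw [Submonoid.smul_def, TensorProduct.smul_tmul', LinearMap.rTensor_tmul]
      congr 1
      exact σ.symm_apply_apply n
  refine IsLocalizedModule.smul_injective lK s ?_
  show s • z = s • 0
  rw [smul_zero, hs, h0, map_zero]

end Groth.L20.RG
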