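import Groth.Agent.L20.RG.HenselNhd
import Groth.Agent.L03.WeakAss
import Groth.Agent.S1233

/-!
# Weakly associated closed points along ind-étale local maps
-/

set_option autoImplicit false
set_option linter.style.haveILetI false
set_option backward.isDefEq.respectTransparency.types false
universe u

open TensorProduct IsLocalRing Groth.L03.WeakAss

noncomputable section

namespace Groth.L20.RG

/-- The annihilator of an element of a flat base change. -/
theorem mem_map_annE_of_flat {E H X : Type u} [CommRing E] [CommRing H] [Algebra E H] [Module.Flat E H]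
    [AddCommGroup X] [Module E X] (x : X) {c : H} (hc : c • ((1 : H) ⊗ₜ[E] x) = 0) :
    c ∈ (annE E x).map (algebraMap E H) := by
  let I := annE E x
  let ι : (E ⧸ I) →ₗ[E] X := I.liftQ (LinearMap.toSpanSingleton E X x) fun e he => by
    rw [LinearMap.mem_ker, LinearMap.toSpanSingleton_apply]
    exact mem_annE.1 he
  have hι : Function.Injective ι := by
    rw [← LinearMap.ker_eq_bot, Submodule.ker_liftQ_eq_bot']
    ext e
    rw [LinearMap.mem_ker, LinearMap.toSpanSingleton_apply]
    exact mem_annE
  rw [TensorProduct.smul_tmul', smul_eq_mul, mul_one] at hc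
  have h1 : c ⊗ₜ[E] (Ideal.Quotient.mk I (1 : E)) = 0 := by
    refine Module.Flat.lTensor_preserves_injective_linearMap (M := H) ι hι ?_
    rw [map_zero, LinearMap.lTensor_tmul, show (Ideal.Quotient.mk I (1 : E)) = Submodule.Quotient.mk (1 : E) from rfl,
      Submodule.liftQ_apply, LinearMap.toSpanSingleton_apply, one_smul]
    exact hc
  have h2 := congrArg (TensorProduct.tensorQuotEquivQuotSMul H I) h1
  rw [map_zero, TensorProduct.tensorQuotEquivQuotSMul_tmul_mk, one_smul, Submodule.Quotient.mk_eq_zero,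
    Ideal.smul_top_eq_map] at h2
  exact h2

set_option maxHeartbeats 2000000 in
/-- A closed point is weakly associated iff it is so after an ind-étale local extension. -/
theorem maximalIdeal_mem_weakAss_iff {R H : Type u} [CommRing R] [IsLocalRing R] [CommRing H] [IsLocalRing H]
    [Algebra R H] [IsLocalHom (algebraMap R H)] [Module.Flat R H] (hind : EtPBC.IsIndEtale R H)
    (hmax : (maximalIdeal R).map (algebraMap R H) = maximalIdeal H) (M : Type u) [AddCommGroup M] [Module R M] :
    maximalIdeal H ∈ FlatCA.weakAss H (H ⊗[R] M) ↔ maximalIdeal R ∈ FlatCA.weakAss R M := by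
  classical
  haveI := Groth.L05.Henselization.faithfullyFlat_of_flat_local (R := R) (S := H)
  constructor
  · rintro ⟨w, hw⟩
    obtain ⟨k, h, m, rfl⟩ : ∃ (k : ℕ) (h : Fin k → H) (m : Fin k → M), w = ∑ j, h j ⊗ₜ[R] m j := by
      clear hw
      induction w using TensorProduct.induction_on with
      | zero => exact ⟨0, fun j => j.elim0, fun j => j.elim0, by simp⟩
      | tmul a b => exact ⟨1, fun _ => a, fun _ => b, by simp⟩
      | add a b ha hb =>
        obtain ⟨k, h, m, rfl⟩ := ha
        obtain ⟨k', h', m', rfl⟩ := hb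
        exact ⟨k + k', Fin.append h h', Fin.append m m', by rw [Fin.sum_univ_add]; simp⟩
    obtain ⟨E, _, _, f, g, hE, hfg⟩ := (Groth.L27.IndEtale.isIndEtale_iff_exists_factor R H).mp hind
      (MvPolynomial (ULift.{u} (Fin k)) R) (MvPolynomial.aeval fun j => h j.down)
    haveI := hE
    let e : Fin k → E := fun j => f (MvPolynomial.X ⟨j⟩)
    have hge : ∀ j, g (e j) = h j := fun j => by
      have := AlgHom.congr_fun hfg (MvPolynomial.X (⟨j⟩ : ULift.{u} (Fin k)))
      rw [AlgHom.comp_apply, MvPolynomial.aeval_X] at this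
      exact this
    letI : Algebra E H := g.toRingHom.toAlgebra
    haveI : IsScalarTower R E H := IsScalarTower.of_algebraMap_eq' g.comp_algebraMap.symm
    haveI : Module.Flat E H := flat_of_flat_of_unramified R E H
    let q : Ideal E := (maximalIdeal H).under E
    haveI : q.LiesOver (maximalIdeal R) := ⟨by
      rw [Ideal.under_under, Ideal.under_def]; exact (IsLocalRing.maximalIdeal_comap (algebraMap R H)).symm⟩
    let X := E ⊗[R] M
    let w₀ : X := ∑ j, e j ⊗ₜ[R] m j
    let c := AlgebraTensorModule.cancelBaseChange R E H H M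
    have hc : c ((1 : H) ⊗ₜ[E] w₀) = ∑ j, h j ⊗ₜ[R] m j := by
      simp only [w₀, TensorProduct.tmul_sum, map_sum]
      refine Finset.sum_congr rfl fun j _ => ?_
      rw [AlgebraTensorModule.cancelBaseChange_tmul, Algebra.smul_def, mul_one, ← hge j]
      rfl
    refine (Groth.Agent.S1233.result M (maximalIdeal R) q).mp ⟨w₀, ⟨⟨inferInstance, fun a ha => ?_⟩, fun Q hQ hQq => ?_⟩⟩
    · refine hw.le (mem_annE.2 ?_)
      rw [← hc, ← map_smul, show algebraMap E H a • ((1 : H) ⊗ₜ[E] w₀) = 0 by
        rw [algebraMap_smul, ← TensorProduct.tmul_smul, mem_annE.1 ha, TensorProduct.tmul_zero], map_zero]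
    · haveI := hQ.1
      obtain ⟨Q', -, hQ', hQ'Q⟩ := Ideal.exists_ideal_le_liesOver_of_le (p := Q) (q := q) (maximalIdeal H) hQq
      haveI := hQ'
      have hle : annE H (∑ j, h j ⊗ₜ[R] m j) ≤ Q' := fun a ha => by
        have : a • ((1 : H) ⊗ₜ[E] w₀) = 0 := c.injective (by rw [map_smul, hc, map_zero]; exact mem_annE.1 ha)
        refine Ideal.map_le_iff_le_comap.mpr ?_ (mem_map_annE_of_flat w₀ this)
        intro b hb
        exact (Ideal.mem_of_liesOver Q' Q b).mp (hQ.2 hb)
      have hQ'max : maximalIdeal H ≤ Q' := hw.2 ⟨hQ', hle⟩ (le_maximalIdeal hQ'.ne_top)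
      exact fun a ha => (Ideal.mem_of_liesOver Q' Q a).mpr (hQ'max ha)
  · rintro ⟨z, hz⟩
    have hne : (1 : H) ⊗ₜ[R] z ≠ 0 := fun h0 => by
      have : z = 0 := Module.FaithfullyFlat.tensorProduct_mk_injective (A := R) (B := H) M
        (show (1 : H) ⊗ₜ[R] z = (1 : H) ⊗ₜ[R] (0 : M) by rw [h0, TensorProduct.tmul_zero])
      exact (maximalIdeal.isMaximal R).ne_top (top_le_iff.mp fun r _ => hz.le (mem_annE.2 (by rw [this, smul_zero])))
    obtain ⟨Q, hQ, hQle⟩ := exists_mem_weakAss_of_ne_zero (R := H) hne
    haveI := isPrime_of_mem_weakAss hQ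
    have hann : annE R z ≤ Q.under R := fun r hr => hQle (mem_annE.2 (by
      rw [algebraMap_smul, ← TensorProduct.tmul_smul, mem_annE.1 hr, TensorProduct.tmul_zero]))
    have hm : maximalIdeal R ≤ Q.under R :=
      hz.2 ⟨inferInstance, hann⟩ (le_maximalIdeal (inferInstance : (Q.under R).IsPrime).ne_top)
    have : Q = maximalIdeal H := le_antisymm (le_maximalIdeal (inferInstance : Q.IsPrime).ne_top)
      (hmax ▸ Ideal.map_le_iff_le_comap.mpr hm)
    exact this ▸ hQ

end Groth.L20.RG
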