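import Groth.Agent.L20.RG.WeakAssFlat
import Groth.Agent.L20.RG.WeakAssHensel
import Mathlib.RingTheory.Unramified.Field

/-!
# Infinitely divisible elements of a flat local module vanish
-/

set_option autoImplicit false
set_option linter.style.haveILetI false
set_option backward.isDefEq.respectTransparency.types false
universe u

open TensorProduct IsLocalRing

noncomputable section

namespace Groth.L20.RG

open Groth.L03.WeakAss

/-- An element divisible by all nonzero scalars of a flat algebra with unramified generic fibre vanishes. -/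
theorem eq_zero_of_forall_dvd {D R' : Type u} [CommRing D] [IsDomain D] [CommRing R'] [Algebra D R'] [Module.Flat D R']
    [Algebra.FormallyUnramified D R'] [Algebra.EssFiniteType D R'] (m₀ : D) (hm₀ : m₀ ≠ 0)
    (hunit : ∀ x : R', IsUnit (1 - m₀ • x)) (c : R') (hc : ∀ d : D, d ≠ 0 → ∃ e, c = d • e) : c = 0 := by
  let K := FractionRing D
  let W := K ⊗[D] R'
  let ι : R' →ₐ[D] W := Algebra.TensorProduct.includeRight
  have hι : Function.Injective ι := Algebra.TensorProduct.includeRight_injective (FaithfulSMul.algebraMap_injective D K)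
  haveI : Module.Finite K W := Algebra.FormallyUnramified.finite_of_free K W
  haveI : IsArtinianRing W := IsArtinianRing.of_finite K W
  haveI : IsReduced W := Algebra.FormallyUnramified.isReduced_of_field K W
  obtain ⟨n, h, hn⟩ := IsArtinian.exists_pow_succ_smul_dvd (ι c) (1 : W)
  rw [smul_eq_mul, smul_eq_mul, mul_one] at hn
  have h1 : ι c = ι c ^ 2 * h := by
    have : (ι c * (1 - ι c * h)) ^ (n + 1) = 0 := by
      have h0 : ι c ^ n * (1 - ι c * h) = 0 := by
        rw [mul_sub, mul_one, ← mul_assoc, ← pow_succ, hn, sub_self]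
      rw [mul_pow, pow_succ (ι c), pow_succ (1 - ι c * h)]
      calc ι c ^ n * ι c * ((1 - ι c * h) ^ n * (1 - ι c * h))
          = (ι c ^ n * (1 - ι c * h)) * (ι c * (1 - ι c * h) ^ n) := by ring
        _ = 0 := by rw [h0, zero_mul]
    have := IsReduced.eq_zero _ ⟨n + 1, this⟩
    rw [← sub_eq_zero]
    rw [mul_sub, mul_one, ← mul_assoc] at this
    rwa [sq]
  haveI : IsLocalizedModule (nonZeroDivisors D) (TensorProduct.mk D K R' 1) :=
    (isLocalizedModule_iff_isBaseChange (nonZeroDivisors D) K _).mpr (TensorProduct.isBaseChange D R' K)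
  obtain ⟨⟨r, a⟩, ha⟩ := IsLocalizedModule.surj (nonZeroDivisors D) (TensorProduct.mk D K R' 1) h
  have ha' : (a : D) • h = ι r := ha
  have h2 : (a : D) • c = c * c * r := hι (by
    rw [map_smul, map_mul, map_mul, ← ha', mul_smul_comm]
    conv_lhs => rw [h1, sq])
  have ha0 : (a : D) ≠ 0 := nonZeroDivisors.ne_zero a.2
  obtain ⟨e, he⟩ := hc ((a : D) * m₀) (mul_ne_zero ha0 hm₀)
  have h3 : ((a : D) • c) * (1 - m₀ • (e * r)) = 0 := by
    rw [mul_sub, mul_one, sub_eq_zero]
    conv_lhs => rw [h2]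
    nth_rewrite 1 [he]
    simp only [Algebra.smul_def, map_mul]
    ring
  have h4 : (a : D) • c = 0 := (IsUnit.mul_left_eq_zero (hunit (e * r))).mp h3
  refine hι ?_
  rw [map_zero]
  have h5 : (a : D) • ι c = 0 := by rw [← map_smul, h4, map_zero]
  rw [← algebraMap_smul K (a : D) (ι c)] at h5
  exact (isUnit_iff_ne_zero.mpr fun hh => ha0 (FaithfulSMul.algebraMap_injective D K (by rw [hh, map_zero]))).smul_eq_zero.mp h5

set_option maxHeartbeats 1000000 in
/-- **No infinitely divisible elements** in a flat local module over a quotient domain. -/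
theorem eq_zero_of_divisible {A S : Type u} [CommRing A] [IsLocalRing A] [CommRing S] [Algebra A S]
    [Algebra.FiniteType A S] (q : Ideal S) [q.IsPrime] [q.LiesOver (maximalIdeal A)]
    (N₀ : Type u) [AddCommGroup N₀] [Module S N₀] [Module A N₀] [IsScalarTower A S N₀] [Module.Finite S N₀]
    (hflat : FlatCA.FlatAt A q N₀)
    {N : Type u} [AddCommGroup N] [Module S N] [Module A N] [IsScalarTower A S N] (l : N₀ →ₗ[S] N)
    [IsLocalizedModule q.primeCompl l] (t₀ : Ideal A) [t₀.IsPrime] (ht₀ : t₀ ≠ maximalIdeal A)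
    (z : N ⊗[A] (A ⧸ t₀)) (hz : ∀ d ∉ t₀, ∃ y, d • y = z) : z = 0 := by
  classical
  obtain ⟨A', _, _, _, C, _, _, _, _, _, _, _, _, hmA, hrA, -, hflatC, ⟨x, hx, hxq⟩, hfree, hreg, hflA, hunr, hess⟩ :=
    exists_regular_chart' N₀ (maximalIdeal A) q hflat
  haveI := hflatC
  haveI := hfree
  haveI := hflA
  haveI := hunr
  haveI := hess
  haveI : IsScalarTower A' C (C ⊗[S] N₀) := TensorProduct.isScalarTower_left
  let M := A ⧸ t₀
  let W := N₀ ⊗[A] M
  haveI : IsScalarTower A' C (C ⊗[S] W) := TensorProduct.isScalarTower_left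
  let lM := AlgebraTensorModule.rTensor A M l
  obtain ⟨⟨z₀, s⟩, hs⟩ := IsLocalizedModule.surj q.primeCompl lM z
  suffices hw : (1 : C) ⊗ₜ[S] z₀ = 0 by
    have h1 : (1 : C) • ((1 : C) ⊗ₜ[S] z₀) = 0 := by rw [one_smul, hw]
    have h2 := mem_map_annE_of_flat z₀ h1
    obtain ⟨c, hc, hcz⟩ : ∃ c ∉ q, c • z₀ = 0 := by
      by_contra! hne
      have hle : (annE S z₀).map (algebraMap S C) ≤ x := Ideal.map_le_iff_le_comap.mpr fun c hc => by
        rw [hxq]
        by_contra hcq
        exact hne c hcq (mem_annE.1 hc)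
      exact hx.ne_top ((Ideal.eq_top_iff_one x).mpr (hle h2))
    refine IsLocalizedModule.smul_injective lM (⟨c, hc⟩ * s) ?_
    show (⟨c, hc⟩ * s : q.primeCompl) • z = (⟨c, hc⟩ * s : q.primeCompl) • 0
    rw [smul_zero, mul_smul, hs, Submonoid.smul_def, ← map_smul, hcz, map_zero]
  let w : C ⊗[S] W := (1 : C) ⊗ₜ[S] z₀
  have hsmul : ∀ r : S, algebraMap S C r • w = (1 : C) ⊗ₜ[S] (r • z₀) := fun r => by
    rw [algebraMap_smul, TensorProduct.smul_tmul', TensorProduct.smul_tmul]
  -- divisibility in the chart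
  have hdiv : ∀ d ∉ t₀, ∃ w₂ : C ⊗[S] W, w = d • w₂ := by
    intro d hd
    obtain ⟨y, hy⟩ := hz d hd
    obtain ⟨⟨y₀, r⟩, hr⟩ := IsLocalizedModule.surj q.primeCompl lM y
    have h0 : lM ((r : S) • z₀) = lM ((s : S) • (d • y₀)) := by
      rw [map_smul, map_smul, LinearMap.map_smul_of_tower, ← hs, ← hr, Submonoid.smul_def, Submonoid.smul_def,
        smul_comm (r : S) (s : S), ← hy, smul_comm (r : S) d]
    obtain ⟨c, hc⟩ := IsLocalizedModule.exists_of_eq (S := q.primeCompl) h0
    have hc' : ((c : S) * (r : S)) • z₀ = d • (((c : S) * (s : S)) • y₀) := by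
      rw [mul_smul]
      refine (show (c : S) • (r : S) • z₀ = (c : S) • (s : S) • d • y₀ from hc).trans ?_
      rw [smul_smul, smul_comm]
    let φ : M →ₗ[A] M := d • LinearMap.id
    let Mq := M ⧸ LinearMap.range φ
    let π : M →ₗ[A] Mq := (LinearMap.range φ).mkQ
    let φW : W →ₗ[S] W := AlgebraTensorModule.lTensor S N₀ φ
    let πW : W →ₗ[S] N₀ ⊗[A] Mq := AlgebraTensorModule.lTensor S N₀ π
    have hex : Function.Exact φW πW := lTensor_exact N₀ φ.exact_map_mkQ_range (LinearMap.range φ).mkQ_surjective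
    have hsurj : Function.Surjective πW := LinearMap.lTensor_surjective N₀ (LinearMap.range φ).mkQ_surjective
    have hφW : ∀ v, φW v = d • v := fun v => by
      induction v using TensorProduct.induction_on with
      | zero => simp
      | add a b ha hb => rw [map_add, smul_add, ha, hb]
      | tmul n m => simp [φW, φ]
    haveI : IsScalarTower A' C (C ⊗[S] (N₀ ⊗[A] Mq)) := TensorProduct.isScalarTower_left
    have hzero : πW.lTensor C w = 0 := by
      refine smul_injective_chart (A := A') N₀ Mq hmA hrA (algebraMap S C ((c : S) * (r : S)))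
        (hreg _ fun y hy => ⟨_, (c * r).2, hy⟩) _ ?_
      rw [algebraMap_smul, show ((c : S) * (r : S)) • πW.lTensor C w = πW.lTensor C (((c : S) * (r : S)) • w) from
        (map_smul (πW.lTensor C) _ _).symm, ← algebraMap_smul C ((c : S) * (r : S)) w, hsmul, LinearMap.lTensor_tmul, hc',
        show πW (d • (((c : S) * (s : S)) • y₀)) = 0 from (hex _).2 ⟨_, hφW _⟩, TensorProduct.tmul_zero]
    obtain ⟨w₂, hw₂⟩ := (lTensor_exact C hex hsurj w).1 hzero
    refine ⟨w₂, hw₂.symm.trans ?_⟩
    clear hw₂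
    induction w₂ using TensorProduct.induction_on with
    | zero => simp
    | add a b ha hb => rw [map_add, smul_add, ha, hb]
    | tmul e v => rw [LinearMap.lTensor_tmul, hφW, TensorProduct.tmul_smul]
  -- coefficients
  let b := Module.Free.chooseBasis A' (C ⊗[S] N₀)
  let F := (chartEquiv (A := A') N₀ M).trans (TensorProduct.equivFinsuppOfBasisLeft (R := A') (N := A' ⊗[A] M) b)
  refine (LinearEquiv.map_eq_zero_iff F).mp (Finsupp.ext fun i => ?_)
  rw [Finsupp.zero_apply]
  let σ : A' ⊗[A] M ≃ₗ[A] M ⊗[A] A' := TensorProduct.comm A A' M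
  refine σ.injective ?_
  rw [map_zero]
  obtain ⟨m₀, hm₀, hm₀t⟩ := SetLike.not_le_iff_exists.1 (fun h => ht₀ (le_antisymm
    (le_maximalIdeal (Ideal.IsPrime.ne_top inferInstance)) h) : ¬ maximalIdeal A ≤ t₀)
  refine eq_zero_of_forall_dvd (D := M) (R' := M ⊗[A] A') (Ideal.Quotient.mk t₀ m₀)
    (fun h => hm₀t (Ideal.Quotient.eq_zero_iff_mem.mp h)) (fun v => ?_) _ fun d hd => ?_
  · obtain ⟨a', rfl⟩ : ∃ a' : A', (1 : M) ⊗ₜ[A] a' = v := by
      induction v using TensorProduct.induction_on with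
      | zero => exact ⟨0, TensorProduct.tmul_zero _ _⟩
      | add a b ha hb =>
        obtain ⟨a₁, rfl⟩ := ha
        obtain ⟨a₂, rfl⟩ := hb
        exact ⟨a₁ + a₂, TensorProduct.tmul_add _ _ _⟩
      | tmul m a =>
        obtain ⟨m, rfl⟩ := Ideal.Quotient.mk_surjective m
        refine ⟨m • a, ?_⟩
        rw [← TensorProduct.smul_tmul, Algebra.smul_def, mul_one]
        rfl
    have hu : IsUnit (1 - algebraMap A A' m₀ * a') := by
      refine IsLocalRing.notMem_maximalIdeal.mp fun h => ?_
      have hm : algebraMap A A' m₀ * a' ∈ maximalIdeal A' :=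
        Ideal.mul_mem_right _ _ (hmA ▸ Ideal.mem_map_of_mem _ hm₀)
      exact (maximalIdeal.isMaximal A').ne_top ((Ideal.eq_top_iff_one _).mpr (by simpa using add_mem h hm))
    convert hu.map (Algebra.TensorProduct.includeRight (R := A) (A := M) (B := A')) using 1
    rw [map_sub, map_one, ← Algebra.smul_def, map_smul]
    congr 1
  · obtain ⟨d, rfl⟩ := Ideal.Quotient.mk_surjective d
    obtain ⟨w₂, hw₂⟩ := hdiv d fun h => hd (Ideal.Quotient.eq_zero_iff_mem.mpr h)
    refine ⟨σ (F w₂ i), ?_⟩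
    show σ (F w i) = Ideal.Quotient.mk t₀ d • σ (F w₂ i)
    rw [hw₂, show F (d • w₂) = d • F w₂ from LinearMap.map_smul_of_tower F.toLinearMap d w₂, Finsupp.smul_apply,
      show σ (d • F w₂ i) = d • σ (F w₂ i) from map_smul σ d _]
    exact (algebraMap_smul M d _).symm

end Groth.L20.RG
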