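import Groth.Agent.L20.RG.InjModChain
import Groth.Agent.L20.RG.Cover

/-!
# Flatness and universal injectivity from injectivity modulo the maximal ideal
-/

set_option autoImplicit false
set_option linter.style.haveILetI false
set_option backward.isDefEq.respectTransparency.types false
universe u

open TensorProduct IsLocalRing

noncomputable section

namespace Groth.L20.RG

open Groth.L03.WeakAss

/-- A flat base change of a flat module is flat over the base. -/
theorem flat_tensor_of_flat {A S S' M : Type u} [CommRing A] [CommRing S] [CommRing S'] [Algebra A S] [Algebra S S']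
    [Algebra A S'] [IsScalarTower A S S'] [AddCommGroup M] [Module S M] [Module A M] [IsScalarTower A S M]
    [Module.Flat S S'] [Module.Flat A M] : Module.Flat A (S' ⊗[S] M) := by
  rw [Module.Flat.iff_lTensor_injective']
  intro I
  let φ : M ⊗[A] I →ₗ[S] M ⊗[A] A := AlgebraTensorModule.lTensor S M I.subtype
  have hφ : Function.Injective φ :=
    Module.Flat.lTensor_preserves_injective_linearMap (M := M) I.subtype Subtype.val_injective
  have h := Module.Flat.lTensor_preserves_injective_linearMap (M := S') φ hφ
  let e₁ := (AlgebraTensorModule.assoc A S S S' M I).restrictScalars A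
  let e₂ := (AlgebraTensorModule.assoc A S S S' M A).restrictScalars A
  have hnat : ∀ z, e₂ (I.subtype.lTensor (S' ⊗[S] M) z) = φ.lTensor S' (e₁ z) := fun z => by
    induction z using TensorProduct.induction_on with
    | zero => simp
    | add a b ha hb => simp only [map_add, ha, hb]
    | tmul w x =>
      induction w using TensorProduct.induction_on with
      | zero => simp
      | add a b ha hb => simp only [TensorProduct.add_tmul, map_add, ha, hb]
      | tmul c n => simp [e₁, e₂, φ]
  intro a b hab
  exact e₁.injective (h (by rw [← hnat, ← hnat, hab]))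

/-- Injectivity modulo an ideal, up to scalars invertible in a flat algebra, passes to that algebra. -/
theorem mem_smul_top_of_tensor {S C N M : Type u} [CommRing S] [CommRing C] [Algebra S C] [Module.Flat S C]
    [AddCommGroup N] [Module S N] [AddCommGroup M] [Module S M] (u : N →ₗ[S] M) (I : Ideal S) (T : Submonoid S)
    (hT : ∀ t ∈ T, IsUnit (algebraMap S C t))
    (hu : ∀ x, u x ∈ (I • ⊤ : Submodule S M) → ∃ t ∈ T, t • x ∈ (I • ⊤ : Submodule S N))
    (w : C ⊗[S] N) (hw : u.baseChange C w ∈ (I.map (algebraMap S C) • ⊤ : Submodule C (C ⊗[S] M))) :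
    w ∈ (I.map (algebraMap S C) • ⊤ : Submodule C (C ⊗[S] N)) := by
  let IN : Submodule S N := I • ⊤
  let IM : Submodule S M := I • ⊤
  let ub : (N ⧸ IN) →ₗ[S] M ⧸ IM := IN.mapQ IM u (fun x hx => (Submodule.map_smul'' I ⊤ u ▸ Submodule.mem_map_of_mem hx : u x ∈ I • Submodule.map u ⊤) |> fun h => Submodule.smul_mono le_rfl le_top h)
  have hzero : ∀ (V : Type u) [AddCommGroup V] [Module S V] (y : C ⊗[S] V),
      y ∈ (I.map (algebraMap S C) • ⊤ : Submodule C (C ⊗[S] V)) → (I • ⊤ : Submodule S V).mkQ.lTensor C y = 0 := by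
    intro V _ _ y hy
    refine Submodule.smul_induction_on hy (fun e he y _ => ?_) fun a b ha hb => by rw [map_add, ha, hb, add_zero]
    induction he using Submodule.span_induction generalizing y with
    | mem e he =>
      obtain ⟨a, ha, rfl⟩ := he
      induction y using TensorProduct.induction_on with
      | zero => simp
      | add a b ha hb => rw [smul_add, map_add, ha trivial, hb trivial, add_zero]
      | tmul c n =>
        rw [algebraMap_smul, ← TensorProduct.tmul_smul, LinearMap.lTensor_tmul,
          show (I • ⊤ : Submodule S V).mkQ (a • n) = 0 from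
            (Submodule.Quotient.mk_eq_zero _).mpr (Submodule.smul_mem_smul ha trivial), TensorProduct.tmul_zero]
    | zero => simp
    | add e e' _ _ h h' => rw [add_smul, map_add, h y trivial, h' y trivial, add_zero]
    | smul c e _ h => rw [smul_eq_mul, mul_comm, mul_smul]; exact h _ trivial
  have h1 : ub.lTensor C (IN.mkQ.lTensor C w) = 0 := by
    rw [← LinearMap.comp_apply, ← LinearMap.lTensor_comp, show ub ∘ₗ IN.mkQ = IM.mkQ ∘ₗ u from
      LinearMap.ext fun x => rfl, LinearMap.lTensor_comp, LinearMap.comp_apply]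
    exact hzero M _ hw
  obtain ⟨k, hk⟩ := (Module.Flat.lTensor_exact C (LinearMap.exact_subtype_ker_map ub) _).1 h1
  have hk0 : (LinearMap.ker ub).subtype.lTensor C k = 0 := by
    clear hk
    induction k using TensorProduct.induction_on with
    | zero => exact map_zero _
    | add a b ha hb => rw [map_add, ha, hb, add_zero]
    | tmul c x =>
      obtain ⟨n, hn⟩ := IN.mkQ_surjective x.1
      have hun : u n ∈ IM := by
        have : ub (IN.mkQ n) = 0 := hn ▸ x.2
        exact (Submodule.Quotient.mk_eq_zero _).mp this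
      obtain ⟨t, ht, htn⟩ := hu n hun
      obtain ⟨e, he⟩ := (hT t ht).exists_left_inv
      rw [LinearMap.lTensor_tmul, Submodule.coe_subtype, ← hn,
        show c = t • (e * c) by rw [Algebra.smul_def, ← mul_assoc, mul_comm (algebraMap S C t) e, he, one_mul],
        TensorProduct.smul_tmul, ← map_smul, show IN.mkQ (t • n) = 0 from (Submodule.Quotient.mk_eq_zero _).mpr htn,
        TensorProduct.tmul_zero]
  rw [hk0] at hk
  obtain ⟨v, rfl⟩ := (_root_.lTensor_exact C (LinearMap.exact_subtype_mkQ IN) IN.mkQ_surjective w).1 hk.symm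
  clear hw h1 hk
  induction v using TensorProduct.induction_on with
  | zero => rw [map_zero]; exact zero_mem _
  | add a b ha hb => rw [map_add]; exact add_mem ha hb
  | tmul c x =>
    rw [LinearMap.lTensor_tmul, Submodule.coe_subtype]
    refine Submodule.smul_induction_on x.2 (fun a ha n _ => ?_) fun a b ha hb => by
      rw [TensorProduct.tmul_add]; exact add_mem ha hb
    rw [TensorProduct.tmul_smul, ← algebraMap_smul C a]
    exact Submodule.smul_mem_smul (Ideal.mem_map_of_mem _ ha) trivial

/-- Universal injectivity over a base change descends to the base. -/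
theorem univInj_of_baseRing {A A₁ N M : Type u} [CommRing A] [CommRing A₁] [Algebra A A₁] [AddCommGroup N] [Module A₁ N]
    [Module A N] [IsScalarTower A A₁ N] [AddCommGroup M] [Module A₁ M] [Module A M] [IsScalarTower A A₁ M]
    (v : N →ₗ[A₁] M) (h : FlatCA.UnivInj A₁ v) : FlatCA.UnivInj A (v.restrictScalars A) := by
  intro X _ _
  let eN := ((AlgebraTensorModule.cancelBaseChange A A₁ A₁ N X).restrictScalars A).trans (TensorProduct.comm A N X)
  let eM := ((AlgebraTensorModule.cancelBaseChange A A₁ A₁ M X).restrictScalars A).trans (TensorProduct.comm A M X)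
  have hnat : ∀ z : N ⊗[A₁] (A₁ ⊗[A] X), (v.restrictScalars A).lTensor X (eN z) = eM (v.rTensor (A₁ ⊗[A] X) z) := fun z => by
    induction z using TensorProduct.induction_on with
    | zero => simp
    | add a b ha hb => simp only [map_add, ha, hb]
    | tmul n y =>
      induction y using TensorProduct.induction_on with
      | zero => simp
      | add a b ha hb => simp only [TensorProduct.tmul_add, map_add, ha, hb]
      | tmul a x => simp [eN, eM]
  have hinj := (LinearMap.lTensor_inj_iff_rTensor_inj _ v).mp (h (A₁ ⊗[A] X))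
  intro a b hab
  obtain ⟨a, rfl⟩ := eN.surjective a
  obtain ⟨b, rfl⟩ := eN.surjective b
  rw [hnat, hnat] at hab
  rw [hinj (eM.injective hab)]

/-- Universal injectivity is insensitive to composing with an isomorphism. -/
theorem univInj_of_comp_equiv {A₁ N N' M : Type u} [CommRing A₁] [AddCommGroup N] [Module A₁ N] [AddCommGroup N']
    [Module A₁ N'] [AddCommGroup M] [Module A₁ M] (v : N →ₗ[A₁] M) (e : N' ≃ₗ[A₁] N)
    (h : FlatCA.UnivInj A₁ (v ∘ₗ e.toLinearMap)) : FlatCA.UnivInj A₁ v := by
  intro Q _ _ a b hab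
  have h2 := h Q (show (v ∘ₗ e.toLinearMap).lTensor Q ((e.lTensor Q).symm a) =
    (v ∘ₗ e.toLinearMap).lTensor Q ((e.lTensor Q).symm b) by
      rw [LinearMap.lTensor_comp, LinearMap.comp_apply, LinearMap.comp_apply,
        show e.toLinearMap.lTensor Q ((e.lTensor Q).symm a) = a from (e.lTensor Q).apply_symm_apply a,
        show e.toLinearMap.lTensor Q ((e.lTensor Q).symm b) = b from (e.lTensor Q).apply_symm_apply b]
      exact hab)
  exact (e.lTensor Q).symm.injective h2

theorem injMod_of_eq {A₁ L N M : Type u} [CommRing A₁] [IsLocalRing A₁] [AddCommGroup L] [Module A₁ L] [AddCommGroup N]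
    [Module A₁ N] [AddCommGroup M] [Module A₁ M] (u : N →ₗ[A₁] M) (hu : InjMod u) (e : L ≃ₗ[A₁] N) (v : L →ₗ[A₁] M)
    (hv : ∀ x, v x = u (e x)) : InjMod v := fun x hx => by
  rw [hv] at hx
  have h2 := Submodule.mem_map_of_mem (f := e.symm.toLinearMap) (hu _ hx)
  rw [Submodule.map_smul'', Submodule.map_top, LinearEquiv.range] at h2
  simpa using h2

theorem univInj_of_eq {A₁ L N M : Type u} [CommRing A₁] [AddCommGroup L] [Module A₁ L] [AddCommGroup N]
    [Module A₁ N] [AddCommGroup M] [Module A₁ M] (u : N →ₗ[A₁] M) (e : L ≃ₗ[A₁] N) (v : L →ₗ[A₁] M)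
    (hv : ∀ x, v x = u (e x)) (h : FlatCA.UnivInj A₁ v) : FlatCA.UnivInj A₁ u :=
  univInj_of_comp_equiv u e (by rwa [show u ∘ₗ e.toLinearMap = v from LinearMap.ext fun x => (hv x).symm])

/-- Flatness and universal injectivity over the base, through an identification. -/
theorem flat_univInj_to_base {A A₁ L N M : Type u} [CommRing A] [CommRing A₁] [Algebra A A₁] [Module.Flat A A₁]
    [AddCommGroup L] [Module A₁ L] [AddCommGroup N] [Module A₁ N] [Module A N] [IsScalarTower A A₁ N]
    [AddCommGroup M] [Module A₁ M] [Module A M] [IsScalarTower A A₁ M] (v : N →ₗ[A₁] M) (e : L ≃ₗ[A₁] N)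
    (hflat : Module.Flat A₁ L) (h : FlatCA.UnivInj A₁ (v ∘ₗ e.toLinearMap)) :
    Module.Flat A N ∧ FlatCA.UnivInj A (v.restrictScalars A) :=
  haveI := hflat
  haveI : Module.Flat A₁ N := Module.Flat.of_linearEquiv e.symm
  ⟨Module.Flat.trans A A₁ N, univInj_of_baseRing v (univInj_of_comp_equiv v e h)⟩

variable {A S : Type u} [CommRing A] [CommRing S] [Algebra A S] [Algebra.FiniteType A S]
  (q : Ideal S) [q.IsPrime]
  (N : Type u) [AddCommGroup N] [Module S N] [Module A N] [IsScalarTower A S N] [Module.Finite S N]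
  {M : Type u} [AddCommGroup M] [Module S M] [Module A M] [IsScalarTower A S M] [Module.Flat A M]

set_option maxHeartbeats 1000000 in
omit [Algebra.FiniteType A S] [Module.Finite S N] [Module.Flat A M] in
/-- Descent of flatness and universal injectivity from a flat local algebra. -/
theorem flat_univInj_descend (u : N →ₗ[S] M) (C' : Type u) [CommRing C'] [IsLocalRing C'] [Algebra S C'] [Algebra A C']
    [IsScalarTower A S C'] [Module.Flat S C'] (hq' : ∀ s ∈ q, algebraMap S C' s ∈ maximalIdeal C')
    (hflat : Module.Flat A (C' ⊗[S] N)) (huA : FlatCA.UnivInj A ((u.baseChange C').restrictScalars A)) :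
    FlatCA.FlatAt A q N ∧ FlatCA.UnivInj A ((LocalizedModule.map q.primeCompl u).restrictScalars A) := by
  classical
  let fN := LocalizedModule.mkLinearMap q.primeCompl N
  let fM := LocalizedModule.mkLinearMap q.primeCompl M
  -- descent along `S → C'`
  have hdesc : ∀ (X : Type u) [AddCommGroup X] [Module A X] (z : N ⊗[A] X),
      ((TensorProduct.mk S C' N 1).restrictScalars A).rTensor X z = 0 → ∃ t ∉ q, t • z = 0 := by
    intro X _ _ z hz
    by_contra! hne
    let Φ := (AlgebraTensorModule.assoc A S S C' N X).restrictScalars A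
    have key : ∀ z : N ⊗[A] X, Φ (((TensorProduct.mk S C' N 1).restrictScalars A).rTensor X z) = (1 : C') ⊗ₜ[S] z :=
      fun z => by
        induction z using TensorProduct.induction_on with
        | zero => simp
        | add a b ha hb => simp only [map_add, TensorProduct.tmul_add, ha, hb]
        | tmul n x => rfl
    refine one_tmul_ne_zero_of_le (S := S) (maximalIdeal C') (fun s hs => Ideal.mem_comap.mpr (hq' s ?_))
      (by rw [← key, hz, map_zero] : (1 : C') ⊗ₜ[S] z = 0)
    by_contra hsq
    exact hne s hsq (mem_annE.1 hs)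
  constructor
  · refine Groth.L20.flat_localizedModule_of_forall q.primeCompl fun J z hz => ?_
    refine hdesc J z ?_
    refine Module.Flat.lTensor_preserves_injective_linearMap (M := C' ⊗[S] N) J.subtype Subtype.val_injective ?_
    rw [map_zero, ← LinearMap.comp_apply, LinearMap.lTensor_comp_rTensor, ← LinearMap.rTensor_comp_lTensor,
      LinearMap.comp_apply, hz, map_zero]
  · rw [univInj_iff_rTensor]
    intro X _ _
    refine (injective_iff_map_eq_zero _).mpr fun z hz => ?_
    let FN := AlgebraTensorModule.rTensor A X fN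
    let FM := AlgebraTensorModule.rTensor A X fM
    obtain ⟨⟨z₀, s⟩, hs⟩ := IsLocalizedModule.surj q.primeCompl FN z
    have hcomm : ∀ z₀ : N ⊗[A] X, ((LocalizedModule.map q.primeCompl u).restrictScalars A).rTensor X (FN z₀) =
        FM ((u.restrictScalars A).rTensor X z₀) := fun z₀ => by
      induction z₀ using TensorProduct.induction_on with
      | zero => simp
      | add a b ha hb => simp only [map_add, ha, hb]
      | tmul n x =>
        show LocalizedModule.map q.primeCompl u (fN n) ⊗ₜ[A] x = fM (u n) ⊗ₜ[A] x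
        rw [show LocalizedModule.map q.primeCompl u (fN n) = fM (u n) from LocalizedModule.map_mk _ u n 1]
    have hlin : ∀ (c : S) (w : LocalizedModule q.primeCompl N ⊗[A] X),
        ((LocalizedModule.map q.primeCompl u).restrictScalars A).rTensor X (c • w) =
          c • ((LocalizedModule.map q.primeCompl u).restrictScalars A).rTensor X w := fun c w =>
      map_smul (AlgebraTensorModule.rTensor A X ((LocalizedModule.map q.primeCompl u).restrictScalars S)) c w
    have h1 : FM ((u.restrictScalars A).rTensor X z₀) = 0 := by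
      rw [← hcomm, ← hs, Submonoid.smul_def, hlin, hz, smul_zero]
    obtain ⟨c, hc⟩ := (IsLocalizedModule.eq_zero_iff q.primeCompl FM).mp h1
    have h2 : (u.restrictScalars A).rTensor X ((c : S) • z₀) = 0 := by
      rw [show (u.restrictScalars A).rTensor X ((c : S) • z₀) = (c : S) • (u.restrictScalars A).rTensor X z₀ from
        map_smul (AlgebraTensorModule.rTensor A X u) (c : S) z₀]
      exact hc
    obtain ⟨t, ht, htz⟩ := hdesc X ((c : S) • z₀) ((univInj_iff_rTensor _).mp huA X (by
      rw [map_zero, ← LinearMap.comp_apply, ← LinearMap.rTensor_comp, show ((u.baseChange C').restrictScalars A) ∘ₗ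
        (TensorProduct.mk S C' N 1).restrictScalars A = (TensorProduct.mk S C' M 1).restrictScalars A ∘ₗ
          u.restrictScalars A from LinearMap.ext fun n => rfl, LinearMap.rTensor_comp, LinearMap.comp_apply, h2, map_zero]))
    refine IsLocalizedModule.smul_injective FN (⟨t, ht⟩ * c * s) ?_
    show (⟨t, ht⟩ * c * s : q.primeCompl) • z = (⟨t, ht⟩ * c * s : q.primeCompl) • 0
    rw [smul_zero, mul_smul, mul_smul, hs, Submonoid.smul_def, Submonoid.smul_def, ← map_smul, ← map_smul, htz, map_zero]


set_option maxHeartbeats 1000000 in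
/-- **Injectivity modulo the maximal ideal gives flatness and universal injectivity.** -/
theorem flat_univInj_of_injMod_prime (p : Ideal A) [p.IsPrime] [q.LiesOver p] (u : N →ₗ[S] M)
    (hu : ∀ x, u x ∈ (p.map (algebraMap A S) • ⊤ : Submodule S M) →
      ∃ s ∉ q, s • x ∈ (p.map (algebraMap A S) • ⊤ : Submodule S N)) :
    FlatCA.FlatAt A q N ∧ FlatCA.UnivInj A ((LocalizedModule.map q.primeCompl u).restrictScalars A) := by
  classical
  by_cases hq : (⟨q, inferInstance⟩ : PrimeSpectrum S) ∈ Module.support S N
  swap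
  · haveI : Subsingleton (LocalizedModule q.primeCompl N) := Module.notMem_support_iff.mp hq
    exact ⟨(inferInstance : Module.Flat A (LocalizedModule q.primeCompl N)), fun X _ _ a b _ => Subsingleton.elim a b⟩
  obtain ⟨R', S', _, _, _, _, _, _, _, _, p', q', _, _, hp, hq', hqp, H⟩ := exists_hasDev N p q hq
  haveI := hp.1
  haveI := hp.2.1
  haveI := hq'.1
  haveI := hqp
  haveI := hq'.2.1
  obtain ⟨f, hf, Hf⟩ := (H (S' ⊗[S] N) (TensorProduct.mk S S' N 1) (TensorProduct.isBaseChange S N S')).exists_complete
  let A₁ := Localization.AtPrime p'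
  haveI : Module.Flat R' A₁ := IsLocalization.flat A₁ p'.primeCompl
  obtain ⟨C, _, _, _, _, _, _, hpush⟩ : ∃ (C : Type u) (_ : CommRing C) (_ : Algebra A₁ C) (_ : Algebra S' C)
      (_ : Algebra R' C) (_ : IsScalarTower R' A₁ C) (_ : IsScalarTower R' S' C), Algebra.IsPushout R' A₁ S' C := by
    letI : Algebra S' (A₁ ⊗[R'] S') := Algebra.TensorProduct.rightAlgebra
    haveI : IsScalarTower R' S' (A₁ ⊗[R'] S') := Algebra.TensorProduct.right_isScalarTower
    exact ⟨A₁ ⊗[R'] S', inferInstance, inferInstance, inferInstance, inferInstance, inferInstance, inferInstance,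
      inferInstance⟩
  haveI := hpush
  obtain ⟨Qc, _, hQp, hQq, -⟩ :=
    exists_point_of_isPushout (B := R') (A := S') (B' := A₁) (A' := C) p' q' (maximalIdeal A₁) (trivRes_atPrime p')
  haveI := hQp
  haveI hpush' : Algebra.IsPushout R' S' A₁ C := Algebra.IsPushout.symm hpush
  haveI : Module.Flat S' C := Module.Flat.isBaseChange R' S' A₁ C hpush'.out
  haveI : Module.Flat S S' := Algebra.Smooth.flat S S'
  letI : Algebra S C := ((algebraMap S' C).comp (algebraMap S S')).toAlgebra
  haveI : IsScalarTower S S' C := IsScalarTower.of_algebraMap_eq' rfl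
  letI : Algebra A C := ((algebraMap A₁ C).comp (algebraMap A A₁)).toAlgebra
  haveI : IsScalarTower A A₁ C := IsScalarTower.of_algebraMap_eq' rfl
  haveI : IsScalarTower A S C := IsScalarTower.of_algebraMap_eq fun r => by
    rw [IsScalarTower.algebraMap_apply A A₁ C, IsScalarTower.algebraMap_apply A R' A₁,
      ← IsScalarTower.algebraMap_apply R' A₁ C, IsScalarTower.algebraMap_apply R' S' C,
      ← IsScalarTower.algebraMap_apply A R' S', IsScalarTower.algebraMap_apply S S' C,
      ← IsScalarTower.algebraMap_apply A S S']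
  haveI : Module.Flat S C := Module.Flat.trans S S' C
  let C' := Localization.AtPrime Qc
  haveI : Module.Flat C C' := IsLocalization.flat C' Qc.primeCompl
  haveI : Module.Flat S C' := Module.Flat.trans S C C'
  haveI : SMulCommClass S A₁ C := ⟨fun s a c => by simp only [Algebra.smul_def]; ring⟩
  haveI : SMulCommClass S A₁ C' := ⟨fun s a c => by simp only [Algebra.smul_def]; ring⟩
  haveI : SMulCommClass S S' C := ⟨fun s a c => by simp only [Algebra.smul_def]; ring⟩
  haveI : SMulCommClass S R' S' := ⟨fun s a c => by simp only [Algebra.smul_def]; ring⟩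
  haveI : SMulCommClass S R' C := ⟨fun s a c => by simp only [Algebra.smul_def]; ring⟩
  haveI : SMulCommClass S A S' := ⟨fun s a c => by simp only [Algebra.smul_def]; ring⟩
  haveI : SMulCommClass S A C' := ⟨fun s a c => by simp only [Algebra.smul_def]; ring⟩
  haveI : SMulCommClass S A C := ⟨fun s a c => by simp only [Algebra.smul_def]; ring⟩
  haveI : IsScalarTower A₁ C (C ⊗[S] N) := TensorProduct.isScalarTower_left
  haveI : IsScalarTower A₁ C (C ⊗[S] M) := TensorProduct.isScalarTower_left
  haveI : IsScalarTower A₁ C' (C' ⊗[S] N) := TensorProduct.isScalarTower_left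
  haveI : IsScalarTower A₁ C' (C' ⊗[S] M) := TensorProduct.isScalarTower_left
  haveI : IsScalarTower A A₁ C' := IsScalarTower.of_algebraMap_eq fun r => by
    rw [IsScalarTower.algebraMap_apply A C C', IsScalarTower.algebraMap_apply A A₁ C,
      ← IsScalarTower.algebraMap_apply A₁ C C']
  haveI : IsScalarTower A A₁ (C' ⊗[S] N) := TensorProduct.isScalarTower_left
  haveI : IsScalarTower A A₁ (C' ⊗[S] M) := TensorProduct.isScalarTower_left
  -- the target is flat
  haveI : Module.Flat A₁ (C ⊗[S] M) := by
    haveI : IsScalarTower R' S' (S' ⊗[S] M) := TensorProduct.isScalarTower_left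
    haveI : IsScalarTower A R' (S' ⊗[S] M) := TensorProduct.isScalarTower_left
    haveI : Module.Flat A (S' ⊗[S] M) := flat_tensor_of_flat
    haveI : Module.Flat R' (S' ⊗[S] M) := (flat_iff_of_etale (R := A) (R' := R') (M := S' ⊗[S] M)).mp inferInstance
    haveI : IsScalarTower R' A₁ (C ⊗[S] M) := TensorProduct.isScalarTower_left
    haveI : IsScalarTower R' C (C ⊗[S] M) := TensorProduct.isScalarTower_left
    haveI : IsScalarTower S' C (C ⊗[S] M) := TensorProduct.isScalarTower_left
    haveI : IsScalarTower R' S' (C ⊗[S] M) := IsScalarTower.of_algebraMap_smul fun r m => by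
      rw [← algebraMap_smul C (algebraMap R' S' r) m, ← IsScalarTower.algebraMap_apply, algebraMap_smul]
    have h0 := TensorProduct.isBaseChange S M S'
    have hb : IsBaseChange C (h0.lift (TensorProduct.mk S C M 1)) := IsBaseChange.of_comp h0 (by
      rw [h0.lift_comp]; exact TensorProduct.isBaseChange S M C)
    exact Module.Flat.isBaseChange R' A₁ (S' ⊗[S] M) (C ⊗[S] M)
      (Groth.L20.isBaseChange_restrictScalars (R := R') (S := S') (R' := A₁) (S' := C) hb)
  obtain ⟨Nc, _, _, _, _, _, _, gN, hgN⟩ : ∃ (Nc : Type u) (_ : AddCommGroup Nc) (_ : Module C Nc) (_ : Module S Nc)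
      (_ : IsScalarTower S C Nc) (_ : Module A₁ Nc) (_ : IsScalarTower A₁ C Nc) (gN : N →ₗ[S] Nc), IsBaseChange C gN :=
    ⟨C ⊗[S] N, inferInstance, inferInstance, inferInstance, inferInstance, inferInstance, inferInstance,
      TensorProduct.mk S C N 1, TensorProduct.isBaseChange S N C⟩
  letI : Module S' Nc := Module.compHom Nc (algebraMap S' C)
  haveI : IsScalarTower S' C Nc := IsScalarTower.of_algebraMap_smul fun _ _ => rfl
  haveI : IsScalarTower S S' Nc := IsScalarTower.of_algebraMap_smul fun s m => by
    show algebraMap S' C (algebraMap S S' s) • m = s • m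
    rw [← IsScalarTower.algebraMap_apply, algebraMap_smul]
  let eN : LocalizedModule Qc.primeCompl Nc ≃ₗ[C'] C' ⊗[S] N :=
    ((IsLocalizedModule.isBaseChange Qc.primeCompl C' (LocalizedModule.mkLinearMap Qc.primeCompl Nc)).equiv.symm.trans
      (AlgebraTensorModule.congr (LinearEquiv.refl C' C') hgN.equiv.symm)).trans
      (AlgebraTensorModule.cancelBaseChange S C C' C' N)
  let eM : LocalizedModule Qc.primeCompl (C ⊗[S] M) ≃ₗ[C'] C' ⊗[S] M :=
    (IsLocalizedModule.isBaseChange Qc.primeCompl C' (LocalizedModule.mkLinearMap Qc.primeCompl (C ⊗[S] M))).equiv.symm.trans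
      (AlgebraTensorModule.cancelBaseChange S C C' C' M)
  haveI : Module.Flat A₁ (LocalizedModule Qc.primeCompl (C ⊗[S] M)) :=
    Groth.L20.FibreCrit.flat_localizedModule_of_flat Qc.primeCompl
  haveI : Module.Flat A₁ (C' ⊗[S] M) := Module.Flat.of_linearEquiv (eM.restrictScalars A₁).symm
  -- injectivity modulo the maximal ideal
  let u' : C' ⊗[S] N →ₗ[A₁] C' ⊗[S] M := (u.baseChange C').restrictScalars A₁
  have hTu : ∀ t ∈ q.primeCompl, IsUnit (algebraMap S C' t) := fun t ht => by
    rw [IsScalarTower.algebraMap_apply S C C']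
    refine IsLocalization.map_units C' (⟨algebraMap S C t, fun h => ?_⟩ : Qc.primeCompl)
    rw [IsScalarTower.algebraMap_apply S S' C] at h
    exact ht ((Ideal.mem_of_liesOver q' q t).mpr ((Ideal.mem_of_liesOver Qc q' _).mpr h))
  have hmA : (p).map (algebraMap A A₁) = maximalIdeal A₁ := by
    letI := Localization.AtPrime.algebraOfLiesOver (p) p'
    haveI : Algebra.IsUnramifiedAt A p' := inferInstance
    exact ((Algebra.isUnramifiedAt_iff_map_eq A (p) p').mp inferInstance).2
  have hmC : (p.map (algebraMap A S)).map (algebraMap S C') = (maximalIdeal A₁).map (algebraMap A₁ C') := by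
    rw [← hmA, Ideal.map_map, Ideal.map_map, ← IsScalarTower.algebraMap_eq A A₁ C']
    congr 1
    refine RingHom.ext fun r => ?_
    show algebraMap S C' (algebraMap A S r) = algebraMap A C' r
    rw [IsScalarTower.algebraMap_apply S C C', ← IsScalarTower.algebraMap_apply A S C, ← IsScalarTower.algebraMap_apply]
  have hu' : InjMod u' := by
    intro w hw
    rw [← mem_map_smul_top (D := C'), ← hmC] at hw ⊢
    exact mem_smul_top_of_tensor u _ q.primeCompl hTu hu w hw
  obtain ⟨D, hD⟩ := Hf A₁ (maximalIdeal A₁) (trivRes_atPrime p')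
    (IsLocalization.map_units A₁ (⟨f, hf⟩ : p'.primeCompl)) C Nc
    ((TensorProduct.isBaseChange S N S').lift gN)
    (IsBaseChange.of_comp (TensorProduct.isBaseChange S N S') (by
      rw [(TensorProduct.isBaseChange S N S').lift_comp]; exact hgN)) Qc hQq.over.symm
  obtain ⟨E⟩ := hD
  let eL := eN.restrictScalars A₁
  obtain ⟨v, hv⟩ : ∃ v : LocalizedModule Qc.primeCompl Nc →ₗ[A₁] C' ⊗[S] M, ∀ x, v x = u' (eL x) :=
    ⟨u' ∘ₗ eL.toLinearMap, fun _ => rfl⟩
  clear_value eL
  have hvi : InjMod v := injMod_of_eq u' hu' eL v hv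
  have hh := flat_and_univInj_of_injMod D E (C' ⊗[S] M) v
  obtain ⟨hflat₁, huniv₁⟩ := hh hvi
  haveI : Module.Flat A A₁ := Module.Flat.trans A R' A₁
  have hu2 : FlatCA.UnivInj A₁ u' := univInj_of_eq u' eL v hv huniv₁
  haveI := hflat₁
  haveI : Module.Flat A₁ (C' ⊗[S] N) := Module.Flat.of_linearEquiv eL.symm
  have hflatA : Module.Flat A (C' ⊗[S] N) := Module.Flat.trans A A₁ (C' ⊗[S] N)
  have huA := univInj_of_baseRing (A := A) u' hu2
  refine flat_univInj_descend q N u C' (fun t ht => ?_) hflatA huA
  rw [IsScalarTower.algebraMap_apply S C C', IsLocalization.AtPrime.to_map_mem_maximal_iff C' Qc,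
    IsScalarTower.algebraMap_apply S S' C]
  exact (Ideal.mem_of_liesOver Qc q' _).mp ((Ideal.mem_of_liesOver q' q t).mp ht)

/-- The same over a local base. -/
theorem flat_univInj_of_injMod [IsLocalRing A] [q.LiesOver (maximalIdeal A)] (u : N →ₗ[S] M)
    (hu : ∀ x, u x ∈ ((maximalIdeal A).map (algebraMap A S) • ⊤ : Submodule S M) →
      ∃ s ∉ q, s • x ∈ ((maximalIdeal A).map (algebraMap A S) • ⊤ : Submodule S N)) :
    FlatCA.FlatAt A q N ∧ FlatCA.UnivInj A ((LocalizedModule.map q.primeCompl u).restrictScalars A) :=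
  flat_univInj_of_injMod_prime q N (maximalIdeal A) u hu

end Groth.L20.RG
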