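import Groth.Agent.L20.RG.Iterate
import Groth.Agent.L20.RG.UnivInjFibres

/-!
# Maps injective modulo the maximal ideal into flat modules
-/

set_option autoImplicit false
set_option linter.style.haveILetI false
set_option backward.isDefEq.respectTransparency.types false
universe u

open TensorProduct IsLocalRing

noncomputable section

namespace Groth.L20.RG

variable {R : Type u} [CommRing R] [IsLocalRing R]

/-- Injectivity modulo the maximal ideal. -/
def InjMod {N P : Type u} [AddCommGroup N] [Module R N] [AddCommGroup P] [Module R P] (f : N →ₗ[R] P) : Prop :=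
  ∀ x, f x ∈ maximalIdeal R • (⊤ : Submodule R P) → x ∈ maximalIdeal R • (⊤ : Submodule R N)

theorem InjMod.iff_rTensor {N P : Type u} [AddCommGroup N] [Module R N] [AddCommGroup P] [Module R P] (f : N →ₗ[R] P) :
    InjMod f ↔ Function.Injective (f.rTensor (ResidueField R)) := by
  let m := maximalIdeal R
  let eN := TensorProduct.tensorQuotEquivQuotSMul N m
  let eP := TensorProduct.tensorQuotEquivQuotSMul P m
  have hnat : ∀ x : N, eP (f.rTensor (R ⧸ m) (eN.symm (Submodule.Quotient.mk x))) = Submodule.Quotient.mk (f x) := fun x => by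
    have h1 : eN.symm (Submodule.Quotient.mk x) = x ⊗ₜ[R] (1 : R ⧸ m) := eN.injective (by
      rw [eN.apply_symm_apply, show (1 : R ⧸ m) = Ideal.Quotient.mk m 1 from rfl,
        TensorProduct.tensorQuotEquivQuotSMul_tmul_mk, one_smul])
    rw [h1, LinearMap.rTensor_tmul, show (1 : R ⧸ m) = Ideal.Quotient.mk m 1 from rfl,
      TensorProduct.tensorQuotEquivQuotSMul_tmul_mk, one_smul]
  show _ ↔ Function.Injective (f.rTensor (R ⧸ m))
  constructor
  · intro h
    refine (injective_iff_map_eq_zero _).mpr fun z hz => ?_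
    obtain ⟨x, hx⟩ := Submodule.Quotient.mk_surjective _ (eN z)
    have hz' : z = eN.symm (Submodule.Quotient.mk x) := by rw [hx, eN.symm_apply_apply]
    have := hnat x
    rw [← hz', show f.rTensor (R ⧸ m) z = 0 from hz, map_zero] at this
    rw [hz', (Submodule.Quotient.mk_eq_zero _).mpr (h x ((Submodule.Quotient.mk_eq_zero _).mp this.symm)), map_zero]
  · intro h x hx
    have := hnat x
    rw [(Submodule.Quotient.mk_eq_zero _).mpr hx, map_eq_zero_iff eP eP.injective] at this
    have h2 := h (this.trans (map_zero _).symm)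
    rw [map_eq_zero_iff eN.symm eN.symm.injective] at h2
    exact (Submodule.Quotient.mk_eq_zero _).mp h2

/-- A map from a localisation of a free module, injective modulo the maximal ideal, into a flat module is universally
injective. -/
theorem univInj_of_injMod_localized {D F FT P : Type u} [CommRing D] [Algebra R D] [AddCommGroup F] [Module D F]
    [Module R F] [IsScalarTower R D F] [Module.Free R F] [AddCommGroup FT] [Module D FT] [Module R FT]
    [IsScalarTower R D FT] (T : Submonoid D) (fF : F →ₗ[D] FT) [IsLocalizedModule T fF]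
    (hF : FlatCA.UnivInj R (fF.restrictScalars R))
    [AddCommGroup P] [Module R P] [Module.Flat R P] (v : FT →ₗ[R] P) (hv : InjMod v) : FlatCA.UnivInj R v := by
  classical
  rw [univInj_iff_rTensor] at hF ⊢
  intro X _ _
  refine (injective_iff_map_eq_zero _).mpr fun z hz => ?_
  obtain ⟨⟨z₀, t⟩, htz⟩ := IsLocalizedModule.surj T (AlgebraTensorModule.rTensor R X fF) z
  simp only at htz
  by_contra hne
  have hz₀ : z₀ ≠ 0 := fun h0 => hne (IsLocalizedModule.smul_injective (AlgebraTensorModule.rTensor R X fF) t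
    (show t • z = t • 0 by rw [smul_zero, htz, h0, map_zero]))
  obtain ⟨Y, K, hKY, hmY, hyK, hyY⟩ := exists_content_quotient (R := R) z₀ hz₀
  let π := K.mkQ
  have hnat : ∀ {V : Type u} [AddCommGroup V] [Module R V] (φ : X →ₗ[R] V),
      AlgebraTensorModule.rTensor R V fF (φ.lTensor F z₀) = (t : D) • φ.lTensor FT z := by
    intro V _ _ φ
    have h1 : ∀ w : F ⊗[R] X, AlgebraTensorModule.rTensor R V fF (φ.lTensor F w) =
        φ.lTensor FT (AlgebraTensorModule.rTensor R X fF w) := fun w => by
      induction w using TensorProduct.induction_on with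
      | zero => simp
      | add c d hc hd => simp only [map_add, hc, hd]
      | tmul n x => simp
    rw [h1, ← htz, Submonoid.smul_def]
    exact map_smul (AlgebraTensorModule.lTensor D FT φ) (t : D) z
  have hY0 : Y.mkQ.lTensor FT z = 0 := by
    refine IsLocalizedModule.smul_injective (AlgebraTensorModule.rTensor R (X ⧸ Y) fF) t ?_
    show t • Y.mkQ.lTensor FT z = t • 0
    rw [smul_zero, Submonoid.smul_def, ← hnat, hyY, map_zero]
  let Ybar := Submodule.map π Y
  have hexY : Function.Exact Ybar.subtype (Submodule.factor hKY) := by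
    intro x
    obtain ⟨x, rfl⟩ := K.mkQ_surjective x
    constructor
    · intro hx
      exact ⟨⟨K.mkQ x, Submodule.mem_map_of_mem ((Submodule.Quotient.mk_eq_zero Y).mp hx)⟩, rfl⟩
    · rintro ⟨⟨_, x', hx', rfl⟩, hxx⟩
      rw [← hxx]
      exact (Submodule.Quotient.mk_eq_zero Y).mpr hx'
  obtain ⟨w, hw⟩ := (_root_.lTensor_exact FT hexY (Submodule.factor_surjective hKY) (π.lTensor FT z)).1 (by
    rw [← LinearMap.comp_apply, ← LinearMap.lTensor_comp]
    exact hY0)
  have hkill : ∀ a ∈ maximalIdeal R, ∀ x ∈ Ybar, a • x = 0 := by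
    rintro a ha _ ⟨x, hx, rfl⟩
    rw [← map_smul]
    exact (Submodule.Quotient.mk_eq_zero K).mpr (hmY (Submodule.smul_mem_smul ha hx))
  letI : Module (ResidueField R) Ybar :=
    Module.IsTorsionBySet.module (show Module.IsTorsionBySet R Ybar (maximalIdeal R : Set R) from
      fun x a => Subtype.ext (hkill a a.2 x x.2))
  haveI : IsScalarTower R (ResidueField R) Ybar := IsScalarTower.of_algebraMap_smul fun a x => rfl
  have hw0 : w = 0 := by
    refine injective_rTensor_vector v (ResidueField R) ((InjMod.iff_rTensor v).mp hv) Ybar ?_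
    rw [map_zero]
    refine Module.Flat.lTensor_preserves_injective_linearMap (M := P) Ybar.subtype Subtype.val_injective ?_
    rw [map_zero, ← LinearMap.comp_apply, LinearMap.lTensor_comp_rTensor, ← LinearMap.rTensor_comp_lTensor,
      LinearMap.comp_apply, hw, ← LinearMap.comp_apply, LinearMap.rTensor_comp_lTensor, ← LinearMap.lTensor_comp_rTensor,
      LinearMap.comp_apply, hz, map_zero]
  refine hyK (hF _ ?_)
  rw [map_zero]
  show AlgebraTensorModule.rTensor R (X ⧸ K) fF (π.lTensor F z₀) = 0
  rw [hnat, ← hw, hw0, map_zero, smul_zero]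

/-- A localisation, seen over another algebra. -/
theorem isLocalizedModule_restrict {D C G L : Type u} [CommRing D] [CommRing C] [Algebra D C] [AddCommGroup G] [Module C G]
    [Module D G] [IsScalarTower D C G] [AddCommGroup L] [Module C L] [Module D L] [IsScalarTower D C L]
    (SD : Submonoid D) (SC : Submonoid C) (f : G →ₗ[C] L) [IsLocalizedModule SC f]
    (h1 : ∀ t ∈ SD, algebraMap D C t ∈ SC) (h2 : ∀ s ∈ SC, ∃ t ∈ SD, s ∣ algebraMap D C t) :
    IsLocalizedModule SD (f.restrictScalars D) := by
  refine IsLocalizedModule.mk (fun t => ?_) (fun y => ?_) fun {x x'} hxx' => ?_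
  · have hu := (Module.End.isUnit_iff _).mp (IsLocalizedModule.map_units f (⟨_, h1 t t.2⟩ : SC))
    have heq : ∀ a : L, (t : D) • a = algebraMap D C (t : D) • a := fun a => (algebraMap_smul C (t : D) a).symm
    refine (Module.End.isUnit_iff _).mpr ⟨fun a b hab => hu.1 ?_, fun a => ?_⟩
    · show algebraMap D C (t : D) • a = algebraMap D C (t : D) • b
      rw [← heq, ← heq]; exact hab
    · obtain ⟨b, hb⟩ := hu.2 a
      exact ⟨b, (heq b).trans hb⟩
  · obtain ⟨⟨x, s⟩, hs⟩ := IsLocalizedModule.surj SC f y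
    obtain ⟨t, ht, c, hc⟩ := h2 s s.2
    refine ⟨⟨c • x, ⟨t, ht⟩⟩, ?_⟩
    show t • y = f (c • x)
    rw [← algebraMap_smul C t y, hc, mul_comm, mul_smul, map_smul]
    exact congrArg (c • ·) hs
  · obtain ⟨s, hs⟩ := IsLocalizedModule.exists_of_eq (S := SC) (f := f) hxx'
    obtain ⟨t, ht, c, hc⟩ := h2 s s.2
    refine ⟨⟨t, ht⟩, ?_⟩
    show t • x = t • x'
    rw [← algebraMap_smul C t x, ← algebraMap_smul C t x', hc, mul_comm, mul_smul, mul_smul]
    exact congrArg (c • ·) hs

/-- The induction step: a free localised submodule universally injected into the target. -/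
theorem injMod_step {F M Q P : Type u} [AddCommGroup F] [Module R F] [Module.Flat R F] [AddCommGroup M] [Module R M]
    [AddCommGroup Q] [Module R Q] [AddCommGroup P] [Module R P] [Module.Flat R P] (a : F →ₗ[R] M) (β : M →ₗ[R] Q)
    (hβ : Function.Surjective β) (hex : Function.Exact a β) (v : M →ₗ[R] P) (hv : InjMod v)
    (hw : FlatCA.UnivInj R (v ∘ₗ a))
    (ih : ∀ (P' : Type u) [AddCommGroup P'] [Module R P'] [Module.Flat R P'] (v' : Q →ₗ[R] P'), InjMod v' →
      Module.Flat R Q ∧ FlatCA.UnivInj R v') :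
    Module.Flat R M ∧ FlatCA.UnivInj R v := by
  haveI : Module.Flat R (P ⧸ LinearMap.range (v ∘ₗ a)) :=
    flat_quotient_range_of_lTensor_injective (v ∘ₗ a) fun I => hw (R ⧸ I)
  let q := (LinearMap.range (v ∘ₗ a)).mkQ
  let eQ := (LinearMap.ker β).liftQ (q ∘ₗ v) (fun x hx => by
    obtain ⟨d, rfl⟩ := (hex x).1 hx
    exact (Submodule.Quotient.mk_eq_zero _).mpr ⟨d, rfl⟩)
  let v' : Q →ₗ[R] P ⧸ LinearMap.range (v ∘ₗ a) := eQ ∘ₗ (β.quotKerEquivOfSurjective hβ).symm.toLinearMap
  have hv'β : ∀ x, v' (β x) = q (v x) := fun x => by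
    show eQ ((β.quotKerEquivOfSurjective hβ).symm (β x)) = _
    rw [show (β.quotKerEquivOfSurjective hβ).symm (β x) = (LinearMap.ker β).mkQ x from
      (LinearEquiv.symm_apply_eq _).mpr rfl]
    rfl
  have hv' : InjMod v' := by
    intro y hy
    obtain ⟨x, rfl⟩ := hβ y
    rw [hv'β] at hy
    rw [← Submodule.map_top β |>.trans (LinearMap.range_eq_top.mpr hβ), ← Submodule.map_smul'']
    have h1 : v x ∈ LinearMap.range (v ∘ₗ a) ⊔ maximalIdeal R • (⊤ : Submodule R P) := by
      rw [← Submodule.map_top q |>.trans (Submodule.range_mkQ _), ← Submodule.map_smul''] at hy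
      obtain ⟨p, hp, hpe⟩ := hy
      rw [← sub_add_cancel (v x) p]
      exact Submodule.add_mem_sup ((Submodule.Quotient.eq _).mp hpe.symm) hp
    obtain ⟨_, ⟨d, rfl⟩, p, hp, hsum⟩ := Submodule.mem_sup.mp h1
    refine ⟨x - a d, hv _ (by rw [map_sub, show v (a d) = (v ∘ₗ a) d from rfl, ← hsum, add_sub_cancel_left]; exact hp), ?_⟩
    rw [map_sub, hex.apply_apply_eq_zero, sub_zero]
  obtain ⟨hQ, hu'⟩ := ih _ v' hv'
  haveI := hQ
  have hainj : Function.Injective a := fun d d' h => injective_of_lTensor_self (v ∘ₗ a) (hw R)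
    (congrArg v h)
  refine ⟨Groth.L07.FlatDescent.flat_of_shortExact a β hainj hβ hex, ?_⟩
  rw [univInj_iff_rTensor] at hu' hw ⊢
  intro X _ _
  refine (injective_iff_map_eq_zero _).mpr fun z hz => ?_
  have h1 : β.rTensor X z = 0 := hu' X (by
    rw [map_zero, ← LinearMap.comp_apply, ← LinearMap.rTensor_comp,
      show v' ∘ₗ β = q ∘ₗ v from LinearMap.ext hv'β, LinearMap.rTensor_comp, LinearMap.comp_apply, hz, map_zero])
  obtain ⟨d, rfl⟩ := (rTensor_exact X hex hβ z).1 h1
  rw [← LinearMap.comp_apply, ← LinearMap.rTensor_comp] at hz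
  rw [hw X (hz.trans (map_zero _).symm), map_zero]

end Groth.L20.RG
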