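import Groth.Agent.L20.RG.Smooth
import Groth.Agent.L20.UnivInj
import Groth.Agent.L20.FlatLocusOpen
import Groth.Agent.L20.FibreFT
import Groth.Agent.L07.GrModel
import Mathlib.RingTheory.LocalRing.Module
import Mathlib.RingTheory.Flat.EquationalCriterion

/-!
# The key lemma for one step of a dévissage: flatness versus universal injectivity
-/

set_option autoImplicit false
set_option linter.style.haveILetI false
universe u

open TensorProduct IsLocalRing

noncomputable section

namespace Groth.L20.RG

section Localize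

variable {A D : Type u} [CommRing A] [CommRing D] [Algebra A D]

theorem univInj_iff_rTensor {M N : Type u} [AddCommGroup M] [AddCommGroup N] [Module A M] [Module A N]
    (f : M →ₗ[A] N) :
    FlatCA.UnivInj A f ↔ ∀ (Q : Type u) [AddCommGroup Q] [Module A Q], Function.Injective (f.rTensor Q) :=
  forall_congr' fun _ => forall_congr' fun _ => forall_congr' fun _ => LinearMap.lTensor_inj_iff_rTensor_inj _ _

theorem univInj_comp {M N P : Type u} [AddCommGroup M] [AddCommGroup N] [AddCommGroup P] [Module A M] [Module A N]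
    [Module A P] {g : N →ₗ[A] P} {f : M →ₗ[A] N} (hg : FlatCA.UnivInj A g) (hf : FlatCA.UnivInj A f) :
    FlatCA.UnivInj A (g ∘ₗ f) := fun Q _ _ => by
  rw [LinearMap.lTensor_comp]
  exact (hg Q).comp (hf Q)

theorem univInj_of_comp {M N P : Type u} [AddCommGroup M] [AddCommGroup N] [AddCommGroup P] [Module A M] [Module A N]
    [Module A P] {g : N →ₗ[A] P} {f : M →ₗ[A] N} (h : FlatCA.UnivInj A (g ∘ₗ f)) : FlatCA.UnivInj A f := fun Q _ _ => by
  have := h Q
  rw [LinearMap.lTensor_comp, LinearMap.coe_comp] at this
  exact this.of_comp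

variable (S : Submonoid D) {M N M' N' : Type u} [AddCommGroup M] [AddCommGroup N] [AddCommGroup M'] [AddCommGroup N']
  [Module D M] [Module D N] [Module D M'] [Module D N'] [Module A M] [Module A N] [Module A M'] [Module A N']
  [IsScalarTower A D M] [IsScalarTower A D N] [IsScalarTower A D M'] [IsScalarTower A D N']

/-- Localising preserves universal injectivity over the base. -/
theorem univInj_map (fM : M →ₗ[D] M') [IsLocalizedModule S fM] (fN : N →ₗ[D] N') [IsLocalizedModule S fN]
    (u : M →ₗ[D] N) (h : FlatCA.UnivInj A (u.restrictScalars A)) :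
    FlatCA.UnivInj A ((IsLocalizedModule.map S fM fN u).restrictScalars A) := by
  rw [univInj_iff_rTensor] at h ⊢
  intro Q _ _
  have h1 := IsLocalizedModule.map_injective S (TensorProduct.AlgebraTensorModule.rTensor A Q fM)
    (TensorProduct.AlgebraTensorModule.rTensor A Q fN) (TensorProduct.AlgebraTensorModule.rTensor A Q u) (h Q)
  have h2 : IsLocalizedModule.map S (TensorProduct.AlgebraTensorModule.rTensor A Q fM)
      (TensorProduct.AlgebraTensorModule.rTensor A Q fN) (TensorProduct.AlgebraTensorModule.rTensor A Q u) =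
      TensorProduct.AlgebraTensorModule.rTensor A Q (IsLocalizedModule.map S fM fN u) := by
    refine IsLocalizedModule.linearMap_ext S (TensorProduct.AlgebraTensorModule.rTensor A Q fM)
      (TensorProduct.AlgebraTensorModule.rTensor A Q fN) ?_
    ext m q
    have h3 := IsLocalizedModule.map_apply S (TensorProduct.AlgebraTensorModule.rTensor A Q fM)
      (TensorProduct.AlgebraTensorModule.rTensor A Q fN) (TensorProduct.AlgebraTensorModule.rTensor A Q u) (m ⊗ₜ[A] q)
    rw [TensorProduct.AlgebraTensorModule.rTensor_tmul] at h3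
    simpa [IsLocalizedModule.map_apply] using h3
  rw [h2] at h1
  exact h1

/-- A localisation at universally injective scalars is universally injective. -/
theorem univInj_localization (fM : M →ₗ[D] M') [IsLocalizedModule S fM]
    (h : ∀ t ∈ S, FlatCA.UnivInj A ((LinearMap.lsmul D M t).restrictScalars A)) :
    FlatCA.UnivInj A (fM.restrictScalars A) := by
  rw [univInj_iff_rTensor]
  intro Q _ _
  refine (injective_iff_map_eq_zero _).mpr fun z hz => ?_
  obtain ⟨t, ht⟩ := (IsLocalizedModule.eq_zero_iff S (TensorProduct.AlgebraTensorModule.rTensor A Q fM)).mp hz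
  have h1 : ∀ w : M ⊗[A] Q, ((LinearMap.lsmul D M (t : D)).restrictScalars A).rTensor Q w = (t : D) • w := fun w => by
    induction w using TensorProduct.induction_on with
    | zero => simp
    | tmul a b => simp [TensorProduct.smul_tmul']
    | add a b ha hb => simp only [map_add, ha, hb, smul_add]
  refine (univInj_iff_rTensor _).mp (h t t.2) Q ?_
  rw [h1, map_zero]
  exact ht

theorem univInj_lsmul_pi {r : ℕ} (t : D) (h : FlatCA.UnivInj A (LinearMap.mulLeft A t)) :
    FlatCA.UnivInj A ((LinearMap.lsmul D (Fin r → D) t).restrictScalars A) := by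
  intro Q _ _
  refine (injective_iff_map_eq_zero _).mpr fun z hz => ?_
  have key : ∀ i : Fin r, (LinearMap.proj i : (Fin r → D) →ₗ[A] D).lTensor Q z = 0 := fun i => by
    refine h Q ?_
    have hc : LinearMap.mulLeft A t ∘ₗ (LinearMap.proj i : (Fin r → D) →ₗ[A] D) =
        (LinearMap.proj i : (Fin r → D) →ₗ[A] D) ∘ₗ (LinearMap.lsmul D (Fin r → D) t).restrictScalars A :=
      LinearMap.ext fun w => rfl
    rw [map_zero, ← LinearMap.comp_apply, ← LinearMap.lTensor_comp, hc, LinearMap.lTensor_comp, LinearMap.comp_apply,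
      hz, map_zero]
  have hid : ∀ w : Q ⊗[A] (Fin r → D), w = ∑ i, (LinearMap.single A (fun _ : Fin r => D) i).lTensor Q
      ((LinearMap.proj i : (Fin r → D) →ₗ[A] D).lTensor Q w) := fun w => by
    induction w using TensorProduct.induction_on with
    | zero => simp
    | tmul a b => simp [← TensorProduct.tmul_sum, LinearMap.sum_single_apply]
    | add a b ha hb => conv_lhs => rw [ha, hb]
                       simp only [map_add, Finset.sum_add_distrib]
  rw [hid z]
  simp [key]

end Localize

variable {A D G : Type u} [CommRing A] [IsLocalRing A] [CommRing D] [Algebra A D]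
  [AddCommGroup G] [Module D G] [Module A G] [IsScalarTower A D G] {ξ : Ideal D} [ξ.IsPrime] {r : ℕ}
  (α : (Fin r → D) →ₗ[D] G)

theorem exists_smul_mem_range [Module.Finite D G]
    (hα : Function.Surjective (α.baseChange ξ.ResidueField)) (m : G) :
    ∃ t ∉ ξ, t • m ∈ LinearMap.range α := by
  have h0 : Subsingleton (ξ.ResidueField ⊗[D] (G ⧸ LinearMap.range α)) := by
    refine ⟨fun x y => ?_⟩
    have : ∀ z : ξ.ResidueField ⊗[D] (G ⧸ LinearMap.range α), z = 0 := fun z => by
      obtain ⟨w, rfl⟩ := LinearMap.lTensor_surjective ξ.ResidueField (LinearMap.range α).mkQ_surjective z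
      obtain ⟨v, rfl⟩ := hα w
      rw [LinearMap.baseChange_eq_ltensor, ← LinearMap.comp_apply, ← LinearMap.lTensor_comp,
        LinearMap.range_mkQ_comp, LinearMap.lTensor_zero, LinearMap.zero_apply]
    rw [this x, this y]
  have h1 : (⟨ξ, inferInstance⟩ : PrimeSpectrum D) ∉ Module.support D (G ⧸ LinearMap.range α) := by
    rw [Module.mem_support_iff_nontrivial_residueField_tensorProduct]
    exact not_nontrivial_iff_subsingleton.mpr h0
  obtain ⟨t, ht, h2⟩ := Module.notMem_support_iff'.mp h1 ((LinearMap.range α).mkQ m)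
  refine ⟨t, ht, ?_⟩
  rwa [← map_smul, Submodule.mkQ_apply, Submodule.Quotient.mk_eq_zero] at h2

/-- Elements killed in the localisation at `ξ` by `α` have coordinates in `ξ`. -/
theorem mem_of_localized_eq_zero (hα : Function.Injective (α.baseChange ξ.ResidueField)) {z : Fin r → D}
    (hz : LocalizedModule.mkLinearMap ξ.primeCompl G (α z) = 0) (i : Fin r) : z i ∈ ξ := by
  obtain ⟨⟨t, ht⟩, htz⟩ := (IsLocalizedModule.eq_zero_iff ξ.primeCompl _).mp hz
  have h1 : α.baseChange ξ.ResidueField (algebraMap D ξ.ResidueField t ⊗ₜ z) = 0 := by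
    rw [LinearMap.baseChange_tmul, Algebra.algebraMap_eq_smul_one, TensorProduct.smul_tmul]
    rw [show t • α z = 0 from htz, TensorProduct.tmul_zero]
  have h2 := hα (h1.trans (map_zero _).symm)
  have h3 := congrArg ((TensorProduct.rid D ξ.ResidueField).toLinearMap ∘ₗ
    (LinearMap.proj i : (Fin r → D) →ₗ[D] D).lTensor ξ.ResidueField) h2
  rw [map_zero, LinearMap.comp_apply, LinearMap.lTensor_tmul, LinearEquiv.coe_coe, TensorProduct.rid_tmul,
    LinearMap.proj_apply, Algebra.smul_def, ← map_mul, Ideal.algebraMap_residueField_eq_zero] at h3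
  exact (Ideal.IsPrime.mem_or_mem inferInstance h3).resolve_right ht

/-- Flatness at the generic point of the closed fibre makes `α` injective after localisation. -/
theorem eq_zero_of_localized_eq_zero [Algebra.Smooth A D] (h : DomFib A D) [Module.Finite D G]
    (hξ : ξ = (maximalIdeal A).map (algebraMap A D))
    (hα : Function.Bijective (α.baseChange ξ.ResidueField)) (hflat : FlatCA.FlatAt A ξ G) {v : Fin r → D}
    (hv : LocalizedModule.mkLinearMap ξ.primeCompl G (α v) = 0) : v = 0 := by
  classical
  haveI : Module.Flat A (LocalizedModule ξ.primeCompl G) := hflat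
  obtain ⟨c, hcfg, hc⟩ := exists_content h (Set.range v)
  have hcfg := hcfg (Set.finite_range v)
  obtain ⟨m, gen, hgen⟩ := Submodule.fg_iff_exists_fin_generating_family.mp hcfg
  -- write `v = ∑ c_j w_j`
  have hv' : ∀ i, ∃ d : Fin m → D, v i = ∑ j, gen j • d j := fun i => by
    have h1 : v i ∈ c.map (algebraMap A D) := mem_map_of_content hc ⟨i, rfl⟩
    rw [← hgen, Ideal.map_span, ← Set.range_comp] at h1
    obtain ⟨d, hd⟩ := Ideal.mem_span_range_iff_exists_fun.mp h1
    exact ⟨d, by rw [← hd]; simp [Algebra.smul_def, mul_comm]⟩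
  choose d hd using hv'
  let w : Fin m → (Fin r → D) := fun j i => d i j
  have hvw : v = ∑ j, gen j • w j := funext fun i => by simp [hd i, w, Finset.sum_apply]
  let g : (Fin r → D) →ₗ[D] LocalizedModule ξ.primeCompl G := LocalizedModule.mkLinearMap ξ.primeCompl G ∘ₗ α
  have hrel : ∑ j, gen j • g (w j) = 0 := by
    have : g v = ∑ j, gen j • g (w j) := by
      rw [hvw, map_sum]
      exact Finset.sum_congr rfl fun j _ => g.map_smul_of_tower _ _
    rw [← this]; exact hv
  obtain ⟨k, a, y, hy, ha⟩ := Module.Flat.isTrivialRelation_of_sum_smul_eq_zero hrel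
  -- lift the `y_k` to the image of `α`
  have hlift : ∀ l, ∃ t ∉ ξ, ∃ u, g u = t • y l := fun l => by
    obtain ⟨⟨x, s⟩, hs⟩ := IsLocalizedModule.surj ξ.primeCompl (LocalizedModule.mkLinearMap ξ.primeCompl G) (y l)
    obtain ⟨t, ht, u, hu⟩ := exists_smul_mem_range α hα.surjective x
    refine ⟨t * s, fun h' => (Ideal.IsPrime.mem_or_mem inferInstance h').elim ht s.2, u, ?_⟩
    show LocalizedModule.mkLinearMap ξ.primeCompl G (α u) = _
    rw [hu, map_smul, ← hs, mul_smul, Submonoid.smul_def]
  choose t ht u hu using hlift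
  let T := ∏ l, t l
  have hT : T ∉ ξ := fun h' => by
    obtain ⟨l, -, hl⟩ := (Ideal.IsPrime.prod_mem_iff).mp h'
    exact ht l hl
  have hu' : ∀ l, g ((∏ l' ∈ Finset.univ.erase l, t l') • u l) = T • y l := fun l => by
    rw [map_smul, hu, smul_smul, Finset.prod_erase_mul _ _ (Finset.mem_univ l)]
  let u' : Fin k → (Fin r → D) := fun l => (∏ l' ∈ Finset.univ.erase l, t l') • u l
  let z : Fin m → (Fin r → D) := fun j => T • w j - ∑ l, a j l • u' l
  have hz : ∀ j i, z j i ∈ ξ := fun j i => by
    refine mem_of_localized_eq_zero α hα.injective ?_ i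
    show g (z j) = 0
    rw [show z j = T • w j - ∑ l, a j l • u' l from rfl, map_sub, map_smul, map_sum,
      show g (w j) = _ from hy j, Finset.smul_sum, sub_eq_zero]
    refine Finset.sum_congr rfl fun l _ => ?_
    rw [g.map_smul_of_tower, hu', smul_comm]
  have hTv : T • v = ∑ j, gen j • z j := by
    simp only [z, smul_sub, Finset.sum_sub_distrib, Finset.smul_sum]
    conv_rhs => arg 2; rw [Finset.sum_comm]
    have : ∀ l, ∑ j, gen j • a j l • u' l = 0 := fun l => by
      simp_rw [smul_smul, ← Finset.sum_smul, ha l, zero_smul]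
    rw [Finset.sum_congr rfl fun l _ => this l, Finset.sum_const_zero, sub_zero, hvw, Finset.smul_sum]
    exact Finset.sum_congr rfl fun j _ => smul_comm _ _ _
  have h4 : ∀ x ∈ Set.range v, T * x ∈ (maximalIdeal A * c).map (algebraMap A D) := by
    rintro _ ⟨i, rfl⟩
    have := congrFun hTv i
    rw [Pi.smul_apply, smul_eq_mul] at this
    rw [this, Finset.sum_apply]
    refine sum_mem fun j _ => ?_
    rw [Pi.smul_apply, Algebra.smul_def, mul_comm (maximalIdeal A) c, Ideal.map_mul, ← hξ]
    exact Ideal.mul_mem_mul (Ideal.mem_map_of_mem _ (hgen ▸ Ideal.subset_span ⟨j, rfl⟩)) (hz j i)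
  have h5 := eq_zero_of_content h (Set.finite_range v) hc hcfg (hξ ▸ hT) h4
  exact funext fun i => h5 _ ⟨i, rfl⟩

/-- **Key lemma**: flatness at the generic point of the closed fibre makes `α` universally injective. -/
theorem univInj_of_flatAt [Algebra.Smooth A D] (h : DomFib A D) [Module.Finite D G]
    (hξ : ξ = (maximalIdeal A).map (algebraMap A D))
    (hα : Function.Bijective (α.baseChange ξ.ResidueField)) (hflat : FlatCA.FlatAt A ξ G) :
    FlatCA.UnivInj A (α.restrictScalars A) := by
  let S := ξ.primeCompl
  let fP := LocalizedModule.mkLinearMap S (Fin r → D)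
  let fG := LocalizedModule.mkLinearMap S G
  let αξ := IsLocalizedModule.map S fP fG α
  have hbij : Function.Bijective αξ := by
    refine ⟨(injective_iff_map_eq_zero _).mpr fun x hx => ?_, fun x => ?_⟩
    · obtain ⟨⟨v, s⟩, hs⟩ := IsLocalizedModule.surj S fP x
      have h1 : fG (α v) = 0 := by
        rw [← IsLocalizedModule.map_apply S fP fG α, ← hs, Submonoid.smul_def, map_smul, hx, smul_zero]
      rw [eq_zero_of_localized_eq_zero α h hξ hα hflat h1, map_zero] at hs
      exact IsLocalizedModule.smul_injective fP s (hs.trans (smul_zero _).symm)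
    · obtain ⟨⟨m, s⟩, hs⟩ := IsLocalizedModule.surj S fG x
      obtain ⟨t, ht, v, hv⟩ := exists_smul_mem_range α hα.surjective m
      let ts : S := ⟨t, ht⟩ * s
      refine ⟨IsLocalizedModule.mk' fP v ts, IsLocalizedModule.smul_injective fG ts ?_⟩
      show ts • αξ (IsLocalizedModule.mk' fP v ts) = ts • x
      rw [Submonoid.smul_def, ← map_smul, ← Submonoid.smul_def, IsLocalizedModule.mk'_cancel', IsLocalizedModule.map_apply,
        hv, map_smul, ← hs, mul_smul]
      rfl
  have hP : FlatCA.UnivInj A (fP.restrictScalars A) :=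
    univInj_localization S fP fun t ht =>
      univInj_lsmul_pi t (mul_injective h fun K _ _ => one_tmul_ne_zero h (hξ ▸ ht) K)
  have hαξ : FlatCA.UnivInj A (αξ.restrictScalars A) := fun Q _ _ =>
    ((LinearEquiv.ofBijective (αξ.restrictScalars A) hbij).lTensor Q).injective
  refine univInj_of_comp (g := fG.restrictScalars A) ?_
  have hc : fG.restrictScalars A ∘ₗ α.restrictScalars A = αξ.restrictScalars A ∘ₗ fP.restrictScalars A :=
    LinearMap.ext fun v => (IsLocalizedModule.map_apply S fP fG α v).symm
  rw [hc]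
  exact univInj_comp hαξ hP

/-- Flatness at a point of the closed fibre: `α` is universally injective, with cokernel flat there. -/
theorem flatAt_coker_of_flatAt [Algebra.Smooth A D] (h : DomFib A D) [Module.Finite D G]
    (hξ : ξ = (maximalIdeal A).map (algebraMap A D))
    (hα : Function.Bijective (α.baseChange ξ.ResidueField)) {y : Ideal D} [y.IsPrime] (hy : ξ ≤ y)
    (hflat : FlatCA.FlatAt A y G) :
    FlatCA.UnivInj A (α.restrictScalars A) ∧ FlatCA.FlatAt A y (G ⧸ LinearMap.range α) := by
  have hflatξ : FlatCA.FlatAt A ξ G :=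
    flat_localizedModule_of_le (T := y.primeCompl) (T' := ξ.primeCompl) (fun t ht h' => ht (hy h')) hflat
  have hu := univInj_of_flatAt α h hξ hα hflatξ
  refine ⟨hu, ?_⟩
  let S := y.primeCompl
  let fP := LocalizedModule.mkLinearMap S (Fin r → D)
  let fG := LocalizedModule.mkLinearMap S G
  let fQ := LocalizedModule.mkLinearMap S (G ⧸ LinearMap.range α)
  let αy := (IsLocalizedModule.map S fP fG α).restrictScalars A
  let βy := (IsLocalizedModule.map S fG fQ (LinearMap.range α).mkQ).restrictScalars A
  have hαy : FlatCA.UnivInj A αy := univInj_map S fP fG α hu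
  have hex : Function.Exact αy βy :=
    IsLocalizedModule.map_exact S fP fG fQ α _ α.exact_map_mkQ_range
  have hsurj : Function.Surjective βy :=
    IsLocalizedModule.map_surjective S fG fQ _ (LinearMap.range α).mkQ_surjective
  haveI : Module.Flat A (LocalizedModule S G) := hflat
  haveI := flat_quotient_range_of_lTensor_injective αy fun I => hαy (A ⧸ I)
  let e : (LocalizedModule S G ⧸ LinearMap.range αy) ≃ₗ[A] LocalizedModule S (G ⧸ LinearMap.range α) :=
    (Submodule.quotEquivOfEq _ _ (LinearMap.exact_iff.mp hex).symm).trans (βy.quotKerEquivOfSurjective hsurj)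
  exact Module.Flat.of_linearEquiv e.symm

/-- Conversely, an injective `α` with cokernel flat at `y` forces flatness at `y`. -/
theorem flatAt_of_coker [Module.Flat A D] (hinj : Function.Injective α) {y : Ideal D} [y.IsPrime]
    (hcoker : FlatCA.FlatAt A y (G ⧸ LinearMap.range α)) : FlatCA.FlatAt A y G := by
  let S := y.primeCompl
  let fP := LocalizedModule.mkLinearMap S (Fin r → D)
  let fG := LocalizedModule.mkLinearMap S G
  let fQ := LocalizedModule.mkLinearMap S (G ⧸ LinearMap.range α)
  haveI : Module.Flat A (LocalizedModule S (G ⧸ LinearMap.range α)) := hcoker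
  haveI : Module.Flat A (Fin r → D) :=
    Module.Flat.of_linearEquiv (DFinsupp.linearEquivFunOnFintype (R := A) (M := fun _ : Fin r => D)).symm
  haveI : Module.Flat A (LocalizedModule S (Fin r → D)) := FibreCrit.flat_localizedModule_of_flat S
  exact Groth.L07.FlatDescent.flat_of_shortExact ((IsLocalizedModule.map S fP fG α).restrictScalars A)
    ((IsLocalizedModule.map S fG fQ (LinearMap.range α).mkQ).restrictScalars A)
    (IsLocalizedModule.map_injective S fP fG α hinj)
    (IsLocalizedModule.map_surjective S fG fQ _ (LinearMap.range α).mkQ_surjective)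
    (IsLocalizedModule.map_exact S fP fG fQ α _ α.exact_map_mkQ_range)

end Groth.L20.RG
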