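import Groth.Agent.L20.RG.ProjInjMod
import Groth.Agent.L20.RG.UnivInjModel
import Groth.Agent.L20.RG.UnivInjFibres
import Groth.Agent.L20.RG.Key
import Groth.Agent.L07.FlatStage
import Mathlib.AlgebraicGeometry.Morphisms.Preimmersion

/-!
# Pure spreadouts after killing a finitely generated ideal
-/

set_option autoImplicit false
set_option linter.style.haveILetI false
set_option backward.isDefEq.respectTransparency.types false
universe u

open TensorProduct IsLocalRing

noncomputable section

namespace Groth.L20.RG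

open Groth.L03.WeakAss

/-- An element lying in all weakly associated primes containing `t` kills, up to powers, what `t` kills. -/
theorem exists_pow_smul_of_forall_weakAss {B W : Type u} [CommRing B] [AddCommGroup W] [Module B W] (g t : B)
    (hg : ∀ P ∈ FlatCA.weakAss B W, t ∈ P → g ∈ P) (w : W) (hw : t • w = 0) : ∃ k : ℕ, g ^ k • w = 0 := by
  have : g ∈ (annE B w).radical := by
    rw [← Ideal.sInf_minimalPrimes]
    exact Submodule.mem_sInf.mpr fun P hP => hg P ⟨w, hP⟩ (hP.le (mem_annE.2 hw))
  obtain ⟨k, hk⟩ := this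
  exact ⟨k, mem_annE.1 hk⟩

/-- An element of a multiplicative set lying in every weakly associated prime of a fibre that meets the set. -/
theorem exists_mem_submonoid_forall {B : Type u} [CommRing B] (T : Submonoid B) {W : Set (Ideal B)} (hW : W.Finite) :
    ∃ g ∈ T, ∀ P ∈ W, ∀ t ∈ T, t ∈ P → g ∈ P := by
  classical
  let S := hW.toFinset.filter fun P => ∃ t ∈ T, t ∈ P
  choose f hfT hfP using fun P : S => (Finset.mem_filter.mp P.2).2
  refine ⟨∏ P, f P, prod_mem fun P _ => hfT P, fun P hP t ht htP => ?_⟩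
  have hPS : P ∈ S := Finset.mem_filter.mpr ⟨hW.mem_toFinset.mpr hP, t, ht, htP⟩
  rw [← Finset.mul_prod_erase Finset.univ f (Finset.mem_univ ⟨P, hPS⟩)]
  exact P.mul_mem_right _ (hfP ⟨P, hPS⟩)

/-- On a localisation away from such an element, the multiplicative set acts regularly on the fibre. -/
theorem regular_localized_fibre {A B N₀ NC : Type u} [CommRing A] [CommRing B] [Algebra A B] [AddCommGroup N₀]
    [Module B N₀] [Module A N₀] [IsScalarTower A B N₀] [AddCommGroup NC] [Module B NC] [Module A NC]
    [IsScalarTower A B NC] (p : Ideal A) [p.IsPrime] (g t : B) (fC : N₀ →ₗ[B] NC)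
    [IsLocalizedModule (Submonoid.powers g) fC]
    (hg : ∀ P ∈ FlatCA.weakAss B (N₀ ⊗[A] p.ResidueField), t ∈ P → g ∈ P) :
    Function.Injective (((LinearMap.lsmul B NC t).restrictScalars A).rTensor p.ResidueField) := by
  let F := AlgebraTensorModule.rTensor A p.ResidueField fC
  refine (injective_iff_map_eq_zero _).mpr fun z hz => ?_
  have hlin : ∀ w, ((LinearMap.lsmul B NC t).restrictScalars A).rTensor p.ResidueField w = t • w := fun w => by
    induction w using TensorProduct.induction_on with
    | zero => simp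
    | add a b ha hb => rw [map_add, smul_add, ha, hb]
    | tmul n x => rw [LinearMap.rTensor_tmul, TensorProduct.smul_tmul']; rfl
  rw [hlin] at hz
  obtain ⟨⟨w, s⟩, hs⟩ := IsLocalizedModule.surj (Submonoid.powers g) F z
  have h1 : F (t • w) = 0 := by rw [map_smul, ← hs, smul_comm, hz, smul_zero]
  obtain ⟨⟨c, j, rfl⟩, hc⟩ := (IsLocalizedModule.eq_zero_iff (Submonoid.powers g) F).mp h1
  rw [Submonoid.smul_def, smul_comm] at hc
  obtain ⟨k, hk⟩ := exists_pow_smul_of_forall_weakAss g t hg _ hc
  refine IsLocalizedModule.smul_injective F (⟨g ^ k, k, rfl⟩ * ⟨g ^ j, j, rfl⟩ * s : Submonoid.powers g) ?_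
  show (⟨g ^ k, k, rfl⟩ * ⟨g ^ j, j, rfl⟩ * s : Submonoid.powers g) • z =
    (⟨g ^ k, k, rfl⟩ * ⟨g ^ j, j, rfl⟩ * s : Submonoid.powers g) • 0
  rw [smul_zero, mul_smul, hs, Submonoid.smul_def, ← map_smul, Submonoid.coe_mul, mul_smul]
  show F (g ^ k • g ^ j • w) = 0
  rw [hk, map_zero]

/-- The map out of a partial localisation is a localisation. -/
theorem isLocalizedModule_factor {B M M' M'' : Type u} [CommRing B] [AddCommGroup M] [Module B M] [AddCommGroup M']
    [Module B M'] [AddCommGroup M''] [Module B M''] (S T : Submonoid B) (hST : S ≤ T) (f : M →ₗ[B] M')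
    (g : M' →ₗ[B] M'') [IsLocalizedModule S f] [hl : IsLocalizedModule T (g ∘ₗ f)] : IsLocalizedModule T g := by
  refine IsLocalizedModule.mk (fun t => IsLocalizedModule.map_units (g ∘ₗ f) t) (fun y => ?_) fun {x x'} hxx' => ?_
  · obtain ⟨⟨m, t⟩, hm⟩ := IsLocalizedModule.surj T (g ∘ₗ f) y
    exact ⟨⟨f m, t⟩, hm⟩
  · obtain ⟨⟨m, s⟩, hm⟩ := IsLocalizedModule.surj S f (x - x')
    have h0 : (g ∘ₗ f) m = 0 := by
      show g (f m) = 0
      rw [← hm, Submonoid.smul_def, map_smul, map_sub, hxx', sub_self, smul_zero]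
    obtain ⟨t, ht⟩ := (IsLocalizedModule.eq_zero_iff T (g ∘ₗ f)).mp h0
    refine ⟨t * ⟨s, hST s.2⟩, ?_⟩
    rw [← sub_eq_zero, ← smul_sub, mul_smul]
    show (t : B) • ((s : B) • (x - x')) = 0
    rw [show (s : B) • (x - x') = f m from hm, ← map_smul, show (t : B) • m = 0 from ht, map_zero]

/-- A linear map between modules over localisations commutes with the localised scalars. -/
theorem map_localization_smul {B L L₁ X Y : Type u} [CommRing B] [CommRing L] [CommRing L₁] [Algebra B L]
    [Algebra B L₁] (T : Submonoid B) [IsLocalization T L] (ψ : L →ₐ[B] L₁)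
    [AddCommGroup X] [Module B X] [Module L X] [IsScalarTower B L X] [AddCommGroup Y] [Module B Y] [Module L₁ Y]
    [IsScalarTower B L₁ Y] (h : X →ₗ[B] Y) (e : L) (x : X) : h (e • x) = ψ e • h x := by
  obtain ⟨⟨b, t⟩, he⟩ := IsLocalization.surj T e
  have hu : IsUnit (algebraMap B L₁ (t : B)) := by
    rw [← ψ.commutes]; exact (IsLocalization.map_units L t).map ψ
  refine hu.smul_left_cancel.mp ?_
  rw [algebraMap_smul, ← map_smul, ← algebraMap_smul L (t : B), smul_smul, mul_comm, he, algebraMap_smul, map_smul,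
    smul_smul, ← ψ.commutes (t : B), ← map_mul, mul_comm, he, ψ.commutes, algebraMap_smul]

/-- A scalar regular on the fibre is universally injective on a flat base change over a local ring. -/
theorem univInj_lsmul_baseChange {A B A₁ M F : Type u} [CommRing A] [CommRing B] [Algebra A B] [CommRing A₁]
    [IsLocalRing A₁] [Algebra A A₁] [AddCommGroup M] [Module B M] [Module A M] [IsScalarTower A B M]
    [AddCommGroup F] [Module B F] [Module A F] [IsScalarTower A B F] [Module A₁ F] [IsScalarTower A A₁ F]
    [SMulCommClass A₁ B F] [Module.Projective A₁ F] (p : Ideal A) [p.IsPrime]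
    (hp : (maximalIdeal A₁).comap (algebraMap A A₁) = p) (f : M →ₗ[B] F) (hf : IsBaseChange A₁ (f.restrictScalars A))
    (t : B) (ht : Function.Injective (((LinearMap.lsmul B M t).restrictScalars A).rTensor p.ResidueField)) :
    FlatCA.UnivInj A₁ (LinearMap.mk ⟨fun x => t • x, smul_add t⟩ (fun a x => (smul_comm a t x).symm) : F →ₗ[A₁] F) := by
  let ut : F →ₗ[A₁] F := LinearMap.mk ⟨fun x => t • x, smul_add t⟩ (fun a x => (smul_comm a t x).symm)
  refine univInj_of_injMod_projective ut fun m hm => ?_
  obtain rfl : m = maximalIdeal A₁ := eq_maximalIdeal hm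
  let Y := A₁ ⧸ maximalIdeal A₁
  let φ : A →+* Y := algebraMap A Y
  have hker : ∀ a : A, φ a = 0 ↔ a ∈ p := fun a => by
    rw [← hp, Ideal.mem_comap]
    exact Ideal.Quotient.eq_zero_iff_mem
  let σ : p.ResidueField →+* Y := Ideal.ResidueField.lift p φ (fun a ha => (hker a).mpr ha) fun a ha => by
    obtain ⟨e, he⟩ := (IsLocalRing.notMem_maximalIdeal.mp (fun h => ha (hp ▸ Ideal.mem_comap.mpr h) :
      algebraMap A A₁ a ∉ maximalIdeal A₁)).exists_left_inv
    exact IsUnit.of_mul_eq_one _ (show φ a * Ideal.Quotient.mk _ e = 1 by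
      rw [show φ a = Ideal.Quotient.mk _ (algebraMap A A₁ a) from rfl, ← map_mul, mul_comm, he, map_one])
  letI : Algebra p.ResidueField Y := σ.toAlgebra
  haveI : IsScalarTower A p.ResidueField Y := IsScalarTower.of_algebraMap_eq fun a =>
    (Ideal.ResidueField.lift_algebraMap _ _ _ _ _).symm
  have h1 : Function.Injective (((LinearMap.lsmul B M t).restrictScalars A).lTensor Y) :=
    (LinearMap.lTensor_inj_iff_rTensor_inj _ _).mpr (injective_rTensor_vector _ p.ResidueField ht Y)
  refine (LinearMap.lTensor_inj_iff_rTensor_inj _ _).mp ?_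
  let e : Y ⊗[A₁] F ≃ₗ[A] Y ⊗[A] M := ((AlgebraTensorModule.congr (LinearEquiv.refl A₁ Y) hf.equiv.symm).trans
    (AlgebraTensorModule.cancelBaseChange A A₁ A₁ Y M)).restrictScalars A
  have hnat : ∀ w, ut.lTensor Y (e.symm w) = e.symm (((LinearMap.lsmul B M t).restrictScalars A).lTensor Y w) :=
    fun w => by
      induction w using TensorProduct.induction_on with
      | zero => simp
      | add a b ha hb => simp only [map_add, ha, hb]
      | tmul y x =>
        have hes : ∀ (y : Y) (x : M), e.symm (y ⊗ₜ x) = y ⊗ₜ[A₁] f x := fun y x => e.injective (by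
          have hfx : hf.equiv.symm (f x) = 1 ⊗ₜ[A] x := hf.equiv_symm_apply x
          rw [e.apply_symm_apply]
          simp [e, hfx])
        rw [LinearMap.lTensor_tmul, hes, hes, LinearMap.lTensor_tmul]
        show y ⊗ₜ[A₁] (t • f x) = y ⊗ₜ[A₁] f (t • x)
        rw [map_smul]
  intro a b hab
  obtain ⟨a, rfl⟩ := e.symm.surjective a
  obtain ⟨b, rfl⟩ := e.symm.surjective b
  rw [hnat, hnat] at hab
  rw [h1 (e.symm.injective hab)]

/-- After killing a finitely generated ideal below a prime, a finitely presented module becomes free. -/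
theorem exists_free_quotient {A C : Type u} [CommRing A] [CommRing C] [Algebra A C] [Algebra.FinitePresentation A C]
    (M : Type u) [AddCommGroup M] [Module C M] [Module A M] [IsScalarTower A C M] [Module.FinitePresentation C M]
    (p : Ideal A) [p.IsPrime] :
    ∃ I : Ideal (Localization.AtPrime p), I.FG ∧ I ≤ maximalIdeal (Localization.AtPrime p) ∧
      Module.Free (Localization.AtPrime p ⧸ I) ((Localization.AtPrime p ⧸ I) ⊗[A] M) := by
  classical
  obtain ⟨d, n, R, hR, K, ⟨e⟩⟩ := Groth.L07.FlatDescent.exists_model A (B₀ := C) M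
  haveI := hR
  let L := Localization.AtPrime p
  let p₀ : Ideal R := p.comap (algebraMap R A)
  let I : Ideal L := p₀.map (algebraMap R L)
  have hI : I ≤ maximalIdeal L := Ideal.map_le_iff_le_comap.mpr fun r hr => by
    rw [Ideal.mem_comap, IsScalarTower.algebraMap_apply R A L, IsLocalization.AtPrime.to_map_mem_maximal_iff L p]
    exact hr
  refine ⟨I, Ideal.FG.map (IsNoetherian.noetherian p₀ : p₀.FG) _, hI, ?_⟩
  let A₁ := L ⧸ I
  let σ : p₀.ResidueField →+* A₁ := Ideal.ResidueField.lift p₀ (algebraMap R A₁)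
    (fun r hr => Ideal.Quotient.eq_zero_iff_mem.mpr (Ideal.mem_map_of_mem _ hr)) fun r hr => by
      have hu : IsUnit (algebraMap A L (algebraMap R A r)) := IsLocalization.map_units L (⟨_, hr⟩ : p.primeCompl)
      exact hu.map (Ideal.Quotient.mk I)
  letI : Algebra p₀.ResidueField A₁ := σ.toAlgebra
  haveI : IsScalarTower R p₀.ResidueField A₁ := IsScalarTower.of_algebraMap_eq fun r =>
    (Ideal.ResidueField.lift_algebraMap _ _ _ _ _).symm
  obtain ⟨e₁⟩ := Groth.L07.FlatDescent.exists_modelEquiv K e A₁
  obtain ⟨e₂⟩ := Groth.L07.FlatDescent.exists_baseChangeEquiv (Groth.L07.FlatDescent.KP (C := p₀.ResidueField) K) A₁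
  haveI : Module.Free p₀.ResidueField (Groth.L07.FlatDescent.F d n p₀.ResidueField ⧸
      Groth.L07.FlatDescent.KP (C := p₀.ResidueField) K) := Module.Free.of_divisionRing _ _
  exact Module.Free.of_equiv ((e₂.trans (Submodule.quotEquivOfEq _ _
    (Groth.L07.FlatDescent.KC_KP K p₀.ResidueField A₁))).trans e₁.symm)

/-- Localisations are stable under base change. -/
theorem isLocalizedModule_baseChange {A B A₁ M M' F F' : Type u} [CommRing A] [CommRing B] [Algebra A B] [CommRing A₁]
    [Algebra A A₁] [AddCommGroup M] [Module B M] [Module A M] [IsScalarTower A B M] [AddCommGroup M'] [Module B M']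
    [Module A M'] [IsScalarTower A B M'] [AddCommGroup F] [Module B F] [Module A F] [IsScalarTower A B F] [Module A₁ F]
    [IsScalarTower A A₁ F] [SMulCommClass A₁ B F] [AddCommGroup F'] [Module B F'] [Module A F'] [IsScalarTower A B F']
    [Module A₁ F'] [IsScalarTower A A₁ F'] [SMulCommClass A₁ B F'] (T : Submonoid B) (l : M →ₗ[B] M')
    [IsLocalizedModule T l] (f : M →ₗ[B] F) (hf : IsBaseChange A₁ (f.restrictScalars A)) (f' : M' →ₗ[B] F')
    (hf' : IsBaseChange A₁ (f'.restrictScalars A)) (gB : F →ₗ[B] F')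
    (hcomm : ∀ x, gB (f x) = f' (l x)) (hlin : ∀ (a : A₁) y, gB (a • y) = a • gB y) : IsLocalizedModule T gB := by
  have mkE : ∀ {X Y : Type u} [AddCommGroup X] [Module B X] [Module A X] [IsScalarTower A B X] [AddCommGroup Y]
      [Module B Y] [Module A Y] [IsScalarTower A B Y] [Module A₁ Y] [IsScalarTower A A₁ Y] [SMulCommClass A₁ B Y]
      (φ : X →ₗ[B] Y), IsBaseChange A₁ (φ.restrictScalars A) →
      ∃ e : X ⊗[A] A₁ ≃ₗ[B] Y, ∀ x a, e (x ⊗ₜ a) = a • φ x := by
    intro X Y _ _ _ _ _ _ _ _ _ _ _ φ hφ
    let e₀ := (TensorProduct.comm A X A₁).trans (hφ.equiv.restrictScalars A)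
    have he₀ : ∀ x a, e₀ (x ⊗ₜ a) = a • φ x := fun x a => hφ.equiv_tmul a x
    refine ⟨{ e₀ with map_smul' := fun b w => ?_ }, he₀⟩
    show e₀ (b • w) = b • e₀ w
    induction w using TensorProduct.induction_on with
    | zero => simp
    | add v w hv hw => simp only [smul_add, map_add, hv, hw]
    | tmul x a => rw [TensorProduct.smul_tmul', he₀, he₀, map_smul, smul_comm]
  obtain ⟨eF, heF⟩ := mkE f hf
  obtain ⟨eN, heN⟩ := mkE f' hf'
  have key : gB = (eN.toLinearMap ∘ₗ AlgebraTensorModule.rTensor A A₁ l) ∘ₗ eF.symm.toLinearMap := by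
    refine LinearMap.ext fun y => ?_
    obtain ⟨w, rfl⟩ := eF.surjective y
    simp only [LinearMap.comp_apply, LinearEquiv.coe_coe, LinearEquiv.symm_apply_apply]
    induction w using TensorProduct.induction_on with
    | zero => simp
    | add v w hv hw => simp only [map_add, hv, hw]
    | tmul x a => rw [heF, hlin, hcomm, AlgebraTensorModule.rTensor_tmul, heN]
  rw [key]
  infer_instance

/-- A localisation over the base is one over an intermediate algebra. -/
theorem isLocalizedModule_upgrade {B C F F' : Type u} [CommRing B] [CommRing C] [Algebra B C] [AddCommGroup F]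
    [Module C F] [Module B F] [IsScalarTower B C F] [AddCommGroup F'] [Module C F'] [Module B F'] [IsScalarTower B C F']
    (T : Submonoid B) (f : F →ₗ[C] F') [IsLocalizedModule T (f.restrictScalars B)] :
    IsLocalizedModule (T.map (algebraMap B C)) f := by
  refine IsLocalizedModule.mk (fun s => ?_) (fun y => ?_) fun {x x'} hxx' => ?_
  · obtain ⟨_, t, ht, rfl⟩ := s
    refine (Module.End.isUnit_iff _).mpr ?_
    convert (Module.End.isUnit_iff _).mp (IsLocalizedModule.map_units (f.restrictScalars B) (⟨t, ht⟩ : T)) using 1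
    funext x
    exact algebraMap_smul C t x
  · obtain ⟨⟨x, t⟩, hx⟩ := IsLocalizedModule.surj T (f.restrictScalars B) y
    exact ⟨⟨x, ⟨_, t, t.2, rfl⟩⟩, (algebraMap_smul C (t : B) y).trans hx⟩
  · obtain ⟨t, ht⟩ := IsLocalizedModule.exists_of_eq (S := T) (f := f.restrictScalars B) hxx'
    exact ⟨⟨_, t, t.2, rfl⟩, ((algebraMap_smul C (t : B) x).trans ht).trans (algebraMap_smul C (t : B) x').symm⟩

set_option maxHeartbeats 1000000 in
/-- A pure spreadout from a free model over a local base. -/
theorem hasPureSpreadout_of_free {A B A₁ B₁ : Type u} [CommRing A] [CommRing B] [Algebra A B] [CommRing A₁]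
    [IsLocalRing A₁] [Algebra A A₁] [CommRing B₁] [Algebra B B₁] [Algebra A₁ B₁] [Algebra A B₁] [IsScalarTower A B B₁]
    [IsScalarTower A A₁ B₁] [Algebra.IsPushout A B A₁ B₁] (T : Submonoid B) (N : Type u) [AddCommGroup N]
    [Module (Localization T) N] [Module B N] [Module A N] [IsScalarTower B (Localization T) N] [IsScalarTower A B N]
    (N₀ : Type u) [AddCommGroup N₀] [Module B N₀] [Module.FinitePresentation B N₀] (l : N₀ →ₗ[B] N)
    [IsLocalizedModule T l] (p : Ideal A) [p.IsPrime] (hp : (maximalIdeal A₁).comap (algebraMap A A₁) = p)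
    (g : B) (hgT : g ∈ T)
    [SMulCommClass B A (Localization.Away g)]
    (hreg : ∀ t ∈ T, Function.Injective
      (((LinearMap.lsmul B (Localization.Away g ⊗[B] N₀) t).restrictScalars A).rTensor p.ResidueField))
    [Module.Free A₁ (A₁ ⊗[A] (Localization.Away g ⊗[B] N₀))]
    (N₁ : Type u) [AddCommGroup N₁] [Module (Localization (T.map (algebraMap B B₁))) N₁] [Module A₁ N₁]
    [IsScalarTower A₁ (Localization (T.map (algebraMap B B₁))) N₁] [Module B N₁]
    [IsScalarTower B (Localization (T.map (algebraMap B B₁))) N₁] [Module A N₁] [IsScalarTower A A₁ N₁]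
    [IsScalarTower A B N₁] (h : N →ₗ[B] N₁) (hh : IsBaseChange A₁ (h.restrictScalars A)) :
    FlatCA.HasPureSpreadout A₁ B₁ (T.map (algebraMap B B₁)) N₁ := by
  classical
  let L := Localization T
  let T₁ := T.map (algebraMap B B₁)
  let L₁ := Localization T₁
  let C := Localization.Away g
  let g₁ := algebraMap B B₁ g
  let C₁ := Localization.Away g₁
  have hu : IsUnit (algebraMap B C₁ g) := by
    rw [IsScalarTower.algebraMap_apply B B₁ C₁]; exact IsLocalization.Away.algebraMap_isUnit g₁
  letI : Algebra C C₁ := (IsLocalization.Away.lift g hu).toAlgebra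
  haveI : IsScalarTower B C C₁ := IsScalarTower.of_algebraMap_eq fun b => (IsLocalization.Away.lift_eq g hu b).symm
  haveI : IsScalarTower A C C₁ := IsScalarTower.of_algebraMap_eq fun a => by
    rw [IsScalarTower.algebraMap_apply A B C, ← IsScalarTower.algebraMap_apply B C C₁, ← IsScalarTower.algebraMap_apply]
  haveI : Algebra.IsPushout A C A₁ C₁ := by
    haveI : IsLocalization (Algebra.algebraMapSubmonoid B₁ (Submonoid.powers g)) C₁ := by
      rw [Algebra.algebraMapSubmonoid_powers]; infer_instance
    haveI : Algebra.IsPushout B C B₁ C₁ :=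
      Algebra.IsPushout.symm ((Algebra.isLocalization_iff_isPushout (Submonoid.powers g) C).mp inferInstance)
    exact (Algebra.IsPushout.comp_iff A B (T := C) (R' := A₁) (S' := B₁) (T' := C₁)).mpr inferInstance
  haveI : SMulCommClass B A₁ C₁ := ⟨fun b a c => by simp only [Algebra.smul_def]; ring⟩
  haveI : SMulCommClass B C C₁ := ⟨fun b a c => by simp only [Algebra.smul_def]; ring⟩
  haveI : SMulCommClass B A C₁ := ⟨fun b a c => by simp only [Algebra.smul_def]; ring⟩
  let NC := C ⊗[B] N₀
  let F := C₁ ⊗[B] N₀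
  haveI : IsScalarTower A C NC := TensorProduct.isScalarTower_left
  haveI : IsScalarTower A C F := TensorProduct.isScalarTower_left
  haveI : IsScalarTower A A₁ F := TensorProduct.isScalarTower_left
  haveI : IsScalarTower A₁ C₁ F := TensorProduct.isScalarTower_left
  haveI : IsScalarTower A B NC := IsScalarTower.of_algebraMap_smul fun a x => by
    rw [← algebraMap_smul C (algebraMap A B a) x, ← IsScalarTower.algebraMap_apply, algebraMap_smul]
  haveI : IsScalarTower A B F := IsScalarTower.of_algebraMap_smul fun a x => by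
    rw [← algebraMap_smul C₁ (algebraMap A B a) x, ← IsScalarTower.algebraMap_apply,
      IsScalarTower.algebraMap_apply A A₁ C₁, algebraMap_smul, algebraMap_smul]
  let fC : N₀ →ₗ[B] NC := TensorProduct.mk B C N₀ 1
  have hfC : IsBaseChange C fC := TensorProduct.isBaseChange B N₀ C
  let fC₁ : N₀ →ₗ[B] F := TensorProduct.mk B C₁ N₀ 1
  have hfC₁ : IsBaseChange C₁ fC₁ := TensorProduct.isBaseChange B N₀ C₁
  haveI : IsScalarTower C C₁ F := TensorProduct.isScalarTower_left
  let f : NC →ₗ[C] F := hfC.lift fC₁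
  have hf : IsBaseChange C₁ f := IsBaseChange.of_comp hfC (by rw [hfC.lift_comp]; exact hfC₁)
  have hfA : IsBaseChange A₁ (f.restrictScalars A) :=
    Groth.L20.isBaseChange_restrictScalars (R := A) (S := C) (R' := A₁) (S' := C₁) hf
  haveI : Module.Free A₁ F := Module.Free.of_equiv hfA.equiv
  -- the localised modules
  have hg₁ : g₁ ∈ T₁ := Submonoid.mem_map_of_mem _ hgT
  have hu₁ : IsUnit (algebraMap B₁ L₁ g₁) := IsLocalization.map_units L₁ (⟨g₁, hg₁⟩ : T₁)
  letI : Algebra C₁ L₁ := (IsLocalization.Away.lift g₁ hu₁).toAlgebra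
  haveI : IsScalarTower B₁ C₁ L₁ := IsScalarTower.of_algebraMap_eq fun b => (IsLocalization.Away.lift_eq g₁ hu₁ b).symm
  haveI : IsScalarTower A₁ C₁ L₁ := IsScalarTower.of_algebraMap_eq fun a => by
    rw [IsScalarTower.algebraMap_apply A₁ B₁ C₁, ← IsScalarTower.algebraMap_apply B₁ C₁ L₁,
      ← IsScalarTower.algebraMap_apply A₁ B₁ L₁]
  haveI : IsScalarTower B C₁ L₁ := IsScalarTower.of_algebraMap_eq fun b => by
    rw [IsScalarTower.algebraMap_apply B B₁ C₁, ← IsScalarTower.algebraMap_apply B₁ C₁ L₁,
      ← IsScalarTower.algebraMap_apply B B₁ L₁]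
  letI : Module C₁ N₁ := Module.compHom N₁ (algebraMap C₁ L₁)
  haveI : IsScalarTower C₁ L₁ N₁ := IsScalarTower.of_algebraMap_smul fun _ _ => rfl
  haveI : IsScalarTower A₁ C₁ N₁ := IsScalarTower.of_algebraMap_smul fun a x => by
    show algebraMap C₁ L₁ (algebraMap A₁ C₁ a) • x = a • x
    rw [← IsScalarTower.algebraMap_apply, algebraMap_smul]
  haveI : IsScalarTower B C₁ N₁ := IsScalarTower.of_algebraMap_smul fun a x => by
    show algebraMap C₁ L₁ (algebraMap B C₁ a) • x = a • x
    rw [← IsScalarTower.algebraMap_apply, algebraMap_smul]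
  have huC : IsUnit (algebraMap B L g) := IsLocalization.map_units L (⟨g, hgT⟩ : T)
  letI : Algebra C L := (IsLocalization.Away.lift g huC).toAlgebra
  haveI : IsScalarTower B C L := IsScalarTower.of_algebraMap_eq fun b => (IsLocalization.Away.lift_eq g huC b).symm
  letI : Module C N := Module.compHom N (algebraMap C L)
  haveI : IsScalarTower B C N := IsScalarTower.of_algebraMap_smul fun a x => by
    show algebraMap C L (algebraMap B C a) • x = a • x
    rw [← IsScalarTower.algebraMap_apply, algebraMap_smul]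
  let lC : NC →ₗ[C] N := hfC.lift l
  let G : F →ₗ[C₁] N₁ := hfC₁.lift (h ∘ₗ l)
  -- the square commutes
  let ψ : L →ₐ[B] L₁ := IsLocalization.liftAlgHom (M := T) (f := Algebra.ofId B L₁) fun t => by
    rw [Algebra.ofId_apply, IsScalarTower.algebraMap_apply B B₁ L₁]
    exact IsLocalization.map_units L₁ (⟨_, Submonoid.mem_map_of_mem _ t.2⟩ : T₁)
  have hψ : ∀ c : C, ψ (algebraMap C L c) = algebraMap C₁ L₁ (algebraMap C C₁ c) := by
    refine fun c => congrFun (congrArg DFunLike.coe (IsLocalization.ringHom_ext (Submonoid.powers g)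
      (j := ψ.toRingHom.comp (algebraMap C L)) (k := (algebraMap C₁ L₁).comp (algebraMap C C₁)) (RingHom.ext fun b => ?_))) c
    show ψ (algebraMap C L (algebraMap B C b)) = algebraMap C₁ L₁ (algebraMap C C₁ (algebraMap B C b))
    rw [← IsScalarTower.algebraMap_apply, ← IsScalarTower.algebraMap_apply B C C₁, ← IsScalarTower.algebraMap_apply,
      ψ.commutes]
  have hcomm : ∀ x, G (f x) = h (lC x) := by
    intro x
    refine hfC.inductionOn x _ ?_ ?_ ?_ ?_
    · simp
    · intro m
      rw [show f (fC m) = fC₁ m from hfC.lift_eq _ _, show lC (fC m) = l m from hfC.lift_eq _ _]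
      exact hfC₁.lift_eq _ _
    · intro c m hm
      rw [map_smul, ← algebraMap_smul C₁ c (f m), map_smul, hm, map_smul,
        show c • lC m = algebraMap C L c • lC m from rfl, map_localization_smul T ψ h, hψ]
      rfl
    · intro a b ha hb
      simp only [map_add, ha, hb]
  haveI : IsLocalizedModule (Submonoid.powers g) fC := (isLocalizedModule_iff_isBaseChange (Submonoid.powers g) C fC).mpr hfC
  haveI : IsLocalizedModule T ((lC.restrictScalars B) ∘ₗ fC) := by
    rw [show lC.restrictScalars B ∘ₗ fC = l from hfC.lift_comp l]; infer_instance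
  haveI := isLocalizedModule_factor (Submonoid.powers g) T (Submonoid.powers_le.mpr hgT) fC (lC.restrictScalars B)
  haveI : SMulCommClass A₁ B F := ⟨fun a b x => by
    rw [← algebraMap_smul C₁ a, ← algebraMap_smul C₁ b, smul_comm, algebraMap_smul, algebraMap_smul]⟩
  haveI : SMulCommClass A₁ B N₁ := ⟨fun a b x => by
    rw [← algebraMap_smul C₁ a, ← algebraMap_smul C₁ b, smul_comm, algebraMap_smul, algebraMap_smul]⟩
  haveI : IsLocalizedModule T (G.restrictScalars B) :=
    isLocalizedModule_baseChange T (lC.restrictScalars B) (f.restrictScalars B) hfA h hh (G.restrictScalars B) hcomm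
      fun a y => LinearMap.map_smul_of_tower G a y
  -- the conclusion
  refine ⟨C₁, inferInstance, inferInstance, inferInstance, inferInstance, inferInstance, inferInstance, inferInstance,
    inferInstance, inferInstance, inferInstance, F, inferInstance, inferInstance, inferInstance, inferInstance, G,
    AlgebraicGeometry.IsOpenImmersion.of_isLocalization g₁, inferInstance, ?_, inferInstance, ?_⟩
  · haveI := isLocalizedModule_upgrade (C := C₁) T G
    haveI : IsLocalization (T₁.map (algebraMap B₁ C₁)) L₁ :=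
      IsLocalization.isLocalization_of_submonoid_le C₁ L₁ (Submonoid.powers g₁) T₁ (Submonoid.powers_le.mpr hg₁)
    refine (isLocalizedModule_iff_isBaseChange (T₁.map (algebraMap B₁ C₁)) L₁ G).mp ?_
    rw [show T₁.map (algebraMap B₁ C₁) = T.map (algebraMap B C₁) by
      show (T.map (algebraMap B B₁)).map (algebraMap B₁ C₁) = _
      ext x
      simp only [Submonoid.mem_map, exists_exists_and_eq_and, ← IsScalarTower.algebraMap_apply B B₁ C₁]]
    infer_instance
  · haveI : SMulCommClass B B₁ C₁ := ⟨fun b a c => by simp only [Algebra.smul_def]; ring⟩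
    letI : Module B₁ N₁ := Module.compHom N₁ (algebraMap B₁ C₁)
    haveI : IsScalarTower B₁ C₁ N₁ := IsScalarTower.of_algebraMap_smul fun _ _ => rfl
    haveI : IsScalarTower B₁ C₁ F := TensorProduct.isScalarTower_left
    haveI : IsScalarTower B B₁ F := IsScalarTower.of_algebraMap_smul fun b x => by
      rw [← algebraMap_smul C₁ (algebraMap B B₁ b) x, ← IsScalarTower.algebraMap_apply, algebraMap_smul]
    haveI : IsScalarTower B B₁ N₁ := IsScalarTower.of_algebraMap_smul fun b x => by
      rw [← algebraMap_smul C₁ (algebraMap B B₁ b) x, ← IsScalarTower.algebraMap_apply, algebraMap_smul]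
    haveI : IsScalarTower A₁ B₁ F := IsScalarTower.of_algebraMap_smul fun b x => by
      rw [← algebraMap_smul C₁ (algebraMap A₁ B₁ b) x, ← IsScalarTower.algebraMap_apply, algebraMap_smul]
    haveI : IsScalarTower A₁ B₁ N₁ := IsScalarTower.of_algebraMap_smul fun b x => by
      rw [← algebraMap_smul C₁ (algebraMap A₁ B₁ b) x, ← IsScalarTower.algebraMap_apply, algebraMap_smul]
    haveI : IsLocalizedModule T ((G.restrictScalars B₁).restrictScalars B) := ‹IsLocalizedModule T (G.restrictScalars B)›
    haveI : IsLocalizedModule T₁ (G.restrictScalars B₁) := isLocalizedModule_upgrade (C := B₁) T (G.restrictScalars B₁)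
    refine univInj_localization T₁ (G.restrictScalars B₁) fun t₁ ht₁ => ?_
    obtain ⟨t, ht, rfl⟩ := ht₁
    convert univInj_lsmul_baseChange p hp (f.restrictScalars B) hfA t (hreg t ht) using 1
    exact LinearMap.ext fun x => algebraMap_smul B₁ t x

end Groth.L20.RG
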