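import Groth.Agent.L20.RG.FlatPtsLocal
import Groth.Agent.L20.RG.Spreadout
import Groth.Agent.L20.Nilpotent
import Groth.Agent.L05.Henselization.StrictUniq

/-!
# Flatness from injectivity modulo the maximal ideal, for maps linear over the base only
-/

set_option autoImplicit false
set_option linter.style.haveILetI false
set_option backward.isDefEq.respectTransparency.types false
universe u

open TensorProduct IsLocalRing

noncomputable section

namespace Groth.L20.RG

open Groth.L03.WeakAss

/-- Injectivity on the residue field and flatness of the target kill the kernel of a small extension. -/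
theorem exists_smul_of_small {A S : Type u} [CommRing A] [IsLocalRing A] [CommRing S] [Algebra A S]
    {N₀ : Type u} [AddCommGroup N₀] [Module S N₀] [Module A N₀] [IsScalarTower A S N₀]
    {N : Type u} [AddCommGroup N] [Module S N] [Module A N] [IsScalarTower A S N] (T : Submonoid S)
    (l : N₀ →ₗ[S] N) [IsLocalizedModule T l] {M : Type u} [AddCommGroup M] [Module A M] [Module.Flat A M]
    (u : N →ₗ[A] M) (hu : Function.Injective (u.rTensor (ResidueField A)))
    {V X : Type u} [AddCommGroup V] [Module A V] [AddCommGroup X] [Module A X] (ι : V →ₗ[A] X)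
    (hι : Function.Injective ι) (hV : ∀ a ∈ maximalIdeal A, ∀ v : V, a • v = 0)
    (w : N₀ ⊗[A] V) (hw : ι.lTensor N₀ w = 0) : ∃ t ∈ T, t • w = 0 := by
  let lV := AlgebraTensorModule.rTensor A V l
  have hnat : ∀ w : N₀ ⊗[A] V, ι.lTensor M (u.rTensor V (lV w)) =
      u.rTensor X ((l.restrictScalars A).rTensor X (ι.lTensor N₀ w)) := fun w => by
    induction w using TensorProduct.induction_on with
    | zero => simp
    | add a b ha hb => simp only [map_add, ha, hb]
    | tmul n v => simp [lV]
  letI : Module (ResidueField A) V := Module.IsTorsionBySet.module (fun v a => hV a a.2 v)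
  haveI : IsScalarTower A (ResidueField A) V := IsScalarTower.of_algebraMap_smul fun a v => rfl
  have h1 : u.rTensor V (lV w) = 0 := by
    refine Module.Flat.lTensor_preserves_injective_linearMap (M := M) ι hι ?_
    rw [map_zero, hnat, hw, map_zero, map_zero]
  have h2 : lV w = 0 := injective_rTensor_vector u (ResidueField A) hu V (by rw [map_zero]; exact h1)
  obtain ⟨t, ht⟩ := (IsLocalizedModule.eq_zero_iff T lV).mp h2
  exact ⟨t, t.2, ht⟩

/-- A small extension stays injective on the local module of a base change. -/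
theorem injective_rTensor_localized {A S : Type u} [CommRing A] [IsLocalRing A] [CommRing S] [Algebra A S]
    {N₀ : Type u} [AddCommGroup N₀] [Module S N₀] [Module A N₀] [IsScalarTower A S N₀]
    {N : Type u} [AddCommGroup N] [Module S N] [Module A N] [IsScalarTower A S N] (T : Submonoid S)
    (l : N₀ →ₗ[S] N) [IsLocalizedModule T l] {M : Type u} [AddCommGroup M] [Module A M] [Module.Flat A M]
    (u : N →ₗ[A] M) (hu : Function.Injective (u.rTensor (ResidueField A)))
    {R' D' M' : Type u} [CommRing R'] [CommRing D'] [Algebra A R'] [Algebra S D'] [Algebra R' D'] [AddCommGroup M']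
    [Module D' M'] [Module S M'] [IsScalarTower S D' M'] [Module R' M'] [IsScalarTower R' D' M'] [Module A M']
    [IsScalarTower A R' M'] [IsScalarTower A S M']
    (f : N₀ →ₗ[S] M') (hf : IsBaseChange R' (f.restrictScalars A))
    (J : Ideal R') (hJ : ∀ a ∈ maximalIdeal A, ∀ x ∈ J, a • x = (0 : R'))
    (U : Submonoid D') (hU : ∀ t ∈ T, algebraMap S D' t ∈ U) :
    Function.Injective (J.subtype.rTensor (LocalizedModule U M')) := by
  refine (LinearMap.lTensor_inj_iff_rTensor_inj _ _).mp ((injective_iff_map_eq_zero _).mpr fun z hz => ?_)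
  let fX := LocalizedModule.mkLinearMap U M'
  let FJ := AlgebraTensorModule.rTensor R' J fX
  let FR := AlgebraTensorModule.rTensor R' R' fX
  obtain ⟨⟨z₀, s⟩, hs⟩ := IsLocalizedModule.surj U FJ z
  have hlin : ∀ (c : D') (y : LocalizedModule U M' ⊗[R'] J),
      J.subtype.lTensor (LocalizedModule U M') (c • y) = c • J.subtype.lTensor (LocalizedModule U M') y := fun c y =>
    map_smul (AlgebraTensorModule.lTensor D' (LocalizedModule U M') J.subtype) c y
  have hnat : ∀ y : M' ⊗[R'] J, J.subtype.lTensor (LocalizedModule U M') (FJ y) = FR (J.subtype.lTensor M' y) :=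
    fun y => by
      induction y using TensorProduct.induction_on with
      | zero => simp
      | add a b ha hb => simp only [map_add, ha, hb]
      | tmul m x => simp [FJ, FR]
  have h1 : FR (J.subtype.lTensor M' z₀) = 0 := by
    rw [← hnat, ← hs, Submonoid.smul_def, hlin, hz, smul_zero]
  obtain ⟨c, hc⟩ := (IsLocalizedModule.eq_zero_iff U FR).mp h1
  -- pull back to the model
  have mkE : ∀ (W : Type u) [AddCommGroup W] [Module R' W] [Module A W] [IsScalarTower A R' W],
      ∃ e : N₀ ⊗[A] W ≃ₗ[A] M' ⊗[R'] W, ∀ n x, e (n ⊗ₜ x) = f n ⊗ₜ x := by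
    intro W _ _ _ _
    let e := (TensorProduct.comm A N₀ W).trans
      ((((AlgebraTensorModule.cancelBaseChange A R' R' W N₀).symm.trans
        (AlgebraTensorModule.congr (LinearEquiv.refl R' W) hf.equiv)).trans
        (TensorProduct.comm R' W M')).restrictScalars A)
    refine ⟨e, fun n x => ?_⟩
    simp [e, hf.equiv_tmul]
  obtain ⟨eJ, heJ⟩ := mkE J
  obtain ⟨eR, heR⟩ := mkE R'
  obtain ⟨w, hw⟩ := eJ.surjective ((c : D') • z₀)
  have h2 : (J.subtype.restrictScalars A).lTensor N₀ w = 0 := eR.injective (by
    rw [map_zero]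
    have : ∀ w : N₀ ⊗[A] J, eR ((J.subtype.restrictScalars A).lTensor N₀ w) = J.subtype.lTensor M' (eJ w) := fun w => by
      induction w using TensorProduct.induction_on with
      | zero => simp
      | add a b ha hb => simp only [map_add, ha, hb]
      | tmul n x => simp [heJ, heR]
    rw [this, hw]
    exact (map_smul (AlgebraTensorModule.lTensor D' M' J.subtype) (c : D') z₀).trans hc)
  obtain ⟨t, ht, htw⟩ := exists_smul_of_small T l u hu (J.subtype.restrictScalars A) Subtype.val_injective
    (fun a ha x => Subtype.ext (hJ a ha x x.2)) w h2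
  have h3 : algebraMap S D' t • ((c : D') • z₀) = 0 := by
    rw [← hw, show algebraMap S D' t • eJ w = eJ (t • w) from ?_, htw, map_zero]
    clear hw h2 htw
    induction w using TensorProduct.induction_on with
    | zero => simp
    | add a b ha hb => rw [smul_add, map_add, map_add, smul_add, ha, hb]
    | tmul n x => rw [TensorProduct.smul_tmul', heJ, heJ, TensorProduct.smul_tmul', map_smul, algebraMap_smul]
  refine IsLocalizedModule.smul_injective FJ (⟨_, hU t ht⟩ * c * s) ?_
  show (⟨_, hU t ht⟩ * c * s : U) • z = (⟨_, hU t ht⟩ * c * s : U) • 0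
  rw [smul_zero, mul_smul, mul_smul, hs, Submonoid.smul_def, Submonoid.smul_def, ← map_smul, ← map_smul]
  show FJ (algebraMap S D' t • (c : D') • z₀) = 0
  rw [h3, map_zero]

set_option maxHeartbeats 1000000 in
/-- Flatness modulo an ideal of a local module, from the points of the base change. -/
theorem flat_quotient_localized {H D M R' D' M' : Type u} [CommRing H] [CommRing D] [Algebra H D] [AddCommGroup M]
    [Module D M] [CommRing R'] [IsLocalRing R'] [Algebra H R'] [CommRing D'] [Algebra D D'] [Algebra R' D'] [Algebra H D']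
    [IsScalarTower H R' D'] [IsScalarTower H D D'] [Algebra.IsPushout H R' D D'] [AddCommGroup M'] [Module D' M']
    [Module D M'] [IsScalarTower D D' M'] [Module R' M'] [IsScalarTower R' D' M'] (f : M →ₗ[D] M') (hf : IsBaseChange D' f)
    (y : Ideal D) (K : Ideal R') [IsLocalRing (R' ⧸ K)] (hK : FlatPts H D M y (R' ⧸ K))
    (Q : Ideal D') [Q.IsPrime] (hQm : Q.comap (algebraMap R' D') = maximalIdeal R')
    (hQy : Q.comap (algebraMap D D') = y) :
    Module.Flat (R' ⧸ K) ((R' ⧸ K) ⊗[R'] LocalizedModule Q.primeCompl M') := by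
  let R'' := R' ⧸ K
  obtain ⟨D'', _, _, _, _, _, _, _, hpD⟩ : ∃ (D'' : Type u) (_ : CommRing D'') (_ : Algebra D' D'') (_ : Algebra R'' D'')
      (_ : Algebra R' D'') (_ : Algebra H D'') (_ : IsScalarTower H R'' D'') (_ : IsScalarTower R' R'' D''),
      ∃ _ : IsScalarTower R' D' D'', IsScalarTower H R' D'' ∧ Algebra.IsPushout R' R'' D' D'' := by
    letI : Algebra D' (R'' ⊗[R'] D') := Algebra.TensorProduct.rightAlgebra
    haveI : IsScalarTower R' D' (R'' ⊗[R'] D') := Algebra.TensorProduct.right_isScalarTower
    haveI : IsScalarTower H R' (R'' ⊗[R'] D') := IsScalarTower.to₁₂₄ H R' R'' (R'' ⊗[R'] D')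
    exact ⟨R'' ⊗[R'] D', inferInstance, inferInstance, inferInstance, inferInstance, inferInstance, inferInstance,
      inferInstance, inferInstance, inferInstance, inferInstance⟩
  obtain ⟨_, _, _⟩ := hpD
  letI : Algebra D D'' := ((algebraMap D' D'').comp (algebraMap D D')).toAlgebra
  haveI : IsScalarTower D D' D'' := IsScalarTower.of_algebraMap_eq' rfl
  haveI : IsScalarTower H D' D'' := IsScalarTower.of_algebraMap_eq fun x => by
    rw [IsScalarTower.algebraMap_apply H R' D', ← IsScalarTower.algebraMap_apply R' D' D'',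
      ← IsScalarTower.algebraMap_apply H R' D'']
  haveI : IsScalarTower H D D'' := IsScalarTower.of_algebraMap_eq fun x => by
    rw [IsScalarTower.algebraMap_apply D D' D'', ← IsScalarTower.algebraMap_apply H D D',
      ← IsScalarTower.algebraMap_apply H D' D'']
  haveI : Algebra.IsPushout H R'' D D'' := (Algebra.IsPushout.comp_iff H R' (T := R'') (R' := D) (S' := D') (T' := D'')).mpr inferInstance
  haveI : SMulCommClass D' R'' D'' := ⟨fun a b c => by
    rw [Algebra.smul_def a, Algebra.smul_def a, mul_smul_comm]⟩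
  haveI : SMulCommClass D' R' D'' := ⟨fun a b c => by
    rw [Algebra.smul_def a, Algebra.smul_def a, mul_smul_comm]⟩
  haveI : SMulCommClass D' D D'' := ⟨fun a b c => by
    rw [Algebra.smul_def a, Algebra.smul_def a, mul_smul_comm]⟩
  let M'' := D'' ⊗[D'] M'
  haveI : IsScalarTower R'' D'' M'' := TensorProduct.isScalarTower_left
  haveI : IsScalarTower D D'' M'' := TensorProduct.isScalarTower_left
  haveI : IsScalarTower R' R'' M'' := TensorProduct.isScalarTower_left
  haveI : IsScalarTower D D' M'' := IsScalarTower.of_algebraMap_smul fun r m => by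
    rw [← algebraMap_smul D'' (algebraMap D D' r) m, ← IsScalarTower.algebraMap_apply, algebraMap_smul]
  haveI : IsScalarTower R' D' M'' := IsScalarTower.of_algebraMap_smul fun r m => by
    rw [← algebraMap_smul D'' (algebraMap R' D' r) m, ← IsScalarTower.algebraMap_apply,
      IsScalarTower.algebraMap_apply R' R'' D'', algebraMap_smul, algebraMap_smul]
  haveI : SMulCommClass R'' D' M'' := ⟨fun a b x => by
    rw [← algebraMap_smul D'' a, ← algebraMap_smul D'' b, smul_comm, algebraMap_smul, algebraMap_smul]⟩
  let g : M' →ₗ[D'] M'' := TensorProduct.mk D' D'' M' 1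
  have hg : IsBaseChange D'' g := TensorProduct.isBaseChange D' M' D''
  have hcomp : IsBaseChange D'' ((g.restrictScalars D).comp f) := IsBaseChange.comp hf hg
  obtain ⟨Q'', hQ'', hQ''m, hQ''Q⟩ := exists_prime_of_isPushout (R := R') (D := D') (D' := D'') (maximalIdeal R'') Q (by
    rw [hQm]
    exact IsLocalRing.eq_maximalIdeal (Ideal.comap_isMaximal_of_surjective _ Ideal.Quotient.mk_surjective))
  haveI := hQ''
  have hy : Q''.comap (algebraMap D D'') = y := by
    rw [IsScalarTower.algebraMap_eq D D' D'', ← Ideal.comap_comap, hQ''Q, hQy]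
  haveI hflat : Module.Flat R'' (LocalizedModule Q''.primeCompl M'') :=
    hK D'' M'' ((g.restrictScalars D).comp f) hcomp Q'' hQ''m hy
  haveI : Algebra.IsPushout R' D' R'' D'' := Algebra.IsPushout.symm inferInstance
  have hgR : IsBaseChange R'' (g.restrictScalars R') :=
    Groth.L20.isBaseChange_restrictScalars (R := R') (S := D') (R' := R'') (S' := D'') hg
  let X := LocalizedModule Q.primeCompl M'
  let fX := LocalizedModule.mkLinearMap Q.primeCompl M'
  let X'' := D'' ⊗[D'] X
  haveI : IsScalarTower R'' D'' X'' := TensorProduct.isScalarTower_left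
  haveI : IsScalarTower R' R'' X'' := TensorProduct.isScalarTower_left
  haveI : IsScalarTower R' D' X'' := IsScalarTower.of_algebraMap_smul fun r m => by
    rw [← algebraMap_smul D'' (algebraMap R' D' r) m, ← IsScalarTower.algebraMap_apply,
      IsScalarTower.algebraMap_apply R' R'' D'', algebraMap_smul, algebraMap_smul]
  haveI : SMulCommClass R'' D' X'' := ⟨fun a b x => by
    rw [← algebraMap_smul D'' a, ← algebraMap_smul D'' b, smul_comm, algebraMap_smul, algebraMap_smul]⟩
  let gX : X →ₗ[D'] X'' := TensorProduct.mk D' D'' X 1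
  have hgX : IsBaseChange R'' (gX.restrictScalars R') :=
    Groth.L20.isBaseChange_restrictScalars (R := R') (S := D') (R' := R'') (S' := D'') (TensorProduct.isBaseChange D' X D'')
  let gB : M'' →ₗ[D''] X'' := fX.baseChange D''
  haveI : IsLocalizedModule Q.primeCompl (gB.restrictScalars D') :=
    isLocalizedModule_baseChange Q.primeCompl fX g hgR gX hgX (gB.restrictScalars D')
      (fun x => LinearMap.baseChange_tmul _ _ _) fun a y => LinearMap.map_smul_of_tower gB a y
  have hsurj : Function.Surjective (algebraMap D' D'') :=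
    surjective_of_isPushout (R := R') (R' := R'') Ideal.Quotient.mk_surjective
  haveI : IsScalarTower D' D'' (LocalizedModule Q''.primeCompl M'') := inferInstance
  haveI : IsLocalizedModule Q.primeCompl ((LocalizedModule.mkLinearMap Q''.primeCompl M'').restrictScalars D') := by
    refine isLocalizedModule_restrict (G := M'') (L := LocalizedModule Q''.primeCompl M'') Q.primeCompl Q''.primeCompl (LocalizedModule.mkLinearMap Q''.primeCompl M'') (fun t ht h => ht ?_) fun s hs => ?_
    · rw [← hQ''Q]; exact h
    · obtain ⟨t, rfl⟩ := hsurj s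
      exact ⟨t, fun h => hs (by rw [← hQ''Q] at h; exact h), dvd_rfl⟩
  let e := IsLocalizedModule.linearEquiv Q.primeCompl
    ((LocalizedModule.mkLinearMap Q''.primeCompl M'').restrictScalars D') (gB.restrictScalars D')
  let e' : LocalizedModule Q''.primeCompl M'' ≃ₗ[R''] X'' :=
    (e.restrictScalars R').extendScalarsOfSurjective Ideal.Quotient.mk_surjective
  haveI : Module.Flat R'' X'' := Module.Flat.of_linearEquiv e'.symm
  exact Module.Flat.of_linearEquiv hgX.equiv

set_option maxHeartbeats 1000000 in
/-- **Flatness from injectivity modulo the maximal ideal**: only linearity over the base is used. -/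
theorem flatAt_of_injMod {A S : Type u} [CommRing A] [IsLocalRing A] [CommRing S] [Algebra A S]
    [Algebra.FinitePresentation A S] (q : Ideal S) [q.IsPrime] [q.LiesOver (maximalIdeal A)]
    (N₀ : Type u) [AddCommGroup N₀] [Module S N₀] [Module A N₀] [IsScalarTower A S N₀] [Module.FinitePresentation S N₀]
    {N : Type u} [AddCommGroup N] [Module S N] [Module A N] [IsScalarTower A S N] (l : N₀ →ₗ[S] N)
    [IsLocalizedModule q.primeCompl l] {M : Type u} [AddCommGroup M] [Module A M] [Module.Flat A M]
    (u : N →ₗ[A] M) (hu : Function.Injective (u.rTensor (ResidueField A))) : FlatCA.FlatAt A q N₀ := by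
  classical
  obtain ⟨H, _, _, _, _, hH⟩ := Groth.L05.Henselization.exists_isHenselization A
  haveI := hH
  haveI : HenselianLocalRing H := Hensel.IsHenselization.henselian (R := A)
  haveI : Module.Flat A H := Groth.L05.Henselization.flat_of_isHenselization A H
  obtain ⟨SH, _, _, _, _, _, _, hpush⟩ : ∃ (SH : Type u) (_ : CommRing SH) (_ : Algebra S SH) (_ : Algebra H SH)
      (_ : Algebra A SH) (_ : IsScalarTower A S SH) (_ : IsScalarTower A H SH), Algebra.IsPushout A H S SH := by
    letI : Algebra S (H ⊗[A] S) := Algebra.TensorProduct.rightAlgebra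
    haveI : IsScalarTower A S (H ⊗[A] S) := Algebra.TensorProduct.right_isScalarTower
    exact ⟨H ⊗[A] S, inferInstance, inferInstance, inferInstance, inferInstance, inferInstance, inferInstance,
      inferInstance⟩
  haveI := hpush
  haveI hpush' : Algebra.IsPushout A S H SH := Algebra.IsPushout.symm hpush
  haveI : Module.Flat S SH := Module.Flat.isBaseChange A S H SH hpush'.out
  haveI : Algebra.FinitePresentation H SH :=
    Algebra.FinitePresentation.equiv (Algebra.IsPushout.equiv A H S SH)
  obtain ⟨q', hq', hq'm, hq'q⟩ := exists_prime_of_isPushout (R := A) (R' := H) (D := S) (D' := SH) (maximalIdeal H) q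
    ((IsLocalRing.maximalIdeal_comap (algebraMap A H)).trans (Ideal.over_def q (maximalIdeal A)))
  haveI : q'.LiesOver (maximalIdeal H) := ⟨hq'm.symm⟩
  haveI : SMulCommClass S H SH := ⟨fun a b c => by rw [Algebra.smul_def a, Algebra.smul_def a, mul_smul_comm]⟩
  let NH := SH ⊗[S] N₀
  haveI : IsScalarTower H SH NH := TensorProduct.isScalarTower_left
  let gH : N₀ →ₗ[S] NH := TensorProduct.mk S SH N₀ 1
  have hgH : IsBaseChange SH gH := TensorProduct.isBaseChange S N₀ SH
  obtain ⟨J, hJ⟩ := exists_ideal_of_henselian (A := H) q' NH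
  have hJfg : J.FG := fg_of_flatPts_iff q' hq'm NH J hJ
  have hJm : J ≤ maximalIdeal H := by
    haveI : IsLocalHom (algebraMap H (ResidueField H)) := inferInstanceAs (IsLocalHom (IsLocalRing.residue H))
    have := (hJ (ResidueField H)).mp fun D' M' _ _ _ _ _ _ _ _ _ _ _ _ _ f hf Q _ _ _ => inferInstance
    exact this.trans (IsLocalRing.ker_residue (R := H)).le
  have hquot : ∀ (R : Type u) [CommRing R] [IsLocalRing R] (K : Ideal R), K ≤ maximalIdeal R →
      ∃ _ : IsLocalRing (R ⧸ K), IsLocalHom (Ideal.Quotient.mk K) := by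
    intro R _ _ K hK
    haveI : Nontrivial (R ⧸ K) := Ideal.Quotient.nontrivial_iff.mpr fun h =>
      (maximalIdeal.isMaximal R).ne_top (top_le_iff.mp (h ▸ hK))
    haveI : IsLocalRing (R ⧸ K) := IsLocalRing.of_surjective' (Ideal.Quotient.mk K) Ideal.Quotient.mk_surjective
    exact ⟨inferInstance, ((local_hom_TFAE (Ideal.Quotient.mk K)).out 0 4 rfl rfl).mpr
      (IsLocalRing.eq_maximalIdeal (Ideal.comap_isMaximal_of_surjective _ Ideal.Quotient.mk_surjective))⟩
  -- the small extension
  have hJ0 : J = ⊥ := by
    let K₁ := maximalIdeal H * J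
    obtain ⟨_, hlhom⟩ := hquot H K₁ (Ideal.mul_le_right.trans hJm)
    haveI : IsLocalHom (algebraMap H (H ⧸ K₁)) := hlhom
    let J₁ : Ideal (H ⧸ K₁) := J.map (Ideal.Quotient.mk K₁)
    have hJ₁ : ∀ a ∈ maximalIdeal A, ∀ x ∈ J₁, a • x = (0 : H ⧸ K₁) := fun a ha x hx => by
      obtain ⟨j, hj, rfl⟩ := (Ideal.mem_map_iff_of_surjective _ Ideal.Quotient.mk_surjective).mp hx
      rw [Algebra.smul_def, IsScalarTower.algebraMap_apply A H (H ⧸ K₁), Ideal.Quotient.algebraMap_eq, ← map_mul,
        Ideal.Quotient.eq_zero_iff_mem]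
      exact Ideal.mul_mem_mul (((IsLocalRing.maximalIdeal_comap (algebraMap A H)).ge ha :)) hj
    have hJ₁sq : J₁ ^ 2 = ⊥ := by
      rw [sq, ← Ideal.map_mul, Ideal.map_eq_bot_iff_le_ker, Ideal.mk_ker]
      exact Ideal.mul_mono_left hJm
    have hJ₁m : J₁ ≤ maximalIdeal (H ⧸ K₁) := Ideal.map_le_iff_le_comap.mpr
      (hJm.trans (IsLocalRing.eq_maximalIdeal
        (Ideal.comap_isMaximal_of_surjective _ Ideal.Quotient.mk_surjective)).ge)
    obtain ⟨_, hlhom₁⟩ := hquot (H ⧸ K₁) J₁ hJ₁m
    have hflat : FlatPts H SH NH q' (H ⧸ K₁) := by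
      intro D' M' _ _ _ _ _ _ _ _ _ _ _ _ _ f hf Q _ hQm hQy
      letI : Algebra S D' := ((algebraMap SH D').comp (algebraMap S SH)).toAlgebra
      haveI : IsScalarTower S SH D' := IsScalarTower.of_algebraMap_eq' rfl
      letI : Algebra A D' := ((algebraMap H D').comp (algebraMap A H)).toAlgebra
      haveI : IsScalarTower A H D' := IsScalarTower.of_algebraMap_eq' rfl
      haveI : IsScalarTower A (H ⧸ K₁) D' := IsScalarTower.of_algebraMap_eq fun x => by
        rw [IsScalarTower.algebraMap_apply A H D', IsScalarTower.algebraMap_apply H (H ⧸ K₁) D',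
          ← IsScalarTower.algebraMap_apply A H (H ⧸ K₁)]
      haveI : IsScalarTower A SH D' := IsScalarTower.of_algebraMap_eq fun x => by
        rw [IsScalarTower.algebraMap_apply A H D', IsScalarTower.algebraMap_apply H SH D',
          ← IsScalarTower.algebraMap_apply A H SH]
      haveI : IsScalarTower A S D' := IsScalarTower.of_algebraMap_eq fun x => by
        rw [IsScalarTower.algebraMap_apply S SH D', ← IsScalarTower.algebraMap_apply A S SH,
          ← IsScalarTower.algebraMap_apply A SH D']
      haveI hpA : Algebra.IsPushout A (H ⧸ K₁) S D' :=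
        (Algebra.IsPushout.comp_iff A H (T := H ⧸ K₁) (R' := S) (S' := SH) (T' := D')).mpr inferInstance
      haveI : Algebra.IsPushout A S (H ⧸ K₁) D' := Algebra.IsPushout.symm hpA
      letI : Module S M' := Module.compHom M' (algebraMap S SH)
      haveI : IsScalarTower S SH M' := IsScalarTower.of_algebraMap_smul fun _ _ => rfl
      haveI : IsScalarTower S D' M' := IsScalarTower.of_algebraMap_smul fun r m => by
        show algebraMap SH D' (algebraMap S SH r) • m = algebraMap S SH r • m
        rw [algebraMap_smul]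
      letI : Module A M' := Module.compHom M' (algebraMap A (H ⧸ K₁))
      haveI : IsScalarTower A (H ⧸ K₁) M' := IsScalarTower.of_algebraMap_smul fun _ _ => rfl
      haveI : IsScalarTower A S M' := IsScalarTower.of_algebraMap_smul fun r m => by
        show algebraMap A S r • m = algebraMap A (H ⧸ K₁) r • m
        rw [← algebraMap_smul D' (algebraMap A S r) m, ← algebraMap_smul D' (algebraMap A (H ⧸ K₁) r) m,
          ← IsScalarTower.algebraMap_apply, ← IsScalarTower.algebraMap_apply]
      let f₀ : N₀ →ₗ[S] M' := (f.restrictScalars S).comp gH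
      have hf₀ : IsBaseChange D' f₀ := IsBaseChange.comp hgH hf
      have hbc : IsBaseChange (H ⧸ K₁) (f₀.restrictScalars A) :=
        Groth.L20.isBaseChange_restrictScalars (R := A) (S := S) (R' := H ⧸ K₁) (S' := D') hf₀
      have hU : ∀ t ∈ q.primeCompl, algebraMap S D' t ∈ Q.primeCompl := fun t ht h => ht (by
        show t ∈ q
        rw [← hq'q, Ideal.mem_comap, ← hQy, Ideal.mem_comap, ← IsScalarTower.algebraMap_apply]
        exact h)
      haveI : Module.Flat ((H ⧸ K₁) ⧸ J₁) (((H ⧸ K₁) ⧸ J₁) ⊗[H ⧸ K₁] LocalizedModule Q.primeCompl M') := by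
        haveI : IsLocalHom (algebraMap H ((H ⧸ K₁) ⧸ J₁)) :=
          RingHom.isLocalHom_comp (Ideal.Quotient.mk J₁) (Ideal.Quotient.mk K₁)
        refine flat_quotient_localized f hf q' J₁ ((hJ ((H ⧸ K₁) ⧸ J₁)).mpr fun j hj => ?_) Q hQm hQy
        show Ideal.Quotient.mk J₁ (Ideal.Quotient.mk K₁ j) = 0
        exact Ideal.Quotient.eq_zero_iff_mem.mpr (Ideal.mem_map_of_mem _ hj)
      refine Groth.L20.flat_of_nilpotent J₁ ⟨2, hJ₁sq⟩ fun j => ?_
      cases j with
      | zero =>
        have hb : Function.Bijective (J₁ ^ 0).subtype :=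
          ⟨Subtype.val_injective, fun x => ⟨⟨x, by rw [pow_zero, Ideal.one_eq_top]; trivial⟩, rfl⟩⟩
        exact ((LinearEquiv.ofBijective _ hb).rTensor (LocalizedModule Q.primeCompl M')).injective
      | succ j =>
        exact injective_rTensor_localized q.primeCompl l u hu f₀ hbc (J₁ ^ (j + 1))
          (fun a ha x hx => hJ₁ a ha x (Ideal.pow_le_self j.succ_ne_zero hx)) Q.primeCompl hU
    have hle : J ≤ K₁ := by
      have := (hJ (H ⧸ K₁)).mp hflat
      rwa [Ideal.Quotient.algebraMap_eq, Ideal.mk_ker] at this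
    exact Submodule.eq_bot_of_le_smul_of_le_jacobson_bot (maximalIdeal H) J hJfg hle
      (IsLocalRing.maximalIdeal_le_jacobson _)
  -- flatness over the henselisation, and descent
  haveI : Algebra.IsPushout H H SH SH := Algebra.IsPushout.symm inferInstance
  haveI : Module.Flat H (LocalizedModule q'.primeCompl NH) :=
    (hJ H).mpr (hJ0 ▸ bot_le) SH NH LinearMap.id
      (IsBaseChange.of_equiv (TensorProduct.lid SH NH) fun x => by rw [TensorProduct.lid_tmul, one_smul]; rfl) q' hq'm
      (Ideal.comap_id q')
  haveI : IsScalarTower A SH (LocalizedModule q'.primeCompl NH) := inferInstance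
  haveI : IsScalarTower A H (LocalizedModule q'.primeCompl NH) := inferInstance
  haveI : Module.Flat A (LocalizedModule q'.primeCompl NH) := Module.Flat.trans A H _
  exact Groth.L20.AboveClosed.flat_of_flat_above gH hgH q' q hq'q

end Groth.L20.RG
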