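import Groth.Agent.L20.RG.InjModLocal
import Groth.Agent.L20.RG.InjModBelow
import Groth.Agent.L20.RG.InjModDivisible
import Groth.Agent.L20.RG.UnivInjFibres
import Mathlib.Order.Zorn

/-!
# Universal injectivity from injectivity modulo the maximal ideal, base-linear maps

The set of bad primes has maximal elements, as injectivity spreads downwards above a finitely generated ideal; a kernel
element over a maximal bad prime is infinitely divisible, hence zero.
-/

set_option autoImplicit false
set_option linter.style.haveILetI false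
set_option backward.isDefEq.respectTransparency.types false
universe u

open TensorProduct IsLocalRing

noncomputable section

namespace Groth.L20.RG

open Groth.L03.WeakAss

set_option maxHeartbeats 1000000 in
/-- **Universal injectivity and flatness from injectivity modulo the maximal ideal.** -/
theorem flat_and_univInj_of_injMod_base {A S : Type u} [CommRing A] [IsLocalRing A] [CommRing S] [Algebra A S]
    [Algebra.FinitePresentation A S] (q : Ideal S) [q.IsPrime] [q.LiesOver (maximalIdeal A)]
    (N₀ : Type u) [AddCommGroup N₀] [Module S N₀] [Module A N₀] [IsScalarTower A S N₀] [Module.FinitePresentation S N₀]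
    {N : Type u} [AddCommGroup N] [Module S N] [Module A N] [IsScalarTower A S N] (l : N₀ →ₗ[S] N)
    [IsLocalizedModule q.primeCompl l] {M : Type u} [AddCommGroup M] [Module A M] [Module.Flat A M]
    (u : N →ₗ[A] M) (hu : Function.Injective (u.rTensor (ResidueField A))) :
    Module.Flat A N ∧ ∀ (Q : Type u) [AddCommGroup Q] [Module A Q], Function.Injective (u.rTensor Q) := by
  classical
  have hflat : FlatCA.FlatAt A q N₀ := flatAt_of_injMod q N₀ l u hu
  haveI : Module.Flat A (LocalizedModule q.primeCompl N₀) := hflat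
  haveI hN : Module.Flat A N :=
    Module.Flat.of_linearEquiv ((IsLocalizedModule.iso q.primeCompl l).restrictScalars A).symm
  refine ⟨hN, ?_⟩
  suffices h : ∀ (t : Ideal A) [t.IsPrime], Function.Injective (u.rTensor t.ResidueField) from
    univInj_of_injective_fibres q.primeCompl N₀ N l M u h
  by_contra! hbad
  obtain ⟨t₁, ht₁, hbad₁⟩ := hbad
  let W : Set (Ideal A) := {t | ∃ _ : t.IsPrime, ¬ Function.Injective (u.rTensor t.ResidueField)}
  have hchain : ∀ c ⊆ W, IsChain (· ≤ ·) c → ∀ y ∈ c, ∃ ub ∈ W, ∀ t ∈ c, t ≤ ub := by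
    intro c hc hchain y hy
    have hne : c.Nonempty := ⟨y, hy⟩
    have hdir : DirectedOn (· ≤ ·) c := hchain.directedOn
    have hprime : (sSup c).IsPrime := by
      haveI := (hc hy).1
      refine ⟨fun h => ?_, fun {a b} hab => ?_⟩
      · obtain ⟨t, ht, h1⟩ := (Submodule.mem_sSup_of_directed hne hdir).mp ((Ideal.eq_top_iff_one _).mp h)
        exact (hc ht).1.ne_top ((Ideal.eq_top_iff_one t).mpr h1)
      · obtain ⟨t, ht, h1⟩ := (Submodule.mem_sSup_of_directed hne hdir).mp hab
        exact ((hc ht).1.mem_or_mem h1).imp (fun h => Submodule.mem_sSup_of_mem ht h) fun h => Submodule.mem_sSup_of_mem ht h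
    refine ⟨sSup c, ⟨hprime, fun hgood => ?_⟩, fun t ht => le_sSup ht⟩
    haveI := hprime
    obtain ⟨I₀, hfg, hle, hI₀⟩ := exists_fg_injective_below q.primeCompl N₀ l u (sSup c) hgood
    obtain ⟨F, rfl⟩ := hfg
    have : ∀ G : Finset A, (↑G : Set A) ⊆ ((sSup c : Ideal A) : Set A) → ∃ t ∈ c, (↑G : Set A) ⊆ t := by
      intro G
      induction G using Finset.induction with
      | empty => exact fun _ => ⟨y, hy, by simp⟩
      | insert a G ha ih =>
        intro hG
        rw [Finset.coe_insert, Set.insert_subset_iff] at hG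
        obtain ⟨t, ht, htG⟩ := ih hG.2
        obtain ⟨t', ht', hat'⟩ := (Submodule.mem_sSup_of_directed hne hdir).mp hG.1
        obtain ⟨t'', ht'', h1, h2⟩ := hdir t ht t' ht'
        exact ⟨t'', ht'', by rw [Finset.coe_insert, Set.insert_subset_iff]; exact ⟨h2 hat', htG.trans h1⟩⟩
    obtain ⟨t, ht, htF⟩ := this F (Submodule.span_le.mp hle)
    haveI := (hc ht).1
    exact (hc ht).2 (hI₀ t (le_sSup ht) (Submodule.span_le.mpr htF))
  obtain ⟨t₀, -, hmax⟩ := zorn_le_nonempty₀ W hchain t₁ ⟨ht₁, hbad₁⟩
  obtain ⟨ht₀, hbad₀⟩ := hmax.prop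
  haveI := ht₀
  have hgood : ∀ (t : Ideal A) [t.IsPrime], t₀ < t → Function.Injective (u.rTensor t.ResidueField) := fun t _ ht => by
    by_contra h
    exact lt_irrefl _ (ht.trans_le (hmax.2 ⟨inferInstance, h⟩ ht.le))
  -- the maximal ideal is good
  have hne : t₀ ≠ maximalIdeal A := by
    rintro rfl
    refine hbad₀ ?_
    let ρ : ResidueField A →+* (maximalIdeal A).ResidueField :=
      Ideal.Quotient.lift (maximalIdeal A) (algebraMap A (maximalIdeal A).ResidueField)
        fun a ha => Ideal.algebraMap_residueField_eq_zero.mpr ha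
    letI : Algebra (ResidueField A) (maximalIdeal A).ResidueField := ρ.toAlgebra
    haveI : IsScalarTower A (ResidueField A) (maximalIdeal A).ResidueField :=
      IsScalarTower.of_algebraMap_eq fun a => rfl
    exact injective_rTensor_vector u (ResidueField A) hu _
  refine hbad₀ ?_
  let D := A ⧸ t₀
  have hD : Function.Injective (u.rTensor D) := by
    refine (injective_iff_map_eq_zero _).mpr fun z hz => eq_zero_of_divisible q N₀ hflat l t₀ hne z fun d hd => ?_
    let φ : D →ₗ[A] D := d • LinearMap.id
    let π : D →ₗ[A] D ⧸ LinearMap.range φ := (LinearMap.range φ).mkQ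
    have hJ : ∀ a ∈ t₀ ⊔ Ideal.span {d}, ∀ x : D ⧸ LinearMap.range φ, a • x = 0 := by
      intro a ha x
      obtain ⟨x, rfl⟩ := (LinearMap.range φ).mkQ_surjective x
      obtain ⟨a₁, ha₁, a₂, ha₂, rfl⟩ := Submodule.mem_sup.mp ha
      obtain ⟨r, rfl⟩ := Ideal.mem_span_singleton'.mp ha₂
      rw [add_smul, ← map_smul, ← map_smul, mul_smul, smul_comm r d x,
        show a₁ • x = 0 by rw [← algebraMap_smul D a₁ x, Ideal.Quotient.algebraMap_eq,
          Ideal.Quotient.eq_zero_iff_mem.mpr ha₁, zero_smul], map_zero, zero_add, Submodule.mkQ_apply,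
        Submodule.Quotient.mk_eq_zero]
      exact ⟨r • x, rfl⟩
    have hinj := injective_rTensor_of_fibres_above q.primeCompl N₀ N l M u (t₀ ⊔ Ideal.span {d})
      (fun t _ hle => hgood t (lt_of_le_of_ne (le_sup_left.trans hle) fun h =>
        hd (h ▸ hle (Submodule.mem_sup_right (Ideal.mem_span_singleton_self d)))))
      (D ⧸ LinearMap.range φ) hJ
    have h0 : π.lTensor N z = 0 := hinj (by
      rw [map_zero, ← LinearMap.comp_apply, LinearMap.rTensor_comp_lTensor, ← LinearMap.lTensor_comp_rTensor,
        LinearMap.comp_apply, hz, map_zero])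
    obtain ⟨y, hy⟩ := (lTensor_exact N φ.exact_map_mkQ_range (LinearMap.range φ).mkQ_surjective z).1 h0
    refine ⟨y, ?_⟩
    rw [← hy, LinearMap.lTensor_smul, LinearMap.lTensor_id, LinearMap.smul_apply, LinearMap.id_apply]
  -- pass to the residue field
  let κ := t₀.ResidueField
  let j : D →ₗ[A] κ := (IsScalarTower.toAlgHom A D κ).toLinearMap
  refine (injective_iff_map_eq_zero _).mpr fun w hw => ?_
  obtain ⟨r, hr, v, hv⟩ : ∃ r ∉ t₀, ∃ v : N ⊗[A] D, r • w = j.lTensor N v := by
    clear hw
    induction w using TensorProduct.induction_on with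
    | zero => exact ⟨1, fun h => ht₀.ne_top ((Ideal.eq_top_iff_one _).mpr h), 0, by simp⟩
    | add a b ha hb =>
      obtain ⟨r, hr, v, hv⟩ := ha
      obtain ⟨r', hr', v', hv'⟩ := hb
      refine ⟨r * r', fun h => (ht₀.mem_or_mem h).elim hr hr', r' • v + r • v', ?_⟩
      rw [map_add, map_smul, map_smul, ← hv, ← hv', smul_add, smul_smul, smul_smul, mul_comm r']
    | tmul n x =>
      obtain ⟨a, b, hb, rfl⟩ := IsFractionRing.div_surjective (A := D) (K := κ) x
      obtain ⟨b, rfl⟩ := Ideal.Quotient.mk_surjective b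
      have hb' : b ∉ t₀ := fun h => nonZeroDivisors.ne_zero hb (Ideal.Quotient.eq_zero_iff_mem.mpr h)
      refine ⟨b, hb', n ⊗ₜ a, ?_⟩
      rw [← TensorProduct.tmul_smul, LinearMap.lTensor_tmul]
      congr 1
      show b • (algebraMap D κ a / algebraMap D κ (Ideal.Quotient.mk t₀ b)) = algebraMap D κ a
      rw [← algebraMap_smul D b, Ideal.Quotient.algebraMap_eq, Algebra.smul_def, mul_div_cancel₀]
      exact fun h => nonZeroDivisors.ne_zero hb (IsFractionRing.injective D κ (by rw [h, map_zero]))
  have hv0 : v = 0 := hD (by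
    rw [map_zero]
    refine Module.Flat.lTensor_preserves_injective_linearMap (M := M) j (IsFractionRing.injective D κ) ?_
    rw [map_zero, ← LinearMap.comp_apply, LinearMap.lTensor_comp_rTensor, ← LinearMap.rTensor_comp_lTensor,
      LinearMap.comp_apply, ← hv, map_smul, hw, smul_zero])
  rw [hv0, map_zero] at hv
  have hu0 : IsUnit (algebraMap A κ r) := isUnit_iff_ne_zero.mpr fun h => hr (Ideal.algebraMap_residueField_eq_zero.mp h)
  clear hw
  have key : ∀ y : N ⊗[A] κ, (DistribSMul.toLinearMap A κ (↑hu0.unit⁻¹ : κ)).lTensor N (r • y) = y := fun y => by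
    induction y using TensorProduct.induction_on with
    | zero => simp
    | add a b ha hb => rw [smul_add, map_add, ha, hb]
    | tmul n x =>
      rw [← TensorProduct.tmul_smul, LinearMap.lTensor_tmul]
      congr 1
      show (↑hu0.unit⁻¹ : κ) * (r • x) = x
      rw [Algebra.smul_def, ← mul_assoc, IsUnit.val_inv_mul, one_mul]
  rw [← key w, hv, map_zero]

end Groth.L20.RG
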