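import Groth.Agent.L06.LeftInverse
import Groth.Agent.L16.GammaFree.Equiv
import Groth.Agent.L20.RG.IsoLocusFlat
import Groth.Agent.L20.ResDescent

/-!
# Left invertibility of a map to a finite locally free module is a fibrewise property
-/

set_option autoImplicit false
set_option linter.style.haveILetI false
set_option backward.isDefEq.respectTransparency.types false
universe u

open CategoryTheory CategoryTheory.Limits AlgebraicGeometry TopologicalSpace
open scoped TensorProduct
open Groth.L20.ModStalk Groth.L02.InjFlat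

noncomputable section

namespace Groth.L20.RG.LocSplit

open Groth.L20.RG.IsoFlat (stk)

section Algebra

variable {A M N : Type u} [CommRing A] [AddCommGroup M] [Module A M] [AddCommGroup N] [Module A N]

/-- Injectivity at a field extension of a residue field gives injectivity at the residue field. -/
theorem injective_residueField (p : Ideal A) [p.IsPrime] (K : Type u) [Field K] [Algebra A K]
    (hp : RingHom.ker (algebraMap A K) = p) (w : M →ₗ[A] N) (h : Function.Injective (w.lTensor K)) :
    Function.Injective (w.lTensor p.ResidueField) := by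
  letI : Algebra p.ResidueField K := (Ideal.ResidueField.lift p (algebraMap A K) (fun a ha => by
    rw [← hp] at ha; exact ha) (fun a ha => by
    refine IsUnit.mk0 _ fun h0 => ha ?_
    rw [← hp]; exact h0)).toAlgebra
  haveI : IsScalarTower A p.ResidueField K := IsScalarTower.of_algebraMap_eq fun a =>
    (Ideal.ResidueField.lift_algebraMap (R := A) (S := K) p (algebraMap A K) _ _ a).symm
  haveI : Module.FaithfullyFlat p.ResidueField K := inferInstance
  show Function.Injective (w.baseChange p.ResidueField)
  rw [← Module.FaithfullyFlat.lTensor_injective_iff_injective p.ResidueField K]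
  let cM := TensorProduct.AlgebraTensorModule.cancelBaseChange A p.ResidueField p.ResidueField K M
  let cN := TensorProduct.AlgebraTensorModule.cancelBaseChange A p.ResidueField p.ResidueField K N
  have key : ∀ z, cN ((w.baseChange p.ResidueField).lTensor K z) = w.lTensor K (cM z) := fun z => by
    induction z using TensorProduct.induction_on with
    | zero => simp
    | add a b ha hb => simp only [map_add, ha, hb]
    | tmul k y =>
      induction y using TensorProduct.induction_on with
      | zero => simp
      | add a b ha hb => simp only [TensorProduct.tmul_add, map_add, ha, hb]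
      | tmul c m => simp [cM, cN, LinearMap.lTensor_tmul]
  exact fun a b hab => cM.injective (h (by rw [← key, ← key, hab]))

/-- A split map stays injective after any further extension of scalars. -/
theorem injective_of_split {B : Type u} [CommRing B] [Algebra A B] (K : Type u) [CommRing K] [Algebra A K] [Algebra B K]
    [IsScalarTower A B K] (w : M →ₗ[A] N) (L : B ⊗[A] N →ₗ[B] B ⊗[A] M) (hL : L ∘ₗ w.baseChange B = LinearMap.id) :
    Function.Injective (w.lTensor K) := by
  let cM := TensorProduct.AlgebraTensorModule.cancelBaseChange A B B K M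
  let cN := TensorProduct.AlgebraTensorModule.cancelBaseChange A B B K N
  have key : ∀ z, cN ((w.baseChange B).lTensor K z) = w.lTensor K (cM z) := fun z => by
    induction z using TensorProduct.induction_on with
    | zero => simp
    | add a b ha hb => simp only [map_add, ha, hb]
    | tmul k y =>
      induction y using TensorProduct.induction_on with
      | zero => simp
      | add a b ha hb => simp only [TensorProduct.tmul_add, map_add, ha, hb]
      | tmul c m => simp [cM, cN, LinearMap.lTensor_tmul]
  have hinj : Function.Injective ((w.baseChange B).lTensor K) := fun a b hab => by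
    have := congrArg (L.lTensor K) hab
    rwa [← LinearMap.comp_apply, ← LinearMap.comp_apply, ← LinearMap.lTensor_comp, hL, LinearMap.lTensor_id] at this
  intro a b hab
  obtain ⟨a, rfl⟩ := cM.surjective a
  obtain ⟨b, rfl⟩ := cM.surjective b
  rw [← key, ← key] at hab
  exact congrArg cM (hinj (cN.injective hab))

end Algebra

variable {X : Scheme.{u}}

theorem isSplitMono_of_natIso {C D : Type*} [Category C] [Category D] {F G : C ⥤ D} (e : F ≅ G) {a b : C} (f : a ⟶ b)
    [IsSplitMono (F.map f)] : IsSplitMono (G.map f) :=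
  IsSplitMono.mk' ⟨e.inv.app b ≫ retraction (F.map f) ≫ e.hom.app a, by
    rw [e.inv.naturality_assoc f, IsSplitMono.id_assoc, Iso.inv_hom_id_app]⟩

/-- Locally a split monomorphism near the point. -/
def NearSplit {F V : X.Modules} (u : F ⟶ V) (x : X) : Prop :=
  ∃ U : X.Opens, x ∈ U ∧ ∃ r : (Scheme.Modules.pullback U.ι).obj V ⟶ (Scheme.Modules.pullback U.ι).obj F,
    (Scheme.Modules.pullback U.ι).map u ≫ r = 𝟙 _

theorem nearSplit_of_isSplitMono {F V : X.Modules} (u : F ⟶ V) {U : X.Opens} {x : X} (hx : x ∈ U)
    [IsSplitMono ((Scheme.Modules.pullback U.ι).map u)] : NearSplit u x :=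
  ⟨U, hx, retraction ((Scheme.Modules.pullback U.ι).map u), IsSplitMono.id _⟩

theorem isSplitMono_map_comp {W Z : Scheme.{u}} (a : Z ⟶ W) (b : W ⟶ X) {F V : X.Modules} (u : F ⟶ V)
    [IsSplitMono ((Scheme.Modules.pullback b).map u)] : IsSplitMono ((Scheme.Modules.pullback (a ≫ b)).map u) := by
  haveI : IsSplitMono ((Scheme.Modules.pullback b ⋙ Scheme.Modules.pullback a).map u) :=
    inferInstanceAs (IsSplitMono ((Scheme.Modules.pullback a).map ((Scheme.Modules.pullback b).map u)))
  exact isSplitMono_of_natIso (Scheme.Modules.pullbackComp a b) u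

theorem isSplitMono_map_eq {W : Scheme.{u}} {a b : W ⟶ X} (h : a = b) {F V : X.Modules} (u : F ⟶ V)
    [inst : IsSplitMono ((Scheme.Modules.pullback a).map u)] : IsSplitMono ((Scheme.Modules.pullback b).map u) := by
  subst h; exact inst

theorem isSplitMono_map_comp' {W Z : Scheme.{u}} (a : Z ⟶ W) (b : W ⟶ X) {F V : X.Modules} (u : F ⟶ V)
    [IsSplitMono ((Scheme.Modules.pullback (a ≫ b)).map u)] :
    IsSplitMono ((Scheme.Modules.pullback a).map ((Scheme.Modules.pullback b).map u)) :=
  isSplitMono_of_natIso (Scheme.Modules.pullbackComp a b).symm u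

/-- Local left invertibility pulls back. -/
theorem nearSplit_pullback {W : Scheme.{u}} (q : W ⟶ X) {F V : X.Modules} (u : F ⟶ V) (w : W) (h : NearSplit u (q w)) :
    NearSplit ((Scheme.Modules.pullback q).map u) w := by
  obtain ⟨U, hU, r, hr⟩ := h
  haveI : IsSplitMono ((Scheme.Modules.pullback U.ι).map u) := IsSplitMono.mk' ⟨r, hr⟩
  haveI := isSplitMono_map_comp (q ∣_ U) U.ι u
  haveI := isSplitMono_map_eq (morphismRestrict_ι q U) u
  haveI := isSplitMono_map_comp' (q ⁻¹ᵁ U).ι q u
  exact nearSplit_of_isSplitMono _ (show w ∈ q ⁻¹ᵁ U from hU)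

theorem nearSplit_of_natIso {W : Scheme.{u}} {G G' : X.Modules ⥤ W.Modules} (e : G ≅ G') {F V : X.Modules} (u : F ⟶ V)
    (w : W) (h : NearSplit (G.map u) w) : NearSplit (G'.map u) w := by
  obtain ⟨U, hU, r, hr⟩ := h
  haveI : IsSplitMono ((G ⋙ Scheme.Modules.pullback U.ι).map u) := IsSplitMono.mk' ⟨r, hr⟩
  haveI : IsSplitMono ((Scheme.Modules.pullback U.ι).map (G'.map u)) :=
    isSplitMono_of_natIso (Functor.isoWhiskerRight e (Scheme.Modules.pullback U.ι)) u
  exact nearSplit_of_isSplitMono (G'.map u) hU

/-- Left invertibility after a pullback to a point gives injectivity at a field. -/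
theorem exists_injective_stalk {W : Scheme.{u}} (q : W ⟶ X) {F V : X.Modules} (u : F ⟶ V) (w : W)
    (h : NearSplit ((Scheme.Modules.pullback q).map u) w) :
    ∃ (K : Type u) (_ : Field K) (φ : X.presheaf.stalk (q w) →+* K), IsLocalHom φ ∧
      letI := φ.toAlgebra
      Function.Injective ((stk u (q w)).lTensor K) := by
  obtain ⟨U, hU, r, hr⟩ := h
  haveI : IsSplitMono ((Scheme.Modules.pullback U.ι).map ((Scheme.Modules.pullback q).map u)) := IsSplitMono.mk' ⟨r, hr⟩
  haveI : IsSplitMono ((Scheme.Modules.pullback q ⋙ Scheme.Modules.pullback U.ι).map u) := IsSplitMono.mk' ⟨r, hr⟩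
  haveI : IsSplitMono ((Scheme.Modules.pullback (U.ι ≫ q)).map u) :=
    isSplitMono_of_natIso (Scheme.Modules.pullbackComp U.ι q) u
  let v : (U : Scheme.{u}) := ⟨w, hU⟩
  let q' : (U : Scheme.{u}) ⟶ X := U.ι ≫ q
  haveI : IsSplitMono ((Scheme.Modules.pullback q' ⋙ Groth.L00.Stk.F _ v).map u) :=
    inferInstanceAs (IsSplitMono ((Groth.L00.Stk.F _ v).map ((Scheme.Modules.pullback q').map u)))
  haveI hs := isSplitMono_of_natIso (Groth.L00.PullStalk.stalkIso q' v) u
  let A := X.presheaf.stalk (q' v)
  let B := (U : Scheme.{u}).presheaf.stalk v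
  let K := IsLocalRing.ResidueField B
  let α : A →+* B := (q'.stalkMap v).hom
  haveI : IsLocalHom ((IsLocalRing.residue B).comp α) := RingHom.isLocalHom_comp _ α
  refine ⟨K, inferInstance, (IsLocalRing.residue B).comp α, ‹_›, ?_⟩
  show letI := ((IsLocalRing.residue B).comp α).toAlgebra
    Function.Injective ((stk u (q' v)).lTensor K)
  letI := α.toAlgebra
  letI := ((IsLocalRing.residue B).comp α).toAlgebra
  haveI : IsScalarTower A B K := IsScalarTower.of_algebraMap_eq' rfl
  exact injective_of_split (A := A) (B := B) K (stk u (q' v))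
    (retraction ((Groth.L00.Stk.F X (q' v) ⋙ ModuleCat.extendScalars α).map u)).hom
    (congrArg ModuleCat.Hom.hom (IsSplitMono.id ((Groth.L00.Stk.F X (q' v) ⋙ ModuleCat.extendScalars α).map u)))

/-- The criterion on an affine scheme, for a free target. -/
theorem nearSplit_affine [IsAffine X] {F : X.Modules} [Coh.IsQCoh F] (hF : CohB1.IsFT F) (n : ℕ)
    (u : F ⟶ FlatMod.freeMod X n) (x : X) (K : Type u) [Field K] (φ : X.presheaf.stalk x →+* K) [IsLocalHom φ]
    (h : letI := φ.toAlgebra; Function.Injective ((stk u x).lTensor K)) : NearSplit u x := by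
  classical
  let V : X.Opens := ⊤
  have hV : IsAffineOpen V := isAffineOpen_top X
  let A := Γ(X, V)
  let G := FlatMod.freeMod X n
  have hP : Groth.L16.GammaFree.P1 X G := ⟨n, 𝟙 _, 𝟙 _, Category.comp_id _⟩
  haveI : Module.Finite A Γ(F, V) := finite_sections F ⟨inferInstance, hF⟩ hV
  haveI : Module.Projective A Γ(G, V) := (Groth.L16.GammaFree.finite_projective hP).2
  haveI : Coh.IsQCoh G := (Groth.L18.LFP.isFlat_and_isFP_iff G).2 (Groth.L29.DC.isFinLocFree_freeMod X n) |>.2 |> fun hfp =>
    { nonempty_quasicoherentData := ⟨hfp.exists_quasicoherentData.choose⟩ }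
  have hx : x ∈ V := trivial
  let p := (hV.primeIdealOf ⟨x, hx⟩).asIdeal
  letI : Algebra A (X.presheaf.stalk x) := X.presheaf.algebra_section_stalk ⟨x, hx⟩
  haveI := hV.isLocalization_stalk ⟨x, hx⟩
  letI := φ.toAlgebra
  letI : Algebra A K := (φ.comp (algebraMap A (X.presheaf.stalk x))).toAlgebra
  haveI : IsScalarTower A (X.presheaf.stalk x) K := IsScalarTower.of_algebraMap_eq' rfl
  letI := stalkModule F hx
  letI := stalkModule G hx
  haveI : IsScalarTower A (X.presheaf.stalk x) (F.presheaf.stalk x) := IsScalarTower.of_algebraMap_smul fun _ _ => rfl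
  haveI : IsScalarTower A (X.presheaf.stalk x) (G.presheaf.stalk x) := IsScalarTower.of_algebraMap_smul fun _ _ => rfl
  haveI := isLocalizedModule_germ F hV hx
  haveI := isLocalizedModule_germ G hV hx
  have hker : RingHom.ker (algebraMap A K) = p := by
    ext a
    rw [RingHom.mem_ker, show algebraMap A K a = φ (algebraMap A (X.presheaf.stalk x) a) from rfl,
      ← IsLocalization.AtPrime.to_map_mem_maximal_iff (X.presheaf.stalk x) p a, IsLocalRing.mem_maximalIdeal,
      mem_nonunits_iff]
    exact ⟨fun h0 hu => (hu.map φ).ne_zero h0, fun hu => by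
      by_contra h0
      exact hu (isUnit_of_map_unit φ _ (Ne.isUnit h0))⟩
  let bM := (IsLocalizedModule.isBaseChange p.primeCompl (X.presheaf.stalk x) (germₗ F hx)).comp
    (TensorProduct.isBaseChange (X.presheaf.stalk x) (F.presheaf.stalk x) K)
  let bN := (IsLocalizedModule.isBaseChange p.primeCompl (X.presheaf.stalk x) (germₗ G hx)).comp
    (TensorProduct.isBaseChange (X.presheaf.stalk x) (G.presheaf.stalk x) K)
  have key : ∀ z, bN.equiv ((sec u V).lTensor K z) = (stk u x).lTensor K (bM.equiv z) := fun z => by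
    induction z using TensorProduct.induction_on with
    | zero => simp
    | add a b ha hb => simp only [map_add, ha, hb]
    | tmul c m =>
      rw [LinearMap.lTensor_tmul, bN.equiv_tmul, bM.equiv_tmul]
      show c • ((1 : K) ⊗ₜ[X.presheaf.stalk x] germₗ G hx (sec u V m)) =
        (stk u x).lTensor K (c • ((1 : K) ⊗ₜ[X.presheaf.stalk x] germₗ F hx m))
      rw [TensorProduct.smul_tmul', TensorProduct.smul_tmul', LinearMap.lTensor_tmul]
      exact congrArg _ (stalk_germ u hx m).symm
  have h1 : Function.Injective ((sec u V).lTensor K) := fun a b hab =>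
    bM.equiv.injective (h (by rw [← key, ← key, hab]))
  obtain ⟨f, hf, hfg⟩ := Groth.L06.LeftInverse.exists_notMem_goodIdeal p (sec u V)
    (injective_residueField p K hker (sec u V) h1)
  obtain ⟨l, hl⟩ := hfg
  obtain ⟨g, hg⟩ := Groth.L16.GammaFree.exists_preimage hP (N := F) (ModuleCat.ofHom l)
  have hfg : ∀ m : Γ(F, V), (u ≫ g).app V m = f • m := fun m => by
    show g.app V (u.app V m) = _
    refine (congr($hg (u.app V m))).trans ?_
    exact LinearMap.congr_fun hl m
  haveI : IsIso ((Scheme.Modules.pullback (X.basicOpen f).ι).map (u ≫ g)) := by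
    rw [Groth.L21.Mod.isIso_iff_stalk_bijective]
    intro y
    refine (Groth.L20.RG.IsoFlat.bijective_stk_pullback_iff _ _ y).2 ?_
    letI := ((X.basicOpen f).ι.stalkMap y).hom.toAlgebra
    have hyV : (X.basicOpen f).ι y ∈ V := trivial
    let y₀ := (X.basicOpen f).ι y
    letI := stalkModule F hyV
    haveI := isLocalizedModule_germ F hV hyV
    have hu : IsUnit (X.presheaf.germ V y₀ hyV f) := (Scheme.mem_basicOpen X f y₀ hyV).1 y.2
    have hstk : ∀ z, stk (u ≫ g) y₀ z = X.presheaf.germ V y₀ hyV f • z := fun z => by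
      obtain ⟨⟨m, s⟩, hms⟩ := IsLocalizedModule.surj (hV.primeIdealOf ⟨y₀, hyV⟩).asIdeal.primeCompl (germₗ F hyV) z
      have hs : IsUnit (X.presheaf.germ V y₀ hyV (s : A)) := by
        letI := X.presheaf.algebra_section_stalk ⟨y₀, hyV⟩
        haveI := hV.isLocalization_stalk ⟨y₀, hyV⟩
        exact IsLocalization.map_units (X.presheaf.stalk y₀) s
      refine hs.smul_left_cancel.1 ?_
      rw [← map_smul, smul_comm]
      change stk (u ≫ g) y₀ ((s : A) • z) = X.presheaf.germ V y₀ hyV f • ((s : A) • z)
      rw [show (s : A) • z = germₗ F hyV m from hms]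
      refine (stalk_germ (u ≫ g) hyV m).trans ?_
      rw [show sec (u ≫ g) V m = f • m from hfg m]
      exact germ_smul F hyV f m
    have hb : Function.Bijective (stk (u ≫ g) y₀) := by
      have e : ⇑(stk (u ≫ g) y₀) = fun z => X.presheaf.germ V y₀ hyV f • z := funext hstk
      rw [e]
      exact ⟨fun a b hab => hu.smul_left_cancel.1 hab, fun z => ⟨hu.unit⁻¹ • z, by
        show X.presheaf.germ V y₀ hyV f • (hu.unit⁻¹ • z) = z
        rw [Units.smul_def, smul_smul, IsUnit.mul_val_inv, one_smul]⟩⟩
    exact ((LinearEquiv.ofBijective (stk (u ≫ g) y₀) hb).lTensor _).bijective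
  haveI : IsSplitMono ((Scheme.Modules.pullback (X.basicOpen f).ι).map u) := IsSplitMono.mk'
    ⟨(Scheme.Modules.pullback (X.basicOpen f).ι).map g ≫ inv ((Scheme.Modules.pullback (X.basicOpen f).ι).map (u ≫ g)),
      by rw [← Category.assoc, ← Functor.map_comp, IsIso.hom_inv_id]⟩
  refine nearSplit_of_isSplitMono u ?_ (U := X.basicOpen f)
  rw [Scheme.mem_basicOpen X f x hx]
  exact IsLocalization.map_units (X.presheaf.stalk x) (⟨f, hf⟩ : p.primeCompl)

/-- The criterion: left invertibility near a point is injectivity at a field. -/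
theorem nearSplit_of_injective {F V : X.Modules} [Coh.IsQCoh F] (hF : CohB1.IsFT F) (hV : FlatMod.IsFinLocFree V)
    (u : F ⟶ V) (x : X) (K : Type u) [Field K] (φ : X.presheaf.stalk x →+* K) [IsLocalHom φ]
    (h : letI := φ.toAlgebra; Function.Injective ((stk u x).lTensor K)) : NearSplit u x := by
  obtain ⟨U₁, n, hxU₁, ⟨e₁⟩⟩ := hV x
  obtain ⟨_, ⟨O, hO, rfl⟩, hxO, hOU⟩ := X.isBasis_affineOpens.exists_subset_of_mem_open (a := x) hxU₁ U₁.2
  change X.Opens at O
  obtain ⟨e⟩ := Groth.L20.DescLocus.nonempty_free_pullback e₁ (X.homOfLE (hOU : O ≤ U₁)) (X.homOfLE_ι _)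
  haveI : IsAffine O.toScheme := hO
  haveI : Coh.IsQCoh ((Scheme.Modules.pullback O.ι).obj F) := Groth.L16.AffineBC.isQCoh_pullback O.ι F
  let y : (O : Scheme.{u}) := ⟨x, hxO⟩
  let u₀ := (Scheme.Modules.pullback O.ι).map u ≫ e.hom
  let α : X.presheaf.stalk x →+* (O : Scheme.{u}).presheaf.stalk y := (O.ι.stalkMap y).hom
  have hb : Function.Bijective α := ConcreteCategory.bijective_of_isIso (O.ι.stalkMap y)
  let α' := (RingEquiv.ofBijective α hb).symm.toRingHom
  let φ' : (O : Scheme.{u}).presheaf.stalk y →+* K := φ.comp α'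
  haveI : IsLocalHom α' := ⟨fun a ha => by simpa [α'] using ha.map (RingEquiv.ofBijective α hb).toRingHom⟩
  haveI : IsLocalHom φ' := RingHom.isLocalHom_comp φ α'
  letI := φ.toAlgebra
  letI := φ'.toAlgebra
  letI := α.toAlgebra
  haveI : IsScalarTower (X.presheaf.stalk x) ((O : Scheme.{u}).presheaf.stalk y) K :=
    IsScalarTower.of_algebraMap_eq fun a => by
      show φ a = φ ((RingEquiv.ofBijective α hb).symm (RingEquiv.ofBijective α hb a))
      rw [RingEquiv.symm_apply_apply]
  have hinj : Function.Injective ((stk u₀ y).lTensor K) := by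
    let S : F.presheaf.stalk x →ₗ[X.presheaf.stalk x] V.presheaf.stalk x := stk u x
    let B := (O : Scheme.{u}).presheaf.stalk y
    let η₁ : ((Scheme.Modules.pullback O.ι).obj F).presheaf.stalk y ≃ₗ[B] B ⊗[X.presheaf.stalk x] F.presheaf.stalk x :=
      ((Groth.L00.PullStalk.stalkIso O.ι y).app F).toLinearEquiv
    let η₂ : ((Scheme.Modules.pullback O.ι).obj V).presheaf.stalk y ≃ₗ[B] B ⊗[X.presheaf.stalk x] V.presheaf.stalk x :=
      ((Groth.L00.PullStalk.stalkIso O.ι y).app V).toLinearEquiv
    let η₃ : ((Scheme.Modules.pullback O.ι).obj V).presheaf.stalk y ≃ₗ[B] (FlatMod.freeMod (O : Scheme.{u}) n).presheaf.stalk y :=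
      ((Groth.L00.Stk.F _ y).mapIso e).toLinearEquiv
    have h0 : stk u₀ y = η₃.toLinearMap ∘ₗ stk ((Scheme.Modules.pullback O.ι).map u) y :=
      congrArg ModuleCat.Hom.hom ((Groth.L00.Stk.F _ y).map_comp _ _)
    have h2 : Function.Injective ((S.baseChange B).lTensor K) := by
      let cM := TensorProduct.AlgebraTensorModule.cancelBaseChange (X.presheaf.stalk x) B B K (F.presheaf.stalk x)
      let cN := TensorProduct.AlgebraTensorModule.cancelBaseChange (X.presheaf.stalk x) B B K (V.presheaf.stalk x)
      have key : ∀ z, cN ((S.baseChange B).lTensor K z) = S.lTensor K (cM z) := fun z => by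
        induction z using TensorProduct.induction_on with
        | zero => simp
        | add a b ha hb => simp only [map_add, ha, hb]
        | tmul k y =>
          induction y using TensorProduct.induction_on with
          | zero => simp
          | add a b ha hb => simp only [TensorProduct.tmul_add, map_add, ha, hb]
          | tmul c m => simp [cM, cN, LinearMap.lTensor_tmul]
      exact fun a b hab => cM.injective (h (by rw [← key, ← key, hab]))
    have h3 : stk ((Scheme.Modules.pullback O.ι).map u) y = η₂.symm.toLinearMap ∘ₗ S.baseChange B ∘ₗ η₁.toLinearMap := by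
      refine LinearMap.ext fun z => η₂.injective ?_
      simp only [LinearMap.comp_apply, LinearEquiv.coe_coe, LinearEquiv.apply_symm_apply]
      exact congr($((Groth.L00.PullStalk.stalkIso O.ι y).hom.naturality u) z)
    rw [h0, h3, LinearMap.lTensor_comp, LinearMap.lTensor_comp, LinearMap.lTensor_comp]
    exact ((η₃.lTensor K).injective.comp (((η₂.symm.lTensor K).injective).comp (h2.comp (η₁.lTensor K).injective)))
  obtain ⟨W, hyW, r, hr⟩ := nearSplit_affine (Groth.L20.ResDescent.isFT_pullback O.ι F hF) n u₀ y K φ' hinj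
  haveI : IsSplitMono ((Scheme.Modules.pullback W.ι).map ((Scheme.Modules.pullback O.ι).map u)) := by
    refine IsSplitMono.mk' ⟨(Scheme.Modules.pullback W.ι).map e.hom ≫ r, ?_⟩
    rw [← Category.assoc, ← Functor.map_comp]
    exact hr
  haveI : IsSplitMono ((Scheme.Modules.pullback O.ι ⋙ Scheme.Modules.pullback W.ι).map u) :=
    inferInstanceAs (IsSplitMono ((Scheme.Modules.pullback W.ι).map ((Scheme.Modules.pullback O.ι).map u)))
  haveI : IsSplitMono ((Scheme.Modules.pullback (W.ι ≫ O.ι)).map u) :=
    isSplitMono_of_natIso (Scheme.Modules.pullbackComp W.ι O.ι) u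
  haveI := isSplitMono_map_comp (O.ι.isoImage W).inv (W.ι ≫ O.ι) u
  haveI : IsSplitMono ((Scheme.Modules.pullback (O.ι ''ᵁ W).ι).map u) :=
    isSplitMono_map_eq (a := (O.ι.isoImage W).inv ≫ W.ι ≫ O.ι) (by
      rw [Iso.inv_comp_eq]
      exact (Scheme.Hom.isoImage_hom_ι O.ι W).symm) u
  exact nearSplit_of_isSplitMono u (U := O.ι ''ᵁ W) ⟨y, hyW, rfl⟩

/-- Left invertibility is detected after a pullback through the point. -/
theorem nearSplit_descent {W : Scheme.{u}} (q : W ⟶ X) {F V : X.Modules} [Coh.IsQCoh F] (hF : CohB1.IsFT F)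
    (hV : FlatMod.IsFinLocFree V) (u : F ⟶ V) (w : W) (h : NearSplit ((Scheme.Modules.pullback q).map u) w) :
    NearSplit u (q w) := by
  obtain ⟨K, _, φ, hφ, hinj⟩ := exists_injective_stalk q u w h
  haveI := hφ
  exact nearSplit_of_injective hF hV u (q w) K φ hinj

end Groth.L20.RG.LocSplit
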