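import Mathlib.AlgebraicGeometry.RelativeGluing
import Mathlib.AlgebraicGeometry.Morphisms.FinitePresentation
import Mathlib.AlgebraicGeometry.Morphisms.IsIso
import Mathlib.AlgebraicGeometry.Morphisms.UnderlyingMap
import Mathlib.AlgebraicGeometry.Morphisms.QuasiCompact

/-!
# Gluing monomorphisms representing Zariski local conditions
-/

set_option autoImplicit false
set_option linter.style.haveILetI false
set_option backward.isDefEq.respectTransparency.types false
universe u

open CategoryTheory CategoryTheory.Limits AlgebraicGeometry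

noncomputable section

namespace Groth.L20.RG

/-- The glued scheme with its squares. -/
theorem exists_glued {S : Scheme.{u}} {𝒰 : S.OpenCover} [Category 𝒰.I₀] [𝒰.LocallyDirected] [Small.{u} 𝒰.I₀]
    [Quiver.IsThin 𝒰.I₀] (d : 𝒰.RelativeGluingData) :
    ∃ (G : Scheme.{u}) (g : G ⟶ S) (κ : ∀ V, d.functor.obj V ⟶ G),
      ∀ V, IsPullback (d.natTrans.app V) (κ V) (𝒰.f V) g :=
  ⟨d.glued, d.toBase, fun V => colimit.ι d.functor V, fun V => d.isPullback_natTrans_ι_toBase V⟩

set_option maxHeartbeats 1000000 in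
/-- A Zariski local condition on schemes over `S`, represented by monomorphisms over the affine opens of `S`, is
represented by a monomorphism. -/
theorem exists_mono_of_local {S : Scheme.{u}} (P : ∀ (T : Scheme.{u}), (T ⟶ S) → Prop)
    (hloc : ∀ (T : Scheme.{u}) (t : T ⟶ S) (𝒰 : Scheme.OpenCover.{u} T), (P T t ↔ ∀ i, P (𝒰.X i) (𝒰.f i ≫ t)))
    (Q : MorphismProperty Scheme.{u}) [IsZariskiLocalAtTarget Q]
    (h : ∀ V : S.affineOpens, ∃ (Z : Scheme.{u}) (i : Z ⟶ (V.1 : Scheme.{u})), Mono i ∧ Q i ∧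
      ∀ (T : Scheme.{u}) (t : T ⟶ (V.1 : Scheme.{u})), P T (t ≫ V.1.ι) ↔ ∃ z : T ⟶ Z, z ≫ i = t) :
    ∃ (Z : Scheme.{u}) (i : Z ⟶ S), Mono i ∧ Q i ∧
      ∀ (T : Scheme.{u}) (t : T ⟶ S), P T t ↔ ∃ z : T ⟶ Z, z ≫ i = t := by
  classical
  choose Z i hi hQ hP using h
  haveI := hi
  -- the transition maps
  have htr : ∀ {V W : S.affineOpens} (hVW : V ≤ W), ∃ z : Z V ⟶ Z W, z ≫ i W = i V ≫ S.homOfLE hVW := by
    intro V W hVW
    refine (hP W _ _).1 ?_
    rw [Category.assoc, Scheme.homOfLE_ι]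
    exact (hP V _ _).2 ⟨𝟙 _, Category.id_comp _⟩
  choose tr htr using @htr
  let 𝒱 := S.directedAffineCover
  let F : 𝒱.I₀ ⥤ Scheme.{u} :=
    { obj := fun V => Z V
      map := fun {V W} f => tr (leOfHom f)
      map_id := fun V => (cancel_mono (i V)).1 (by rw [htr, Category.id_comp, Scheme.homOfLE_rfl, Category.comp_id])
      map_comp := fun {U V W} f g => (cancel_mono (i W)).1 (by
        rw [htr, Category.assoc, htr, ← Category.assoc, htr, Category.assoc, Scheme.homOfLE_homOfLE]) }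
  let τ : F ⟶ 𝒱.functorOfLocallyDirected :=
    { app := fun V => i V
      naturality := fun V W f => htr (leOfHom f) }
  have hsq : τ.Equifibered := fun {V W} f => by
    have hl : ∀ s : PullbackCone (τ.app W) (𝒱.functorOfLocallyDirected.map f), ∃ l : s.pt ⟶ Z V, l ≫ i V = s.snd := by
      intro s
      have h1 : (s.fst ≫ i W) ≫ W.1.ι = s.snd ≫ V.1.ι := by
        have := congrArg (fun m => m ≫ W.1.ι) s.condition
        simp only [Category.assoc] at this ⊢
        exact this.trans (congrArg (s.snd ≫ ·) (Scheme.homOfLE_ι S (leOfHom f)))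
      exact (hP V _ s.snd).1 ((congrArg (P s.pt) h1).mp ((hP W _ _).2 ⟨s.fst, rfl⟩))
    choose l hl using hl
    refine ⟨⟨htr (leOfHom f)⟩, ⟨PullbackCone.IsLimit.mk _ l (fun s => ?_) hl
      fun s m _ h2 => (cancel_mono (i V)).1 (h2.trans (hl s).symm)⟩⟩
    refine (cancel_mono (i W)).1 ?_
    rw [Category.assoc]
    erw [htr (leOfHom f), reassoc_of% (hl s)]
    exact s.condition.symm
  let d : 𝒱.RelativeGluingData := ⟨F, τ, hsq⟩
  obtain ⟨G, g, κ, hpb⟩ := exists_glued d
  have hQ' : ∀ (R : MorphismProperty Scheme.{u}) [IsZariskiLocalAtTarget R], (∀ V, R (i V)) → R g := by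
    intro R _ hR
    refine IsZariskiLocalAtTarget.of_openCover 𝒱 fun V => ?_
    show R (pullback.snd g (𝒱.f V))
    have h2 := (MorphismProperty.cancel_left_of_respectsIso R (hpb V).flip.isoPullback.inv (i V)).2 (hR V)
    exact (congrArg (@R _ _) ((hpb V).flip.isoPullback_inv_snd)).mp h2
  haveI : Mono g := hQ' (MorphismProperty.monomorphisms Scheme) hi
  refine ⟨G, g, inferInstance, hQ' Q hQ, fun T t => ?_⟩
  let 𝒰 : Scheme.OpenCover.{u} T := 𝒱.pullback₁ t
  constructor
  · intro hT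
    have hz : ∀ V, ∃ z : 𝒰.X V ⟶ G, z ≫ g = 𝒰.f V ≫ t := fun V => by
      have h1 : P (𝒰.X V) (pullback.snd t (𝒱.f V) ≫ V.1.ι) := by
        have := (hloc T t 𝒰).1 hT V
        rwa [show 𝒰.f V ≫ t = pullback.snd t (𝒱.f V) ≫ V.1.ι from pullback.condition] at this
      obtain ⟨z, hz⟩ := (hP V _ _).1 h1
      refine ⟨z ≫ κ V, ?_⟩
      rw [Category.assoc, ← (hpb V).w]
      erw [reassoc_of% hz]
      exact pullback.condition.symm
    choose z hz using hz
    refine ⟨𝒰.glueMorphisms z fun a b => ?_, ?_⟩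
    · rw [← cancel_mono g, Category.assoc, Category.assoc, hz, hz, pullback.condition_assoc]
    · refine Scheme.Cover.hom_ext 𝒰 _ _ fun a => ?_
      rw [Scheme.Cover.ι_glueMorphisms_assoc, hz]
  · rintro ⟨z, hz⟩
    refine (hloc T t 𝒰).2 fun V => ?_
    rw [show 𝒰.f V ≫ t = pullback.snd t (𝒱.f V) ≫ V.1.ι from pullback.condition]
    refine (hP V _ _).2 ⟨(hpb V).lift (pullback.snd t (𝒱.f V)) (pullback.fst t (𝒱.f V) ≫ z) ?_,
      (hpb V).lift_fst _ _ _⟩
    rw [Category.assoc, hz]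
    exact pullback.condition.symm

end Groth.L20.RG
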