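import Groth.Agent.L20.RG.FlatSquare
import Groth.Agent.L20.RG.UnivPureFt
import Groth.Agent.L20.RG.AssFlat
import Groth.Agent.L20.FibreModuleOpen
import Groth.Agent.L22.FibreBound
import Groth.Agent.L22.Cyc.RelDim
import Groth.Prelude.Def_MoreMor

/-!
# The non-flat locus and the relative assassin

Every point where a finite type module is not flat over the base is the specialisation, within its fibre, of one
of finitely many (locally) associated points of the fibre where the module is not flat either.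
-/

set_option autoImplicit false
set_option linter.style.haveILetI false
set_option backward.isDefEq.respectTransparency.types false
universe u

open CategoryTheory CategoryTheory.Limits AlgebraicGeometry TopologicalSpace
open scoped TensorProduct

noncomputable section

namespace Groth.L20.RG

open Groth.L03.WeakAss

section Algebra

variable {A B : Type u} [CommRing A] [CommRing B] [Algebra A B] (N : Type u) [AddCommGroup N] [Module B N]
  [Module A N] [IsScalarTower A B N]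

/-- An element of a fibre module, up to a unit, comes from the module. -/
theorem exists_smul_eq_tmul_one (p : Ideal A) [p.IsPrime] (z : N ⊗[A] p.ResidueField) :
    ∃ r ∉ p, ∃ n : N, algebraMap A B r • z = n ⊗ₜ[A] (1 : p.ResidueField) := by
  induction z using TensorProduct.induction_on with
  | zero => exact ⟨1, fun h => ‹p.IsPrime›.ne_top ((Ideal.eq_top_iff_one p).mpr h), 0, by simp⟩
  | tmul m e =>
    obtain ⟨x, y, hy, rfl⟩ := IsFractionRing.div_surjective (A := A ⧸ p) e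
    obtain ⟨a, rfl⟩ := Ideal.Quotient.mk_surjective x
    obtain ⟨r, rfl⟩ := Ideal.Quotient.mk_surjective y
    refine ⟨r, fun h => nonZeroDivisors.ne_zero hy (Ideal.Quotient.eq_zero_iff_mem.mpr h), a • m, ?_⟩
    rw [algebraMap_smul, TensorProduct.smul_tmul', TensorProduct.smul_tmul, TensorProduct.smul_tmul]
    congr 1
    rw [Algebra.smul_def, Algebra.smul_def, mul_one]
    refine mul_div_cancel₀ _ fun h => nonZeroDivisors.ne_zero hy (Ideal.Quotient.eq_zero_iff_mem.mpr ?_)
    exact Ideal.algebraMap_residueField_eq_zero.mp h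
  | add x y hx hy =>
    obtain ⟨r, hr, n, hn⟩ := hx
    obtain ⟨r', hr', n', hn'⟩ := hy
    refine ⟨r * r', fun h => (Ideal.IsPrime.mem_or_mem ‹p.IsPrime› h).elim hr hr', r' • n + r • n', ?_⟩
    have h1 : ∀ (c : A) (w : N), (c • w) ⊗ₜ[A] (1 : p.ResidueField) = algebraMap A B c • (w ⊗ₜ[A] (1 : p.ResidueField)) :=
      fun c w => by rw [TensorProduct.smul_tmul', algebraMap_smul]
    rw [TensorProduct.add_tmul, h1, h1, ← hn, ← hn', smul_add, smul_smul, smul_smul, map_mul,
      mul_comm (algebraMap A B r') (algebraMap A B r)]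

/-- A weakly associated prime of a fibre gives an associated maximal ideal of the local fibre module. -/
theorem isAssociatedPrime_of_mem_weakAss_fibre (p : Ideal A) [p.IsPrime] (P : Ideal B) [P.IsPrime]
    (hP : P ∈ FlatCA.weakAss B (N ⊗[A] p.ResidueField)) (O : Type u) [CommRing O] [IsLocalRing O] [Algebra B O]
    [IsLocalization.AtPrime O P] (L : Type u) [AddCommGroup L] [Module O L] [Module B L] [IsScalarTower B O L]
    (g : N →ₗ[B] L) [IsLocalizedModule P.primeCompl g] :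
    IsAssociatedPrime (IsLocalRing.maximalIdeal O)
      (L ⧸ ((p.map (algebraMap A B)).map (algebraMap B O) • ⊤ : Submodule O L)) := by
  classical
  haveI : P.LiesOver p := liesOver_of_mem_weakAss_fibre p N hP
  obtain ⟨z, hz1, hz2⟩ := mem_weakAss_iff_exists.1 hP
  obtain ⟨r, hr, n, hn⟩ := exists_smul_eq_tmul_one (B := B) N p z
  have hrP : algebraMap A B r ∉ P := fun h => hr ((Ideal.mem_of_liesOver P p r).mpr h)
  let I := p.map (algebraMap A B)
  let J := I.map (algebraMap B O)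
  have hI : ∀ w ∈ (I • ⊤ : Submodule B N), w ⊗ₜ[A] (1 : p.ResidueField) = 0 := fun w hw => by
    refine Submodule.smul_induction_on hw (fun e he m _ => ?_) fun a b ha hb => by rw [TensorProduct.add_tmul, ha, hb, add_zero]
    induction he using Submodule.span_induction generalizing m with
    | mem e he =>
      obtain ⟨a, ha, rfl⟩ := he
      rw [← TensorProduct.smul_tmul', smul_fibre_eq_zero p N ha]
    | zero => rw [zero_smul, TensorProduct.zero_tmul]
    | add e e' _ _ h h' => rw [add_smul, TensorProduct.add_tmul, h m trivial, h' m trivial, add_zero]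
    | smul c e _ h => rw [smul_eq_mul, mul_smul, ← TensorProduct.smul_tmul', h m trivial, smul_zero]
  have hJ : ∀ y : L, y ∈ (J • ⊤ : Submodule O L) ↔ y ∈ (I • ⊤ : Submodule B L) := fun y => by
    rw [← Submodule.restrictScalars_mem B, Ideal.smul_restrictScalars, Submodule.restrictScalars_top]
  refine ⟨(IsLocalRing.maximalIdeal.isMaximal O).isPrime, Submodule.Quotient.mk (g n), le_antisymm (fun a ha => ?_) ?_⟩
  · obtain ⟨b, s, rfl⟩ := IsLocalization.exists_mk'_eq P.primeCompl a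
    have hb : b ∈ P := (IsLocalization.AtPrime.mk'_mem_maximal_iff O P b s).mp ha
    obtain ⟨c, hc, k, hk⟩ := hz2 b hb
    have h0 : ((c * b ^ k) • n) ⊗ₜ[A] (1 : p.ResidueField) = 0 := by
      rw [← TensorProduct.smul_tmul', ← hn, smul_comm, hk, smul_zero]
    obtain ⟨r', hr', hmem⟩ := exists_smul_mem_of_tmul_one_eq_zero p _ h0
    have hmemI : (algebraMap A B r' * c * b ^ k) • n ∈ (I • ⊤ : Submodule B N) := by
      rw [mul_assoc, mul_smul, algebraMap_smul]
      refine Submodule.smul_induction_on hmem (fun e he m _ => ?_) fun u v hu hv => add_mem hu hv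
      rw [← algebraMap_smul B e m]
      exact Submodule.smul_mem_smul (Ideal.mem_map_of_mem _ he) trivial
    have hgL : g ((algebraMap A B r' * c * b ^ k) • n) ∈ (J • ⊤ : Submodule O L) := by
      rw [hJ]
      have := Submodule.mem_map_of_mem (f := g) hmemI
      rw [Submodule.map_smul''] at this
      exact Submodule.smul_mono le_rfl le_top this
    have hu : IsUnit (algebraMap B O (algebraMap A B r' * c)) := IsLocalization.map_units O
      (⟨_, fun h => (Ideal.IsPrime.mem_or_mem ‹P.IsPrime› h).elim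
        (fun h' => hr' ((Ideal.mem_of_liesOver P p r').mpr h')) hc⟩ : P.primeCompl)
    refine Ideal.mem_radical_iff.mpr ⟨k, ?_⟩
    rw [Submodule.mem_colon_singleton, Submodule.mem_bot, ← Submodule.Quotient.mk_smul, Submodule.Quotient.mk_eq_zero]
    have e : (IsLocalization.mk' O b s) ^ k * algebraMap B O (algebraMap A B r' * c) * algebraMap B O ((s : B) ^ k) =
        algebraMap B O (algebraMap A B r' * c * b ^ k) := by
      rw [map_pow, mul_right_comm, ← mul_pow, IsLocalization.mk'_spec, map_mul _ _ (b ^ k), map_pow]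
      ring
    rw [map_smul, ← algebraMap_smul O (algebraMap A B r' * c * b ^ k), ← e, mul_assoc, mul_comm, mul_smul] at hgL
    exact (Submodule.smul_mem_iff_of_isUnit _ (hu.mul (IsLocalization.map_units O
      (⟨(s : B) ^ k, pow_mem s.2 k⟩ : P.primeCompl)))).mp hgL
  · refine Ideal.IsPrime.radical_le_iff (IsLocalRing.maximalIdeal.isMaximal O).isPrime |>.mpr fun a ha => ?_
    by_contra hau
    rw [IsLocalRing.mem_maximalIdeal, mem_nonunits_iff, not_not] at hau
    rw [Submodule.mem_colon_singleton, Submodule.mem_bot, ← Submodule.Quotient.mk_smul, Submodule.Quotient.mk_eq_zero,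
      Submodule.smul_mem_iff_of_isUnit _ hau, hJ] at ha
    obtain ⟨t, ht, htn⟩ := exists_smul_mem_of_mk_mem P.primeCompl g I ha
    refine hz1 (t * algebraMap A B r) (fun h => (Ideal.IsPrime.mem_or_mem ‹P.IsPrime› h).elim ht hrP) ?_
    rw [mul_smul, hn, TensorProduct.smul_tmul']
    exact hI _ htn

end Algebra

section Scheme

variable {X S : Scheme.{u}}

/-- A point whose prime is weakly associated to the fibre of the sections lies in the relative assassin. -/
theorem mem_relAss_of_weakAss (f : X ⟶ S) (F : X.Modules) [Coh.IsQCoh F] {W : S.Opens} {V : X.Opens}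
    (hW : IsAffineOpen W) (hV : IsAffineOpen V) (eV : V ≤ f ⁻¹ᵁ W) (x : X) (hx : x ∈ V)
    (hass : letI := (f.appLE W V eV).hom.toAlgebra
      letI : Module Γ(S, W) Γ(F, V) := Module.compHom _ (f.appLE W V eV).hom
      haveI : IsScalarTower Γ(S, W) Γ(X, V) Γ(F, V) := IsScalarTower.of_algebraMap_smul fun _ _ => rfl
      (hV.primeIdealOf ⟨x, hx⟩).asIdeal ∈
        FlatCA.weakAss Γ(X, V) (Γ(F, V) ⊗[Γ(S, W)] (hW.primeIdealOf ⟨f x, eV hx⟩).asIdeal.ResidueField)) :
    x ∈ MoreMor.relAss f F := by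
  letI := (f.appLE W V eV).hom.toAlgebra
  letI : Module Γ(S, W) Γ(F, V) := Module.compHom _ (f.appLE W V eV).hom
  haveI : IsScalarTower Γ(S, W) Γ(X, V) Γ(F, V) := IsScalarTower.of_algebraMap_smul fun _ _ => rfl
  let P := (hV.primeIdealOf ⟨x, hx⟩).asIdeal
  let p := (hW.primeIdealOf ⟨f x, eV hx⟩).asIdeal
  let O := X.presheaf.stalk x
  letI := X.presheaf.algebra_section_stalk ⟨x, hx⟩
  haveI : IsLocalization.AtPrime O P := hV.isLocalization_stalk ⟨x, hx⟩
  letI := Groth.L20.ModStalk.stalkModule F hx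
  haveI : IsScalarTower Γ(X, V) O (F.presheaf.stalk x) := IsScalarTower.of_algebraMap_smul fun _ _ => rfl
  haveI := Groth.L20.ModStalk.isLocalizedModule_germ F hV hx
  have h := isAssociatedPrime_of_mem_weakAss_fibre Γ(F, V) p P hass O (F.presheaf.stalk x)
    (Groth.L20.ModStalk.germₗ F hx)
  have e : (p.map (algebraMap Γ(S, W) Γ(X, V))).map (algebraMap Γ(X, V) O) =
      (IsLocalRing.maximalIdeal (S.presheaf.stalk (f x))).map (f.stalkMap x).hom := by
    letI := S.presheaf.algebra_section_stalk ⟨f x, eV hx⟩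
    haveI : IsLocalization.AtPrime (S.presheaf.stalk (f x)) p := hW.isLocalization_stalk ⟨f x, eV hx⟩
    rw [← IsLocalization.AtPrime.map_eq_maximalIdeal p (S.presheaf.stalk (f x)), Ideal.map_map, Ideal.map_map]
    congr 1
    ext a
    exact (Groth.L20.ModStalk.stalkMap_germ eV hx (eV hx) a).symm
  rw [e] at h
  exact h

theorem isQCoh_pullback (g : X ⟶ S) (F : S.Modules) [Coh.IsQCoh F] :
    Coh.IsQCoh ((Scheme.Modules.pullback g).obj F) := Groth.L16.AffineBC.isQCoh_pullback g F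

variable {X' S' : Scheme.{u}} {f : X ⟶ S} {f' : X' ⟶ S'} {g' : X' ⟶ X} {g : S' ⟶ S}

/-- Flatness of a pulled back module generalises. -/
theorem isFlatOverAt_of_specializes (hc : IsPullback g' f' f g) (F : X.Modules) [Coh.IsQCoh F] {y x : X'} (h : y ⤳ x)
    (hx : FlatMod.IsFlatOverAt f' ((Scheme.Modules.pullback g').obj F) x) :
    FlatMod.IsFlatOverAt f' ((Scheme.Modules.pullback g').obj F) y := by
  obtain ⟨_, ⟨W', hW', rfl⟩, hxW', -⟩ :=
    S'.isBasis_affineOpens.exists_subset_of_mem_open (Set.mem_univ (f' x)) isOpen_univ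
  change S'.Opens at W'
  obtain ⟨_, ⟨V, hV, rfl⟩, hxV, -⟩ :=
    X.isBasis_affineOpens.exists_subset_of_mem_open (Set.mem_univ (g' x)) isOpen_univ
  change X.Opens at V
  obtain ⟨_, ⟨U, hU, rfl⟩, hxU, hUV⟩ :=
    X'.isBasis_affineOpens.exists_subset_of_mem_open (show x ∈ g' ⁻¹ᵁ V ⊓ f' ⁻¹ᵁ W' from ⟨hxV, hxW'⟩)
      (g' ⁻¹ᵁ V ⊓ f' ⁻¹ᵁ W').2
  change X'.Opens at U
  have eU : U ≤ g' ⁻¹ᵁ V := fun a ha => (hUV ha).1
  have eU' : U ≤ f' ⁻¹ᵁ W' := fun a ha => (hUV ha).2
  have hyU : y ∈ U := h.mem_open U.2 hxU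
  letI := (g'.appLE V U eU).hom.toAlgebra
  letI := (f'.appLE W' U eU').hom.toAlgebra
  rw [isFlatOverAt_square_iff (f := f) (g := g) (W := ⊤) F hV hW' hU eU eU' _ hxU] at hx
  rw [isFlatOverAt_square_iff (f := f) (g := g) (W := ⊤) F hV hW' hU eU eU' _ hyU]
  exact Groth.L20.flat_localizedModule_of_le (T := (hU.primeIdealOf ⟨x, hxU⟩).asIdeal.primeCompl)
    (T' := (hU.primeIdealOf ⟨y, hyU⟩).asIdeal.primeCompl) (fun a ha h' => ha (Groth.L22.FibreBound.primeIdealOf_le hU hxU hyU h h')) hx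

set_option maxHeartbeats 1600000 in
/-- Near every point, the non-flat locus of a pulled back module in one fibre is the set of specialisations
within the fibre of finitely many points, lying over the relative assassin of the module. -/
theorem exists_finite_generators (hc : IsPullback g' f' f g) [LocallyOfFiniteType f] (F : X.Modules) [Coh.IsQCoh F]
    (hF : CohB1.IsFT F) (x₀ : X') :
    ∃ U : X'.Opens, x₀ ∈ U ∧ ∀ s' : S', ∃ T : Set X', T.Finite ∧ ∀ x ∈ U, f' x = s' →
      ¬ FlatMod.IsFlatOverAt f' ((Scheme.Modules.pullback g').obj F) x →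
      ∃ y ∈ T, y ⤳ x ∧ f' y = s' ∧ ¬ FlatMod.IsFlatOverAt f' ((Scheme.Modules.pullback g').obj F) y ∧
        g' y ∈ MoreMor.relAss f F := by
  obtain ⟨_, ⟨W, hW, rfl⟩, hxW, -⟩ :=
    S.isBasis_affineOpens.exists_subset_of_mem_open (Set.mem_univ (f (g' x₀))) isOpen_univ
  change S.Opens at W
  obtain ⟨_, ⟨V, hV, rfl⟩, hxV, eV⟩ :=
    X.isBasis_affineOpens.exists_subset_of_mem_open (show g' x₀ ∈ f ⁻¹ᵁ W from hxW) (f ⁻¹ᵁ W).2
  change X.Opens at V
  replace eV : V ≤ f ⁻¹ᵁ W := eV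
  have hw : g (f' x₀) = f (g' x₀) := congr($(hc.w.symm) x₀)
  obtain ⟨_, ⟨W', hW', rfl⟩, hxW', eW⟩ :=
    S'.isBasis_affineOpens.exists_subset_of_mem_open (show f' x₀ ∈ g ⁻¹ᵁ W by
      show g (f' x₀) ∈ W
      rw [hw]; exact hxW) (g ⁻¹ᵁ W).2
  change S'.Opens at W'
  replace eW : W' ≤ g ⁻¹ᵁ W := eW
  have hpb := Scheme.Hom.isPullback_resLE hc (UT := W') eW eV (UY := g' ⁻¹ᵁ V ⊓ f' ⁻¹ᵁ W') rfl
  haveI : IsAffine W.toScheme := hW
  haveI : IsAffine V.toScheme := hV
  haveI : IsAffine W'.toScheme := hW'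
  have hU : IsAffineOpen (g' ⁻¹ᵁ V ⊓ f' ⁻¹ᵁ W') := IsAffine.of_isPullback hpb
  have hpo : IsPushout (f.appLE W V eV) (g.appLE W W' eW)
      (g'.appLE V (g' ⁻¹ᵁ V ⊓ f' ⁻¹ᵁ W') inf_le_left) (f'.appLE W' (g' ⁻¹ᵁ V ⊓ f' ⁻¹ᵁ W') inf_le_right) := by
    refine (isPushout_appTop_of_isPullback hpb).of_iso W.topIso V.topIso W'.topIso
      (g' ⁻¹ᵁ V ⊓ f' ⁻¹ᵁ W').topIso ?_ ?_ ?_ ?_ <;>
    simp only [Scheme.Hom.appTop, Scheme.Hom.resLE_app_top, Category.assoc, Iso.inv_hom_id, Category.comp_id]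
  set U := g' ⁻¹ᵁ V ⊓ f' ⁻¹ᵁ W' with hUdef
  have eU : U ≤ g' ⁻¹ᵁ V := inf_le_left
  have eU' : U ≤ f' ⁻¹ᵁ W' := inf_le_right
  letI := (f.appLE W V eV).hom.toAlgebra
  letI := (g.appLE W W' eW).hom.toAlgebra
  letI := (g'.appLE V U eU).hom.toAlgebra
  letI := (f'.appLE W' U eU').hom.toAlgebra
  letI : Algebra Γ(S, W) Γ(X', U) := ((g'.appLE V U eU).hom.comp (f.appLE W V eV).hom).toAlgebra
  haveI : IsScalarTower Γ(S, W) Γ(X, V) Γ(X', U) := IsScalarTower.of_algebraMap_eq' rfl
  haveI : IsScalarTower Γ(S, W) Γ(S', W') Γ(X', U) := IsScalarTower.of_algebraMap_eq' (congrArg CommRingCat.Hom.hom hpo.w)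
  haveI : Algebra.IsPushout Γ(S, W) Γ(X, V) Γ(S', W') Γ(X', U) := CommRingCat.isPushout_iff_isPushout.mp hpo
  haveI : Algebra.FiniteType Γ(S, W) Γ(X, V) := LocallyOfFiniteType.finiteType_appLE f hW hV eV
  haveI : Algebra.FiniteType Γ(S', W') Γ(X', U) := finiteType_pushout (R := Γ(S, W)) (S := Γ(X, V))
  haveI : Module.Finite Γ(X, V) Γ(F, V) := Groth.L20.ModStalk.finite_sections F ⟨inferInstance, hF⟩ hV
  letI : Module Γ(S, W) Γ(F, V) := Module.compHom _ (f.appLE W V eV).hom
  haveI : IsScalarTower Γ(S, W) Γ(X, V) Γ(F, V) := IsScalarTower.of_algebraMap_smul fun _ _ => rfl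
  let NU := Γ(X', U) ⊗[Γ(X, V)] Γ(F, V)
  haveI : Module.Finite Γ(X', U) NU := Module.Finite.base_change _ _ _
  refine ⟨U, ⟨hxV, hxW'⟩, fun s' => ?_⟩
  by_cases hs' : s' ∈ W'
  swap
  · exact ⟨∅, Set.finite_empty, fun x hx e => (hs' (e ▸ hx.2)).elim⟩
  let t := (hW'.primeIdealOf ⟨s', hs'⟩).asIdeal
  refine ⟨{y | ∃ hy : y ∈ U, (hU.primeIdealOf ⟨y, hy⟩).asIdeal ∈ FlatCA.weakAss Γ(X', U) (NU ⊗[Γ(S', W')] t.ResidueField)},
    ?_, fun x hxU e hnf => ?_⟩
  · refine ((finite_weakAss_fibre (S := Γ(X', U)) t NU).preimage' (f := fun P : {P : Ideal Γ(X', U) // P.IsPrime} => P.1)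
      fun b _ => (Set.finite_singleton b).preimage Subtype.val_injective.injOn).image
        (fun P => hU.fromSpec ⟨P.1, P.2⟩) |>.subset ?_
    rintro y ⟨hy, h⟩
    exact ⟨⟨_, (hU.primeIdealOf ⟨y, hy⟩).2⟩, h, hU.fromSpec_primeIdealOf ⟨y, hy⟩⟩
  · subst e
    let q := (hU.primeIdealOf ⟨x, hxU⟩).asIdeal
    haveI hq : q.LiesOver t := ⟨(congrArg PrimeSpectrum.asIdeal
      (IsAffineOpen.comap_primeIdealOf_appLE W' hW' U hU eU' hxU)).symm⟩
    have hnf' : ¬ FlatCA.FlatAt Γ(S', W') q NU := fun h =>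
      hnf ((isFlatOverAt_square_iff (f := f) (g := g) (W := W) F hV hW' hU eU eU' x hxU).2 h)
    obtain ⟨P, hPp, hP, hPq, hPnf⟩ : ∃ (P : Ideal Γ(X', U)) (_ : P.IsPrime),
        P ∈ FlatCA.weakAss Γ(X', U) (NU ⊗[Γ(S', W')] t.ResidueField) ∧ P ≤ q ∧ ¬ FlatCA.FlatAt Γ(S', W') P NU := by
      by_contra! hne
      exact hnf' (flatAt_of_weakAss_fibre NU t q fun P hPp hP hPq => hne P hPp hP hPq)
    let y := hU.fromSpec ⟨P, hPp⟩
    have hyU : y ∈ U := by
      have h : y ∈ Set.range hU.fromSpec := ⟨_, rfl⟩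
      rwa [hU.range_fromSpec] at h
    have ey : (hU.primeIdealOf ⟨y, hyU⟩).asIdeal = P :=
      congrArg PrimeSpectrum.asIdeal (Groth.L22.FibreBound.primeIdealOf_fromSpec hU ⟨P, hPp⟩ hyU)
    have hys : f' y = f' x := by
      have h1 := IsAffineOpen.comap_primeIdealOf_appLE W' hW' U hU eU' hyU
      haveI : P.LiesOver t := liesOver_of_mem_weakAss_fibre t NU hP
      have h2 : hW'.primeIdealOf ⟨f' y, eU' hyU⟩ = hW'.primeIdealOf ⟨f' x, eU' hxU⟩ := PrimeSpectrum.ext (by
        rw [← h1, PrimeSpectrum.comap_asIdeal, ey]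
        exact (Ideal.over_def P t).symm)
      have h3 := congrArg (fun c => hW'.fromSpec c) h2
      simpa [IsAffineOpen.fromSpec_primeIdealOf] using h3
    refine ⟨y, ⟨hyU, ey.symm ▸ hP⟩, ?_, hys, fun h => hPnf (flatAt_congr_prime ey
      ((isFlatOverAt_square_iff (f := f) (g := g) (W := W) F hV hW' hU eU eU' y hyU).1 h)), ?_⟩
    · have h := ((PrimeSpectrum.le_iff_specializes ⟨P, hPp⟩ (hU.primeIdealOf ⟨x, hxU⟩)).1 hPq).map hU.fromSpec.continuous
      rwa [hU.fromSpec_primeIdealOf] at h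
    · let P₀ := (hV.primeIdealOf ⟨g' y, eU hyU⟩).asIdeal
      let p := (hW.primeIdealOf ⟨f (g' y), eV (eU hyU)⟩).asIdeal
      have eP : P.comap (algebraMap Γ(X, V) Γ(X', U)) = P₀ := by
        rw [← ey]
        exact congrArg PrimeSpectrum.asIdeal (IsAffineOpen.comap_primeIdealOf_appLE V hV U hU eU hyU)
      haveI : t.LiesOver p := ⟨by
        have h1 := congrArg PrimeSpectrum.asIdeal (IsAffineOpen.comap_primeIdealOf_appLE W hW V hV eV (eU hyU))
        show p = t.comap (algebraMap Γ(S, W) Γ(S', W'))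
        haveI : P.LiesOver t := liesOver_of_mem_weakAss_fibre t NU hP
        rw [show t = P.comap (algebraMap Γ(S', W') Γ(X', U)) from Ideal.over_def P t, Ideal.comap_comap,
          ← IsScalarTower.algebraMap_eq, IsScalarTower.algebraMap_eq Γ(S, W) Γ(X, V) Γ(X', U), ← Ideal.comap_comap, eP]
        exact h1.symm⟩
      refine mem_relAss_of_weakAss f F hW hV eV (g' y) (eU hyU) ?_
      show P₀ ∈ _
      rw [← eP]
      exact mem_weakAss_fibre_comap Γ(F, V) NU (TensorProduct.mk Γ(X, V) Γ(X', U) Γ(F, V) 1)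
        (TensorProduct.isBaseChange Γ(X, V) Γ(F, V) Γ(X', U)) t p P hP

/-- Every non-flat point is the specialisation, within its fibre, of a non-flat point over the relative assassin. -/
theorem exists_nonflat_relAss (hc : IsPullback g' f' f g) [LocallyOfFiniteType f] (F : X.Modules) [Coh.IsQCoh F]
    (hF : CohB1.IsFT F) (x : X') (hx : ¬ FlatMod.IsFlatOverAt f' ((Scheme.Modules.pullback g').obj F) x) :
    ∃ y, y ⤳ x ∧ f' y = f' x ∧ ¬ FlatMod.IsFlatOverAt f' ((Scheme.Modules.pullback g').obj F) y ∧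
      g' y ∈ MoreMor.relAss f F := by
  obtain ⟨U, hxU, h⟩ := exists_finite_generators hc F hF x
  obtain ⟨T, -, hT⟩ := h (f' x)
  obtain ⟨y, -, hy⟩ := hT x hxU rfl hx
  exact ⟨y, hy⟩

theorem isPullback_id (f : X ⟶ S) : IsPullback (𝟙 X) f f (𝟙 S) := IsPullback.of_horiz_isIso ⟨by simp⟩

theorem isFlatOverAt_pullback_id (f : X ⟶ S) (F : X.Modules) (x : X) :
    FlatMod.IsFlatOverAt f ((Scheme.Modules.pullback (𝟙 X)).obj F) x ↔ FlatMod.IsFlatOverAt f F x :=
  ⟨Groth.L20.FibreModule.isFlatOverAt_congr f ((Scheme.Modules.pullbackId X).app F),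
    Groth.L20.FibreModule.isFlatOverAt_congr f ((Scheme.Modules.pullbackId X).app F).symm⟩

end Scheme

end Groth.L20.RG
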