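import Groth.Agent.L20.RG.OpenSupport

/-!
# Shrinking of one-step dévissages
-/

set_option autoImplicit false
set_option linter.style.haveILetI false
set_option backward.isDefEq.respectTransparency.types false
universe u

open TensorProduct FlatMor

noncomputable section

namespace Groth.L20.RG

/-- **Shrinking** of a one-step dévissage at a point along `D(w)`, with `u` inverted. -/
theorem exists_oneStep_shrink
    (R S : Type u) [CommRing R] [CommRing S] [Algebra R S] [Algebra.FiniteType R S]
    (N : Type u) [AddCommGroup N] [Module S N] [Module R N] [IsScalarTower R S N] [Module.Finite S N]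
    (p : Ideal R) [p.IsPrime] (q : Ideal S) [q.IsPrime] [q.LiesOver p]
    (C D G : Type u) [CommRing C] [CommRing D] [Algebra S C] [Algebra R C] [IsScalarTower R S C]
    [Algebra R D] [Algebra D C] [IsScalarTower R D C] [AddCommGroup G] [Module C G] [Module S G]
    [IsScalarTower S C G] (n : ℕ)
    (h : FlatCA.IsOneStepDevissage R S N p C D G n)
    (z : Ideal C) [z.IsPrime] (y : Ideal D) [y.IsPrime] [z.LiesOver q] [z.LiesOver y] [y.LiesOver p]
    (h1 : ∃ (ξ : PrimeSpectrum (p.Fiber S)) (hξ : ξ ∈ Module.support (p.Fiber S) (FlatCA.fiberMod p S N)),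
      ξ.asIdeal = FlatCA.fiberIdeal p q ∧
      FlatMor.localDim (Module.support (p.Fiber S) (FlatCA.fiberMod p S N)) ⟨ξ, hξ⟩ = n)
    (h3 : ∀ (z₁ : Ideal C) [z₁.IsPrime], z₁.LiesOver y → z₁ = z)
    (h4 : FlatCA.PurelyTranscendental p y)
    (u : S) (w : D) (hw : w ∉ y) (hdvd : algebraMap S C u ∣ algebraMap D C w) :
    ∃ (g : R) (hX : S) (hZ : C), g ∉ p ∧ hX ∉ q ∧ hZ ∉ z ∧ IsUnit (algebraMap S (Localization.Away hX) u) ∧
      ∃ (_ : Algebra (Localization.Away g) (Localization.Away hX)) (_ : IsScalarTower R (Localization.Away g) (Localization.Away hX))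
        (_ : Algebra (Localization.Away g) (Localization.Away hZ)) (_ : IsScalarTower R (Localization.Away g) (Localization.Away hZ))
        (_ : Algebra (Localization.Away g) (Localization.Away (w * algebraMap R D g))) (_ : IsScalarTower R (Localization.Away g) (Localization.Away (w * algebraMap R D g)))
        (_ : Algebra (Localization.Away hX) (Localization.Away hZ)) (_ : IsScalarTower S (Localization.Away hX) (Localization.Away hZ))
        (_ : IsScalarTower (Localization.Away g) (Localization.Away hX) (Localization.Away hZ))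
        (_ : Algebra (Localization.Away (w * algebraMap R D g)) (Localization.Away hZ)) (_ : IsScalarTower D (Localization.Away (w * algebraMap R D g)) (Localization.Away hZ))
        (_ : IsScalarTower (Localization.Away g) (Localization.Away (w * algebraMap R D g)) (Localization.Away hZ))
        (_ : Module (Localization.Away g) (LocalizedModule (Submonoid.powers hX) N)) (_ : IsScalarTower (Localization.Away g) (Localization.Away hX) (LocalizedModule (Submonoid.powers hX) N))
        (_ : Module (Localization.Away hX) (LocalizedModule (Submonoid.powers hZ) G)) (_ : IsScalarTower (Localization.Away hX) (Localization.Away hZ) (LocalizedModule (Submonoid.powers hZ) G))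
        (_ : (Ideal.map (algebraMap R (Localization.Away g)) p).IsPrime) (_ : (Ideal.map (algebraMap D (Localization.Away (w * algebraMap R D g))) y).IsPrime) (_ : (Ideal.map (algebraMap D (Localization.Away (w * algebraMap R D g))) y).LiesOver (Ideal.map (algebraMap R (Localization.Away g)) p)),
        FlatCA.IsOneStepDevissage (Localization.Away g) (Localization.Away hX) (LocalizedModule (Submonoid.powers hX) N) (Ideal.map (algebraMap R (Localization.Away g)) p) (Localization.Away hZ) (Localization.Away (w * algebraMap R D g)) (LocalizedModule (Submonoid.powers hZ) G) n ∧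
        (∃ (ξ : PrimeSpectrum ((Ideal.map (algebraMap R (Localization.Away g)) p).Fiber (Localization.Away hX)))
            (hξ : ξ ∈ Module.support ((Ideal.map (algebraMap R (Localization.Away g)) p).Fiber (Localization.Away hX)) (FlatCA.fiberMod (Ideal.map (algebraMap R (Localization.Away g)) p) (Localization.Away hX) (LocalizedModule (Submonoid.powers hX) N))),
          ξ.asIdeal = FlatCA.fiberIdeal (Ideal.map (algebraMap R (Localization.Away g)) p) (Ideal.map (algebraMap S (Localization.Away hX)) q) ∧
          FlatMor.localDim (Module.support ((Ideal.map (algebraMap R (Localization.Away g)) p).Fiber (Localization.Away hX)) (FlatCA.fiberMod (Ideal.map (algebraMap R (Localization.Away g)) p) (Localization.Away hX) (LocalizedModule (Submonoid.powers hX) N))) ⟨ξ, hξ⟩ = n) ∧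
        (Ideal.map (algebraMap C (Localization.Away hZ)) z).LiesOver (Ideal.map (algebraMap S (Localization.Away hX)) q) ∧ (Ideal.map (algebraMap C (Localization.Away hZ)) z).LiesOver (Ideal.map (algebraMap D (Localization.Away (w * algebraMap R D g))) y) ∧
        (∀ (z₂ : Ideal (Localization.Away hZ)) [z₂.IsPrime], z₂.LiesOver (Ideal.map (algebraMap D (Localization.Away (w * algebraMap R D g))) y) → z₂ = Ideal.map (algebraMap C (Localization.Away hZ)) z) ∧
        FlatCA.PurelyTranscendental (Ideal.map (algebraMap R (Localization.Away g)) p) (Ideal.map (algebraMap D (Localization.Away (w * algebraMap R D g))) y) := by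
  classical
  obtain ⟨⟨e⟩, hsurj, hfp, hDC, hCG, hn, hirr, hdim⟩ := h
  haveI := hfp
  haveI := hDC
  haveI := hCG
  haveI := smooth_of_relDim hn
  have hdom : DomFib R D := DomFib.of_smooth_geomIrredFibres hirr
  let Dw := Localization.Away w
  haveI : Algebra.Smooth R Dw := smooth_of_relDim (smoothRelDim_away (B := D) (B' := Dw) w hn)
  obtain ⟨yw, _, hyw⟩ := exists_prime_away y hw
  haveI := hyw
  haveI : yw.LiesOver p := Ideal.LiesOver.trans yw y p
  obtain ⟨g, hg, hrange⟩ := exists_basicOpen_range (p := p) yw
  haveI : z.LiesOver p := Ideal.LiesOver.trans z y p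
  have hgy : algebraMap R D g ∉ y := fun h => hg ((Ideal.mem_of_liesOver y p g).mpr h)
  have hY : w * algebraMap R D g ∉ y := fun h => (Ideal.IsPrime.mem_or_mem' h).elim hw hgy
  set hy' := w * algebraMap R D g with hy'def
  set b := algebraMap D C hy' with hbdef
  have hbz : b ∉ z := fun h => hY ((Ideal.mem_of_liesOver z y hy').mpr h)
  obtain ⟨t, ht⟩ := hsurj b
  let hX := u * algebraMap R S g * t
  let hZ := algebraMap S C hX
  have hub : algebraMap S C u ∣ b := by
    rw [hbdef, map_mul]
    exact hdvd.trans (dvd_mul_right _ _)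
  have hgb : algebraMap R C g ∣ b := by
    rw [hbdef, map_mul, ← IsScalarTower.algebraMap_apply]
    exact dvd_mul_left _ _
  have hc : (algebraMap S C u * algebraMap R C g) ∣ b ^ 2 := by
    rw [pow_two]; exact mul_dvd_mul hub hgb
  have hZb : hZ = (algebraMap S C u * algebraMap R C g) * b := by
    show algebraMap S C (u * algebraMap R S g * t) = _
    rw [map_mul, map_mul, ht, ← IsScalarTower.algebraMap_apply]
  have hZz : hZ ∉ z := by
    rw [hZb]
    exact fun h => (Ideal.IsPrime.mem_or_mem' h).elim
      (fun h => hbz (Ideal.IsPrime.mem_of_pow_mem inferInstance 2 (Ideal.mem_of_dvd _ hc h))) hbz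
  have hXq : hX ∉ q := fun h => hZz ((Ideal.mem_of_liesOver z q hX).mp h)
  let R' := Localization.Away g
  let S' := Localization.Away hX
  let C' := Localization.Away hZ
  let D' := Localization.Away hy'
  let N' := LocalizedModule (Submonoid.powers hX) N
  let G' := LocalizedModule (Submonoid.powers hZ) G
  have hub' : IsUnit (algebraMap S S' u) :=
    IsLocalization.Away.isUnit_of_dvd hX (dvd_mul_of_dvd_left (dvd_mul_right _ _) _)
  refine ⟨g, hX, hZ, hg, hXq, hZz, hub', ?_⟩
  haveI hlocb : IsLocalization.Away b C' := by
    have hu : IsUnit (algebraMap C (Localization.Away b) (algebraMap S C u * algebraMap R C g)) := by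
      have h2 : IsUnit (algebraMap C (Localization.Away b) (b ^ 2)) :=
        (map_pow (algebraMap C (Localization.Away b)) b 2).symm ▸ (IsLocalization.Away.algebraMap_isUnit b).pow 2
      exact isUnit_of_dvd_unit (map_dvd _ hc) h2
    haveI : IsLocalization.Away hZ (Localization.Away b) := hZb ▸
      IsLocalization.Away.mul_of_isUnit' (algebraMap S C u * algebraMap R C g) b hu
    exact IsLocalization.isLocalization_of_algEquiv (Submonoid.powers b)
      (IsLocalization.algEquiv (Submonoid.powers hZ) (Localization.Away b) C')
  have hgS : IsUnit (algebraMap R S' g) := by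
    rw [IsScalarTower.algebraMap_apply R S S']
    exact IsLocalization.Away.isUnit_of_dvd hX (dvd_mul_of_dvd_left (dvd_mul_left _ _) _)
  have hgC : IsUnit (algebraMap R C' g) := by
    rw [IsScalarTower.algebraMap_apply R C C']
    exact IsLocalization.Away.isUnit_of_dvd b hgb
  have hgD : IsUnit (algebraMap R D' g) := by
    rw [IsScalarTower.algebraMap_apply R D D']
    exact IsLocalization.Away.isUnit_of_dvd hy' (dvd_mul_left _ _)
  have hXC : IsUnit (algebraMap S C' hX) := by
    rw [IsScalarTower.algebraMap_apply S C C']
    exact IsLocalization.Away.algebraMap_isUnit hZ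
  have hYC : IsUnit (algebraMap D C' hy') := by
    rw [IsScalarTower.algebraMap_apply D C C']
    exact IsLocalization.Away.algebraMap_isUnit b
  letI aRS : Algebra R' S' := (IsLocalization.Away.lift g hgS).toAlgebra
  haveI tRS : IsScalarTower R R' S' := IsScalarTower.of_algebraMap_eq fun x => (IsLocalization.Away.lift_eq g hgS x).symm
  letI aRC : Algebra R' C' := (IsLocalization.Away.lift g hgC).toAlgebra
  haveI tRC : IsScalarTower R R' C' := IsScalarTower.of_algebraMap_eq fun x => (IsLocalization.Away.lift_eq g hgC x).symm
  letI aRD : Algebra R' D' := (IsLocalization.Away.lift g hgD).toAlgebra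
  haveI tRD : IsScalarTower R R' D' := IsScalarTower.of_algebraMap_eq fun x => (IsLocalization.Away.lift_eq g hgD x).symm
  letI aSC : Algebra S' C' := (IsLocalization.Away.lift hX hXC).toAlgebra
  haveI tSC : IsScalarTower S S' C' := IsScalarTower.of_algebraMap_eq fun x => (IsLocalization.Away.lift_eq hX hXC x).symm
  letI aDC : Algebra D' C' := (IsLocalization.Away.lift hy' hYC).toAlgebra
  haveI tDC : IsScalarTower D D' C' := IsScalarTower.of_algebraMap_eq fun x => (IsLocalization.Away.lift_eq hy' hYC x).symm
  haveI tRSC : IsScalarTower R' S' C' := IsScalarTower.of_algebraMap_eq' (IsLocalization.ringHom_ext (Submonoid.powers g) (by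
    rw [RingHom.comp_assoc, ← IsScalarTower.algebraMap_eq, ← IsScalarTower.algebraMap_eq, IsScalarTower.algebraMap_eq R S S',
      ← RingHom.comp_assoc, ← IsScalarTower.algebraMap_eq, ← IsScalarTower.algebraMap_eq]))
  haveI tRDC : IsScalarTower R' D' C' := IsScalarTower.of_algebraMap_eq' (IsLocalization.ringHom_ext (Submonoid.powers g) (by
    rw [RingHom.comp_assoc, ← IsScalarTower.algebraMap_eq, ← IsScalarTower.algebraMap_eq, IsScalarTower.algebraMap_eq R D D',
      ← RingHom.comp_assoc, ← IsScalarTower.algebraMap_eq, ← IsScalarTower.algebraMap_eq]))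
  letI mRN : Module R' N' := Module.compHom N' (algebraMap R' S')
  haveI tRSN : IsScalarTower R' S' N' := IsScalarTower.of_algebraMap_smul fun _ _ => rfl
  letI mSG : Module S' G' := Module.compHom G' (algebraMap S' C')
  haveI tSCG : IsScalarTower S' C' G' := IsScalarTower.of_algebraMap_smul fun _ _ => rfl
  haveI : IsScalarTower S S' G' := IsScalarTower.of_algebraMap_smul fun r x => by
    show algebraMap S' C' (algebraMap S S' r) • x = r • x
    rw [← IsScalarTower.algebraMap_apply, IsScalarTower.algebraMap_apply S C C', algebraMap_smul, algebraMap_smul]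
  haveI : Algebra.IsPushout S S' C C' := by
    refine Algebra.IsPushout.symm (R := S) (S := C) ((Algebra.isLocalization_iff_isPushout (Submonoid.powers hX) S').mp ?_)
    rw [Algebra.algebraMapSubmonoid, Submonoid.map_powers]
    exact inferInstanceAs (IsLocalization.Away hZ C')
  haveI : Algebra.IsPushout D D' C C' := by
    refine Algebra.IsPushout.symm (R := D) (S := C) ((Algebra.isLocalization_iff_isPushout (Submonoid.powers hy') D').mp ?_)
    rw [Algebra.algebraMapSubmonoid, Submonoid.map_powers]
    exact hlocb
  -- the smooth algebra over the shrunken base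
  have hwD : IsUnit (algebraMap D D' w) := IsLocalization.Away.isUnit_of_dvd hy' (dvd_mul_right _ _)
  letI : Algebra Dw D' := (IsLocalization.Away.lift w hwD).toAlgebra
  haveI : IsScalarTower D Dw D' := IsScalarTower.of_algebraMap_eq fun x => (IsLocalization.Away.lift_eq w hwD x).symm
  haveI : IsScalarTower R Dw D' := IsScalarTower.of_algebraMap_eq fun x => by
    rw [IsScalarTower.algebraMap_apply R D Dw, ← IsScalarTower.algebraMap_apply D Dw D', ← IsScalarTower.algebraMap_apply R D D']
  haveI : IsLocalization.Away (algebraMap R Dw g) D' := by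
    rw [IsScalarTower.algebraMap_apply R D Dw]
    let Tg := Localization.Away (algebraMap D Dw (algebraMap R D g))
    haveI : IsLocalization.Away hy' Tg := IsLocalization.Away.mul' Dw Tg w (algebraMap R D g)
    exact IsLocalization.isLocalization_of_algEquiv _
      ((IsLocalization.algEquiv (Submonoid.powers hy') Tg D').extendScalarsOfIsLocalization Dw (Submonoid.powers w))
  haveI : Algebra.IsPushout R R' Dw D' := by
    refine Algebra.IsPushout.symm (R := R) (S := Dw) ((Algebra.isLocalization_iff_isPushout (Submonoid.powers g) R').mp ?_)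
    rw [Algebra.algebraMapSubmonoid, Submonoid.map_powers]
    exact inferInstanceAs (IsLocalization.Away (algebraMap R Dw g) D')
  have hn' : FlatCA.SmoothRelDim n R' D' :=
    smoothRelDim_baseChange (B := Dw) (smoothRelDim_away (B := D) (B' := Dw) w hn)
  haveI := smooth_of_relDim hn'
  have hdom' : DomFib R' D' :=
    domFib_of_range (B := Dw) ((DomFib.nzFib hdom).away w Dw) hrange (IsLocalization.Away.algebraMap_isUnit g)
  -- the primes
  have hdisj : ∀ {A : Type u} [CommRing A] (a : A) (P : Ideal A) [P.IsPrime], a ∉ P → Disjoint (Submonoid.powers a : Set A) (P : Set A) :=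
    fun a P _ ha => (Ideal.disjoint_powers_iff_notMem a ‹P.IsPrime›.isRadical).mpr ha
  haveI hp' : (Ideal.map (algebraMap R R') p).IsPrime :=
    IsLocalization.isPrime_of_isPrime_disjoint (Submonoid.powers g) R' p inferInstance (hdisj g p hg)
  haveI hq' : (Ideal.map (algebraMap S S') q).IsPrime :=
    IsLocalization.isPrime_of_isPrime_disjoint (Submonoid.powers hX) S' q inferInstance (hdisj hX q hXq)
  haveI hz' : (Ideal.map (algebraMap C C') z).IsPrime :=
    IsLocalization.isPrime_of_isPrime_disjoint (Submonoid.powers hZ) C' z inferInstance (hdisj hZ z hZz)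
  haveI hy'' : (Ideal.map (algebraMap D D') y).IsPrime :=
    IsLocalization.isPrime_of_isPrime_disjoint (Submonoid.powers hy') D' y inferInstance (hdisj hy' y hY)
  have eR : (Ideal.map (algebraMap R R') p).under R = p :=
    IsLocalization.under_map_of_isPrime_disjoint (Submonoid.powers g) R' inferInstance (hdisj g p hg)
  have eS : (Ideal.map (algebraMap S S') q).under S = q :=
    IsLocalization.under_map_of_isPrime_disjoint (Submonoid.powers hX) S' inferInstance (hdisj hX q hXq)
  have eC : (Ideal.map (algebraMap C C') z).under C = z :=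
    IsLocalization.under_map_of_isPrime_disjoint (Submonoid.powers hZ) C' inferInstance (hdisj hZ z hZz)
  have eD : (Ideal.map (algebraMap D D') y).under D = y :=
    IsLocalization.under_map_of_isPrime_disjoint (Submonoid.powers hy') D' inferInstance (hdisj hy' y hY)
  haveI : (Ideal.map (algebraMap R R') p).LiesOver p := ⟨eR.symm⟩
  haveI : (Ideal.map (algebraMap S S') q).LiesOver q := ⟨eS.symm⟩
  haveI : (Ideal.map (algebraMap D D') y).LiesOver y := ⟨eD.symm⟩
  have key : ∀ (P : Ideal R') [P.IsPrime], P.under R = p → P = Ideal.map (algebraMap R R') p := fun P _ h => by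
    rw [← IsLocalization.map_under (Submonoid.powers g) R' P, h]
  haveI hqp : (Ideal.map (algebraMap S S') q).LiesOver (Ideal.map (algebraMap R R') p) := ⟨(key _ (by
    rw [Ideal.under_under, ← Ideal.under_under (B := S), eS]
    exact (Ideal.over_def q p).symm)).symm⟩
  haveI hyp : (Ideal.map (algebraMap D D') y).LiesOver (Ideal.map (algebraMap R R') p) := ⟨(key _ (by
    rw [Ideal.under_under, ← Ideal.under_under (B := D), eD]
    exact (Ideal.over_def y p).symm)).symm⟩
  have hzq : (Ideal.map (algebraMap C C') z).LiesOver (Ideal.map (algebraMap S S') q) := ⟨by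
    rw [← IsLocalization.map_under (Submonoid.powers hX) S' ((Ideal.map (algebraMap C C') z).under S'),
      Ideal.under_under, ← Ideal.under_under (B := C), eC, ← Ideal.over_def z q]⟩
  have hzy : (Ideal.map (algebraMap C C') z).LiesOver (Ideal.map (algebraMap D D') y) := ⟨by
    rw [← IsLocalization.map_under (Submonoid.powers hy') D' ((Ideal.map (algebraMap C C') z).under D'),
      Ideal.under_under, ← Ideal.under_under (B := C), eC, ← Ideal.over_def z y]⟩
  have hf : IsBaseChange S' (LocalizedModule.mkLinearMap (Submonoid.powers hX) N) :=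
    IsLocalizedModule.isBaseChange (Submonoid.powers hX) S' _
  have hgb' : IsBaseChange C' (LocalizedModule.mkLinearMap (Submonoid.powers hZ) G) :=
    IsLocalizedModule.isBaseChange (Submonoid.powers hZ) C' _
  obtain ⟨hdim', hloc'⟩ := dim_support_of_open
    (PrimeSpectrum.localization_away_isOpenEmbedding S' hX)
    (PrimeSpectrum.localization_away_isOpenEmbedding R' g).injective
    p (Ideal.map (algebraMap R R') p) hf q (Ideal.map (algebraMap S S') q) _ hdim h1
  haveI : Algebra.IsPushout S C S' C' := Algebra.IsPushout.symm inferInstance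
  have hG : IsBaseChange S' ((LocalizedModule.mkLinearMap (Submonoid.powers hZ) G).restrictScalars S) :=
    Groth.L20.isBaseChange_restrictScalars (R := S) (S := C) (R' := S') (S' := C') hgb'
  refine ⟨aRS, tRS, aRC, tRC, aRD, tRD, aSC, tSC, tRSC, aDC, tDC, tRDC, mRN, tRSN, mSG, tSCG, hp', hy'', hyp,
    ⟨⟨hf.equiv.symm ≪≫ₗ (e.baseChange S S' _ _) ≪≫ₗ hG.equiv⟩, ?_, ?_, ?_, ?_, hn', geomIrredFibres_of_domFib hdom', hdim'⟩,
    hloc', hzq, hzy, ?_, ?_⟩
  · intro a
    induction a using (Algebra.IsPushout.out : IsBaseChange S' (IsScalarTower.toAlgHom S C C').toLinearMap).inductionOn with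
    | zero => exact ⟨0, map_zero _⟩
    | tmul a =>
      obtain ⟨s, rfl⟩ := hsurj a
      exact ⟨algebraMap S S' s, by
        show _ = algebraMap C C' (algebraMap S C s)
        rw [← IsScalarTower.algebraMap_apply, ← IsScalarTower.algebraMap_apply]⟩
    | smul s a ha =>
      obtain ⟨t, ht⟩ := ha
      exact ⟨s * t, by rw [map_mul, ht, Algebra.smul_def]⟩
    | add a b ha hb =>
      obtain ⟨t, ht⟩ := ha
      obtain ⟨t', ht'⟩ := hb
      exact ⟨t + t', by rw [map_add, ht, ht']⟩
  · exact Algebra.FinitePresentation.equiv (Algebra.IsPushout.equiv S S' C C')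
  · exact Module.Finite.equiv (Algebra.IsPushout.equiv D D' C C').toLinearEquiv
  · exact Module.Finite.equiv hgb'.equiv
  · intro z₂ _ hz₂
    haveI := hz₂
    haveI : z₂.LiesOver y := Ideal.LiesOver.trans z₂ (Ideal.map (algebraMap D D') y) y
    have h2 : z₂.under C = z := h3 _ ⟨by rw [Ideal.under_under]; exact Ideal.over_def z₂ y⟩
    rw [← IsLocalization.map_under (Submonoid.powers hZ) C' z₂, h2]
  · exact purelyTranscendental_transport (isEtaleNhd_away p hg _).2 (isEtaleNhd_away y hY _).2 h4

end Groth.L20.RG
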