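import Groth.Agent.L20.RG.InjModLemmas

/-!
# Maps from projective modules, injective modulo every maximal ideal, into flat modules
-/

set_option autoImplicit false
set_option linter.style.haveILetI false
set_option backward.isDefEq.respectTransparency.types false
universe u

open TensorProduct IsLocalRing

noncomputable section

namespace Groth.L20.RG

/-- Free to flat, injective modulo every maximal ideal: universally injective. -/
theorem univInj_of_injMod_free {A F M : Type u} [CommRing A] [AddCommGroup F] [Module A F] [Module.Free A F]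
    [AddCommGroup M] [Module A M] [Module.Flat A M] (u : F →ₗ[A] M)
    (h : ∀ (m : Ideal A) [m.IsMaximal], Function.Injective (u.rTensor (A ⧸ m))) : FlatCA.UnivInj A u := by
  classical
  rw [univInj_iff_rTensor]
  intro Q _ _
  refine (injective_iff_map_eq_zero _).mpr fun z hz => ?_
  by_contra hne
  let a : Ideal A := LinearMap.ker (LinearMap.toSpanSingleton A (F ⊗[A] Q) z)
  have ha : a ≠ ⊤ := fun ht => hne (by
    have : (1 : A) ∈ a := ht ▸ trivial
    simpa [a] using this)
  obtain ⟨m, hm, hle⟩ := Ideal.exists_le_maximal a ha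
  haveI := hm
  let R := Localization.AtPrime m
  let k := A ⧸ m
  letI : Field k := Ideal.Quotient.field m
  have hmk : ∀ x ∈ m, ∀ r : ResidueField R, algebraMap A (ResidueField R) x * r = 0 := fun x hx r => by
    rw [IsScalarTower.algebraMap_apply A R (ResidueField R)]
    have : algebraMap A R x ∈ maximalIdeal R :=
      (IsLocalization.AtPrime.to_map_mem_maximal_iff R m x).mpr hx
    rw [IsLocalRing.ResidueField.algebraMap_eq, (IsLocalRing.residue_eq_zero_iff _).mpr this, zero_mul]
  letI : Algebra k (ResidueField R) := (Ideal.Quotient.lift m (algebraMap A (ResidueField R)) fun x hx => by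
    simpa using hmk x hx 1).toAlgebra
  haveI : IsScalarTower A k (ResidueField R) := IsScalarTower.of_algebraMap_eq fun x => rfl
  have hres : Function.Injective (u.rTensor (ResidueField R)) := injective_rTensor_vector u k (h m) (ResidueField R)
  let v : R ⊗[A] F →ₗ[R] R ⊗[A] M := u.baseChange R
  have hv : InjMod v := by
    rw [InjMod.iff_rTensor]
    let eF := TensorProduct.AlgebraTensorModule.cancelBaseChange A R R (ResidueField R) F
    let eM := TensorProduct.AlgebraTensorModule.cancelBaseChange A R R (ResidueField R) M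
    let cF := TensorProduct.comm R (R ⊗[A] F) (ResidueField R)
    let cM := TensorProduct.comm R (R ⊗[A] M) (ResidueField R)
    have hnat : ∀ w, TensorProduct.comm A (ResidueField R) M (eM (cM (v.rTensor (ResidueField R) w))) =
        u.rTensor (ResidueField R) (TensorProduct.comm A (ResidueField R) F (eF (cF w))) := fun w => by
      induction w using TensorProduct.induction_on with
      | zero => simp only [map_zero]
      | add p q hp hq => simp only [map_add, hp, hq]
      | tmul x r =>
        induction x using TensorProduct.induction_on with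
        | zero => simp only [TensorProduct.zero_tmul, map_zero]
        | add p q hp hq => simp only [TensorProduct.add_tmul, map_add, hp, hq]
        | tmul s f => simp [v, cF, cM, eF, eM]
    refine (injective_iff_map_eq_zero _).mpr fun w hw => ?_
    have h1 := hres (show u.rTensor (ResidueField R) (TensorProduct.comm A (ResidueField R) F (eF (cF w))) =
      u.rTensor (ResidueField R) 0 by rw [← hnat, hw]; simp)
    simpa using h1
  haveI : Module.Flat R (R ⊗[A] M) := inferInstance
  haveI : IsLocalizedModule (⊥ : Submonoid R) (LinearMap.id : (R ⊗[A] F) →ₗ[R] (R ⊗[A] F)) :=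
    IsLocalizedModule.mk (fun x => by
        have hx : (x : R) = 1 := (Submonoid.mem_bot.mp x.2)
        rw [hx, map_one]; exact isUnit_one)
      (fun y => ⟨⟨y, 1⟩, by simp⟩) fun {x y} hxy => ⟨1, by simpa using hxy⟩
  have huv : FlatCA.UnivInj R v :=
    univInj_of_injMod_localized (⊥ : Submonoid R) (LinearMap.id : (R ⊗[A] F) →ₗ[R] (R ⊗[A] F))
      (fun Q _ _ => by simpa using Function.injective_id) v hv
  rw [univInj_iff_rTensor] at huv
  -- `z` dies in the localisation
  let RQ := R ⊗[A] Q
  let gF : F ⊗[A] Q →ₗ[A] (R ⊗[A] F) ⊗[R] (R ⊗[A] Q) :=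
    TensorProduct.lift (LinearMap.mk₂ A (fun f q => ((1 : R) ⊗ₜ[A] f) ⊗ₜ[R] ((1 : R) ⊗ₜ[A] q))
      (fun a b q => by simp [TensorProduct.tmul_add, TensorProduct.add_tmul])
      (fun c a q => by simp [TensorProduct.tmul_smul, TensorProduct.smul_tmul'])
      (fun f a b => by simp [TensorProduct.tmul_add])
      (fun c f a => by simp))
  let gM : M ⊗[A] Q →ₗ[A] (R ⊗[A] M) ⊗[R] (R ⊗[A] Q) :=
    TensorProduct.lift (LinearMap.mk₂ A (fun f q => ((1 : R) ⊗ₜ[A] f) ⊗ₜ[R] ((1 : R) ⊗ₜ[A] q))
      (fun a b q => by simp [TensorProduct.tmul_add, TensorProduct.add_tmul])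
      (fun c a q => by simp [TensorProduct.tmul_smul, TensorProduct.smul_tmul'])
      (fun f a b => by simp [TensorProduct.tmul_add])
      (fun c f a => by simp))
  have hcomm : ∀ w, v.rTensor RQ (gF w) = gM (u.rTensor Q w) := fun w => by
    induction w using TensorProduct.induction_on with
    | zero => simp only [map_zero]
    | add p q hp hq => simp only [map_add, hp, hq]
    | tmul f q => simp [gF, gM, v]
  have h0 : gF z = 0 := huv RQ (by rw [hcomm, hz, map_zero, map_zero])
  let back : (R ⊗[A] F) ⊗[R] (R ⊗[A] Q) →ₗ[R] R ⊗[A] (F ⊗[A] Q) :=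
    (TensorProduct.AlgebraTensorModule.distribBaseChange A R F Q).symm.toLinearMap
  have hback : ∀ w, back (gF w) = (1 : R) ⊗ₜ[A] w := fun w => by
    induction w using TensorProduct.induction_on with
    | zero => simp only [map_zero, TensorProduct.tmul_zero]
    | add p q hp hq => simp only [map_add, hp, hq, TensorProduct.tmul_add]
    | tmul f q =>
      show back (((1 : R) ⊗ₜ[A] f) ⊗ₜ[R] ((1 : R) ⊗ₜ[A] q)) = _
      apply (TensorProduct.AlgebraTensorModule.distribBaseChange A R F Q).injective
      rw [show (TensorProduct.AlgebraTensorModule.distribBaseChange A R F Q) (back _) = _ from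
        LinearEquiv.apply_symm_apply _ _]
      simp [TensorProduct.AlgebraTensorModule.distribBaseChange]
  have h1 : (TensorProduct.mk A R (F ⊗[A] Q) 1) z = 0 := by
    show (1 : R) ⊗ₜ[A] z = 0
    rw [← hback, h0, map_zero]
  haveI : IsLocalizedModule m.primeCompl (TensorProduct.mk A R (F ⊗[A] Q) 1) :=
    (isLocalizedModule_iff_isBaseChange m.primeCompl R _).mpr (TensorProduct.isBaseChange A (F ⊗[A] Q) R)
  obtain ⟨t, ht⟩ := (IsLocalizedModule.eq_zero_iff m.primeCompl _).mp h1
  exact t.2 (hle (by simpa [a, Submonoid.smul_def] using ht))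

/-- Projective to flat, injective modulo every maximal ideal: universally injective. -/
theorem univInj_of_injMod_projective {A P M : Type u} [CommRing A] [AddCommGroup P] [Module A P] [Module.Projective A P]
    [AddCommGroup M] [Module A M] [Module.Flat A M] (u : P →ₗ[A] M)
    (h : ∀ (m : Ideal A) [m.IsMaximal], Function.Injective (u.rTensor (A ⧸ m))) : FlatCA.UnivInj A u := by
  classical
  let F := P →₀ A
  let π : F →ₗ[A] P := Finsupp.linearCombination A id
  obtain ⟨s, hs⟩ := Module.projective_lifting_property π LinearMap.id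
    (Finsupp.linearCombination_surjective A Function.surjective_id)
  -- the free cover maps to `M × F`
  let w : F →ₗ[A] M × F := (u ∘ₗ π).prod (LinearMap.id - s ∘ₗ π)
  have hπs : ∀ x, π (s x) = x := fun x => LinearMap.congr_fun hs x
  have hw : ∀ (m : Ideal A) [m.IsMaximal], Function.Injective (w.rTensor (A ⧸ m)) := fun m _ => by
    refine (injective_iff_map_eq_zero _).mpr fun z hz => ?_
    have hz1 := congrArg ((LinearMap.fst A M F).rTensor (A ⧸ m)) hz
    have hz2 := congrArg ((LinearMap.snd A M F).rTensor (A ⧸ m)) hz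
    rw [map_zero, ← LinearMap.rTensor_comp_apply] at hz1 hz2
    have e1 : (LinearMap.fst A M F) ∘ₗ w = u ∘ₗ π := LinearMap.ext fun x => rfl
    have e2 : (LinearMap.snd A M F) ∘ₗ w = LinearMap.id - s ∘ₗ π := LinearMap.ext fun x => rfl
    rw [e1, LinearMap.rTensor_comp_apply] at hz1
    have hsub : ∀ z : F ⊗[A] (A ⧸ m), (LinearMap.id - s ∘ₗ π).rTensor (A ⧸ m) z = z - (s ∘ₗ π).rTensor (A ⧸ m) z := fun z => by
      induction z using TensorProduct.induction_on with
      | zero => simp
      | tmul f r =>
        show (f - s (π f)) ⊗ₜ[A] r = f ⊗ₜ[A] r - s (π f) ⊗ₜ[A] r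
        exact TensorProduct.sub_tmul _ _ _
      | add a b ha hb => simp only [map_add, ha, hb]; abel
    rw [e2, hsub, sub_eq_zero, LinearMap.rTensor_comp_apply] at hz2
    rw [hz2, h m (hz1.trans (map_zero _).symm), map_zero]
  haveI : Module.Flat A (M × F) := Groth.L07.FlatDescent.flat_of_shortExact (LinearMap.inl A M F) (LinearMap.snd A M F)
    LinearMap.inl_injective LinearMap.snd_surjective Function.Exact.inl_snd
  have hu := univInj_of_injMod_free w hw
  rw [univInj_iff_rTensor] at hu ⊢
  intro Q _ _
  refine (injective_iff_map_eq_zero _).mpr fun z hz => ?_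
  have e1 : w ∘ₗ s = (LinearMap.inl A M F) ∘ₗ u := LinearMap.ext fun x => Prod.ext
    (show u (π (s x)) = u x by rw [hπs]) (show s x - s (π (s x)) = 0 by rw [hπs, sub_self])
  have h0 : s.rTensor Q z = 0 := hu Q (by
    rw [map_zero, ← LinearMap.rTensor_comp_apply, e1, LinearMap.rTensor_comp_apply, hz, map_zero])
  have := congrArg (π.rTensor Q) h0
  rwa [← LinearMap.rTensor_comp_apply, hs, LinearMap.rTensor_id_apply, map_zero] at this

end Groth.L20.RG
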