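import Groth.Agent.L20.RG.Complete
import Groth.Agent.L20.RG.Induction
import Groth.Agent.L20.RG.Cover
import Groth.Agent.L20.RG.FlatFp
import Groth.Agent.L20.RG.Transfer
import Groth.Agent.L20.FlatLocusOpen
import Groth.Agent.L20.ModPullback
import Groth.Agent.S1254

/-!
# Projectivity after elementary etale localisation at a flat point
-/

set_option autoImplicit false
set_option linter.style.haveILetI false
set_option backward.isDefEq.respectTransparency.types false
universe u

open TensorProduct

noncomputable section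

namespace Groth.L20.RG

set_option maxHeartbeats 400000 in
/-- A flat module with dévissage data is projective over a neighbourhood. -/
theorem exists_projective_of_dev {R S : Type u} [CommRing R] [CommRing S] [Algebra R S] [Algebra.FinitePresentation R S]
    (N : Type u) [AddCommGroup N] [Module S N] [Module R N] [IsScalarTower R S N] [Module.FinitePresentation S N]
    [Module.Flat R N] {p : Ideal R} [p.IsPrime] {q : Ideal S} [q.IsPrime] [q.LiesOver p] (h : Dev R p S N q) :
    ∃ (R' : Type u) (_ : CommRing R') (_ : Algebra R R') (p' : Ideal R') (_ : p'.IsPrime),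
      FlatCA.IsEtaleNhd R R' p p' ∧ Module.Projective R' (R' ⊗[R] N) := by
  obtain ⟨f, hf, H⟩ := h.exists_complete
  obtain ⟨R₁, _, _, p₁, _, hn₁, hu₁⟩ : ∃ (R₁ : Type u) (_ : CommRing R₁) (_ : Algebra R R₁) (p₁ : Ideal R₁)
      (_ : p₁.IsPrime), FlatCA.IsEtaleNhd R R₁ p p₁ ∧ IsUnit (algebraMap R R₁ f) := by
    obtain ⟨p₁, _, hp₁⟩ := exists_prime_away p hf
    haveI := hp₁
    exact ⟨Localization.Away f, inferInstance, inferInstance, p₁, inferInstance, isEtaleNhd_away p hf p₁,
      IsLocalization.Away.algebraMap_isUnit f⟩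
  obtain ⟨S₁, _, _, _, _, _, _, hpush, q₁, _, hq₁p, hq₁q⟩ :=
    exists_pushout_point (R' := R) (S' := S) (A := R₁) p q p₁ hn₁.2
  haveI := hpush
  haveI := hq₁p
  haveI : Algebra.IsPushout R S R₁ S₁ := Algebra.IsPushout.symm hpush
  haveI : Algebra.FinitePresentation R₁ S₁ :=
    Algebra.FinitePresentation.equiv ((Algebra.IsPushout.equiv R R₁ S S₁).restrictScalars R₁)
  haveI : SMulCommClass S R₁ S₁ := ⟨fun s a c => by simp only [Algebra.smul_def]; ring⟩
  haveI : SMulCommClass S R S₁ := ⟨fun s a c => by simp only [Algebra.smul_def]; ring⟩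
  let N₁ := S₁ ⊗[S] N
  haveI : IsScalarTower R₁ S₁ N₁ := TensorProduct.isScalarTower_left
  haveI : Module.FinitePresentation S₁ N₁ := inferInstance
  have hbc : IsBaseChange R₁ ((TensorProduct.mk S S₁ N 1).restrictScalars R) :=
    Groth.L20.isBaseChange_restrictScalars (R := R) (S := S) (R' := R₁) (S' := S₁) (TensorProduct.isBaseChange S N S₁)
  haveI : Module.Flat R₁ N₁ := Module.Flat.isBaseChange R R₁ N N₁ hbc
  obtain ⟨D, -⟩ := H R₁ p₁ hn₁.2 hu₁ S₁ N₁ (TensorProduct.mk S S₁ N 1) (TensorProduct.isBaseChange S N S₁) q₁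
    hq₁q.liesOver.over.symm
  obtain ⟨f₁, hf₁, hproj, -⟩ := Groth.Agent.S1254.result (R := R₁) (S := S₁) N₁ p₁ D
  obtain ⟨R₂, _, _, p₂, _, hn₂, hproj₂⟩ : ∃ (R₂ : Type u) (_ : CommRing R₂) (_ : Algebra R₁ R₂) (p₂ : Ideal R₂)
      (_ : p₂.IsPrime), FlatCA.IsEtaleNhd R₁ R₂ p₁ p₂ ∧ Module.Projective R₂ (R₂ ⊗[R₁] N₁) := by
    obtain ⟨p₂, _, hp₂⟩ := exists_prime_away p₁ hf₁
    haveI := hp₂
    haveI := hproj
    exact ⟨Localization.Away f₁, inferInstance, inferInstance, p₂, inferInstance, isEtaleNhd_away p₁ hf₁ p₂,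
      Module.Projective.of_equiv (LocalizedModule.equivTensorProduct (Submonoid.powers f₁) N₁)⟩
  letI : Algebra R R₂ := ((algebraMap R₁ R₂).comp (algebraMap R R₁)).toAlgebra
  haveI : IsScalarTower R R₁ R₂ := IsScalarTower.of_algebraMap_eq' rfl
  refine ⟨R₂, inferInstance, inferInstance, p₂, inferInstance, isEtaleNhd_trans hn₁ hn₂, ?_⟩
  haveI := hproj₂
  exact Module.Projective.of_equiv
    ((AlgebraTensorModule.congr (LinearEquiv.refl R₂ R₂) hbc.equiv.symm).trans
      (AlgebraTensorModule.cancelBaseChange R R₁ R₂ R₂ N))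

set_option maxHeartbeats 400000 in
/-- **Projectivity on a neighbourhood** of a point where a finitely presented module is flat. -/
theorem exists_projective_local {R S : Type u} [CommRing R] [CommRing S] [Algebra R S] [Algebra.FinitePresentation R S]
    (N : Type u) [AddCommGroup N] [Module S N] [Module R N] [IsScalarTower R S N] [Module.FinitePresentation S N]
    (p : Ideal R) [p.IsPrime] (q : Ideal S) [q.IsPrime] [q.LiesOver p] (hflat : FlatCA.FlatAt R q N) :
    ∃ (R' S' : Type u) (_ : CommRing R') (_ : CommRing S') (_ : Algebra R R') (_ : Algebra S S') (_ : Algebra R' S')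
      (_ : Algebra R S') (_ : IsScalarTower R R' S') (_ : IsScalarTower R S S') (p' : Ideal R') (_ : p'.IsPrime),
      FlatCA.IsEtaleNhd R R' p p' ∧ Algebra.Etale S S' ∧
      (∃ (q' : Ideal S') (_ : q'.IsPrime), q'.LiesOver p' ∧ TrivRes S q q') ∧
      (∃ U : Set (PrimeSpectrum S), IsOpen U ∧ (⟨q, inferInstance⟩ : PrimeSpectrum S) ∈ U ∧
        ∀ q₁ ∈ U, q₁.asIdeal.LiesOver p →
          ∃ Qs : Ideal S', Qs.IsPrime ∧ Qs.comap (algebraMap S S') = q₁.asIdeal ∧ Qs.LiesOver p') ∧
      ∀ (N' : Type u) [AddCommGroup N'] [Module S' N'] [Module S N'] [IsScalarTower S S' N'] [Module R' N']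
        [IsScalarTower R' S' N'] (g : N →ₗ[S] N'), IsBaseChange S' g → Module.Projective R' N' := by
  classical
  haveI : Module.Flat R (LocalizedModule q.primeCompl N) := hflat
  obtain ⟨a, ha, hflata⟩ := Groth.L20.exists_flat_away q.primeCompl (R := R) (M := N)
  -- it suffices to find a neighbourhood of `S[1/a]`
  suffices key : ∃ (R' S' : Type u) (_ : CommRing R') (_ : CommRing S') (_ : Algebra R R') (_ : Algebra S S')
      (_ : Algebra R' S') (_ : Algebra R S') (_ : IsScalarTower R R' S') (_ : IsScalarTower R S S') (p' : Ideal R')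
      (_ : p'.IsPrime), FlatCA.IsEtaleNhd R R' p p' ∧ Algebra.Etale S S' ∧
      (∃ (q' : Ideal S') (_ : q'.IsPrime), q'.LiesOver p' ∧ TrivRes S q q') ∧
      Module.Projective R' (S' ⊗[S] N) by
    obtain ⟨R', S', _, _, _, _, _, _, _, _, p', _, hp, hS, ⟨q', _, hq'p, hq'⟩, hproj⟩ := key
    haveI := hp.1
    haveI := hp.2.1
    haveI := hS
    haveI := hq'p
    obtain ⟨g, hg, hiso⟩ := exists_isolating (A := R) p p'
    refine ⟨R', S', inferInstance, inferInstance, inferInstance, inferInstance, inferInstance, inferInstance,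
      inferInstance, inferInstance, p', inferInstance, hp, hS, ⟨q', inferInstance, hq'p, hq'⟩,
      ⟨PrimeSpectrum.comap (algebraMap S S') '' (PrimeSpectrum.basicOpen (algebraMap R' S' g) : Set (PrimeSpectrum S')),
        ?_, ?_, ?_⟩, ?_⟩
    · haveI : Module.Flat S S' := inferInstance
      exact PrimeSpectrum.isOpenMap_comap_of_hasGoingDown_of_finitePresentation (R := S) (S := S') _
        (PrimeSpectrum.basicOpen _).isOpen
    · exact ⟨⟨q', inferInstance⟩, fun h => hg ((Ideal.mem_of_liesOver q' p' g).mpr h),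
        PrimeSpectrum.ext hq'.liesOver.over.symm⟩
    · rintro _ ⟨Qs, hQs, rfl⟩ hover
      refine ⟨Qs.asIdeal, Qs.isPrime, rfl, ⟨(hiso (Qs.asIdeal.comap (algebraMap R' S')) inferInstance ⟨?_⟩ hQs).symm⟩⟩
      rw [Ideal.under_def, Ideal.comap_comap, ← IsScalarTower.algebraMap_eq, IsScalarTower.algebraMap_eq R S S',
        ← Ideal.comap_comap]
      exact hover.over
    · intro N' _ _ _ _ _ _ gN hgN
      haveI := hproj
      exact Module.Projective.of_equiv (hgN.equiv.restrictScalars R')
  -- the data over `S[1/a]`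
  obtain ⟨qa, _, hqa⟩ := exists_prime_away q (ha : a ∉ q)
  haveI := hqa
  haveI : qa.LiesOver p := Ideal.LiesOver.trans qa q p
  let Sa := Localization.Away a
  have hnS : FlatCA.IsEtaleNhd S Sa q qa := isEtaleNhd_away q (ha : a ∉ q) qa
  let Na := Sa ⊗[S] N
  haveI : IsScalarTower R Sa Na := inferInstance
  let eL : LocalizedModule (Submonoid.powers a) N ≃ₗ[S] Na :=
    (LocalizedModule.equivTensorProduct (Submonoid.powers a) N).restrictScalars S
  haveI : Module.Flat R Na := by
    haveI := hflata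
    exact Module.Flat.of_linearEquiv (eL.restrictScalars R).symm
  by_cases hsupp : (⟨qa, inferInstance⟩ : PrimeSpectrum Sa) ∈ Module.support Sa Na
  · obtain ⟨R₁, S₁, _, _, _, _, _, _, _, _, p₁, q₁, _, _, hp₁, hq₁, hqp₁, H⟩ := exists_hasDev Na p qa hsupp
    haveI := hp₁.1
    haveI := hq₁.1
    haveI := hqp₁
    haveI : Algebra.FinitePresentation R Sa := Algebra.FinitePresentation.trans R S Sa
    haveI : Algebra.FinitePresentation R S₁ := Algebra.FinitePresentation.trans R Sa S₁
    haveI : Algebra.FinitePresentation R₁ S₁ := Algebra.FinitePresentation.of_restrict_scalars_finitePresentation R R₁ S₁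
    let N₁ := S₁ ⊗[Sa] Na
    haveI : IsScalarTower R₁ S₁ N₁ := inferInstance
    haveI : IsScalarTower R S₁ N₁ := inferInstance
    haveI : IsScalarTower R R₁ N₁ := IsScalarTower.of_algebraMap_smul fun r m => by
      rw [← algebraMap_smul S₁ (algebraMap R R₁ r) m, ← IsScalarTower.algebraMap_apply, algebraMap_smul]
    haveI : Module.Flat Sa S₁ := Algebra.Smooth.flat Sa S₁
    haveI : Module.Flat R N₁ := Groth.L20.ModStalk.flat_tensorProduct
    haveI : Module.Flat R₁ N₁ := flat_iff_of_etale.mp (inferInstance : Module.Flat R N₁)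
    obtain ⟨R₂, _, _, p₂, _, hp₂, hproj⟩ :=
      exists_projective_of_dev N₁ (H N₁ (TensorProduct.mk Sa S₁ Na 1) (TensorProduct.isBaseChange Sa Na S₁))
    haveI := hproj
    letI : Algebra R R₂ := ((algebraMap R₁ R₂).comp (algebraMap R R₁)).toAlgebra
    haveI : IsScalarTower R R₁ R₂ := IsScalarTower.of_algebraMap_eq' rfl
    obtain ⟨q₂, _, hq₂p, hq₂n, -⟩ := exists_nbhd_pushout p₁ q₁ p₂ hp₂
    haveI := hq₂n.1
    letI : Algebra S₁ (R₂ ⊗[R₁] S₁) := Algebra.TensorProduct.rightAlgebra
    let S₂ := R₂ ⊗[R₁] S₁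
    letI : Algebra Sa S₂ := ((algebraMap S₁ S₂).comp (algebraMap Sa S₁)).toAlgebra
    haveI : IsScalarTower Sa S₁ S₂ := IsScalarTower.of_algebraMap_eq' rfl
    letI : Algebra S S₂ := ((algebraMap Sa S₂).comp (algebraMap S Sa)).toAlgebra
    haveI : IsScalarTower S Sa S₂ := IsScalarTower.of_algebraMap_eq' rfl
    haveI : IsScalarTower R R₂ S₂ := inferInstance
    haveI : IsScalarTower R S S₂ := IsScalarTower.of_algebraMap_eq fun r => by
      rw [IsScalarTower.algebraMap_apply S Sa S₂, IsScalarTower.algebraMap_apply Sa S₁ S₂,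
        ← IsScalarTower.algebraMap_apply R S Sa, ← IsScalarTower.algebraMap_apply R Sa S₁,
        IsScalarTower.algebraMap_apply R R₁ S₁, ← IsScalarTower.algebraMap_apply R₁ S₁ S₂,
        IsScalarTower.algebraMap_apply R R₂ S₂, IsScalarTower.algebraMap_apply R R₁ R₂,
        ← IsScalarTower.algebraMap_apply R₁ R₂ S₂]
    have hnS₂ : FlatCA.IsEtaleNhd S S₂ q q₂ := isEtaleNhd_trans hnS (isEtaleNhd_trans hq₁ hq₂n)
    refine ⟨R₂, S₂, inferInstance, inferInstance, inferInstance, inferInstance, inferInstance, inferInstance,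
      inferInstance, inferInstance, p₂, inferInstance, isEtaleNhd_trans hp₁ hp₂, hnS₂.1,
      ⟨q₂, inferInstance, hq₂p, hnS₂.2⟩, ?_⟩
    letI : Module S₁ (S₂ ⊗[S] N) := Module.compHom _ (algebraMap S₁ S₂)
    haveI : IsScalarTower S₁ S₂ (S₂ ⊗[S] N) := IsScalarTower.of_algebraMap_smul fun _ _ => rfl
    let e1 : S₂ ⊗[S₁] N₁ ≃ₗ[S₂] S₂ ⊗[S] N :=
      (AlgebraTensorModule.cancelBaseChange Sa S₁ S₂ S₂ Na).trans
        (AlgebraTensorModule.cancelBaseChange S Sa S₂ S₂ N)
    have hbc2 : IsBaseChange R₂ ((TensorProduct.mk S₁ S₂ N₁ 1).restrictScalars R₁) :=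
      haveI : Algebra.IsPushout R₁ S₁ R₂ S₂ := Algebra.IsPushout.symm inferInstance
      Groth.L20.isBaseChange_restrictScalars (R := R₁) (S := S₁) (R' := R₂) (S' := S₂)
        (TensorProduct.isBaseChange S₁ N₁ S₂)
    exact Module.Projective.of_equiv (hbc2.equiv.trans (e1.restrictScalars R₂))
  · haveI := Module.notMem_support_iff.mp hsupp
    obtain ⟨v, hv, hsub⟩ := LocalizedModule.exists_subsingleton_away (M := Na) qa
    haveI := hsub
    haveI : Subsingleton (Localization.Away v ⊗[Sa] Na) :=
      (LocalizedModule.equivTensorProduct (Submonoid.powers v) Na).symm.toEquiv.subsingleton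
    obtain ⟨qv, _, hqv⟩ := exists_prime_away qa hv
    haveI := hqv
    haveI : IsScalarTower S Sa (Localization.Away v) := inferInstance
    have hnSv : FlatCA.IsEtaleNhd S (Localization.Away v) q qv := isEtaleNhd_trans hnS (isEtaleNhd_away qa hv qv)
    haveI : IsScalarTower R S (Localization.Away v) := inferInstance
    refine ⟨R, Localization.Away v, inferInstance, inferInstance, inferInstance, inferInstance, inferInstance,
      inferInstance, inferInstance, inferInstance, p, inferInstance, ⟨inferInstance, trivRes_id p⟩, hnSv.1,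
      ⟨qv, inferInstance, Ideal.LiesOver.trans qv qa p, hnSv.2⟩, ?_⟩
    haveI : Subsingleton (Localization.Away v ⊗[S] N) :=
      (AlgebraTensorModule.cancelBaseChange S Sa (Localization.Away v) (Localization.Away v) N).symm.toEquiv.subsingleton
    exact Module.Projective.of_free

/-- Projectivity of a module with restricted scalars. -/
theorem projective_restrictScalars {R S : Type u} [CommRing R] [CommRing S] [Algebra R S] {M : Type u} [AddCommGroup M]
    [Module S M] [Module R M] [IsScalarTower R S M] [Module.Projective R M] : Module.Projective R (RestrictScalars R S M) :=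
  Module.Projective.of_equiv
    ({ (RestrictScalars.addEquiv R S M).symm with
        map_smul' := fun r x => by
          show (RestrictScalars.addEquiv R S _).symm (r • x) = r • (RestrictScalars.addEquiv R S _).symm x
          rw [← RestrictScalars.addEquiv_symm_map_algebraMap_smul, algebraMap_smul] } : M ≃ₗ[R] RestrictScalars R S M)

end Groth.L20.RG
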