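import Groth.Agent.L20.RG.FreeOpen
import Groth.Agent.L20.RG.InjModFlat

/-!
# Projective modules on an affine open after an etale neighbourhood of the base
-/

set_option autoImplicit false
set_option linter.style.haveILetI false
set_option backward.isDefEq.respectTransparency.types false
universe u

open TensorProduct IsLocalRing

noncomputable section

namespace Groth.L20.RG

/-- A base change factors through an intermediate base change. -/
theorem exists_isBaseChange_factor {S B C N NB NC : Type u} [CommRing S] [CommRing B] [CommRing C] [Algebra S B] [Algebra S C]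
    [Algebra B C] [IsScalarTower S B C] [AddCommGroup N] [Module S N] [AddCommGroup NB] [Module B NB] [Module S NB]
    [IsScalarTower S B NB] [AddCommGroup NC] [Module C NC] [Module B NC] [IsScalarTower B C NC] [Module S NC]
    [IsScalarTower S C NC] [IsScalarTower S B NC] (fB : N →ₗ[S] NB) (hB : IsBaseChange B fB) (fC : N →ₗ[S] NC)
    (hC : IsBaseChange C fC) : ∃ h : NB →ₗ[B] NC, IsBaseChange C h :=
  ⟨hB.lift fC, IsBaseChange.of_comp hB (by rw [hB.lift_comp]; exact hC)⟩

set_option maxHeartbeats 4000000 in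
/-- **A projective module on an affine open.** -/
theorem exists_projective_open {R S : Type u} [CommRing R] [CommRing S] [Algebra R S] [Algebra.FinitePresentation R S]
    (N : Type u) [AddCommGroup N] [Module S N] [Module R N] [IsScalarTower R S N] [Module.FinitePresentation S N]
    (p : Ideal R) [p.IsPrime] (q : Ideal S) [q.IsPrime] [q.LiesOver p] (hflat : FlatCA.FlatAt R q N) :
    ∃ (R'' : Type u) (_ : CommRing R'') (_ : Algebra R R'') (p'' : Ideal R'') (_ : p''.IsPrime),
      FlatCA.IsEtaleNhd R R'' p p'' ∧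
      ∃ a : S, ∀ (S' : Type u) [CommRing S'] [Algebra R S'] [Algebra S S'] [Algebra R'' S'] [IsScalarTower R S S']
        [IsScalarTower R R'' S'] [Algebra.IsPushout R S R'' S'],
        ∃ (b : Localization.Away (algebraMap S S' a)) (x : Ideal (Localization.Away b)), x.IsPrime ∧
          (x.comap ((algebraMap (Localization.Away (algebraMap S S' a)) (Localization.Away b)).comp
            (algebraMap S' (Localization.Away (algebraMap S S' a))))).comap (algebraMap S S') = q ∧
          (x.comap ((algebraMap (Localization.Away (algebraMap S S' a)) (Localization.Away b)).comp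
            (algebraMap S' (Localization.Away (algebraMap S S' a))))).comap (algebraMap R'' S') = p'' ∧
          ∀ (NC : Type u) [AddCommGroup NC] [Module (Localization.Away b) NC] [Module S NC] [Module R'' NC]
            [IsScalarTower S (Localization.Away b) NC] [IsScalarTower R'' (Localization.Away b) NC]
            (fC : N →ₗ[S] NC), IsBaseChange (Localization.Away b) fC → Module.Projective R'' NC := by
  classical
  haveI : Module.Flat R (LocalizedModule q.primeCompl N) := hflat
  obtain ⟨a, ha, hflata⟩ := Groth.L20.exists_flat_away q.primeCompl (R := R) (M := N)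
  obtain ⟨qa, _, hqa⟩ := exists_prime_away q (ha : a ∉ q)
  haveI := hqa
  haveI : qa.LiesOver p := Ideal.LiesOver.trans qa q p
  let Sa := Localization.Away a
  haveI : Algebra.FinitePresentation S Sa := IsLocalization.Away.finitePresentation (S := Sa) a
  haveI : Algebra.FinitePresentation R Sa := Algebra.FinitePresentation.trans R S Sa
  obtain ⟨Na, _, _, _, _, _, _, fa, hfa, _⟩ : ∃ (Na : Type u) (_ : AddCommGroup Na) (_ : Module Sa Na) (_ : Module S Na)
      (_ : IsScalarTower S Sa Na) (_ : Module R Na) (_ : IsScalarTower R Sa Na) (fa : N →ₗ[S] Na),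
      IsBaseChange Sa fa ∧ Module.Flat R Na := by
    haveI : Module.Flat R (Sa ⊗[S] N) := by
      haveI := hflata
      exact Module.Flat.of_linearEquiv
        (((LocalizedModule.equivTensorProduct (Submonoid.powers a) N).restrictScalars S).restrictScalars R).symm
    exact ⟨Sa ⊗[S] N, inferInstance, inferInstance, inferInstance, inferInstance, inferInstance, inferInstance,
      TensorProduct.mk S Sa N 1, TensorProduct.isBaseChange S N Sa, inferInstance⟩
  haveI : Module.FinitePresentation Sa Na := FinitePresentation.of_isBaseChange fa hfa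
  obtain ⟨R₁, _, _, p₁, _, hn₁, H⟩ :=
    exists_free_basicOpen Na p qa (Groth.L20.FibreCrit.flat_localizedModule_of_flat qa.primeCompl)
  haveI := hn₁.1
  haveI := hn₁.2.1
  let A := Localization.AtPrime p₁
  -- the base change to the neighbourhood
  obtain ⟨B₁, _, _, _, _, _, _, hpush₁⟩ : ∃ (B₁ : Type u) (_ : CommRing B₁) (_ : Algebra R₁ B₁) (_ : Algebra Sa B₁)
      (_ : Algebra R B₁) (_ : IsScalarTower R R₁ B₁) (_ : IsScalarTower R Sa B₁), Algebra.IsPushout R Sa R₁ B₁ := by
    letI : Algebra Sa (R₁ ⊗[R] Sa) := Algebra.TensorProduct.rightAlgebra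
    exact ⟨R₁ ⊗[R] Sa, inferInstance, inferInstance, inferInstance, inferInstance, inferInstance, inferInstance,
      Algebra.IsPushout.symm inferInstance⟩
  haveI := hpush₁
  haveI hpush₁' : Algebra.IsPushout R R₁ Sa B₁ := Algebra.IsPushout.symm hpush₁
  haveI : Algebra.FinitePresentation R₁ B₁ := Algebra.FinitePresentation.equiv (Algebra.IsPushout.equiv R R₁ Sa B₁)
  obtain ⟨SA, _, _, _, _, _, _, hpushA⟩ : ∃ (SA : Type u) (_ : CommRing SA) (_ : Algebra A SA) (_ : Algebra B₁ SA)
      (_ : Algebra R₁ SA) (_ : IsScalarTower R₁ A SA) (_ : IsScalarTower R₁ B₁ SA), Algebra.IsPushout R₁ B₁ A SA := by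
    letI : Algebra B₁ (A ⊗[R₁] B₁) := Algebra.TensorProduct.rightAlgebra
    exact ⟨A ⊗[R₁] B₁, inferInstance, inferInstance, inferInstance, inferInstance, inferInstance, inferInstance,
      Algebra.IsPushout.symm inferInstance⟩
  haveI := hpushA
  haveI hlocA : IsLocalization (Algebra.algebraMapSubmonoid B₁ p₁.primeCompl) SA :=
    (Algebra.isLocalization_iff_isPushout p₁.primeCompl A).mpr hpushA
  letI : Algebra Sa SA := ((algebraMap B₁ SA).comp (algebraMap Sa B₁)).toAlgebra
  haveI : IsScalarTower Sa B₁ SA := IsScalarTower.of_algebraMap_eq' rfl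
  letI : Algebra R SA := ((algebraMap A SA).comp (algebraMap R A)).toAlgebra
  haveI : IsScalarTower R A SA := IsScalarTower.of_algebraMap_eq' rfl
  haveI : IsScalarTower R R₁ SA := IsScalarTower.of_algebraMap_eq fun r => by
    rw [IsScalarTower.algebraMap_apply R A SA, IsScalarTower.algebraMap_apply R R₁ A,
      ← IsScalarTower.algebraMap_apply R₁ A SA]
  haveI : IsScalarTower R B₁ SA := IsScalarTower.of_algebraMap_eq fun r => by
    rw [IsScalarTower.algebraMap_apply R R₁ SA, IsScalarTower.algebraMap_apply R₁ B₁ SA,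
      ← IsScalarTower.algebraMap_apply R R₁ B₁]
  haveI : IsScalarTower R Sa SA := IsScalarTower.of_algebraMap_eq fun r => by
    rw [IsScalarTower.algebraMap_apply R B₁ SA, IsScalarTower.algebraMap_apply R Sa B₁,
      ← IsScalarTower.algebraMap_apply Sa B₁ SA]
  haveI : Algebra.IsPushout R A Sa SA := by
    haveI : Algebra.IsPushout R₁ A B₁ SA := Algebra.IsPushout.symm hpushA
    exact (Algebra.IsPushout.comp_iff (R := R) (S := R₁) (T := A) (R' := Sa) (S' := B₁) (T' := SA)).mpr inferInstance
  haveI : Algebra.IsPushout R Sa A SA := Algebra.IsPushout.symm inferInstance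
  haveI : Algebra.FiniteType A SA := Algebra.FiniteType.equiv inferInstance (Algebra.IsPushout.equiv R A Sa SA)
  obtain ⟨N₁, _, _, _, _, _, _, f₁, hf₁⟩ : ∃ (N₁ : Type u) (_ : AddCommGroup N₁) (_ : Module B₁ N₁) (_ : Module Sa N₁)
      (_ : IsScalarTower Sa B₁ N₁) (_ : Module R₁ N₁) (_ : IsScalarTower R₁ B₁ N₁) (f₁ : Na →ₗ[Sa] N₁),
      IsBaseChange B₁ f₁ := by
    haveI : SMulCommClass Sa R₁ B₁ := ⟨fun s a c => by simp only [Algebra.smul_def]; ring⟩
    haveI : IsScalarTower R₁ B₁ (B₁ ⊗[Sa] Na) := TensorProduct.isScalarTower_left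
    exact ⟨B₁ ⊗[Sa] Na, inferInstance, inferInstance, inferInstance, inferInstance, inferInstance, inferInstance,
      TensorProduct.mk Sa B₁ Na 1, TensorProduct.isBaseChange Sa Na B₁⟩
  haveI : Module.FinitePresentation B₁ N₁ := FinitePresentation.of_isBaseChange f₁ hf₁
  haveI : Module.Flat R₁ N₁ := by
    letI : Module R N₁ := Module.compHom N₁ (algebraMap R R₁)
    haveI : IsScalarTower R R₁ N₁ := IsScalarTower.of_algebraMap_smul fun _ _ => rfl
    haveI : IsScalarTower R Sa N₁ := IsScalarTower.of_algebraMap_smul fun r m => by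
      show algebraMap R Sa r • m = algebraMap R R₁ r • m
      rw [← algebraMap_smul B₁ (algebraMap R Sa r) m, ← algebraMap_smul B₁ (algebraMap R R₁ r) m,
        ← IsScalarTower.algebraMap_apply, ← IsScalarTower.algebraMap_apply]
    exact Module.Flat.isBaseChange R R₁ Na N₁
      (Groth.L20.isBaseChange_restrictScalars (R := R) (S := Sa) (R' := R₁) (S' := B₁) hf₁)
  obtain ⟨NA, _, _, _, _, _, _, fA, hfA⟩ : ∃ (NA : Type u) (_ : AddCommGroup NA) (_ : Module SA NA) (_ : Module B₁ NA)
      (_ : IsScalarTower B₁ SA NA) (_ : Module A NA) (_ : IsScalarTower A SA NA) (fA : N₁ →ₗ[B₁] NA),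
      IsBaseChange SA fA := by
    haveI : SMulCommClass B₁ A SA := ⟨fun s a c => by simp only [Algebra.smul_def]; ring⟩
    haveI : IsScalarTower A SA (SA ⊗[B₁] N₁) := TensorProduct.isScalarTower_left
    exact ⟨SA ⊗[B₁] N₁, inferInstance, inferInstance, inferInstance, inferInstance, inferInstance, inferInstance,
      TensorProduct.mk B₁ SA N₁ 1, TensorProduct.isBaseChange B₁ N₁ SA⟩
  letI : Module Sa NA := Module.compHom NA (algebraMap Sa SA)
  haveI : IsScalarTower Sa SA NA := IsScalarTower.of_algebraMap_smul fun _ _ => rfl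
  haveI : IsScalarTower Sa B₁ NA := IsScalarTower.of_algebraMap_smul fun b m => by
    rw [← algebraMap_smul SA (algebraMap Sa B₁ b) m, ← IsScalarTower.algebraMap_apply, algebraMap_smul]
  obtain ⟨g, Q, hQ, hgQ, hQqa, hQm, hfree⟩ :=
    H A inferInstance (trivRes_atPrime p₁) SA NA ((fA.restrictScalars Sa) ∘ₗ f₁) (IsBaseChange.comp hf₁ hfA)
  haveI := hfree
  haveI := hQ
  haveI := hQqa
  haveI := hQm
  obtain ⟨⟨b₁, c, hc⟩, hgc⟩ := IsLocalization.surj (Algebra.algebraMapSubmonoid B₁ p₁.primeCompl) g
  simp only at hgc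
  have hcu : IsUnit (algebraMap B₁ SA c) := IsLocalization.map_units SA (⟨c, hc⟩ : Algebra.algebraMapSubmonoid B₁ p₁.primeCompl)
  -- the open of the neighbourhood
  let B₂ := Localization.Away b₁
  let T₂ := Localization.Away g
  haveI : IsLocalization.Away (algebraMap B₁ SA b₁) T₂ :=
    IsLocalization.Away.of_associated (r := g) ⟨hcu.unit, hgc⟩
  letI : Algebra B₂ T₂ := (IsLocalization.Away.lift b₁ (S := B₂) (show IsUnit ((algebraMap B₁ T₂) b₁) from by
    rw [IsScalarTower.algebraMap_apply B₁ SA T₂]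
    exact IsLocalization.Away.algebraMap_isUnit _)).toAlgebra
  haveI : IsScalarTower B₁ B₂ T₂ := IsScalarTower.of_algebraMap_eq fun x => (IsLocalization.Away.lift_eq b₁ _ x).symm
  haveI : IsLocalization (Algebra.algebraMapSubmonoid SA (Submonoid.powers b₁)) T₂ := by
    rw [show Algebra.algebraMapSubmonoid SA (Submonoid.powers b₁) = Submonoid.powers (algebraMap B₁ SA b₁) from
      Submonoid.map_powers _ b₁]
    assumption
  haveI : Algebra.IsPushout B₁ SA B₂ T₂ := Algebra.isPushout_of_isLocalization (Submonoid.powers b₁) B₂ SA T₂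
  haveI : Algebra.IsPushout B₁ B₂ SA T₂ := Algebra.IsPushout.symm inferInstance
  haveI : Algebra.FinitePresentation B₁ B₂ := IsLocalization.Away.finitePresentation (S := B₂) b₁
  haveI : Algebra.FinitePresentation R₁ B₂ := Algebra.FinitePresentation.trans R₁ B₁ B₂
  obtain ⟨N₂, _, _, _, _, _, _, f₂, hf₂, _⟩ : ∃ (N₂ : Type u) (_ : AddCommGroup N₂) (_ : Module B₂ N₂) (_ : Module B₁ N₂)
      (_ : IsScalarTower B₁ B₂ N₂) (_ : Module R₁ N₂) (_ : IsScalarTower R₁ B₂ N₂) (f₂ : N₁ →ₗ[B₁] N₂),
      IsBaseChange B₂ f₂ ∧ Module.Flat R₁ N₂ := by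
    haveI : SMulCommClass B₁ R₁ B₂ := ⟨fun s a c => by simp only [Algebra.smul_def]; ring⟩
    haveI : IsScalarTower R₁ B₂ (B₂ ⊗[B₁] N₁) := TensorProduct.isScalarTower_left
    haveI : Module.Flat B₁ B₂ := IsLocalization.flat B₂ (Submonoid.powers b₁)
    exact ⟨B₂ ⊗[B₁] N₁, inferInstance, inferInstance, inferInstance, inferInstance, inferInstance, inferInstance,
      TensorProduct.mk B₁ B₂ N₁ 1, TensorProduct.isBaseChange B₁ N₁ B₂, flat_tensor_of_flat⟩
  haveI : Module.FinitePresentation B₂ N₂ := FinitePresentation.of_isBaseChange f₂ hf₂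
  let Q₁ := Q.comap (algebraMap B₁ SA)
  have hbQ : b₁ ∉ Q₁ := fun h => by
    have h' : g * algebraMap B₁ SA c ∈ Q := hgc ▸ h
    exact hgQ ((Ideal.mul_unit_mem_iff_mem _ hcu).mp h')
  -- purity of the module on that open
  have hpure : FlatCA.IsPureAlong R₁ B₂ N₂ p₁ := by
    obtain ⟨M, _, _, _, _, _, _, gM, hgM, _⟩ : ∃ (M : Type u) (_ : AddCommGroup M) (_ : Module T₂ M) (_ : Module SA M)
        (_ : IsScalarTower SA T₂ M) (_ : Module A M) (_ : IsScalarTower A T₂ M) (gM : NA →ₗ[SA] M),
        IsBaseChange T₂ gM ∧ Module.Free A M := by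
      haveI : SMulCommClass SA A T₂ := ⟨fun s a c => by simp only [Algebra.smul_def]; ring⟩
      haveI : IsScalarTower A T₂ (T₂ ⊗[SA] NA) := TensorProduct.isScalarTower_left
      haveI : IsScalarTower A SA (T₂ ⊗[SA] NA) := TensorProduct.isScalarTower_left
      haveI : Module.Free A (T₂ ⊗[SA] NA) := Module.Free.of_equiv
        ((LocalizedModule.equivTensorProduct (Submonoid.powers g) NA).restrictScalars A)
      exact ⟨T₂ ⊗[SA] NA, inferInstance, inferInstance, inferInstance, inferInstance, inferInstance, inferInstance,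
        TensorProduct.mk SA T₂ NA 1, TensorProduct.isBaseChange SA NA T₂, inferInstance⟩
    letI : Module B₁ M := Module.compHom M (algebraMap B₁ T₂)
    haveI : IsScalarTower B₁ T₂ M := IsScalarTower.of_algebraMap_smul fun _ _ => rfl
    haveI : IsScalarTower B₁ SA M := IsScalarTower.of_algebraMap_smul fun b m => by
      rw [← algebraMap_smul T₂ (algebraMap B₁ SA b) m, ← IsScalarTower.algebraMap_apply, algebraMap_smul]
    letI : Module B₂ M := Module.compHom M (algebraMap B₂ T₂)
    haveI : IsScalarTower B₂ T₂ M := IsScalarTower.of_algebraMap_smul fun _ _ => rfl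
    haveI : IsScalarTower B₁ B₂ M := IsScalarTower.of_algebraMap_smul fun b m => by
      rw [← algebraMap_smul T₂ (algebraMap B₁ B₂ b) m, ← IsScalarTower.algebraMap_apply, algebraMap_smul]
    obtain ⟨h₂, hh₂⟩ := exists_isBaseChange_factor f₂ hf₂ ((gM.restrictScalars B₁) ∘ₗ fA) (IsBaseChange.comp hfA hgM)
    haveI : IsScalarTower R₁ A T₂ := IsScalarTower.of_algebraMap_eq fun r => by
      rw [IsScalarTower.algebraMap_apply R₁ SA T₂, IsScalarTower.algebraMap_apply A SA T₂,
        ← IsScalarTower.algebraMap_apply R₁ A SA]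
    haveI : IsScalarTower R₁ B₁ T₂ := IsScalarTower.of_algebraMap_eq fun r => by
      rw [IsScalarTower.algebraMap_apply R₁ SA T₂, IsScalarTower.algebraMap_apply R₁ B₁ SA,
        ← IsScalarTower.algebraMap_apply B₁ SA T₂]
    haveI : IsScalarTower R₁ B₂ T₂ := IsScalarTower.of_algebraMap_eq fun r => by
      rw [IsScalarTower.algebraMap_apply R₁ B₁ T₂, IsScalarTower.algebraMap_apply B₁ B₂ T₂,
        ← IsScalarTower.algebraMap_apply R₁ B₁ B₂]
    haveI : Algebra.IsPushout R₁ B₂ A T₂ :=
      (Algebra.IsPushout.comp_iff (R := R₁) (S := B₁) (T := B₂) (R' := A) (S' := SA) (T' := T₂)).mpr inferInstance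
    haveI : Algebra.FiniteType A T₂ := Algebra.FiniteType.trans (S := SA) inferInstance
      (haveI : Algebra.FinitePresentation SA T₂ := IsLocalization.Away.finitePresentation (S := T₂) g
       inferInstance)
    haveI : Module.Flat R₁ (Localization.AtPrime (maximalIdeal A)) := by
      haveI : Module.Flat R₁ A := IsLocalization.flat A p₁.primeCompl
      haveI : Module.Flat A (Localization.AtPrime (maximalIdeal A)) := IsLocalization.flat _ (maximalIdeal A).primeCompl
      exact Module.Flat.trans R₁ A _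
    haveI : (maximalIdeal A).LiesOver p₁ := ⟨(IsLocalization.AtPrime.under_maximalIdeal A p₁).symm⟩
    exact isPureAlong_descent (A := R₁) (B := B₂) (A' := A) (B' := T₂) N₂ M h₂ p₁ (maximalIdeal A) hh₂
      (fun A' B' N' _ _ _ _ _ _ _ _ _ _ _ _ _ _ f t' t _ _ P _ _ =>
        isUnivPure_of_projective M (maximalIdeal A) A' B' N' f t' t P)
  obtain ⟨R'', _, _, p'', _, hn₂, hproj⟩ := exists_projective_etaleNhd N₂ p₁ hpure
  letI : Algebra R R'' := ((algebraMap R₁ R'').comp (algebraMap R R₁)).toAlgebra
  haveI : IsScalarTower R R₁ R'' := IsScalarTower.of_algebraMap_eq' rfl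
  haveI := hn₂.1
  refine ⟨R'', inferInstance, inferInstance, p'', inferInstance,
    ⟨Algebra.Etale.comp R R₁ R'', (show TrivRes R p p₁ from hn₁.2).trans (show TrivRes R₁ p₁ p'' from hn₂.2)⟩, a, ?_⟩
  intro S' _ _ _ _ _ _ _
  -- the localisation of the given base change
  let Sa' := Localization.Away (algebraMap S S' a)
  haveI : IsLocalization (Algebra.algebraMapSubmonoid S' (Submonoid.powers a)) Sa' := by
    rw [show Algebra.algebraMapSubmonoid S' (Submonoid.powers a) = Submonoid.powers (algebraMap S S' a) from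
      Submonoid.map_powers _ a]
    infer_instance
  letI : Algebra Sa Sa' := (IsLocalization.Away.lift a (S := Sa) (show IsUnit ((algebraMap S Sa') a) from by
    rw [IsScalarTower.algebraMap_apply S S' Sa']
    exact IsLocalization.Away.algebraMap_isUnit _)).toAlgebra
  haveI : IsScalarTower S Sa Sa' := IsScalarTower.of_algebraMap_eq fun x => (IsLocalization.Away.lift_eq a _ x).symm
  haveI : Algebra.IsPushout S Sa S' Sa' := Algebra.IsPushout.symm (Algebra.isPushout_of_isLocalization (Submonoid.powers a) Sa S' Sa')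
  haveI : IsScalarTower R S Sa' := IsScalarTower.of_algebraMap_eq fun r => by
    rw [IsScalarTower.algebraMap_apply R S' Sa', IsScalarTower.algebraMap_apply S S' Sa',
      ← IsScalarTower.algebraMap_apply R S S']
  haveI : IsScalarTower R R'' Sa' := IsScalarTower.of_algebraMap_eq fun r => by
    rw [IsScalarTower.algebraMap_apply R'' S' Sa', ← IsScalarTower.algebraMap_apply R R'' S',
      ← IsScalarTower.algebraMap_apply R S' Sa']
  haveI : IsScalarTower R Sa Sa' := IsScalarTower.of_algebraMap_eq fun r => by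
    rw [IsScalarTower.algebraMap_apply R S Sa, ← IsScalarTower.algebraMap_apply S Sa Sa',
      ← IsScalarTower.algebraMap_apply R S Sa']
  haveI hpa : Algebra.IsPushout R Sa R'' Sa' :=
    (Algebra.IsPushout.comp_iff (R := R) (S := S) (T := Sa) (R' := R'') (S' := S') (T' := Sa')).mpr inferInstance
  letI : Algebra R₁ Sa' := ((algebraMap R'' Sa').comp (algebraMap R₁ R'')).toAlgebra
  haveI : IsScalarTower R₁ R'' Sa' := IsScalarTower.of_algebraMap_eq' rfl
  haveI : IsScalarTower R R₁ Sa' := IsScalarTower.of_algebraMap_eq fun r => by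
    rw [IsScalarTower.algebraMap_apply R₁ R'' Sa', ← IsScalarTower.algebraMap_apply R R₁ R'',
      ← IsScalarTower.algebraMap_apply R R'' Sa']
  let φ : B₁ →ₐ[R] Sa' := Algebra.pushoutDesc B₁ (IsScalarTower.toAlgHom R Sa Sa') (IsScalarTower.toAlgHom R R₁ Sa')
    fun _ _ => Commute.all _ _
  letI : Algebra B₁ Sa' := φ.toRingHom.toAlgebra
  haveI : IsScalarTower Sa B₁ Sa' := IsScalarTower.of_algebraMap_eq fun x =>
    (Algebra.pushoutDesc_left B₁ (IsScalarTower.toAlgHom R Sa Sa') (IsScalarTower.toAlgHom R R₁ Sa') (fun _ _ => Commute.all _ _) x).symm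
  haveI : IsScalarTower R₁ B₁ Sa' := IsScalarTower.of_algebraMap_eq fun x =>
    (Algebra.pushoutDesc_right B₁ (IsScalarTower.toAlgHom R Sa Sa') (IsScalarTower.toAlgHom R R₁ Sa') (fun _ _ => Commute.all _ _) x).symm
  haveI : IsScalarTower R B₁ Sa' := IsScalarTower.of_algebraMap_eq' φ.comp_algebraMap.symm
  haveI : Algebra.IsPushout R₁ R'' B₁ Sa' := by
    haveI : Algebra.IsPushout R R'' Sa Sa' := Algebra.IsPushout.symm hpa
    exact (Algebra.IsPushout.comp_iff (R := R) (S := R₁) (T := R'') (R' := Sa) (S' := B₁) (T' := Sa')).mp inferInstance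
  haveI : Algebra.IsPushout R₁ B₁ R'' Sa' := Algebra.IsPushout.symm inferInstance
  let b := algebraMap B₁ Sa' b₁
  let C := Localization.Away b
  haveI : IsLocalization (Algebra.algebraMapSubmonoid Sa' (Submonoid.powers b₁)) C := by
    rw [show Algebra.algebraMapSubmonoid Sa' (Submonoid.powers b₁) = Submonoid.powers b from
      Submonoid.map_powers _ b₁]
    infer_instance
  letI : Algebra B₂ C := (IsLocalization.Away.lift b₁ (S := B₂) (show IsUnit ((algebraMap B₁ C) b₁) from by
    rw [IsScalarTower.algebraMap_apply B₁ Sa' C]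
    exact IsLocalization.Away.algebraMap_isUnit _)).toAlgebra
  haveI : IsScalarTower B₁ B₂ C := IsScalarTower.of_algebraMap_eq fun x => (IsLocalization.Away.lift_eq b₁ _ x).symm
  haveI : Algebra.IsPushout B₁ B₂ Sa' C := Algebra.IsPushout.symm (Algebra.isPushout_of_isLocalization (Submonoid.powers b₁) B₂ Sa' C)
  haveI : IsScalarTower R₁ R'' C := IsScalarTower.of_algebraMap_eq (R := R₁) (S := R'') (A := C) fun r => by
    show algebraMap R₁ C r = algebraMap R'' C (algebraMap R₁ R'' r)
    rw [IsScalarTower.algebraMap_apply R₁ Sa' C, IsScalarTower.algebraMap_apply R'' Sa' C,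
      ← IsScalarTower.algebraMap_apply R₁ R'' Sa']
  haveI : IsScalarTower R₁ B₁ C := IsScalarTower.of_algebraMap_eq (R := R₁) (S := B₁) (A := C) fun r => by
    rw [IsScalarTower.algebraMap_apply R₁ Sa' C, IsScalarTower.algebraMap_apply R₁ B₁ Sa',
      ← IsScalarTower.algebraMap_apply B₁ Sa' C]
  haveI : IsScalarTower R₁ B₂ C := IsScalarTower.of_algebraMap_eq (R := R₁) (S := B₂) (A := C) fun r => by
    rw [IsScalarTower.algebraMap_apply R₁ B₁ C, IsScalarTower.algebraMap_apply B₁ B₂ C,
      ← IsScalarTower.algebraMap_apply R₁ B₁ B₂]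
  haveI hpC : Algebra.IsPushout R₁ B₂ R'' C :=
    (Algebra.IsPushout.comp_iff (R := R₁) (S := B₁) (T := B₂) (R' := R'') (S' := Sa') (T' := C)).mpr inferInstance
  -- the point
  obtain ⟨Q₂, hQ₂, hQ₂c⟩ : ∃ Q₂ : Ideal B₂, Q₂.IsPrime ∧ Q₂.comap (algebraMap B₁ B₂) = Q₁ := by
    obtain ⟨Q₂, h, h'⟩ := exists_prime_away Q₁ hbQ
    exact ⟨Q₂, h, h'.over.symm⟩
  haveI := hQ₂
  haveI : Q₂.LiesOver p₁ := ⟨by
    rw [Ideal.under_def, IsScalarTower.algebraMap_eq R₁ B₁ B₂, ← Ideal.comap_comap, hQ₂c, Ideal.comap_comap,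
      ← IsScalarTower.algebraMap_eq, IsScalarTower.algebraMap_eq R₁ A SA, ← Ideal.comap_comap]
    exact (IsLocalization.AtPrime.under_maximalIdeal A p₁).symm.trans (congrArg _ hQm.over)⟩
  obtain ⟨x, hx, hxQ, hxp⟩ := Groth.L20.exists_prime_isPushout (R := R₁) (S := B₂) (R' := R'') (S' := C) Q₂ p''
    (by rw [← Ideal.under_def, ← Ideal.under_def]
        exact (Ideal.LiesOver.over (P := Q₂) (p := p₁)).symm.trans hn₂.2.1.over)
  refine ⟨b, x, hx, ?_, ?_, ?_⟩
  · rw [Ideal.comap_comap]
    have h1 : ((algebraMap Sa' C).comp (algebraMap S' Sa')).comp (algebraMap S S') =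
        ((algebraMap B₂ C).comp (algebraMap B₁ B₂)).comp ((algebraMap Sa B₁).comp (algebraMap S Sa)) := by
      ext s
      simp only [RingHom.comp_apply]
      rw [← IsScalarTower.algebraMap_apply B₁ B₂ C, IsScalarTower.algebraMap_apply B₁ Sa' C,
        ← IsScalarTower.algebraMap_apply Sa B₁ Sa', ← IsScalarTower.algebraMap_apply S Sa Sa',
        ← IsScalarTower.algebraMap_apply S S' Sa']
    rw [show ((algebraMap Sa' C).comp (algebraMap S' Sa')).comp (algebraMap S S') = _ from h1, ← Ideal.comap_comap,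
      ← Ideal.comap_comap, ← Ideal.comap_comap, hxQ, hQ₂c]
    show ((Q.comap (algebraMap B₁ SA)).comap (algebraMap Sa B₁)).comap (algebraMap S Sa) = q
    rw [Ideal.comap_comap (algebraMap Sa B₁), ← IsScalarTower.algebraMap_eq Sa B₁ SA,
      show Q.comap (algebraMap Sa SA) = qa from hQqa.over.symm]
    exact hqa.over.symm
  · rw [Ideal.comap_comap, RingHom.comp_assoc, ← IsScalarTower.algebraMap_eq R'' S' Sa',
      ← IsScalarTower.algebraMap_eq R'' Sa' C]
    exact hxp
  · intro NC _ _ _ _ _ _ fC hfC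
    haveI : IsScalarTower S Sa C := IsScalarTower.of_algebraMap_eq (R := S) (S := Sa) (A := C) fun s => by
      rw [IsScalarTower.algebraMap_apply Sa Sa' C, ← IsScalarTower.algebraMap_apply S Sa Sa',
        IsScalarTower.algebraMap_apply S S' Sa', ← IsScalarTower.algebraMap_apply S' Sa' C,
        ← IsScalarTower.algebraMap_apply S S' C]
    haveI : IsScalarTower Sa B₁ C := IsScalarTower.of_algebraMap_eq (R := Sa) (S := B₁) (A := C) fun s => by
      rw [IsScalarTower.algebraMap_apply Sa Sa' C, IsScalarTower.algebraMap_apply Sa B₁ Sa',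
        ← IsScalarTower.algebraMap_apply B₁ Sa' C]
    letI : Module Sa NC := Module.compHom NC (algebraMap Sa C)
    haveI : IsScalarTower Sa C NC := ⟨fun a c m => by
      show (a • c) • m = algebraMap Sa C a • c • m
      rw [← mul_smul, ← Algebra.smul_def]⟩
    haveI : IsScalarTower S Sa NC := IsScalarTower.of_algebraMap_smul fun s m => by
      rw [← algebraMap_smul C (algebraMap S Sa s) m, ← IsScalarTower.algebraMap_apply, algebraMap_smul]
    letI : Module B₁ NC := Module.compHom NC (algebraMap B₁ C)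
    haveI : IsScalarTower B₁ C NC := ⟨fun a c m => by
      show (a • c) • m = algebraMap B₁ C a • c • m
      rw [← mul_smul, ← Algebra.smul_def]⟩
    haveI : IsScalarTower Sa B₁ NC := IsScalarTower.of_algebraMap_smul fun s m => by
      rw [← algebraMap_smul C (algebraMap Sa B₁ s) m, ← IsScalarTower.algebraMap_apply, algebraMap_smul]
    letI : Module B₂ NC := Module.compHom NC (algebraMap B₂ C)
    haveI : IsScalarTower B₂ C NC := IsScalarTower.of_algebraMap_smul fun _ _ => rfl
    haveI : IsScalarTower B₁ B₂ NC := IsScalarTower.of_algebraMap_smul fun s m => by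
      rw [← algebraMap_smul C (algebraMap B₁ B₂ s) m, ← IsScalarTower.algebraMap_apply, algebraMap_smul]
    obtain ⟨ha', hha'⟩ := exists_isBaseChange_factor fa hfa fC hfC
    obtain ⟨h₁', hh₁'⟩ := exists_isBaseChange_factor f₁ hf₁ ha' hha'
    obtain ⟨h₂', hh₂'⟩ := exists_isBaseChange_factor f₂ hf₂ h₁' hh₁'
    letI : Module R₁ NC := Module.compHom NC (algebraMap R₁ C)
    haveI : IsScalarTower R₁ C NC := ⟨fun a c m => by
      show (a • c) • m = algebraMap R₁ C a • c • m
      rw [← mul_smul, ← Algebra.smul_def]⟩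
    haveI : IsScalarTower R₁ R'' NC := IsScalarTower.of_algebraMap_smul fun s m => by
      rw [← algebraMap_smul C (algebraMap R₁ R'' s) m, ← IsScalarTower.algebraMap_apply, algebraMap_smul]
    haveI : IsScalarTower R₁ B₂ NC := IsScalarTower.of_algebraMap_smul fun s m => by
      rw [← algebraMap_smul C (algebraMap R₁ B₂ s) m, ← IsScalarTower.algebraMap_apply, algebraMap_smul]
    haveI := hproj
    exact Module.Projective.of_equiv
      (Groth.L20.isBaseChange_restrictScalars (R := R₁) (S := B₂) (R' := R'') (S' := C) hh₂').equiv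

end Groth.L20.RG
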