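import Groth.Agent.L20.RG.GlueRep
import Groth.Agent.L20.ModStalk
import Mathlib.AlgebraicGeometry.Morphisms.Proper

/-!
# Affine covers of a proper morphism are good covers
-/

set_option autoImplicit false
set_option linter.style.haveILetI false
set_option backward.isDefEq.respectTransparency.types false
universe u

open CategoryTheory CategoryTheory.Limits AlgebraicGeometry TopologicalSpace
open scoped TensorProduct

noncomputable section

namespace Groth.L20.RG

variable {X S : Scheme.{u}}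

set_option maxHeartbeats 1000000 in
/-- Restriction to a basic open is a base change along an étale map. -/
theorem exists_baseChange_res (F : X.Modules) [Coh.IsQCoh F] {V D : X.Opens} (hV : IsAffineOpen V) (g : Γ(X, V))
    (e : D = X.basicOpen g) (hle : D ≤ V) :
    letI : Algebra Γ(X, V) Γ(X, D) := (X.presheaf.map (homOfLE hle).op).hom.toAlgebra
    letI : Module Γ(X, V) Γ(F, D) := Module.compHom Γ(F, D) (X.presheaf.map (homOfLE hle).op).hom
    haveI : IsScalarTower Γ(X, V) Γ(X, D) Γ(F, D) := IsScalarTower.of_algebraMap_smul fun _ _ => rfl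
    ∃ (_ : Algebra.Etale Γ(X, V) Γ(X, D)) (res : Γ(F, V) →ₗ[Γ(X, V)] Γ(F, D)), IsBaseChange Γ(X, D) res := by
  subst e
  letI : Algebra Γ(X, V) Γ(X, X.basicOpen g) := (X.presheaf.map (homOfLE hle).op).hom.toAlgebra
  letI : Module Γ(X, V) Γ(F, X.basicOpen g) := Module.compHom Γ(F, X.basicOpen g) (X.presheaf.map (homOfLE hle).op).hom
  haveI : IsScalarTower Γ(X, V) Γ(X, X.basicOpen g) Γ(F, X.basicOpen g) :=
    IsScalarTower.of_algebraMap_smul fun _ _ => rfl
  haveI : IsLocalization.Away g Γ(X, X.basicOpen g) := hV.isLocalization_basicOpen g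
  haveI h := Groth.L20.ModStalk.isLocalizedModule_res F hV g
  exact ⟨Algebra.Etale.of_isLocalizationAway g, _,
    (isLocalizedModule_iff_isBaseChange (Submonoid.powers g) Γ(X, X.basicOpen g) _).1 h⟩

/-- Monomorphisms may be composed under a fibre square. -/
theorem isPullback_comp_mono {C : Type*} [Category C] {P Y Z T T' : C} {a : P ⟶ Y} {b : P ⟶ Z} {p : Y ⟶ T}
    {q : Z ⟶ T} (h : IsPullback a b p q) (i : T ⟶ T') [Mono i] : IsPullback a b (p ≫ i) (q ≫ i) :=
  ⟨⟨by rw [← Category.assoc, h.w, Category.assoc]⟩,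
    ⟨PullbackCone.IsLimit.mk _ (fun s => h.lift s.fst s.snd ((cancel_mono i).1 (by simpa using s.condition)))
      (fun _ => h.lift_fst _ _ _) (fun _ => h.lift_snd _ _ _)
      fun s m h1 h2 => h.hom_ext (h1.trans (h.lift_fst _ _ _).symm) (h2.trans (h.lift_snd _ _ _).symm)⟩⟩

set_option maxHeartbeats 2000000 in
/-- Finitely many affine opens covering the preimage of an affine open form a good cover. -/
theorem goodCover_proper (f : X ⟶ S) [IsProper f] (F : X.Modules) [Coh.IsQCoh F] {W : S.Opens} (hW : IsAffineOpen W)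
    {m : ℕ} (V : Fin m → X.Opens) (hV : ∀ j, IsAffineOpen (V j)) (hle : ∀ j, V j ≤ f ⁻¹ᵁ W)
    (hcov : f ⁻¹ᵁ W ≤ ⨆ j, V j) :
    letI : ∀ j, Algebra Γ(S, W) Γ(X, V j) := fun j => (f.appLE W (V j) (hle j)).hom.toAlgebra
    GoodCover Γ(S, W) (fun j => Γ(X, V j)) (fun j => Γ(F, V j)) := by
  letI : ∀ j, Algebra Γ(S, W) Γ(X, V j) := fun j => (f.appLE W (V j) (hle j)).hom.toAlgebra
  intro A' _ _ p' _ U hU hfib
  let σ : Spec (CommRingCat.of A') ⟶ S := Spec.map (CommRingCat.ofHom (algebraMap Γ(S, W) A')) ≫ hW.fromSpec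
  let pr : ∀ j, Spec (CommRingCat.of (A' ⊗[Γ(S, W)] Γ(X, V j))) ⟶ Spec (CommRingCat.of A') := fun j =>
    Spec.map (CommRingCat.ofHom Algebra.TensorProduct.includeLeftRingHom)
  let incR : ∀ j, Γ(X, V j) ⟶ CommRingCat.of (A' ⊗[Γ(S, W)] Γ(X, V j)) := fun j => CommRingCat.ofHom
    (Algebra.TensorProduct.includeRight (R := Γ(S, W)) (A := A') (B := Γ(X, V j))).toRingHom
  let qx : ∀ j, Spec (CommRingCat.of (A' ⊗[Γ(S, W)] Γ(X, V j))) ⟶ X := fun j => Spec.map (incR j) ≫ (hV j).fromSpec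
  have hout : ∀ j, IsPullback (Spec.map (incR j)) (pr j)
      ((hV j).fromSpec ≫ f) σ := fun j => by
    have e : (hV j).fromSpec ≫ f = Spec.map (f.appLE W (V j) (hle j)) ≫ hW.fromSpec :=
      (hW.SpecMap_appLE_fromSpec f (hV j) (hle j)).symm
    rw [e]
    refine isPullback_comp_mono (isPullback_SpecMap_of_isPushout _ _ _ _ ?_) hW.fromSpec
    exact (CommRingCat.isPushout_tensorProduct Γ(S, W) A' Γ(X, V j)).flip
  let q : ∀ j, Spec (CommRingCat.of (A' ⊗[Γ(S, W)] Γ(X, V j))) ⟶ pullback f σ := fun j =>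
    pullback.lift (qx j) (pr j) (by rw [Category.assoc]; exact (hout j).w)
  have hq : ∀ j, IsPullback (Spec.map (incR j)) (q j)
      (hV j).fromSpec (pullback.fst f σ) := fun j => by
    refine IsPullback.of_bot ?_ (by rw [pullback.lift_fst]) (IsPullback.of_hasPullback f σ)
    rw [pullback.lift_snd]
    exact hout j
  haveI hqo : ∀ j, IsOpenImmersion (q j) := fun j =>
    MorphismProperty.of_isPullback (P := @IsOpenImmersion) (hq j) inferInstance
  -- the open of `X'` covered by the given opens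
  let Ω : Set ↥(pullback f σ) := ⋃ k, q k '' U k
  have hΩ : IsOpen Ω := isOpen_iUnion fun k => (q k).isOpenEmbedding.isOpenMap _ (hU k)
  have hC : IsClosed (pullback.snd f σ '' Ωᶜ) := (pullback.snd f σ).isClosedMap _ hΩ.isClosed_compl
  have hcov' : ∀ x : ↥(pullback f σ), ∃ k, x ∈ Set.range (q k) := fun x => by
    have hx : pullback.fst f σ x ∈ f ⁻¹ᵁ W := by
      show f (pullback.fst f σ x) ∈ W
      rw [← Scheme.Hom.comp_apply, pullback.condition, Scheme.Hom.comp_apply, ← SetLike.mem_coe, ← hW.range_fromSpec]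
      exact ⟨_, (Scheme.Hom.comp_apply _ _ _).symm⟩
    obtain ⟨k, hk⟩ := Opens.mem_iSup.1 (hcov hx)
    have hk' : pullback.fst f σ x ∈ Set.range (hV k).fromSpec := by rw [(hV k).range_fromSpec]; exact hk
    obtain ⟨z, hz⟩ := hk'
    obtain ⟨y, -, hy⟩ := Scheme.exists_preimage_of_isPullback (hq k) z x hz
    exact ⟨k, y, hy⟩
  have hp : (⟨p', inferInstance⟩ : PrimeSpectrum A') ∉ pullback.snd f σ '' Ωᶜ := by
    rintro ⟨x, hx, hxp⟩
    obtain ⟨k, Q, rfl⟩ := hcov' x
    refine hx (Set.mem_iUnion.2 ⟨k, Q, hfib k Q ⟨?_⟩, rfl⟩)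
    rw [← Scheme.Hom.comp_apply, pullback.lift_snd] at hxp
    exact (congrArg PrimeSpectrum.asIdeal hxp).symm
  obtain ⟨-, ⟨r, rfl⟩, hrp, hr⟩ := PrimeSpectrum.isTopologicalBasis_basic_opens.exists_subset_of_mem_open hp hC.isOpen_compl
  refine ⟨r, (PrimeSpectrum.mem_basicOpen r ⟨p', inferInstance⟩).1 hrp, fun j P hP => ?_⟩
  have hxΩ : q j P ∈ Ω := by
    by_contra hxn
    refine hr ?_ ⟨_, hxn, rfl⟩
    rw [← Scheme.Hom.comp_apply, pullback.lift_snd]
    exact (PrimeSpectrum.mem_basicOpen r _).2 hP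
  obtain ⟨k, Q, hQ, hQP⟩ := Set.mem_iUnion.1 hxΩ
  refine ⟨k, ?_⟩
  -- the common basic open
  have hy : qx k Q = qx j P := by
    have := congrArg (pullback.fst f σ) hQP
    rwa [← Scheme.Hom.comp_apply, ← Scheme.Hom.comp_apply, pullback.lift_fst, pullback.lift_fst] at this
  have hyV : ∀ (i : Fin m) (R : PrimeSpectrum (A' ⊗[Γ(S, W)] Γ(X, V i))), qx i R ∈ V i := fun i R => by
    rw [← SetLike.mem_coe, ← (hV i).range_fromSpec]
    exact ⟨_, (Scheme.Hom.comp_apply _ _ _).symm⟩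
  obtain ⟨g, h, hgh, hyg⟩ := exists_basicOpen_le_affine_inter (hV j) (hV k) (qx j P) ⟨hyV j P, hy ▸ hyV k Q⟩
  let D : X.Opens := X.basicOpen g
  have hDj : D ≤ V j := X.basicOpen_le g
  have hDk : D ≤ V k := hgh.le.trans (X.basicOpen_le h)
  have hD : IsAffineOpen D := (hV j).basicOpen g
  letI algj : Algebra Γ(X, V j) Γ(X, D) := (X.presheaf.map (homOfLE hDj).op).hom.toAlgebra
  letI algk : Algebra Γ(X, V k) Γ(X, D) := (X.presheaf.map (homOfLE hDk).op).hom.toAlgebra
  letI modj : Module Γ(X, V j) Γ(F, D) := Module.compHom Γ(F, D) (X.presheaf.map (homOfLE hDj).op).hom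
  letI modk : Module Γ(X, V k) Γ(F, D) := Module.compHom Γ(F, D) (X.presheaf.map (homOfLE hDk).op).hom
  letI algA : Algebra Γ(S, W) Γ(X, D) := (f.appLE W D (hDj.trans (hle j))).hom.toAlgebra
  haveI : IsScalarTower Γ(S, W) Γ(X, V j) Γ(X, D) := IsScalarTower.of_algebraMap_eq'
    (congrArg CommRingCat.Hom.hom (f.appLE_map (hle j) (homOfLE hDj).op)).symm
  haveI : IsScalarTower Γ(S, W) Γ(X, V k) Γ(X, D) := IsScalarTower.of_algebraMap_eq'
    (congrArg CommRingCat.Hom.hom (f.appLE_map (hle k) (homOfLE hDk).op)).symm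
  haveI : IsScalarTower Γ(X, V j) Γ(X, D) Γ(F, D) := IsScalarTower.of_algebraMap_smul fun _ _ => rfl
  haveI : IsScalarTower Γ(X, V k) Γ(X, D) Γ(F, D) := IsScalarTower.of_algebraMap_smul fun _ _ => rfl
  obtain ⟨hej, f₁, hf₁⟩ := exists_baseChange_res F (hV j) g rfl hDj
  obtain ⟨hek, f₂, hf₂⟩ := exists_baseChange_res F (hV k) h hgh hDk
  refine ⟨Γ(X, D), inferInstance, algA, algj, algk, inferInstance, inferInstance, hej, hek, Γ(F, D), inferInstance,
    inferInstance, modj, modk, inferInstance, inferInstance, f₁, f₂, hD.primeIdealOf ⟨qx j P, hyg⟩, hf₁, hf₂, ?_, ?_⟩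
  · have e : Spec.map (X.presheaf.map (homOfLE hDj).op) (hD.primeIdealOf ⟨qx j P, hyg⟩) =
        Spec.map (incR j) P := by
      apply (hV j).fromSpec.injective
      rw [← Scheme.Hom.comp_apply, (hV j).map_fromSpec hD, hD.fromSpec_primeIdealOf]
      exact Scheme.Hom.comp_apply _ _ _
    exact congrArg PrimeSpectrum.asIdeal e
  · intro W' hW'
    let rj := CommRingCat.ofHom (Algebra.TensorProduct.map (AlgHom.id Γ(S, W) A')
      (IsScalarTower.toAlgHom Γ(S, W) Γ(X, V j) Γ(X, D))).toRingHom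
    let rk := CommRingCat.ofHom (Algebra.TensorProduct.map (AlgHom.id Γ(S, W) A')
      (IsScalarTower.toAlgHom Γ(S, W) Γ(X, V k) Γ(X, D))).toRingHom
    let iD := CommRingCat.ofHom (Algebra.TensorProduct.includeRight (R := Γ(S, W)) (A := A') (B := Γ(X, D))).toRingHom
    have hx : ∀ (i : Fin m) (hDi : D ≤ V i)
        (r : CommRingCat.of (A' ⊗[Γ(S, W)] Γ(X, V i)) ⟶ CommRingCat.of (A' ⊗[Γ(S, W)] Γ(X, D))),
        incR i ≫ r =
          X.presheaf.map (homOfLE hDi).op ≫ iD → Spec.map r ≫ qx i = Spec.map iD ≫ hD.fromSpec := by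
      intro i hDi r hr
      rw [← (hV i).map_fromSpec hD (homOfLE hDi).op, ← Category.assoc, ← Category.assoc, ← Spec.map_comp, ← Spec.map_comp]
      exact congrArg (fun a => Spec.map a ≫ (hV i).fromSpec) hr
    have hjk : Spec.map rj ≫ q j = Spec.map rk ≫ q k := by
      apply pullback.hom_ext
      · rw [Category.assoc, Category.assoc, pullback.lift_fst, pullback.lift_fst, hx j hDj rj, hx k hDk rk] <;>
        · ext b
          show Algebra.TensorProduct.map _ _ ((1 : A') ⊗ₜ[Γ(S, W)] b) = _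
          tens
      · rw [Category.assoc, Category.assoc, pullback.lift_snd, pullback.lift_snd, ← Spec.map_comp, ← Spec.map_comp]
        congr 1
        ext a
        show Algebra.TensorProduct.map _ _ (a ⊗ₜ[Γ(S, W)] (1 : Γ(X, V j))) =
          Algebra.TensorProduct.map _ _ (a ⊗ₜ[Γ(S, W)] (1 : Γ(X, V k)))
        tens
    have : q k (Spec.map rk W') = q k Q := by
      rw [hQP, ← Scheme.Hom.comp_apply, ← hjk, Scheme.Hom.comp_apply]
      exact congrArg (q j) hW'
    show Spec.map rk W' ∈ U k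
    rwa [(q k).injective this]

end Groth.L20.RG
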