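import Groth.Agent.L20.RG.MonoGlue
import Groth.Agent.L20.RG.ProperGood
import Groth.Agent.L20.RG.FlatSquare
import Groth.Agent.L20.RG.FlatLocal
import Groth.Agent.L03.ShStab.TwistFlat

/-!
# The flattening monomorphism of a proper morphism
-/

set_option autoImplicit false
set_option linter.style.haveILetI false
set_option backward.isDefEq.respectTransparency.types false
universe u

open CategoryTheory CategoryTheory.Limits AlgebraicGeometry TopologicalSpace
open scoped TensorProduct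

noncomputable section

namespace Groth.L20.RG

variable {X S : Scheme.{u}} (f : X ⟶ S) (F : X.Modules) [Coh.IsQCoh F]

set_option maxHeartbeats 1000000 in
/-- Flatness after pullback to an affine scheme is the condition on the pieces of an affine cover. -/
theorem pflat_spec_iff {W : S.Opens} (hW : IsAffineOpen W) {m : ℕ} (V : Fin m → X.Opens)
    (hV : ∀ j, IsAffineOpen (V j)) (hle : ∀ j, V j ≤ f ⁻¹ᵁ W) (hcov : f ⁻¹ᵁ W ≤ ⨆ j, V j)
    (B : Type u) [CommRing B] (φ : Γ(S, W) →+* B) :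
    letI : ∀ j, Algebra Γ(S, W) Γ(X, V j) := fun j => (f.appLE W (V j) (hle j)).hom.toAlgebra
    PFlat f F (Spec (CommRingCat.of B)) (Spec.map (CommRingCat.ofHom φ) ≫ hW.fromSpec) ↔
      AllCond Γ(S, W) (fun j => Γ(X, V j)) (fun j => Γ(F, V j)) 0 B φ := by
  letI : ∀ j, Algebra Γ(S, W) Γ(X, V j) := fun j => (f.appLE W (V j) (hle j)).hom.toAlgebra
  let t : Spec (CommRingCat.of B) ⟶ S := Spec.map (CommRingCat.ofHom φ) ≫ hW.fromSpec
  have eW : (⊤ : (Spec (CommRingCat.of B)).Opens) ≤ t ⁻¹ᵁ W := fun x _ => by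
    show t x ∈ W
    rw [← SetLike.mem_coe, ← hW.range_fromSpec]
    exact ⟨_, (Scheme.Hom.comp_apply _ _ _).symm⟩
  let ψ : CommRingCat.of B ⟶ Γ(Spec (CommRingCat.of B), ⊤) := (Scheme.ΓSpecIso (CommRingCat.of B)).inv
  have hφ : t.appLE W ⊤ eW = CommRingCat.ofHom φ ≫ ψ := by
    apply Spec.map_injective
    rw [← cancel_mono hW.fromSpec, hW.SpecMap_appLE_fromSpec t (isAffineOpen_top _) eW, IsAffineOpen.fromSpec_top,
      Scheme.isoSpec_Spec_inv, Spec.map_comp, Category.assoc]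
  have hpiece : ∀ j, (∀ x' : ↥(pullback f t), pullback.fst f t x' ∈ V j → pullback.snd f t x' ∈ (⊤ : (Spec (CommRingCat.of B)).Opens) →
      FlatMod.IsFlatOverAt (pullback.snd f t) ((Scheme.Modules.pullback (pullback.fst f t)).obj F) x') ↔
      FCond Γ(S, W) Γ(X, V j) Γ(F, V j) 0 Γ(Spec (CommRingCat.of B), ⊤) (t.appLE W ⊤ eW).hom := fun j => by
    rw [isFlatOver_square_iff (IsPullback.of_hasPullback f t) F hW (hV j) (isAffineOpen_top _) (hle j) eW]
    letI := (t.appLE W ⊤ eW).hom.toAlgebra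
    exact (fcond_algebraMap Γ(F, V j) 0 _).symm
  have h1 : PFlat f F (Spec (CommRingCat.of B)) t ↔
      AllCond Γ(S, W) (fun j => Γ(X, V j)) (fun j => Γ(F, V j)) 0 Γ(Spec (CommRingCat.of B), ⊤) (t.appLE W ⊤ eW).hom := by
    refine ⟨fun h j => (hpiece j).1 fun x' _ _ => h x', fun h x' => ?_⟩
    have hx : pullback.fst f t x' ∈ f ⁻¹ᵁ W := by
      show f (pullback.fst f t x') ∈ W
      rw [← Scheme.Hom.comp_apply, pullback.condition, Scheme.Hom.comp_apply]
      exact eW (Opens.mem_top _)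
    obtain ⟨j, hj⟩ := Opens.mem_iSup.1 (hcov hx)
    exact (hpiece j).2 (h j) x' hj (Opens.mem_top _)
  refine h1.trans ?_
  rw [hφ]
  refine ⟨fun h => ?_, fun h => allCond_comp _ _ 0 B _ φ ψ.hom h⟩
  have := allCond_comp _ _ 0 _ B _ (Scheme.ΓSpecIso (CommRingCat.of B)).hom.hom h
  convert this using 1
  exact (congrArg CommRingCat.Hom.hom (show (CommRingCat.ofHom φ ≫ ψ) ≫ (Scheme.ΓSpecIso (CommRingCat.of B)).hom =
    CommRingCat.ofHom φ by rw [Category.assoc, Iso.inv_hom_id, Category.comp_id])).symm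

set_option maxHeartbeats 1000000 in
/-- The flattening monomorphism over an affine open. -/
theorem exists_mono_affine [IsProper f] [LocallyOfFinitePresentation f] (hF : CohB1.IsFP F) {W : S.Opens}
    (hW : IsAffineOpen W) :
    ∃ (Z : Scheme.{u}) (i : Z ⟶ (W : Scheme.{u})), Mono i ∧ (LocallyOfFinitePresentation i ∧ QuasiCompact i) ∧
      ∀ (T : Scheme.{u}) (t : T ⟶ (W : Scheme.{u})), PFlat f F T (t ≫ W.ι) ↔ ∃ z : T ⟶ Z, z ≫ i = t := by
  classical
  obtain ⟨s, hs, hsW⟩ := isCompact_iff_finite_and_eq_biUnion_affineOpens (U := f ⁻¹ᵁ W).1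
    (QuasiCompact.isCompact_preimage (f := f) W W.2 hW.isCompact)
  haveI := hs.fintype
  let e := (Fintype.equivFin s).symm
  let V : Fin (Fintype.card s) → X.Opens := fun j => (e j).1.1
  have hV : ∀ j, IsAffineOpen (V j) := fun j => (e j).1.2
  have hle : ∀ j, V j ≤ f ⁻¹ᵁ W := fun j => hsW.ge.trans' (le_iSup₂_of_le (e j).1 (e j).2 le_rfl)
  have hcov : f ⁻¹ᵁ W ≤ ⨆ j, V j := hsW.le.trans (iSup₂_le fun a ha =>
    le_iSup_of_le (e.symm ⟨a, ha⟩) (by simp [V]))
  letI : ∀ j, Algebra Γ(S, W) Γ(X, V j) := fun j => (f.appLE W (V j) (hle j)).hom.toAlgebra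
  haveI : ∀ j, Algebra.FinitePresentation Γ(S, W) Γ(X, V j) := fun j => f.finitePresentation_appLE hW (hV j) (hle j)
  haveI : ∀ j, Module.FinitePresentation Γ(X, V j) Γ(F, V j) := fun j =>
    Groth.L20.ModStalk.finitePresentation_sections F hF (hV j)
  obtain ⟨Z, i, hi⟩ := rep_allCond (fun j => Γ(X, V j)) (fun j => Γ(F, V j))
    (goodCover_proper f F hW V hV hle hcov) 0
  haveI := hi.mono; haveI := hi.lfp; haveI := hi.qc
  refine ⟨Z, i ≫ hW.isoSpec.inv, inferInstance, ⟨inferInstance, inferInstance⟩, fun T t => ?_⟩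
  have et : t ≫ W.ι = (t ≫ hW.isoSpec.hom) ≫ hW.fromSpec := by
    rw [Category.assoc, ← hW.isoSpec_inv_ι, Iso.hom_inv_id_assoc]
  have key : ∀ (B : Type u) [CommRing B] (x : Spec (CommRingCat.of B) ⟶ Spec Γ(S, W)),
      PFlat f F _ (x ≫ hW.fromSpec) ↔ ∃ z, z ≫ i = x := by
    intro B _ x
    obtain ⟨φ, rfl⟩ := Spec.map_surjective x
    exact (pflat_spec_iff f F hW V hV hle hcov B φ.hom).trans (hi.iff B φ.hom)
  constructor
  · intro h
    obtain ⟨z, hz⟩ := exists_factor hi (t ≫ hW.isoSpec.hom) fun B _ u => (hi.iff _ _).2 (by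
      obtain ⟨z, hz⟩ := (key B (u ≫ t ≫ hW.isoSpec.hom)).1 (by
        rw [Category.assoc, ← et]
        exact pflat_comp f F _ u h)
      exact ⟨z, hz.trans (by rw [CommRingCat.ofHom_hom, Spec.map_preimage])⟩)
    exact ⟨z, by rw [← Category.assoc, hz, Category.assoc, Iso.hom_inv_id, Category.comp_id]⟩
  · rintro ⟨z, rfl⟩
    refine (pflat_local f F T _ T.affineOpenCover.openCover).2 fun a => ?_
    rw [et, ← Category.assoc]
    exact (key (T.affineOpenCover.X a) (T.affineOpenCover.openCover.f a ≫ (z ≫ i ≫ hW.isoSpec.inv) ≫ hW.isoSpec.hom)).2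
      ⟨T.affineOpenCover.openCover.f a ≫ z, by simp⟩

/-- **The flattening monomorphism of a proper morphism.** -/
theorem exists_flattening_mono_proper [IsProper f] [LocallyOfFinitePresentation f] (hF : CohB1.IsFP F) :
    ∃ (S' : Scheme.{u}) (ι : S' ⟶ S), Mono ι ∧ LocallyOfFinitePresentation ι ∧ QuasiCompact ι ∧ Surjective ι ∧
      ∀ (T : Scheme.{u}) (t : T ⟶ S), PFlat f F T t ↔ ∃ t' : T ⟶ S', t' ≫ ι = t := by
  obtain ⟨Z, i, hi, ⟨hfp, hqc⟩, hiff⟩ := exists_mono_of_local (PFlat f F) (pflat_local f F)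
    (@LocallyOfFinitePresentation ⊓ @QuasiCompact) fun V => exists_mono_affine f F hF V.2
  refine ⟨Z, i, hi, hfp, hqc, ⟨fun s => ?_⟩, hiff⟩
  haveI := Groth.L19.LimMod.isQCoh_pullback (pullback.fst f (S.fromSpecResidueField s)) F
  obtain ⟨z, hz⟩ := (hiff _ (S.fromSpecResidueField s)).1 (Groth.L03.ShStab.TwistFlat.isFlatOver_field _ _)
  obtain ⟨x⟩ : Nonempty (Spec (S.residueField s)) := inferInstance
  refine ⟨z x, ?_⟩
  rw [← Scheme.Hom.comp_apply, hz, Scheme.fromSpecResidueField_apply]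

end Groth.L20.RG
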