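import Groth.Agent.L20.RG.PureDescent
import Groth.Agent.L20.RG.UnivPureFt
import Groth.Agent.L20.RG.WeakAssHensel
import Groth.Agent.L20.WeakAssFinite
import Mathlib.RingTheory.Spectrum.Prime.Chevalley

/-!
# Purity along an étale cover of the associated points of the special fibre
-/

set_option autoImplicit false
set_option linter.style.haveILetI false
set_option backward.isDefEq.respectTransparency.types false
universe u

open TensorProduct

noncomputable section

namespace Groth.L20.RG

open Groth.L03.WeakAss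

/-- At a flat point, an element regular on the fibre stays regular after tensoring with any module. -/
theorem exists_smul_eq_zero_of_regular {R S : Type u} [CommRing R] [CommRing S] [Algebra R S] [Algebra.FiniteType R S]
    (N : Type u) [AddCommGroup N] [Module S N] [Module R N] [IsScalarTower R S N] [Module.Finite S N]
    (M : Type u) [AddCommGroup M] [Module R M] (p : Ideal R) [p.IsPrime] (x : Ideal S) [x.IsPrime] [x.LiesOver p]
    (hflat : FlatCA.FlatAt R x N) (g : S) (hg : ∀ y : N ⊗[R] p.ResidueField, g • y = 0 → ∃ s ∉ x, s • y = 0)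
    (k : ℕ) (v : N ⊗[R] M) (hv : g ^ k • v = 0) : ∃ s ∉ x, s • v = 0 := by
  classical
  obtain ⟨A, _, _, _, C, _, _, _, _, _, _, _, _, hmA, hrA, -, hflatC, ⟨c, hc, hcx⟩, hfree, hreg⟩ :=
    exists_regular_chart N p x hflat
  haveI := hflatC
  haveI := hfree
  haveI : IsScalarTower A C (C ⊗[S] N) := TensorProduct.isScalarTower_left
  haveI : IsScalarTower A C (C ⊗[S] (N ⊗[R] M)) := TensorProduct.isScalarTower_left
  have hinj : ∀ w : C ⊗[S] (N ⊗[R] M), algebraMap S C g • w = 0 → w = 0 :=
    smul_injective_chart (A := A) N M hmA hrA _ (hreg g hg)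
  have hsmul : ∀ t : S, algebraMap S C t • ((1 : C) ⊗ₜ[S] v) = (1 : C) ⊗ₜ[S] (t • v) := fun t => by
    rw [algebraMap_smul, TensorProduct.smul_tmul', TensorProduct.smul_tmul]
  have hpow : ∀ (n : ℕ) (w : C ⊗[S] (N ⊗[R] M)), algebraMap S C g ^ n • w = 0 → w = 0 := fun n => by
    induction n with
    | zero => intro w hw; simpa using hw
    | succ n ih =>
      intro w hw
      rw [pow_succ, mul_smul] at hw
      exact hinj w (ih _ hw)
  have h1 : (1 : C) • ((1 : C) ⊗ₜ[S] v) = 0 := by
    rw [one_smul]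
    refine hpow k _ ?_
    rw [← map_pow, hsmul, hv, TensorProduct.tmul_zero]
  have h2 := mem_map_annE_of_flat v h1
  by_contra! hne
  have hle : (annE S v).map (algebraMap S C) ≤ c := Ideal.map_le_iff_le_comap.mpr fun s hs => by
    rw [hcx]
    by_contra hsx
    exact hne s hsx (mem_annE.1 hs)
  exact hc.ne_top ((Ideal.eq_top_iff_one c).mpr (hle h2))

/-- Avoiding finitely many primes inside an ideal. -/
theorem exists_mem_forall_notMem {S : Type u} [CommRing S] {W : Set (Ideal S)} (hW : W.Finite)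
    (hprime : ∀ P ∈ W, P.IsPrime) (J : Ideal S) (hJ : ∀ P ∈ W, ¬ J ≤ P) : ∃ g ∈ J, ∀ P ∈ W, g ∉ P := by
  classical
  by_contra! hne
  have hsub : (J : Set S) ⊆ ⋃ P ∈ (↑hW.toFinset : Set (Ideal S)), P := by
    intro g hg
    obtain ⟨P, hP, hgP⟩ := hne g hg
    simp only [Set.mem_iUnion]
    exact ⟨P, Finset.mem_coe.2 (hW.mem_toFinset.2 hP), hgP⟩
  obtain ⟨P, hP, hle⟩ := (Ideal.subset_union_prime (f := id) ⊥ ⊥ (fun P hP _ _ =>
    hprime P (hW.mem_toFinset.1 hP))).1 hsub
  exact hJ P (hW.mem_toFinset.1 hP) hle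

attribute [local instance] Algebra.TensorProduct.rightAlgebra in
/-- A pushout has a single point over a point and a point with trivial residue extension over it. -/
theorem point_pushout_unique {A B A' BA : Type u} [CommRing A] [CommRing B] [CommRing A'] [CommRing BA]
    [Algebra A B] [Algebra A A'] [Algebra B BA] [Algebra A' BA] [Algebra A BA] [IsScalarTower A B BA]
    [IsScalarTower A A' BA] [Algebra.IsPushout A B A' BA] (p : Ideal A) [p.IsPrime] (q : Ideal B) [q.IsPrime]
    [q.LiesOver p] (p' : Ideal A') [p'.IsPrime] (hp : TrivRes A p p') (P₁ P₂ : Ideal BA) [P₁.IsPrime] [P₂.IsPrime]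
    [P₁.LiesOver p'] [P₂.LiesOver p'] (h₁ : P₁.LiesOver q) (h₂ : P₂.LiesOver q) : P₁ = P₂ := by
  haveI : Algebra.IsPushout A A' B BA := Algebra.IsPushout.symm inferInstance
  let e := Algebra.IsPushout.equiv A A' B BA
  obtain ⟨Q, _, -, -, hQ⟩ := exists_point_pushout p q p' hp
  have key : ∀ P : Ideal BA, [P.IsPrime] → [P.LiesOver p'] → [P.LiesOver q] → P.comap e.toRingEquiv.toRingHom = Q := by
    intro P _ _ _
    refine hQ _ ⟨?_⟩ ⟨?_⟩
    · ext a
      rw [Ideal.mem_comap, Ideal.mem_comap, Ideal.mem_of_liesOver P p']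
      exact iff_of_eq (congrArg (· ∈ P) (e.commutes a).symm)
    · ext b
      rw [Ideal.mem_comap, Ideal.mem_comap, Ideal.mem_of_liesOver P q, Algebra.TensorProduct.right_algebraMap_apply]
      refine iff_of_eq (congrArg (· ∈ P) ?_)
      show algebraMap B BA b = e ((1 : A') ⊗ₜ b)
      rw [Algebra.IsPushout.equiv_tmul, map_one, one_mul]
  exact Ideal.comap_injective_of_surjective e.toRingEquiv.toRingHom e.surjective ((key P₁).trans (key P₂).symm)

/-- Finite type along a pushout. -/
theorem finiteType_pushout {R S R' S' : Type u} [CommRing R] [CommRing S] [CommRing R'] [CommRing S'] [Algebra R S]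
    [Algebra R R'] [Algebra S S'] [Algebra R' S'] [Algebra R S'] [IsScalarTower R S S'] [IsScalarTower R R' S']
    [Algebra.IsPushout R S R' S'] [Algebra.FiniteType R S] : Algebra.FiniteType R' S' := by
  haveI : Algebra.IsPushout R R' S S' := Algebra.IsPushout.symm inferInstance
  exact Algebra.FiniteType.equiv inferInstance (Algebra.IsPushout.equiv R R' S S')

section Cover

variable {A' BA B' : Type u} [CommRing A'] [CommRing BA] [CommRing B'] [Algebra A' BA] [Algebra BA B'] [Algebra A' B']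
  [IsScalarTower A' BA B'] [Algebra.FiniteType A' BA] [Algebra.Etale BA B']
  (NA : Type u) [AddCommGroup NA] [Module BA NA] [Module A' NA] [IsScalarTower A' BA NA] [Module.Finite BA NA]
  (p' : Ideal A') [p'.IsPrime]

/-- A pure module has all its relative associated points in an étale open containing those of the special fibre. -/
theorem exists_lift_of_pure (hflat : ∀ (x : Ideal BA) [x.IsPrime], x.LiesOver p' → FlatCA.FlatAt A' x NA)
    (hspec : ∀ P ∈ FlatCA.weakAss BA (NA ⊗[A'] p'.ResidueField),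
      ∃ P' : Ideal B', P'.IsPrime ∧ P'.comap (algebraMap BA B') = P)
    (hpure : FlatCA.IsPureAlong A' BA NA p') (t' : Ideal A') [t'.IsPrime] (ht' : t' ≤ p')
    (Q : Ideal BA) [Q.IsPrime] [Q.LiesOver t'] (hQ : Q ∈ FlatCA.weakAss BA (NA ⊗[A'] t'.ResidueField)) :
    ∃ Q' : Ideal B', Q'.IsPrime ∧ Q'.comap (algebraMap BA B') = Q := by
  classical
  by_contra hne
  have hopen := (PrimeSpectrum.isOpenMap_comap_of_hasGoingDown_of_finitePresentation (R := BA) (S := B')).isOpen_range
  obtain ⟨J, hJ⟩ := (PrimeSpectrum.isClosed_iff_zeroLocus_ideal _).mp hopen.isClosed_compl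
  have hiff : ∀ (P : Ideal BA) [P.IsPrime], J ≤ P ↔ ¬ ∃ P' : Ideal B', P'.IsPrime ∧ P'.comap (algebraMap BA B') = P := by
    intro P hP
    have := Set.ext_iff.mp hJ ⟨P, hP⟩
    rw [PrimeSpectrum.mem_zeroLocus, Set.mem_compl_iff, Set.mem_range] at this
    refine Iff.trans (Iff.symm this) (not_congr ⟨fun ⟨y, hy⟩ => ⟨y.asIdeal, y.2, congrArg PrimeSpectrum.asIdeal hy⟩,
      fun ⟨P', hP', h⟩ => ⟨⟨P', hP'⟩, PrimeSpectrum.ext h⟩⟩)
  have hJQ : J ≤ Q := (hiff Q).2 hne
  -- purity gives a point of the special fibre in the closure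
  obtain ⟨x, hxprime, hQx, hxp⟩ : ∃ x : Ideal BA, x.IsPrime ∧ Q ≤ x ∧ x.LiesOver p' := by
    by_contra! hno
    haveI : Algebra.IsPushout A' BA A' BA := Algebra.IsPushout.symm inferInstance
    exact hpure A' BA NA LinearMap.id t' p' Q ⟨inferInstance, trivRes_self p'⟩
      ⟨inferInstance, IsBaseChange.of_equiv (TensorProduct.lid BA NA) fun x => by rw [TensorProduct.lid_tmul, one_smul]; rfl, ht', ⟨(Ideal.comap_id p').symm⟩, inferInstance,
        (fiberIdeal_mem_ass_iff_weakAss t' NA Q).mpr hQ, fun P' hP' hle => hno P' hP' hle⟩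
  haveI := hxprime
  haveI := hxp
  have hW := finite_weakAss_fibre (S := BA) p' NA
  obtain ⟨g, hgJ, hgW⟩ := exists_mem_forall_notMem hW (fun P hP => isPrime_of_mem_weakAss hP) J (fun P hP hle => by
    haveI := isPrime_of_mem_weakAss hP
    exact (hiff P).1 hle (hspec P hP))
  have hreg : IsSMulRegular (NA ⊗[A'] p'.ResidueField) g := by
    by_contra h
    obtain ⟨P, hP, hgP⟩ := exists_mem_weakAss_of_not_isSMulRegular h
    exact hgW P hP hgP
  obtain ⟨z, hz1, hz2⟩ := mem_weakAss_iff_exists.1 hQ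
  obtain ⟨s, hs, k, hk⟩ := hz2 g (hJQ hgJ)
  have h0 : g ^ k • (s • z) = 0 := by rwa [smul_smul, mul_comm]
  obtain ⟨s', hs', h1⟩ := exists_smul_eq_zero_of_regular NA t'.ResidueField p' x (hflat x hxp) g
    (fun y hy => ⟨1, fun h => hxprime.ne_top ((Ideal.eq_top_iff_one x).mpr h), by
      rw [one_smul]; exact hreg.right_eq_zero_of_smul hy⟩) k (s • z) h0
  rw [smul_smul] at h1
  exact hz1 _ (fun h => (Ideal.IsPrime.mem_or_mem inferInstance h).elim (fun h' => hs' (hQx h')) hs) h1

set_option maxHeartbeats 1000000 in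
/-- Purity of an étale cover of all relative associated points descends. -/
theorem pure_of_lift (N' : Type u) [AddCommGroup N'] [Module B' N'] [Module BA N'] [IsScalarTower BA B' N']
    [Module A' N'] [IsScalarTower A' B' N'] (g : NA →ₗ[BA] N') (hg : IsBaseChange B' g)
    (hpure : FlatCA.IsPureAlong A' B' N' p')
    (H : ∀ (t' : Ideal A') [t'.IsPrime], t' ≤ p' → ∀ (Q : Ideal BA) [Q.IsPrime], Q.LiesOver t' →
      Q ∈ FlatCA.weakAss BA (NA ⊗[A'] t'.ResidueField) →
      ∃ Q' : Ideal B', Q'.IsPrime ∧ Q'.comap (algebraMap BA B') = Q) :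
    FlatCA.IsPureAlong A' BA NA p' := by
  intro A'' B'' N'' _ _ _ _ _ _ _ _ _ _ _ _ _ _ f t' t _ _ P _ hnhd himp
  obtain ⟨hpush, hf, htt, ht, hP, hass, hno⟩ := himp
  haveI := hpush
  haveI := hP
  haveI : Algebra.FiniteType A'' B'' := finiteType_pushout (R := A') (S := BA)
  have hPw : P ∈ FlatCA.weakAss B'' (N'' ⊗[A''] t'.ResidueField) :=
    (fiberIdeal_mem_ass_iff_weakAss t' N'' P).mp hass
  let s := t'.under A'
  let Q := P.comap (algebraMap BA B'')
  have hQw : Q ∈ FlatCA.weakAss BA (NA ⊗[A'] s.ResidueField) := mem_weakAss_fibre_comap NA N'' f hf t' s P hPw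
  have hsle : s ≤ p' := by
    rw [show p' = t.under A' from ht.over]
    exact Ideal.comap_mono htt
  obtain ⟨Q', hQ', hQ'Q⟩ := H s hsle Q (liesOver_of_mem_weakAss_fibre s NA hQw) hQw
  -- the base change of the neighbourhood
  let B₃ := B' ⊗[BA] B''
  letI : Algebra B'' B₃ := Algebra.TensorProduct.rightAlgebra
  haveI : IsScalarTower BA B'' B₃ := Algebra.TensorProduct.right_isScalarTower
  letI : Algebra A'' B₃ := ((algebraMap B'' B₃).comp (algebraMap A'' B'')).toAlgebra
  haveI : IsScalarTower A'' B'' B₃ := IsScalarTower.of_algebraMap_eq' rfl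
  haveI : IsScalarTower A' A'' B₃ := IsScalarTower.of_algebraMap_eq fun a => by
    rw [IsScalarTower.algebraMap_apply A'' B'' B₃, ← IsScalarTower.algebraMap_apply A' A'' B'',
      IsScalarTower.algebraMap_apply A' BA B'', ← IsScalarTower.algebraMap_apply BA B'' B₃,
      IsScalarTower.algebraMap_apply BA B' B₃, ← IsScalarTower.algebraMap_apply A' BA B',
      ← IsScalarTower.algebraMap_apply A' B' B₃]
  haveI : Algebra.IsPushout BA B' B'' B₃ := inferInstance
  haveI : IsScalarTower A' B'' B₃ := IsScalarTower.of_algebraMap_eq fun a => by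
    rw [IsScalarTower.algebraMap_apply A' A'' B₃, IsScalarTower.algebraMap_apply A' A'' B'',
      ← IsScalarTower.algebraMap_apply A'' B'' B₃]
  haveI : Algebra.IsPushout A' B' A'' B₃ :=
    (Algebra.IsPushout.comp_iff A' BA (T := B') (R' := A'') (S' := B'') (T' := B₃)).mpr inferInstance
  obtain ⟨P', hP', hP'Q, hP'P⟩ := Groth.L20.exists_prime_isPushout (R := BA) (S := B') (R' := B'') (S' := B₃) Q' P hQ'Q
  haveI : P'.LiesOver P := ⟨hP'P.symm⟩
  haveI : P'.LiesOver t' := Ideal.LiesOver.trans P' P t'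
  haveI : Algebra.Etale B'' B₃ := etale_pushout
  haveI : SMulCommClass B'' B' B₃ := ⟨fun a b c => by simp only [Algebra.smul_def]; ring⟩
  haveI : SMulCommClass B'' A'' B₃ := ⟨fun a b c => by simp only [Algebra.smul_def]; ring⟩
  haveI : SMulCommClass B'' BA B₃ := ⟨fun a b c => by simp only [Algebra.smul_def]; ring⟩
  let N₃ := B₃ ⊗[B''] N''
  haveI : IsScalarTower B' B₃ N₃ := TensorProduct.isScalarTower_left
  haveI : IsScalarTower A'' B₃ N₃ := TensorProduct.isScalarTower_left
  haveI : IsScalarTower BA B₃ N₃ := TensorProduct.isScalarTower_left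
  haveI : IsScalarTower BA B' N₃ := IsScalarTower.of_algebraMap_smul fun r m => by
    rw [← algebraMap_smul B₃ (algebraMap BA B' r) m, ← IsScalarTower.algebraMap_apply, algebraMap_smul]
  haveI : IsScalarTower BA B'' N₃ := IsScalarTower.of_algebraMap_smul fun r m => by
    rw [← algebraMap_smul B₃ (algebraMap BA B'' r) m, ← IsScalarTower.algebraMap_apply, algebraMap_smul]
  let f₃ : N'' →ₗ[B''] N₃ := TensorProduct.mk B'' B₃ N'' 1
  have hf₃ : IsBaseChange B₃ f₃ := TensorProduct.isBaseChange B'' N'' B₃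
  have hcomp : IsBaseChange B₃ ((f₃.restrictScalars BA).comp f) := IsBaseChange.comp hf hf₃
  let h₂ : N' →ₗ[B'] N₃ := hg.lift ((f₃.restrictScalars BA).comp f)
  have hh₂ : IsBaseChange B₃ h₂ := IsBaseChange.of_comp hg (by rw [hg.lift_comp]; exact hcomp)
  haveI : Algebra.FiniteType A'' B₃ := Algebra.FiniteType.trans (inferInstance : Algebra.FiniteType A'' B'') inferInstance
  have hP'w : P' ∈ FlatCA.weakAss B₃ (N₃ ⊗[A''] t'.ResidueField) := by
    rw [Groth.L20.WeakAssFinite.weakAss_congr (AlgebraTensorModule.assoc A'' B'' B₃ B₃ N'' t'.ResidueField)]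
    exact (Groth.L20.WeakAssFinite.mem_weakAss_tensor_iff_of_etale P P').mpr hPw
  refine hpure A'' B₃ N₃ h₂ t' t P' hnhd ⟨inferInstance, hh₂, htt, ht, inferInstance,
    (fiberIdeal_mem_ass_iff_weakAss t' N₃ P').mpr hP'w, fun P'' hP'' hle hover => ?_⟩
  refine hno (P''.comap (algebraMap B'' B₃)) (hP'P ▸ Ideal.comap_mono hle) ⟨?_⟩
  rw [Ideal.under_def, Ideal.comap_comap, ← IsScalarTower.algebraMap_eq]
  exact hover.over

end Cover

end Groth.L20.RG
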