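import Groth.Agent.L20.RG.InjModFlat
import Groth.Agent.L20.RG.PureSpread

/-!
# Flatness along the generisations of a point, from a covering of the associated points

If finitely many elements avoid the associated points of the fibres over generisations of `p`, and the module maps to a
flat module by a map whose kernel modulo every prime is killed by powers of these elements, then the module is flat
over the generisations of `p`, and elements killed by these elements die near `p`.
-/

set_option autoImplicit false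
set_option linter.style.haveILetI false
set_option backward.isDefEq.respectTransparency.types false
universe u

open TensorProduct

noncomputable section

namespace Groth.L20.RG

open Groth.L03.WeakAss

/-- An element vanishing after a flat extension is killed by powers of the elements cutting out the image. -/
theorem exists_pow_smul_of_one_tmul {B : Type u} [CommRing B] (G : Finset B) (C : Type u) [CommRing C] [Algebra B C]
    [Module.Flat B C]
    (hC : ∀ (Q : Ideal B) [Q.IsPrime], (∃ g ∈ G, g ∉ Q) → ∃ x : Ideal C, x.IsPrime ∧ x.comap (algebraMap B C) = Q)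
    {W : Type u} [AddCommGroup W] [Module B W] (z : W) (hz : (1 : C) ⊗ₜ[B] z = 0) :
    ∀ g ∈ G, ∃ k : ℕ, g ^ k • z = 0 := fun g hg => by
  refine exists_pow_smul_of_weakAss fun P hP hle => ?_
  haveI : P.IsPrime := by
    obtain ⟨y, hy⟩ := hP
    exact hy.isPrime
  by_contra hgP
  obtain ⟨x, hx, hxP⟩ := hC P ⟨g, hg, hgP⟩
  haveI := hx
  exact one_tmul_ne_zero_of_le x (by rw [hxP]; exact hle) hz

/-- An element vanishing at the residue field of a prime is, up to a scalar outside the prime, a multiple of it. -/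
theorem exists_smul_mem_of_tmul_residueField {A N : Type u} [CommRing A] [AddCommGroup N] [Module A N] (t : Ideal A)
    [t.IsPrime] (x : N) (hx : x ⊗ₜ[A] (1 : t.ResidueField) = 0) : ∃ a ∉ t, a • x ∈ (t • ⊤ : Submodule A N) := by
  let φ : (A ⧸ t) →ₗ[A] t.ResidueField := (IsScalarTower.toAlgHom A (A ⧸ t) t.ResidueField).toLinearMap
  haveI : IsLocalizedModule t.primeCompl φ := by
    refine ⟨fun s => ?_, fun y => ?_, fun {a b} h => ⟨1, by rw [one_smul, one_smul]; exact t.injective_algebraMap_quotient_residueField h⟩⟩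
    · have hs : algebraMap A t.ResidueField s ≠ 0 := fun h0 => s.2 (Ideal.algebraMap_residueField_eq_zero.mp h0)
      rw [Module.End.isUnit_iff]
      refine Function.bijective_iff_has_inverse.mpr ⟨fun y => (algebraMap A t.ResidueField s)⁻¹ * y, fun y => ?_, fun y => ?_⟩
      · show (algebraMap A t.ResidueField s)⁻¹ * ((s : A) • y) = y
        rw [Algebra.smul_def, ← mul_assoc, inv_mul_cancel₀ hs, one_mul]
      · show (s : A) • ((algebraMap A t.ResidueField s)⁻¹ * y) = y
        rw [Algebra.smul_def, ← mul_assoc, mul_inv_cancel₀ hs, one_mul]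
    · obtain ⟨a, b, hb, rfl⟩ := IsFractionRing.div_surjective (A ⧸ t) y
      obtain ⟨s, rfl⟩ := Ideal.Quotient.mk_surjective b
      refine ⟨⟨a, ⟨s, fun hs => nonZeroDivisors.ne_zero hb (Ideal.Quotient.eq_zero_iff_mem.mpr hs)⟩⟩, ?_⟩
      show (s : A) • (algebraMap (A ⧸ t) t.ResidueField a / algebraMap (A ⧸ t) t.ResidueField _) = φ a
      rw [Algebra.smul_def, IsScalarTower.algebraMap_apply A (A ⧸ t) t.ResidueField, Ideal.Quotient.algebraMap_eq,
        mul_div_cancel₀]
      · rfl
      · exact fun h0 => nonZeroDivisors.ne_zero hb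
          (t.injective_algebraMap_quotient_residueField (h0.trans (map_zero _).symm))
  let Φ := AlgebraTensorModule.rTensor A N φ
  have h0 : Φ ((1 : A ⧸ t) ⊗ₜ[A] x) = 0 := by
    rw [AlgebraTensorModule.rTensor_tmul]
    show algebraMap (A ⧸ t) t.ResidueField 1 ⊗ₜ[A] x = 0
    rw [map_one]
    exact (TensorProduct.comm A N t.ResidueField).map_eq_zero_iff.mpr hx
  obtain ⟨⟨a, ha⟩, hax⟩ := (IsLocalizedModule.eq_zero_iff t.primeCompl Φ).mp h0
  refine ⟨a, ha, ?_⟩
  have h1 : TensorProduct.quotTensorEquivQuotSMul N t ((1 : A ⧸ t) ⊗ₜ[A] (a • x)) = 0 := by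
    rw [TensorProduct.tmul_smul]
    exact (LinearEquiv.map_eq_zero_iff _).mpr hax
  rw [← Submodule.Quotient.mk_eq_zero]
  rw [← map_one (Ideal.Quotient.mk t), TensorProduct.quotTensorEquivQuotSMul_mk_tmul, one_smul] at h1
  exact h1

variable {A S : Type u} [CommRing A] [CommRing S] [Algebra A S] [Algebra.FiniteType A S]
  (N : Type u) [AddCommGroup N] [Module S N] [Module A N] [IsScalarTower A S N] [Module.Finite S N]
  (p : Ideal A) [hp : p.IsPrime]

/-- Flatness at the primes over generisations of `p`. -/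
theorem flatAt_of_covered (G : Finset S)
    (hG : ∀ (P : Ideal S) [P.IsPrime] (t : Ideal A) [t.IsPrime] [P.LiesOver t], t ≤ p →
      P ∈ FlatCA.weakAss S (N ⊗[A] t.ResidueField) → ∃ g ∈ G, g ∉ P)
    {M : Type u} [AddCommGroup M] [Module S M] [Module A M] [IsScalarTower A S M] [Module.Flat A M] (u : N →ₗ[S] M)
    (hker : ∀ (I : Ideal A) (x : N), u x ∈ (I.map (algebraMap A S) • ⊤ : Submodule S M) →
      ∀ g ∈ G, ∃ k : ℕ, g ^ k • x ∈ (I.map (algebraMap A S) • ⊤ : Submodule S N))
    (Q : Ideal S) [Q.IsPrime] (t : Ideal A) [t.IsPrime] [Q.LiesOver t] (ht : t ≤ p) : FlatCA.FlatAt A Q N := by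
  refine (flat_univInj_of_injMod_prime Q N t u fun x hx => ?_).1
  let w : N ⊗[A] t.ResidueField := x ⊗ₜ[A] 1
  have htS : (t.map (algebraMap A S) • ⊤ : Submodule S N).restrictScalars A = t • ⊤ :=
    by rw [Ideal.smul_restrictScalars, Submodule.restrictScalars_top]
  have hkill : ∀ y ∈ (t.map (algebraMap A S) • ⊤ : Submodule S N), y ⊗ₜ[A] (1 : t.ResidueField) = 0 := fun y hy => by
    replace hy : y ∈ (t • ⊤ : Submodule A N) := htS ▸ hy
    refine Submodule.smul_induction_on hy (fun a ha n _ => ?_) fun a b ha hb => by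
      rw [TensorProduct.add_tmul, ha, hb, add_zero]
    rw [TensorProduct.smul_tmul, Algebra.smul_def, Ideal.algebraMap_residueField_eq_zero.mpr ha, zero_mul,
      TensorProduct.tmul_zero]
  obtain ⟨s, hs, hsw⟩ : ∃ s ∉ Q, s • w = 0 := by
    by_contra! hne
    have hle : annE S w ≤ Q := fun s hs => by
      by_contra hsQ
      exact hne s hsQ (mem_annE.1 hs)
    obtain ⟨P, hP, hPQ⟩ := Ideal.exists_minimalPrimes_le hle
    haveI := hP.isPrime
    haveI : P.LiesOver t := ⟨le_antisymm (fun a ha => hP.le (mem_annE.2 (by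
        rw [TensorProduct.smul_tmul', algebraMap_smul, TensorProduct.smul_tmul, Algebra.smul_def,
          Ideal.algebraMap_residueField_eq_zero.mpr ha, zero_mul, TensorProduct.tmul_zero])))
      fun a ha => (Ideal.mem_of_liesOver Q t a).mpr (hPQ ha)⟩
    obtain ⟨g, hg, hgP⟩ := hG P t ht ⟨w, hP⟩
    obtain ⟨k, hk⟩ := hker t x hx g hg
    exact hgP ((inferInstance : P.IsPrime).mem_of_pow_mem k (hP.le (mem_annE.2 (by
      rw [TensorProduct.smul_tmul']; exact hkill _ hk))))
  rw [TensorProduct.smul_tmul'] at hsw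
  obtain ⟨a, ha, hax⟩ := exists_smul_mem_of_tmul_residueField t (s • x) hsw
  refine ⟨algebraMap A S a * s, fun hm => (Ideal.IsPrime.mem_or_mem ‹Q.IsPrime› hm).elim
    (fun h => ha ((Ideal.mem_of_liesOver Q t a).mpr h)) hs, ?_⟩
  rw [mul_smul, algebraMap_smul]
  rw [← htS] at hax
  exact hax

/-- Elements killed by `G` die near `p`, when the module is flat over the generisations of `p`. -/
theorem exists_smul_of_killed_of_flatAt (G : Finset S)
    (hG : ∀ (P : Ideal S) [P.IsPrime] (t : Ideal A) [t.IsPrime] [P.LiesOver t], t ≤ p →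
      P ∈ FlatCA.weakAss S (N ⊗[A] t.ResidueField) → ∃ g ∈ G, g ∉ P)
    (hflat : ∀ (P : Ideal S) [P.IsPrime] (t : Ideal A) [t.IsPrime] [P.LiesOver t], t ≤ p → FlatCA.FlatAt A P N)
    (X : Type u) [AddCommGroup X] [Module A X] (z : N ⊗[A] X) (hz : ∀ g ∈ G, g • z = 0) :
    ∃ r ∉ p, algebraMap A S r • z = 0 := by
  by_contra! hne
  have hdis : Disjoint (annE S z : Set S) (Algebra.algebraMapSubmonoid S p.primeCompl : Set S) := by
    rw [Set.disjoint_left]
    rintro _ h ⟨r, hr, rfl⟩
    exact hne r hr (mem_annE.1 h)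
  obtain ⟨Pm, hPm, hle, hPT⟩ := Ideal.exists_le_prime_disjoint _ _ hdis
  haveI := hPm
  obtain ⟨P, hP, hPle⟩ := Ideal.exists_minimalPrimes_le hle
  haveI := hP.isPrime
  let t := P.comap (algebraMap A S)
  haveI : P.LiesOver t := ⟨rfl⟩
  have htp : t ≤ p := fun a ha => by
    by_contra hap
    exact Set.disjoint_left.1 hPT (hPle (show algebraMap A S a ∈ P from ha)) ⟨a, hap, rfl⟩
  have h2 := (of_mem_weakAss_tensor N X t P (hflat P t htp) ⟨z, hP⟩).2
  obtain ⟨g, hg, hgP⟩ := hG P t htp h2
  exact hgP (hP.le (mem_annE.2 (hz g hg)))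

end Groth.L20.RG
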