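import Groth.Agent.L20.RG.PureStageA
import Groth.Agent.L20.RG.PureProj
import Groth.Agent.L20.Stage.Tensor
import Groth.Agent.L07.FlatStage

/-!
# Descent of flatness together with the absence of killed elements, and projectivity

Along a directed colimit of rings, "flat, and no nonzero element killed by `G` after any tensoring" descends to a
stage; with a flat covering of `D(G)` by an algebra over which the module is projective it gives projectivity.
-/

set_option autoImplicit false
set_option linter.style.haveILetI false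
set_option backward.isDefEq.respectTransparency.types false
universe u

open TensorProduct

noncomputable section

namespace Groth.L20.RG

/-- No nonzero element of `N ⊗ X` is killed by all the elements of `G`. -/
def NoKilled (R : Type u) {B : Type u} [CommRing R] [CommRing B] [Algebra R B] (N : Type u) [AddCommGroup N]
    [Module B N] [Module R N] [IsScalarTower R B N] (G : Finset B) (X : Type u) [AddCommGroup X] [Module R X] : Prop :=
  ∀ z : N ⊗[R] X, (∀ g ∈ G, g • z = 0) → z = 0

/-- An element in the kernel of a tensored map with flat cokernel comes from the tensored kernel. -/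
theorem mem_range_rTensor_ker {R A N' X Y : Type u} [CommRing R] [CommRing A] [Algebra R A] [AddCommGroup N']
    [Module A N'] [Module R N'] [IsScalarTower R A N'] [AddCommGroup X] [Module A X] [Module R X]
    [IsScalarTower R A X] [AddCommGroup Y] [Module A Y] [Module R Y] [IsScalarTower R A Y] [Module.Flat R Y]
    (u : N' →ₗ[A] X) (π : X →ₗ[A] Y) (hπ : Function.Surjective π) (hex : Function.Exact u π)
    (M : Type u) [AddCommGroup M] [Module R M] (w : N' ⊗[R] M) (hw : (u.restrictScalars R).rTensor M w = 0) :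
    w ∈ LinearMap.range (((LinearMap.ker u).subtype.restrictScalars R).rTensor M) := by
  let uK : N' →ₗ[A] ↥(LinearMap.ker π) := u.codRestrict _ fun y => hex.apply_apply_eq_zero y
  have huK : Function.Surjective uK := fun x => by
    obtain ⟨y, hy⟩ := (hex x.1).1 x.2
    exact ⟨y, Subtype.ext hy⟩
  have h1 : (uK.restrictScalars R).rTensor M w = 0 := by
    refine rTensor_injective_ker (R := R) π hπ M ?_
    rw [map_zero, ← hw, ← LinearMap.comp_apply, ← LinearMap.rTensor_comp]
    rfl
  have hexU : Function.Exact ((LinearMap.ker u).subtype.restrictScalars R) (uK.restrictScalars R) := fun y =>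
    ⟨fun h => ⟨⟨y, congrArg Subtype.val h⟩, rfl⟩, by rintro ⟨k, rfl⟩; exact Subtype.ext k.2⟩
  exact (rTensor_exact M hexU (show Function.Surjective (uK.restrictScalars R) from huK) w).1 h1

/-- A finitely presented module over a finitely presented algebra which is flat over a colimit is flat at a stage. -/
theorem exists_flat_stage' {R : Type u} [CommRing R] {B₀ : Type u} [CommRing B₀] [Algebra R B₀]
    [Algebra.FinitePresentation R B₀] (M₀ : Type u) [AddCommGroup M₀] [Module B₀ M₀] [Module R M₀]
    [IsScalarTower R B₀ M₀] [Module.FinitePresentation B₀ M₀] {ι : Type u} [Preorder ι] {G : ι → Type u}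
    [∀ i, CommRing (G i)] [∀ i, Algebra R (G i)] (g : ∀ i j, i ≤ j → G i →+* G j)
    (hgR : ∀ i j (h : i ≤ j), (g i j h).comp (algebraMap R (G i)) = algebraMap R (G j))
    {A' : Type u} [CommRing A'] [Algebra R A'] [∀ i, Algebra (G i) A'] [∀ i, IsScalarTower R (G i) A']
    (hcolim : FlatCA.IsDirectedColimitRing G g A') [Module.Flat A' (A' ⊗[R] M₀)] :
    ∃ i, ∀ j, i ≤ j → Module.Flat (G j) (G j ⊗[R] M₀) := by
  obtain ⟨d, n, R₀, hR₀, K, ⟨e⟩⟩ := Groth.L07.FlatDescent.exists_model R (B₀ := B₀) M₀
  haveI := hR₀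
  haveI : ∀ i, IsScalarTower R₀ (G i) A' := fun i => IsScalarTower.of_algebraMap_eq fun r =>
    IsScalarTower.algebraMap_apply R (G i) A' (r : R)
  obtain ⟨e'⟩ := Groth.L07.FlatDescent.exists_modelEquiv K e A'
  haveI : Module.Flat A' (Groth.L07.FlatDescent.MC A' K) := Module.Flat.of_linearEquiv e'.symm
  obtain ⟨i, hi⟩ := Groth.L07.FlatDescent.exists_flat_stage K (R := R₀)
    (fun i j h => RingHom.ext fun r => RingHom.congr_fun (hgR i j h) (r : R)) hcolim
  refine ⟨i, fun j hij => ?_⟩
  letI : Algebra (G i) (G j) := (g i j hij).toAlgebra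
  haveI : IsScalarTower R₀ (G i) (G j) := IsScalarTower.of_algebraMap_eq fun r =>
    (RingHom.congr_fun (hgR i j hij) (r : R)).symm
  haveI := hi
  haveI : Module.Flat (G j) (Groth.L07.FlatDescent.MC (G j) K) :=
    Groth.L07.FlatDescent.flat_MC_of_flat K (A := G i)
  obtain ⟨ej⟩ := Groth.L07.FlatDescent.exists_modelEquiv K e (G j)
  exact Module.Flat.of_linearEquiv ej

section Transport

variable {R : Type u} [CommRing R] {B₀ : Type u} [CommRing B₀] [Algebra R B₀]
  {M : Type u} [AddCommGroup M] [Module B₀ M] [Module R M] [IsScalarTower R B₀ M]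
  {M' : Type u} [AddCommGroup M'] [Module B₀ M'] [Module R M'] [IsScalarTower R B₀ M']

/-- Tensoring over a base change with a module over the new base. -/
theorem rTensor_baseChange_eq (u : M →ₗ[R] M') (T : Type u) [CommRing T] [Algebra R T] (X : Type u) [AddCommGroup X]
    [Module T X] [Module R X] [IsScalarTower R T X] (w : X ⊗[T] (T ⊗[R] M)) :
    TensorProduct.comm R X M' (AlgebraTensorModule.cancelBaseChange R T T X M' ((u.baseChange T).lTensor X w)) =
      u.rTensor X (TensorProduct.comm R X M (AlgebraTensorModule.cancelBaseChange R T T X M w)) := by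
  induction w using TensorProduct.induction_on with
  | zero => simp
  | add a b ha hb => simp only [map_add, ha, hb]
  | tmul x y =>
    induction y using TensorProduct.induction_on with
    | zero => simp
    | add a b ha hb => simp only [TensorProduct.tmul_add, map_add, ha, hb]
    | tmul t n => simp [TensorProduct.tmul_smul]

end Transport

set_option maxHeartbeats 1000000 in
/-- **Descent to a stage of flatness and of the absence of killed elements.** -/
theorem exists_noKilled_stage {R : Type u} [CommRing R] {B₀ : Type u} [CommRing B₀] [Algebra R B₀]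
    [Algebra.FinitePresentation R B₀] (N₀ : Type u) [AddCommGroup N₀] [Module B₀ N₀] [Module R N₀]
    [IsScalarTower R B₀ N₀] [Module.FinitePresentation B₀ N₀] (Gs : Finset B₀) {ι : Type u} [Preorder ι]
    {G : ι → Type u} [∀ i, CommRing (G i)] [∀ i, Algebra R (G i)] (g : ∀ i j, i ≤ j → G i →+* G j)
    (hgR : ∀ i j (h : i ≤ j), (g i j h).comp (algebraMap R (G i)) = algebraMap R (G j))
    {A' : Type u} [CommRing A'] [Algebra R A'] [∀ i, Algebra (G i) A'] [∀ i, IsScalarTower R (G i) A']
    (hcolim : FlatCA.IsDirectedColimitRing G g A') [Module.Flat A' (A' ⊗[R] N₀)]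
    (hkill : ∀ (X : Type u) [AddCommGroup X] [Module A' X] [Module R X] [IsScalarTower R A' X], NoKilled R N₀ Gs X) :
    ∃ l, Module.Flat (G l) (G l ⊗[R] N₀) ∧
      ∀ (X : Type u) [AddCommGroup X] [Module (G l) X] [Module R X] [IsScalarTower R (G l) X], NoKilled R N₀ Gs X := by
  classical
  let X₀ := ↥Gs → N₀
  let u₀ : N₀ →ₗ[B₀] X₀ := mulMap N₀ Gs
  let Q₀ := X₀ ⧸ LinearMap.range u₀
  let π₀ : X₀ →ₗ[B₀] Q₀ := (LinearMap.range u₀).mkQ
  have hπ₀ : Function.Surjective π₀ := Submodule.mkQ_surjective _
  have hex₀ : Function.Exact u₀ π₀ := LinearMap.exact_map_mkQ_range u₀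
  haveI : Module.FinitePresentation B₀ Q₀ :=
    Module.finitePresentation_of_surjective π₀ hπ₀ (by
      rw [Submodule.ker_mkQ, LinearMap.range_eq_map]
      exact Module.Finite.fg_top.map u₀)
  have hker : ∀ (M : Type u) [AddCommGroup M] [Module R M] (z : N₀ ⊗[R] M),
      (u₀.restrictScalars R).rTensor M z = 0 → ∀ g ∈ Gs, g • z = 0 := fun M _ _ z hz =>
    smul_eq_zero_of_mulMap N₀ Gs M hz
  -- the cokernel is flat over the colimit
  haveI : Module.Flat A' (A' ⊗[R] Q₀) := by
    let ua := (u₀.restrictScalars R).baseChange A'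
    let πa := (π₀.restrictScalars R).baseChange A'
    haveI : Module.Flat A' (↥Gs → A' ⊗[R] N₀) := Module.Flat.of_linearEquiv
      (DFinsupp.linearEquivFunOnFintype (R := A') (M := fun _ : ↥Gs => A' ⊗[R] N₀)).symm
    haveI : Module.Flat A' (A' ⊗[R] X₀) :=
      Module.Flat.of_linearEquiv (TensorProduct.piRight R A' A' fun _ : ↥Gs => N₀)
    have hI : ∀ I : Ideal A', Function.Injective (ua.lTensor (A' ⧸ I)) := fun I => by
      refine (injective_iff_map_eq_zero _).mpr fun w hw => ?_
      have h1 := rTensor_baseChange_eq (u₀.restrictScalars R) A' (A' ⧸ I) w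
      rw [hw, map_zero, map_zero] at h1
      exact (AlgebraTensorModule.cancelBaseChange R A' A' (A' ⧸ I) N₀).injective
        ((TensorProduct.comm R (A' ⧸ I) N₀).injective (by
          rw [map_zero, map_zero]; exact hkill _ _ (hker _ _ h1.symm)))
    haveI := Groth.L20.flat_quotient_range_of_lTensor_injective ua hI
    have hexa : Function.Exact ua πa := fun y =>
      lTensor_exact A' (f := u₀.restrictScalars R) (g := π₀.restrictScalars R) hex₀ hπ₀ y
    have hπa : Function.Surjective πa := fun y =>
      LinearMap.lTensor_surjective A' (g := π₀.restrictScalars R) hπ₀ y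
    exact Module.Flat.of_linearEquiv
      ((Submodule.quotEquivOfEq _ _ (LinearMap.exact_iff.mp hexa).symm).trans (πa.quotKerEquivOfSurjective hπa)).symm
  obtain ⟨i₁, hN⟩ := exists_flat_stage' (B₀ := B₀) N₀ g hgR hcolim
  obtain ⟨i₂, hQ⟩ := exists_flat_stage' (B₀ := B₀) Q₀ g hgR hcolim
  have hcolim' := hcolim
  obtain ⟨hdir, hne, hid, hcomp, hA, hexist, hzero⟩ := hcolim
  obtain ⟨k, hk₁, hk₂⟩ := hdir.directed i₁ i₂
  haveI := hQ k hk₂
  haveI := hN k hk₁
  -- the rings and modules at the stage `k`
  obtain ⟨B₁, _, _, _, _, _, _, _, _, _⟩ : ∃ (B₁ : Type u) (_ : CommRing B₁) (_ : Algebra (G k) B₁) (_ : Algebra B₀ B₁)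
      (_ : Algebra R B₁) (_ : IsScalarTower R (G k) B₁) (_ : IsScalarTower R B₀ B₁)
      (_ : Algebra.IsPushout R (G k) B₀ B₁) (_ : Algebra.FinitePresentation (G k) B₁)
      (_ : SMulCommClass B₀ (G k) B₁), True := by
    letI : Algebra B₀ (G k ⊗[R] B₀) := Algebra.TensorProduct.rightAlgebra
    haveI : IsScalarTower R B₀ (G k ⊗[R] B₀) := Algebra.TensorProduct.right_isScalarTower
    exact ⟨G k ⊗[R] B₀, inferInstance, inferInstance, inferInstance, inferInstance, inferInstance, inferInstance,
      inferInstance, inferInstance, ⟨fun s a c => by rw [Algebra.smul_def a, Algebra.smul_def a, mul_smul_comm]⟩, trivial⟩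
  haveI : IsScalarTower (G k) B₁ (B₁ ⊗[B₀] N₀) := TensorProduct.isScalarTower_left
  haveI : IsScalarTower R B₁ (B₁ ⊗[B₀] N₀) := TensorProduct.isScalarTower_left
  haveI : IsScalarTower R (G k) (B₁ ⊗[B₀] N₀) := TensorProduct.isScalarTower_left
  haveI : IsScalarTower (G k) B₁ (B₁ ⊗[B₀] Q₀) := TensorProduct.isScalarTower_left
  haveI : IsScalarTower R (G k) (B₁ ⊗[B₀] Q₀) := TensorProduct.isScalarTower_left
  haveI : IsScalarTower (G k) B₁ (B₁ ⊗[B₀] X₀) := TensorProduct.isScalarTower_left
  haveI : Algebra.IsPushout R B₀ (G k) B₁ := Algebra.IsPushout.symm inferInstance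
  have hbN : IsBaseChange (G k) ((TensorProduct.mk B₀ B₁ N₀ 1).restrictScalars R) :=
    Groth.L20.isBaseChange_restrictScalars (R := R) (S := B₀) (R' := G k) (S' := B₁) (TensorProduct.isBaseChange B₀ N₀ B₁)
  have hbQ : IsBaseChange (G k) ((TensorProduct.mk B₀ B₁ Q₀ 1).restrictScalars R) :=
    Groth.L20.isBaseChange_restrictScalars (R := R) (S := B₀) (R' := G k) (S' := B₁) (TensorProduct.isBaseChange B₀ Q₀ B₁)
  haveI : Module.Flat (G k) (B₁ ⊗[B₀] Q₀) := Module.Flat.of_linearEquiv hbQ.equiv.symm
  let u₁ := u₀.baseChange B₁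
  let π₁ := π₀.baseChange B₁
  have hπ₁ : Function.Surjective π₁ := fun y => LinearMap.lTensor_surjective B₁ hπ₀ y
  have hex₁ : Function.Exact u₁ π₁ := fun y => lTensor_exact B₁ (f := u₀) (g := π₀) hex₀ hπ₀ y
  haveI : Module.FinitePresentation B₁ (B₁ ⊗[B₀] X₀) :=
    FinitePresentation.of_isBaseChange _ (TensorProduct.isBaseChange B₀ X₀ B₁)
  haveI : Module.FinitePresentation B₁ (B₁ ⊗[B₀] Q₀) :=
    FinitePresentation.of_isBaseChange _ (TensorProduct.isBaseChange B₀ Q₀ B₁)
  haveI : Module.Finite B₁ (B₁ ⊗[B₀] N₀) := Module.Finite.base_change B₀ B₁ N₀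
  obtain ⟨Ks, hKs⟩ := fg_ker_of_exact (R := G k) u₁ π₁ hπ₁ hex₁
  -- the identification with the tensor product over `R`
  let eN : (B₁ ⊗[B₀] N₀) ≃ₗ[R] N₀ ⊗[R] G k :=
    (hbN.equiv.symm.restrictScalars R).trans (TensorProduct.comm R (G k) N₀)
  have heN : ∀ (t : G k) (n : N₀), eN (t • ((1 : B₁) ⊗ₜ[B₀] n)) = n ⊗ₜ[R] t := fun t n => by
    have h1 : hbN.equiv (t ⊗ₜ[R] n) = t • ((1 : B₁) ⊗ₜ[B₀] n) := hbN.equiv_tmul t n
    show TensorProduct.comm R (G k) N₀ (hbN.equiv.symm (t • ((1 : B₁) ⊗ₜ[B₀] n))) = _
    rw [← h1, LinearEquiv.symm_apply_apply, TensorProduct.comm_tmul]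
  have hgen : ∀ y : B₁ ⊗[B₀] N₀, ∃ v : G k ⊗[R] N₀, hbN.equiv v = y := fun y => hbN.equiv.surjective y
  have heN_smul : ∀ (b : B₀) (y : B₁ ⊗[B₀] N₀), eN (b • y) = b • eN y := fun b y => by
    obtain ⟨v, rfl⟩ := hgen y
    induction v using TensorProduct.induction_on with
    | zero => simp
    | add a c ha hc => simp only [map_add, smul_add, ha, hc]
    | tmul t n =>
      rw [hbN.equiv_tmul]
      show eN (b • (t • ((1 : B₁) ⊗ₜ[B₀] n))) = b • eN (t • ((1 : B₁) ⊗ₜ[B₀] n))
      rw [smul_comm, ← TensorProduct.tmul_smul, heN, heN, TensorProduct.smul_tmul']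
  -- the kernel generators die at a stage
  have hKill : ∀ y ∈ LinearMap.ker u₁, ∀ g ∈ Gs, g • y = 0 := by
    intro y hy g hg
    have key : ∀ y : B₁ ⊗[B₀] N₀, (LinearMap.proj (R := B₀) (φ := fun _ : ↥Gs => N₀) ⟨g, hg⟩).baseChange B₁ (u₁ y) =
        g • y := fun y => by
      induction y using TensorProduct.induction_on with
      | zero => simp
      | add a b ha hb => rw [map_add, map_add, ha, hb, smul_add]
      | tmul c n =>
        show c ⊗ₜ[B₀] (g • n) = g • (c ⊗ₜ[B₀] n)
        rw [TensorProduct.tmul_smul]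
    rw [← key, LinearMap.mem_ker.mp hy, map_zero]
  have hdie : ∀ y : Ks, ∃ l, ∃ h : k ≤ l,
      (Groth.L20.Stage.trans (R := R) g hgR k l h).toLinearMap.lTensor N₀ (eN (y : B₁ ⊗[B₀] N₀)) = 0 := fun y => by
    refine Groth.L20.Stage.exists_tensor_kill g hgR hcolim' N₀ k _ (hkill A' _ fun b hb => ?_)
    have key : ∀ z : N₀ ⊗[R] G k, (Groth.L20.Stage.toLim (R := R) (R' := A') k).toLinearMap.lTensor N₀ (b • z) =
        b • (Groth.L20.Stage.toLim (R := R) (R' := A') k).toLinearMap.lTensor N₀ z := fun z => by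
      induction z using TensorProduct.induction_on with
      | zero => simp
      | add a c ha hc => simp only [map_add, smul_add, ha, hc]
      | tmul n t => simp [TensorProduct.smul_tmul']
    rw [← key, ← heN_smul, hKill _ (hKs ▸ Submodule.subset_span y.2) b hb, map_zero, map_zero]
  choose lf hlf hlf0 using hdie
  haveI := hdir
  haveI := hne
  obtain ⟨l, hl⟩ := Finset.exists_le (insert k (Finset.univ.image lf))
  have hkl : k ≤ l := hl _ (Finset.mem_insert_self _ _)
  refine ⟨l, hN l (hk₁.trans hkl), fun X => ?_⟩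
  intro _ _ _ _ z hz
  letI : Algebra (G k) (G l) := (g k l hkl).toAlgebra
  haveI : IsScalarTower R (G k) (G l) := IsScalarTower.of_algebraMap_eq fun r => (RingHom.congr_fun (hgR k l hkl) r).symm
  letI : Module (G k) X := Module.compHom X (algebraMap (G k) (G l))
  haveI : IsScalarTower (G k) (G l) X := IsScalarTower.of_algebraMap_smul fun _ _ => rfl
  haveI : IsScalarTower R (G k) X := IsScalarTower.of_algebraMap_smul fun r x => by
    rw [← algebraMap_smul (G l) (algebraMap R (G k) r) x, ← IsScalarTower.algebraMap_apply, algebraMap_smul]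
  -- the comparison map
  let ψ : (B₁ ⊗[B₀] N₀) →ₗ[R] X →ₗ[R] N₀ ⊗[R] X :=
    LinearMap.mk₂ R (fun y x => ((LinearMap.toSpanSingleton (G k) X x).restrictScalars R).lTensor N₀ (eN y))
      (fun a b x => by simp only [map_add]) (fun c a x => by simp only [map_smul])
      (fun y a b => by
        induction eN y using TensorProduct.induction_on with
        | zero => simp
        | add p q hp hq => simp only [map_add, hp, hq]; abel
        | tmul n t => simp [TensorProduct.tmul_add])
      (fun c y a => by
        induction eN y using TensorProduct.induction_on with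
        | zero => simp
        | add p q hp hq => simp only [map_add, hp, hq, smul_add]
        | tmul n t =>
          simp only [LinearMap.lTensor_tmul, LinearMap.restrictScalars_apply, LinearMap.toSpanSingleton_apply]
          rw [smul_comm, TensorProduct.tmul_smul])
  have hψbal : ∀ (t : G k) (y : B₁ ⊗[B₀] N₀) (x : X), ψ (t • y) x = ψ y (t • x) := fun t y x => by
    obtain ⟨v, rfl⟩ := hgen y
    induction v using TensorProduct.induction_on with
    | zero => simp
    | add a b ha hb => simp only [map_add, smul_add, LinearMap.add_apply, ha, hb]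
    | tmul s n =>
      rw [hbN.equiv_tmul]
      show ((LinearMap.toSpanSingleton (G k) X x).restrictScalars R).lTensor N₀ (eN (t • s • ((1 : B₁) ⊗ₜ[B₀] n))) =
        ((LinearMap.toSpanSingleton (G k) X (t • x)).restrictScalars R).lTensor N₀ (eN (s • ((1 : B₁) ⊗ₜ[B₀] n)))
      rw [← mul_smul, heN, heN]
      simp only [LinearMap.lTensor_tmul, LinearMap.restrictScalars_apply, LinearMap.toSpanSingleton_apply]
      rw [← mul_smul, mul_comm t s]
  let Ψ : (B₁ ⊗[B₀] N₀) ⊗[G k] X →+ N₀ ⊗[R] X :=
    TensorProduct.liftAddHom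
      { toFun := fun y => (ψ y).toAddMonoidHom
        map_zero' := by ext x; simp
        map_add' := fun a b => by ext x; simp } fun t y x => hψbal t y x
  have hΨ : ∀ (n : N₀) (x : X), Ψ (((1 : B₁) ⊗ₜ[B₀] n) ⊗ₜ[G k] x) = n ⊗ₜ[R] x := fun n x => by
    show ((LinearMap.toSpanSingleton (G k) X x).restrictScalars R).lTensor N₀ (eN ((1 : B₁) ⊗ₜ[B₀] n)) = _
    rw [← one_smul (G k) ((1 : B₁) ⊗ₜ[B₀] n), heN, LinearMap.lTensor_tmul]
    simp
  -- lift the element and use the kernel
  let Φ : N₀ ⊗[R] X →+ (B₁ ⊗[B₀] N₀) ⊗[G k] X :=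
    TensorProduct.liftAddHom
      { toFun := fun n =>
          { toFun := fun x => ((1 : B₁) ⊗ₜ[B₀] n) ⊗ₜ[G k] x
            map_zero' := TensorProduct.tmul_zero _ _
            map_add' := fun a b => TensorProduct.tmul_add _ _ _ }
        map_zero' := by ext x; simp
        map_add' := fun a b => by ext x; simp [TensorProduct.tmul_add, TensorProduct.add_tmul] } fun r n x => by
      show ((1 : B₁) ⊗ₜ[B₀] (r • n)) ⊗ₜ[G k] x = ((1 : B₁) ⊗ₜ[B₀] n) ⊗ₜ[G k] (r • x)
      rw [← algebraMap_smul B₀ r n, TensorProduct.tmul_smul, algebraMap_smul B₀ r,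
        ← algebraMap_smul (G k) r ((1 : B₁) ⊗ₜ[B₀] n), TensorProduct.smul_tmul, algebraMap_smul (G k) r]
  have hΨΦ : ∀ z, Ψ (Φ z) = z := fun z => by
    induction z using TensorProduct.induction_on with
    | zero => simp
    | add a b ha hb => rw [map_add, map_add, ha, hb]
    | tmul n x => exact hΨ n x
  have hΦsmul : ∀ (b : B₀) (z : N₀ ⊗[R] X), Φ (b • z) = b • Φ z := fun b z => by
    induction z using TensorProduct.induction_on with
    | zero => simp
    | add a c ha hc => simp only [map_add, smul_add, ha, hc]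
    | tmul n x =>
      show ((1 : B₁) ⊗ₜ[B₀] (b • n)) ⊗ₜ[G k] x = (b • ((1 : B₁) ⊗ₜ[B₀] n)) ⊗ₜ[G k] x
      rw [TensorProduct.tmul_smul]
  have h0 : (u₁.restrictScalars (G k)).rTensor X (Φ z) = 0 := by
    let π : ↥Gs → (B₁ ⊗[B₀] X₀) →ₗ[G k] B₁ ⊗[B₀] N₀ := fun g =>
      ((LinearMap.proj (R := B₀) (φ := fun _ : ↥Gs => N₀) g).baseChange B₁).restrictScalars (G k)
    let ι : ↥Gs → (B₁ ⊗[B₀] N₀) →ₗ[G k] B₁ ⊗[B₀] X₀ := fun g =>
      ((LinearMap.single B₀ (fun _ : ↥Gs => N₀) g).baseChange B₁).restrictScalars (G k)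
    have hsum : ∀ w : (B₁ ⊗[B₀] X₀) ⊗[G k] X, ∑ g, (ι g).rTensor X ((π g).rTensor X w) = w := fun w => by
      induction w using TensorProduct.induction_on with
      | zero => simp
      | add a b ha hb => simp only [map_add, Finset.sum_add_distrib, ha, hb]
      | tmul y x =>
        simp only [LinearMap.rTensor_tmul, ← TensorProduct.sum_tmul]
        congr 1
        induction y using TensorProduct.induction_on with
        | zero => simp [π, ι]
        | add a b ha hb => simp only [map_add, Finset.sum_add_distrib, ha, hb]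
        | tmul c f =>
          simp only [π, ι, LinearMap.restrictScalars_apply, LinearMap.baseChange_tmul, ← TensorProduct.tmul_sum]
          congr 1
          exact Finset.univ_sum_single f
    rw [← hsum ((u₁.restrictScalars (G k)).rTensor X (Φ z))]
    refine Finset.sum_eq_zero fun g _ => ?_
    have key : ∀ w : (B₁ ⊗[B₀] N₀) ⊗[G k] X, (π g).rTensor X ((u₁.restrictScalars (G k)).rTensor X w) = (g : B₀) • w :=
      fun w => by
      induction w using TensorProduct.induction_on with
      | zero => simp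
      | add a b ha hb => rw [map_add, map_add, ha, hb, smul_add]
      | tmul y x =>
        rw [LinearMap.rTensor_tmul, LinearMap.rTensor_tmul, TensorProduct.smul_tmul']
        congr 1
        induction y using TensorProduct.induction_on with
        | zero => simp
        | add a b ha hb => rw [map_add, map_add, ha, hb, smul_add]
        | tmul c n =>
          show c ⊗ₜ[B₀] ((g : B₀) • n) = (g : B₀) • (c ⊗ₜ[B₀] n)
          rw [TensorProduct.tmul_smul]
    rw [key, ← hΦsmul, hz g g.2, map_zero, map_zero]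
  obtain ⟨v, hv⟩ := mem_range_rTensor_ker (R := G k) u₁ π₁ hπ₁ hex₁ X (Φ z) h0
  rw [← hΨΦ z, ← hv]
  clear hv h0
  induction v using TensorProduct.induction_on with
  | zero => simp
  | add a b ha hb => rw [map_add, map_add, ha, hb, add_zero]
  | tmul y x =>
    rw [LinearMap.rTensor_tmul]
    show Ψ ((y : B₁ ⊗[B₀] N₀) ⊗ₜ[G k] x) = 0
    have hy : (y : B₁ ⊗[B₀] N₀) ∈ Submodule.span B₁ (Ks : Set (B₁ ⊗[B₀] N₀)) := by rw [hKs]; exact y.2
    generalize (y : B₁ ⊗[B₀] N₀) = y' at hy ⊢
    -- every element of the span maps to zero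
    have hspan : ∀ w ∈ Submodule.span B₁ (Ks : Set (B₁ ⊗[B₀] N₀)),
        (Groth.L20.Stage.trans (R := R) g hgR k l hkl).toLinearMap.lTensor N₀ (eN w) = 0 := by
      intro w hw
      induction hw using Submodule.span_induction with
      | mem w hw =>
        have hwl : lf ⟨w, hw⟩ ≤ l := hl _ (Finset.mem_insert_of_mem (Finset.mem_image_of_mem _ (Finset.mem_univ _)))
        have h2 := congrArg ((Groth.L20.Stage.trans (R := R) g hgR _ l hwl).toLinearMap.lTensor N₀) (hlf0 ⟨w, hw⟩)
        rw [map_zero, ← LinearMap.comp_apply, ← LinearMap.lTensor_comp] at h2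
        rw [show (Groth.L20.Stage.trans (R := R) g hgR k l hkl).toLinearMap =
          (Groth.L20.Stage.trans (R := R) g hgR _ l hwl).toLinearMap ∘ₗ
            (Groth.L20.Stage.trans (R := R) g hgR k _ (hlf ⟨w, hw⟩)).toLinearMap from
          LinearMap.ext fun t => (RingHom.congr_fun (hcomp k _ l (hlf ⟨w, hw⟩) hwl) t).symm]
        exact h2
      | zero => simp
      | add a b _ _ ha hb => rw [map_add, map_add, ha, hb, add_zero]
      | smul c a _ ha =>
        obtain ⟨c', rfl⟩ := (Algebra.IsPushout.equiv R (G k) B₀ B₁).surjective c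
        induction c' using TensorProduct.induction_on with
        | zero => simp
        | add p q hp hq => rw [map_add, add_smul, map_add, map_add, hp, hq, add_zero]
        | tmul t b =>
          rw [Algebra.IsPushout.equiv_tmul, mul_smul, algebraMap_smul, algebraMap_smul, smul_comm]
          rw [heN_smul]
          have hlin : ∀ (w : N₀ ⊗[R] G k),
              (Groth.L20.Stage.trans (R := R) g hgR k l hkl).toLinearMap.lTensor N₀ (b • w) =
                b • (Groth.L20.Stage.trans (R := R) g hgR k l hkl).toLinearMap.lTensor N₀ w := fun w => by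
            induction w using TensorProduct.induction_on with
            | zero => simp
            | add p q hp hq => simp only [map_add, smul_add, hp, hq]
            | tmul n s => simp [TensorProduct.smul_tmul']
          rw [hlin]
          suffices (Groth.L20.Stage.trans (R := R) g hgR k l hkl).toLinearMap.lTensor N₀ (eN (t • a)) = 0 by
            rw [this, smul_zero]
          have hG : ∀ v : G k ⊗[R] N₀,
              (Groth.L20.Stage.trans (R := R) g hgR k l hkl).toLinearMap.lTensor N₀ (eN (t • hbN.equiv v)) =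
                ((LinearMap.mulLeft (G l) (g k l hkl t)).restrictScalars R).lTensor N₀
                  ((Groth.L20.Stage.trans (R := R) g hgR k l hkl).toLinearMap.lTensor N₀ (eN (hbN.equiv v))) := fun v => by
            induction v using TensorProduct.induction_on with
            | zero => simp
            | add p q hp hq => simp only [map_add, smul_add, hp, hq]
            | tmul s n =>
              rw [hbN.equiv_tmul]
              show _ = _
              simp only [LinearMap.restrictScalars_apply, TensorProduct.mk_apply]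
              rw [← mul_smul, heN, heN]
              simp only [LinearMap.lTensor_tmul, LinearMap.restrictScalars_apply, LinearMap.mulLeft_apply]
              exact congrArg (n ⊗ₜ[R] ·) (map_mul (g k l hkl) t s)
          obtain ⟨v, rfl⟩ := hgen a
          rw [hG, ha, map_zero]
    show ((LinearMap.toSpanSingleton (G k) X x).restrictScalars R).lTensor N₀ (eN y') = 0
    rw [show (LinearMap.toSpanSingleton (G k) X x).restrictScalars R =
      ((LinearMap.toSpanSingleton (G l) X x).restrictScalars R) ∘ₗ
        (Groth.L20.Stage.trans (R := R) g hgR k l hkl).toLinearMap from LinearMap.ext fun t => rfl,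
      LinearMap.lTensor_comp, LinearMap.comp_apply, hspan _ hy, map_zero]

set_option maxHeartbeats 800000 in
/-- **Projectivity from flatness, a covering, and the absence of killed elements.** -/
theorem projective_of_noKilled {R : Type u} [CommRing R] {B₀ : Type u} [CommRing B₀] [Algebra R B₀]
    [Algebra.FiniteType R B₀] (N₀ : Type u) [AddCommGroup N₀] [Module B₀ N₀] [Module R N₀]
    [IsScalarTower R B₀ N₀] [Module.Finite B₀ N₀] (Gs : Finset B₀) (C : Type u) [CommRing C] [Algebra B₀ C]
    [Algebra R C] [IsScalarTower R B₀ C] [Module.Flat B₀ C]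
    (hC : ∀ (Q : Ideal B₀) [Q.IsPrime], (∃ g ∈ Gs, g ∉ Q) → ∃ x : Ideal C, x.IsPrime ∧ x.comap (algebraMap B₀ C) = Q)
    (M₀ : Type u) [AddCommGroup M₀] [Module B₀ M₀] [Module C M₀] [IsScalarTower B₀ C M₀] [Module R M₀]
    [IsScalarTower R B₀ M₀] [Module.Projective R M₀] (g₀ : N₀ →ₗ[B₀] M₀) (hg₀ : IsBaseChange C g₀)
    (T : Type u) [CommRing T] [Algebra R T] [Module.Flat T (T ⊗[R] N₀)]
    (hkill : ∀ (X : Type u) [AddCommGroup X] [Module T X] [Module R X] [IsScalarTower R T X], NoKilled R N₀ Gs X) :
    Module.Projective T (T ⊗[R] N₀) := by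
  let ψ := (g₀.restrictScalars R).baseChange T
  have hψ : CAlgX.UniversallyInjective T ψ := by
    intro X _ _
    rw [← LinearMap.lTensor_inj_iff_rTensor_inj]
    letI : Module R X := Module.compHom X (algebraMap R T)
    haveI : IsScalarTower R T X := IsScalarTower.of_algebraMap_smul fun _ _ => rfl
    refine (injective_iff_map_eq_zero _).mpr fun w hw => ?_
    have h1 := rTensor_baseChange_eq (g₀.restrictScalars R) T X w
    rw [hw, map_zero, map_zero] at h1
    refine (AlgebraTensorModule.cancelBaseChange R T T X N₀).injective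
      ((TensorProduct.comm R X N₀).injective ?_)
    rw [map_zero, map_zero]
    generalize TensorProduct.comm R X N₀ (AlgebraTensorModule.cancelBaseChange R T T X N₀ w) = z at h1
    let e : C ⊗[B₀] N₀ ≃ₗ[B₀] M₀ := hg₀.equiv.restrictScalars B₀
    let e' : C ⊗[B₀] (N₀ ⊗[R] X) ≃ₗ[R] M₀ ⊗[R] X :=
      ((AlgebraTensorModule.assoc R B₀ B₀ C N₀ X).symm.restrictScalars R).trans
        (TensorProduct.congr (e.restrictScalars R) (LinearEquiv.refl R X))
    have hkey : ∀ z : N₀ ⊗[R] X, e' ((1 : C) ⊗ₜ[B₀] z) = (g₀.restrictScalars R).rTensor X z := fun z => by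
      induction z using TensorProduct.induction_on with
      | zero => simp
      | add a b ha hb => simp only [TensorProduct.tmul_add, map_add, ha, hb]
      | tmul n x =>
        show (e ((1 : C) ⊗ₜ[B₀] n)) ⊗ₜ[R] x = g₀ n ⊗ₜ[R] x
        rw [show e ((1 : C) ⊗ₜ[B₀] n) = (1 : C) • g₀ n from hg₀.equiv_tmul 1 n, one_smul]
    have hz : (1 : C) ⊗ₜ[B₀] z = 0 := e'.injective (by rw [hkey, map_zero]; exact h1.symm)
    obtain ⟨k, hk⟩ := exists_pow_smul_of_powers Gs (r := (1 : B₀))
      (fun w hw => ⟨0, by rw [pow_zero, one_smul]; exact hkill X w hw⟩) z (exists_pow_smul_of_one_tmul Gs C hC z hz)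
    rwa [one_pow, one_smul] at hk
  refine Groth.L01.CountFlatML.projective
    (Groth.L02.isMittagLeffler_of_universallyInjective ψ hψ
      (Groth.L01.ProjML.isMittagLeffler_of_projective (R := T) (M := T ⊗[R] M₀))) ?_
  obtain ⟨s, hs, hspan⟩ := isCountablyGenerated_of_finite (A := R) (B := B₀) N₀
  refine ⟨(fun n => (1 : T) ⊗ₜ[R] n) '' s, hs.image _, ?_⟩
  refine Submodule.eq_top_iff'.mpr fun w => ?_
  induction w using TensorProduct.induction_on with
  | zero => exact zero_mem _
  | add a b ha hb => exact add_mem ha hb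
  | tmul l n =>
    rw [show l ⊗ₜ[R] n = l • ((1 : T) ⊗ₜ[R] n) by rw [TensorProduct.smul_tmul', smul_eq_mul, mul_one]]
    refine Submodule.smul_mem _ l ?_
    have hn : n ∈ Submodule.span R s := hspan ▸ trivial
    induction hn using Submodule.span_induction with
    | mem n hn => exact Submodule.subset_span (Set.mem_image_of_mem _ hn)
    | zero => rw [TensorProduct.tmul_zero]; exact zero_mem _
    | add a b _ _ ha hb => rw [TensorProduct.tmul_add]; exact add_mem ha hb
    | smul a x _ hx => rw [TensorProduct.tmul_smul, ← algebraMap_smul T a]; exact Submodule.smul_mem _ _ hx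

end Groth.L20.RG
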