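import Groth.Agent.L20.RG.PureStageB
import Groth.Agent.L20.RG.PureDescent
import Groth.Agent.L20.RG.PureOfProj
import Groth.Agent.L20.Stage.ColimOps
import Groth.Agent.L20.Stage.Loc

/-!
# Descent of purity along a directed colimit
-/

set_option autoImplicit false
set_option linter.style.haveILetI false
set_option backward.isDefEq.respectTransparency.types false
universe u

open TensorProduct

noncomputable section

namespace Groth.L20.RG

attribute [local instance] Algebra.TensorProduct.rightAlgebra

section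

variable {R : Type u} [CommRing R] {B₀ : Type u} [CommRing B₀] [Algebra R B₀] [Algebra.FinitePresentation R B₀]
  (N₀ : Type u) [AddCommGroup N₀] [Module B₀ N₀] [Module R N₀] [IsScalarTower R B₀ N₀] [Module.FinitePresentation B₀ N₀]
  (C : Type u) [CommRing C] [Algebra B₀ C] [Algebra R C] [IsScalarTower R B₀ C] [Module.Flat B₀ C]
  (Gs : Finset B₀)
  {A' : Type u} [CommRing A'] [Algebra R A'] (p' : Ideal A') [p'.IsPrime]
  {B' : Type u} [CommRing B'] [Algebra A' B'] [Algebra B₀ B'] [Algebra R B'] [IsScalarTower R A' B']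
  [IsScalarTower R B₀ B'] [Algebra.IsPushout R B₀ A' B']
  (N' : Type u) [AddCommGroup N'] [Module B' N'] [Module B₀ N'] [IsScalarTower B₀ B' N'] [Module A' N']
  [IsScalarTower A' B' N'] (h' : N₀ →ₗ[B₀] N')

set_option maxHeartbeats 1000000 in
/-- Over the local ring of the colimit: flatness and the absence of killed elements. -/
theorem flat_noKilled_atPrime (hh' : IsBaseChange B' h')
    (hC : ∀ (Q : Ideal B₀) [Q.IsPrime], (∃ g ∈ Gs, g ∉ Q) → ∃ x : Ideal C, x.IsPrime ∧ x.comap (algebraMap B₀ C) = Q)
    [Module.Projective R (C ⊗[B₀] N₀)]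
    (hG : ∀ (P : Ideal B') [P.IsPrime] (t : Ideal A') [t.IsPrime] [P.LiesOver t], t ≤ p' →
      P ∈ FlatCA.weakAss B' (N' ⊗[A'] t.ResidueField) → ∃ g ∈ Gs, algebraMap B₀ B' g ∉ P) :
    Module.Flat (Localization.AtPrime p') (Localization.AtPrime p' ⊗[R] N₀) ∧
      ∀ (X : Type u) [AddCommGroup X] [Module (Localization.AtPrime p') X] [Module R X]
        [IsScalarTower R (Localization.AtPrime p') X], NoKilled R N₀ Gs X := by
  classical
  haveI : Algebra.IsPushout R A' B₀ B' := Algebra.IsPushout.symm inferInstance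
  haveI : Algebra.FinitePresentation A' B' :=
    Algebra.FinitePresentation.equiv (Algebra.IsPushout.equiv R A' B₀ B')
  haveI : Module.FinitePresentation B' N' := FinitePresentation.of_isBaseChange h' hh'
  letI : Module R N' := Module.compHom N' (algebraMap R A')
  haveI : IsScalarTower R A' N' := IsScalarTower.of_algebraMap_smul fun _ _ => rfl
  haveI : IsScalarTower R B' N' := IsScalarTower.of_algebraMap_smul fun r x => by
    rw [IsScalarTower.algebraMap_apply R A' B', algebraMap_smul]; rfl
  haveI : IsScalarTower R B₀ N' := IsScalarTower.of_algebraMap_smul fun r x => by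
    rw [← algebraMap_smul B' (algebraMap R B₀ r) x, ← IsScalarTower.algebraMap_apply, algebraMap_smul]
  have hbc : IsBaseChange A' (h'.restrictScalars R) :=
    Groth.L20.isBaseChange_restrictScalars (R := R) (S := B₀) (R' := A') (S' := B') hh'
  let G' : Finset B' := Gs.image (algebraMap B₀ B')
  have hG' : ∀ (P : Ideal B') [P.IsPrime] (t : Ideal A') [t.IsPrime] [P.LiesOver t], t ≤ p' →
      P ∈ FlatCA.weakAss B' (N' ⊗[A'] t.ResidueField) → ∃ g ∈ G', g ∉ P := fun P _ t _ _ ht hP => by
    obtain ⟨g, hg, hgP⟩ := hG P t ht hP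
    exact ⟨_, Finset.mem_image_of_mem _ hg, hgP⟩
  -- the target of the comparison map
  haveI : SMulCommClass B₀ B' N' := ⟨fun b c x => by rw [← algebraMap_smul B' b, ← algebraMap_smul B' b, smul_comm]⟩
  haveI : SMulCommClass B₀ A' N' := ⟨fun b a x => by rw [← algebraMap_smul B' a, ← algebraMap_smul B' a, smul_comm]⟩
  haveI : IsScalarTower A' B' (N' ⊗[B₀] C) := TensorProduct.isScalarTower_left
  let u : N' →ₗ[B'] N' ⊗[B₀] C :=
    { toFun := fun x => x ⊗ₜ[B₀] (1 : C)
      map_add' := fun x y => TensorProduct.add_tmul x y 1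
      map_smul' := fun c x => (TensorProduct.smul_tmul' c x (1 : C)).symm }
  haveI : Module.Flat A' (N' ⊗[B₀] C) := by
    let M₀ := C ⊗[B₀] N₀
    haveI : SMulCommClass B₀ A' B' := ⟨fun b a x => by rw [Algebra.smul_def a, Algebra.smul_def a, mul_smul_comm]⟩
    haveI : IsScalarTower A' B' (B' ⊗[B₀] M₀) := TensorProduct.isScalarTower_left
    haveI : IsScalarTower R B' (B' ⊗[B₀] M₀) := TensorProduct.isScalarTower_left
    haveI : IsScalarTower R A' (B' ⊗[B₀] M₀) := TensorProduct.isScalarTower_left
    haveI : Module.Flat R M₀ := inferInstance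
    haveI : Module.Flat A' (B' ⊗[B₀] M₀) := Module.Flat.isBaseChange R A' M₀ (B' ⊗[B₀] M₀)
      (Groth.L20.isBaseChange_restrictScalars (R := R) (S := B₀) (R' := A') (S' := B')
        (TensorProduct.isBaseChange B₀ M₀ B'))
    let e : N' ⊗[B₀] C ≃ₗ[B'] B' ⊗[B₀] M₀ :=
      (AlgebraTensorModule.congr hh'.equiv.symm (LinearEquiv.refl B₀ C)).trans
        ((AlgebraTensorModule.assoc B₀ B₀ B' B' N₀ C).trans
          (AlgebraTensorModule.congr (LinearEquiv.refl B' B') (TensorProduct.comm B₀ N₀ C)))
    exact Module.Flat.of_linearEquiv (e.restrictScalars A')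
  have hker : ∀ (I : Ideal A') (x : N'), u x ∈ (I.map (algebraMap A' B') • ⊤ : Submodule B' (N' ⊗[B₀] C)) →
      ∀ g ∈ G', ∃ k : ℕ, g ^ k • x ∈ (I.map (algebraMap A' B') • ⊤ : Submodule B' N') := by
    intro I x hx g hg
    obtain ⟨g₀, hg₀, rfl⟩ := Finset.mem_image.mp hg
    let IN : Submodule B' N' := I.map (algebraMap A' B') • ⊤
    let W := N' ⧸ IN
    let m : N' ⊗[B₀] C →ₗ[B'] W ⊗[B₀] C := AlgebraTensorModule.rTensor B₀ C IN.mkQ
    have h0 : m (u x) = 0 := by
      refine Submodule.smul_induction_on hx (fun a ha y _ => ?_) fun a b ha hb => by rw [map_add, ha, hb, add_zero]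
      rw [map_smul]
      induction m y using TensorProduct.induction_on with
      | zero => exact smul_zero _
      | add a b ha hb => rw [smul_add, ha, hb, add_zero]
      | tmul w c =>
        obtain ⟨n, rfl⟩ := IN.mkQ_surjective w
        rw [TensorProduct.smul_tmul', ← map_smul, show IN.mkQ (a • n) = 0 from
          (Submodule.Quotient.mk_eq_zero _).mpr (Submodule.smul_mem_smul ha trivial), TensorProduct.zero_tmul]
    have h1 : (1 : C) ⊗ₜ[B₀] IN.mkQ x = 0 := (TensorProduct.comm B₀ W C).symm.map_eq_zero_iff.mp (by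
      rw [TensorProduct.comm_symm_tmul]; exact h0)
    obtain ⟨k, hk⟩ := exists_pow_smul_of_one_tmul Gs C hC _ h1 g₀ hg₀
    refine ⟨k, (Submodule.Quotient.mk_eq_zero IN).mp ?_⟩
    rw [Submodule.Quotient.mk_smul, ← map_pow, algebraMap_smul]
    exact hk
  have hflat : ∀ (P : Ideal B') [P.IsPrime] (t : Ideal A') [t.IsPrime] [P.LiesOver t], t ≤ p' →
      FlatCA.FlatAt A' P N' := fun P _ t _ _ ht => flatAt_of_covered N' p' G' hG' u hker P t ht
  let Ap := Localization.AtPrime p'
  constructor
  · let T := Algebra.algebraMapSubmonoid B' p'.primeCompl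
    let L := LocalizedModule T N'
    haveI : Module.Flat A' L := (Groth.L20.Stage.flat_loc_iff_forall T).mpr fun Q _ hQ =>
      hflat Q (Q.comap (algebraMap A' B')) fun a ha => by
        by_contra hap
        exact Set.disjoint_left.mp hQ ⟨a, hap, rfl⟩ ha
    haveI : IsLocalizedModule p'.primeCompl ((LocalizedModule.mkLinearMap T N').restrictScalars A') :=
      IsLocalizedModule.restrictScalars (A := B') p'.primeCompl (LocalizedModule.mkLinearMap T N')
    let e₁ : Ap ⊗[A'] N' ≃ₗ[A'] L :=
      (IsLocalizedModule.iso p'.primeCompl (TensorProduct.mk A' Ap N' 1)).symm.trans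
        (IsLocalizedModule.iso p'.primeCompl ((LocalizedModule.mkLinearMap T N').restrictScalars A'))
    haveI : Module.Flat A' (Ap ⊗[A'] N') := Module.Flat.of_linearEquiv e₁
    haveI : Module.Flat Ap (Ap ⊗[A'] N') :=
      (Module.flat_iff_of_isLocalization Ap p'.primeCompl (Ap ⊗[A'] N')).mpr inferInstance
    exact Module.Flat.of_linearEquiv
      ((AlgebraTensorModule.cancelBaseChange R A' Ap Ap N₀).symm.trans
        (AlgebraTensorModule.congr (LinearEquiv.refl Ap Ap) hbc.equiv))
  · intro X _ _ _ _ z hz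
    letI : Module A' X := Module.compHom X (algebraMap A' Ap)
    haveI : IsScalarTower A' Ap X := IsScalarTower.of_algebraMap_smul fun _ _ => rfl
    haveI : IsScalarTower R A' X := IsScalarTower.of_algebraMap_smul fun r x => by
      rw [← algebraMap_smul Ap (algebraMap R A' r) x, ← IsScalarTower.algebraMap_apply, algebraMap_smul]
    let e : N' ⊗[A'] X ≃ₗ[R] N₀ ⊗[R] X :=
      ((TensorProduct.comm A' N' X).restrictScalars R).trans
        (((AlgebraTensorModule.congr (LinearEquiv.refl A' X) hbc.equiv.symm).restrictScalars R).trans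
          (((AlgebraTensorModule.cancelBaseChange R A' A' X N₀).restrictScalars R).trans (TensorProduct.comm R X N₀)))
    have hsmul : ∀ (b : B₀) (n : N₀) (x : X), e ((h' (b • n)) ⊗ₜ[A'] x) = (b • n) ⊗ₜ[R] x := fun b n x => by
      have : hbc.equiv.symm (h' (b • n)) = (1 : A') ⊗ₜ[R] (b • n) := hbc.equiv.injective (by
        rw [LinearEquiv.apply_symm_apply, hbc.equiv_tmul, one_smul]; rfl)
      show TensorProduct.comm R X N₀ (AlgebraTensorModule.cancelBaseChange R A' A' X N₀
        (x ⊗ₜ[A'] hbc.equiv.symm (h' (b • n)))) = _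
      rw [this]
      simp
    have hes : ∀ (b : B₀) (w : N₀ ⊗[R] X), e.symm (b • w) = algebraMap B₀ B' b • e.symm w := fun b w => by
      induction w using TensorProduct.induction_on with
      | zero => simp
      | add p q hp hq => simp only [smul_add, map_add, hp, hq]
      | tmul n x =>
        rw [TensorProduct.smul_tmul', LinearEquiv.symm_apply_eq]
        have h1 := hsmul 1 n x
        rw [one_smul] at h1
        rw [show e.symm (n ⊗ₜ[R] x) = h' n ⊗ₜ[A'] x from (LinearEquiv.symm_apply_eq e).mpr h1.symm,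
          TensorProduct.smul_tmul', algebraMap_smul, ← map_smul, hsmul]
    obtain ⟨r, hr, hrz⟩ := exists_smul_of_killed_of_flatAt N' p' G' hG' hflat X (e.symm z) fun g hg => by
      obtain ⟨g₀, hg₀, rfl⟩ := Finset.mem_image.mp hg
      rw [← hes, hz g₀ hg₀, map_zero]
    rw [algebraMap_smul] at hrz
    -- `r` is invertible on `X`
    obtain ⟨v, hv⟩ := (IsLocalization.map_units Ap (⟨r, hr⟩ : p'.primeCompl)).exists_left_inv
    have hback : ∀ w : N' ⊗[A'] X, (DistribSMul.toLinearMap A' X v).lTensor N' (r • w) = w := fun w => by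
      induction w using TensorProduct.induction_on with
      | zero => simp
      | add a b ha hb => rw [smul_add, map_add, ha, hb]
      | tmul n x =>
        rw [← TensorProduct.tmul_smul, LinearMap.lTensor_tmul]
        show n ⊗ₜ[A'] (v • (r • x)) = n ⊗ₜ[A'] x
        rw [← algebraMap_smul Ap r x, smul_smul, hv, one_smul]
    have := hback (e.symm z)
    rw [hrz, map_zero] at this
    exact e.symm.map_eq_zero_iff.mp this.symm

end

end Groth.L20.RG
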