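import Groth.Agent.L20.RG.PureStageC
import Groth.Agent.L20.FlatAtBaseChange
import Groth.Agent.L20.RG.Dev

/-!
# Descent of purity along a directed colimit: the assembly
-/

set_option autoImplicit false
set_option linter.style.haveILetI false
set_option backward.isDefEq.respectTransparency.types false
universe u

open TensorProduct

noncomputable section

namespace Groth.L20.RG

attribute [local instance] Algebra.TensorProduct.rightAlgebra

set_option maxHeartbeats 4000000 in
/-- Purity along a point descends to a stage, given flatness along the fibre at the first stage. -/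
theorem exists_pure_stage {R₀ : Type u} [CommRing R₀] {ι : Type u} [Preorder ι] {G : ι → Type u}
    [∀ i, CommRing (G i)] [∀ i, Algebra R₀ (G i)] (g : ∀ i j, i ≤ j → G i →+* G j)
    (hgR : ∀ i j (h : i ≤ j), (g i j h).comp (algebraMap R₀ (G i)) = algebraMap R₀ (G j))
    {A : Type u} [CommRing A] [Algebra R₀ A] [∀ i, Algebra (G i) A] [∀ i, IsScalarTower R₀ (G i) A]
    (hcolim : FlatCA.IsDirectedColimitRing G g A)
    {Bj : Type u} [CommRing Bj] [Algebra R₀ Bj] [Algebra.FinitePresentation R₀ Bj]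
    (Nj : Type u) [AddCommGroup Nj] [Module Bj Nj] [Module R₀ Nj] [IsScalarTower R₀ Bj Nj]
    [Module.FinitePresentation Bj Nj]
    {B : Type u} [CommRing B] [Algebra A B] [Algebra Bj B] [Algebra R₀ B] [IsScalarTower R₀ A B]
    [IsScalarTower R₀ Bj B] [Algebra.IsPushout R₀ Bj A B]
    (N : Type u) [AddCommGroup N] [Module B N] [Module A N] [IsScalarTower A B N] [Module Bj N]
    [IsScalarTower Bj B N] (fj : Nj →ₗ[Bj] N) (hfj : IsBaseChange B fj)
    (p : Ideal A) [p.IsPrime] (hpure : FlatCA.IsPureAlong A B N p)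
    (hflat : ∀ (q : Ideal Bj) [q.IsPrime], q.LiesOver (p.comap (algebraMap R₀ A)) → FlatCA.FlatAt R₀ q Nj) :
    ∃ (m : ι) (_ : IsScalarTower (G m) (Bj ⊗[R₀] G m) ((Bj ⊗[R₀] G m) ⊗[Bj] Nj)),
      FlatCA.IsPureAlong (G m) (Bj ⊗[R₀] G m) ((Bj ⊗[R₀] G m) ⊗[Bj] Nj) (p.comap (algebraMap (G m) A)) ∧
      ∀ (q : Ideal (Bj ⊗[R₀] G m)) [q.IsPrime], q.LiesOver (p.comap (algebraMap (G m) A)) →
        FlatCA.FlatAt (G m) q ((Bj ⊗[R₀] G m) ⊗[Bj] Nj) := by
  classical
  let pj := p.comap (algebraMap R₀ A)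
  -- the étale neighbourhood and the covering at the first stage
  obtain ⟨R, C, _, _, _, _, _, _, _, _, pR, _, hR, _, hpts, hproj⟩ := exists_projective_cover_over Nj pj hflat
  haveI := hR.1
  haveI := hR.2.1
  haveI : p.LiesOver pj := ⟨rfl⟩
  obtain ⟨B₀, _, _, _, _, _, _, _, _⟩ : ∃ (B₀ : Type u) (_ : CommRing B₀) (_ : Algebra Bj B₀) (_ : Algebra R B₀)
      (_ : Algebra R₀ B₀) (_ : IsScalarTower R₀ Bj B₀) (_ : IsScalarTower R₀ R B₀) (_ : Algebra.IsPushout R₀ Bj R B₀),
      True := by
    letI : Algebra Bj (R ⊗[R₀] Bj) := Algebra.TensorProduct.rightAlgebra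
    haveI : IsScalarTower R₀ Bj (R ⊗[R₀] Bj) := Algebra.TensorProduct.right_isScalarTower
    exact ⟨R ⊗[R₀] Bj, inferInstance, inferInstance, inferInstance, inferInstance, inferInstance, inferInstance,
      Algebra.IsPushout.symm inferInstance, trivial⟩
  haveI : Algebra.IsPushout R₀ R Bj B₀ := Algebra.IsPushout.symm inferInstance
  haveI : Algebra.Etale Bj B₀ := Algebra.Etale.of_equiv (Algebra.IsPushout.equiv R₀ Bj R B₀)
  haveI : Algebra.FinitePresentation R B₀ :=
    Algebra.FinitePresentation.equiv (Algebra.IsPushout.equiv R₀ R Bj B₀)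
  let φC : B₀ →ₐ[R₀] C := Algebra.pushoutDesc B₀ (IsScalarTower.toAlgHom R₀ Bj C) (IsScalarTower.toAlgHom R₀ R C)
    fun _ _ => Commute.all _ _
  letI : Algebra B₀ C := φC.toRingHom.toAlgebra
  haveI : IsScalarTower Bj B₀ C := IsScalarTower.of_algebraMap_eq fun b =>
    (Algebra.pushoutDesc_left B₀ (IsScalarTower.toAlgHom R₀ Bj C) (IsScalarTower.toAlgHom R₀ R C) (fun _ _ => Commute.all _ _) b).symm
  haveI : IsScalarTower R B₀ C := IsScalarTower.of_algebraMap_eq fun a =>
    (Algebra.pushoutDesc_right B₀ (IsScalarTower.toAlgHom R₀ Bj C) (IsScalarTower.toAlgHom R₀ R C) (fun _ _ => Commute.all _ _) a).symm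
  haveI : Algebra.Etale B₀ C := Algebra.Etale.of_restrictScalars Bj B₀ C
  obtain ⟨N₀, _, _, _, _, _, _, _, h₀, hh₀⟩ : ∃ (N₀ : Type u) (_ : AddCommGroup N₀) (_ : Module B₀ N₀) (_ : Module Bj N₀)
      (_ : IsScalarTower Bj B₀ N₀) (_ : Module R N₀) (_ : IsScalarTower R B₀ N₀) (_ : Module R₀ N₀)
      (h₀ : Nj →ₗ[Bj] N₀), IsBaseChange B₀ h₀ ∧ IsScalarTower R₀ R N₀ ∧ IsScalarTower R₀ Bj N₀ := by
    haveI : SMulCommClass Bj R B₀ := ⟨fun s a c => by rw [Algebra.smul_def a, Algebra.smul_def a, mul_smul_comm]⟩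
    haveI : SMulCommClass Bj R₀ B₀ := ⟨fun s a c => by rw [Algebra.smul_def a, Algebra.smul_def a, mul_smul_comm]⟩
    haveI : IsScalarTower R B₀ (B₀ ⊗[Bj] Nj) := TensorProduct.isScalarTower_left
    exact ⟨B₀ ⊗[Bj] Nj, inferInstance, inferInstance, inferInstance, inferInstance, inferInstance, inferInstance,
      inferInstance, TensorProduct.mk Bj B₀ Nj 1, TensorProduct.isBaseChange Bj Nj B₀, TensorProduct.isScalarTower_left,
      inferInstance⟩
  obtain ⟨hh₀, _, _⟩ := hh₀
  haveI : Module.FinitePresentation B₀ N₀ := FinitePresentation.of_isBaseChange h₀ hh₀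
  have hbc₀ : IsBaseChange R (h₀.restrictScalars R₀) :=
    Groth.L20.isBaseChange_restrictScalars (R := R₀) (S := Bj) (R' := R) (S' := B₀) hh₀
  haveI : Module.Projective R (C ⊗[B₀] N₀) := by
    haveI : SMulCommClass Bj R C := ⟨fun s a c => by rw [Algebra.smul_def a, Algebra.smul_def a, mul_smul_comm]⟩
    haveI : IsScalarTower R C (C ⊗[B₀] N₀) := TensorProduct.isScalarTower_left
    haveI : IsScalarTower R C (C ⊗[Bj] Nj) := TensorProduct.isScalarTower_left
    haveI := hproj
    haveI : Module.Projective R (C ⊗[Bj] Nj) := Module.Projective.of_equiv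
      ({ RestrictScalars.addEquiv R C (C ⊗[Bj] Nj) with
          map_smul' := fun r x => by
            show RestrictScalars.addEquiv R C _ (r • x) = r • RestrictScalars.addEquiv R C _ x
            rw [RestrictScalars.addEquiv_map_smul, algebraMap_smul] } : RestrictScalars R C (C ⊗[Bj] Nj) ≃ₗ[R] C ⊗[Bj] Nj)
    exact Module.Projective.of_equiv
      (((AlgebraTensorModule.cancelBaseChange Bj B₀ C C Nj).symm.trans
        (AlgebraTensorModule.congr (LinearEquiv.refl C C) hh₀.equiv)).restrictScalars R)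
  have hopen : IsOpen (Set.range (PrimeSpectrum.comap (algebraMap B₀ C))) :=
    (PrimeSpectrum.isOpenMap_comap_of_hasGoingDown_of_finitePresentation (R := B₀) (S := C)).isOpen_range
  obtain ⟨Gs, hGs⟩ := PrimeSpectrum.isCompact_isOpen_iff.mp
    ⟨isCompact_range (PrimeSpectrum.continuous_comap (algebraMap B₀ C)), hopen⟩
  have hC : ∀ (Q : Ideal B₀) [Q.IsPrime], (∃ b ∈ Gs, b ∉ Q) →
      ∃ x : Ideal C, x.IsPrime ∧ x.comap (algebraMap B₀ C) = Q := fun Q _ ⟨b, hb, hbQ⟩ => by
    obtain ⟨x, hx⟩ : (⟨Q, inferInstance⟩ : PrimeSpectrum B₀) ∈ Set.range (PrimeSpectrum.comap (algebraMap B₀ C)) :=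
      hGs ▸ fun h => hbQ (h hb)
    exact ⟨x.asIdeal, x.isPrime, congrArg PrimeSpectrum.asIdeal hx⟩
  have hcov : ∀ (Q : Ideal B₀) [Q.IsPrime], Q.LiesOver pR → ∃ b ∈ Gs, b ∉ Q := by
    intro Q _ hQ
    let q := Q.comap (algebraMap Bj B₀)
    haveI : q.LiesOver pj := ⟨by
      rw [Ideal.under_def, show q = Q.comap (algebraMap Bj B₀) from rfl, Ideal.comap_comap,
        ← IsScalarTower.algebraMap_eq, IsScalarTower.algebraMap_eq R₀ R B₀, ← Ideal.comap_comap]
      rw [← show pR = Q.comap (algebraMap R B₀) from hQ.over]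
      exact hR.2.1.over⟩
    obtain ⟨x, hx, hxq, hxp⟩ := hpts q inferInstance
    obtain ⟨Q₀, _, -, -, huniq⟩ := exists_point_of_isPushout (B := R₀) (A := Bj) (B' := R) (A' := B₀) pj q pR hR.2
    have hxQ : x.comap (algebraMap B₀ C) = Q := by
      rw [huniq Q hQ ⟨rfl⟩]
      refine huniq _ ⟨?_⟩ ⟨?_⟩
      · rw [Ideal.under_def, Ideal.comap_comap, ← IsScalarTower.algebraMap_eq, hxp]
      · rw [Ideal.under_def, Ideal.comap_comap, ← IsScalarTower.algebraMap_eq, hxq]
    have hmem : (⟨Q, inferInstance⟩ : PrimeSpectrum B₀) ∈ Set.range (PrimeSpectrum.comap (algebraMap B₀ C)) :=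
      ⟨⟨x, hx⟩, PrimeSpectrum.ext hxQ⟩
    rw [← hGs] at hmem
    by_contra! hno
    exact hmem fun y hy => hno y hy
  -- the base change to the colimit
  let A' := R ⊗[R₀] A
  obtain ⟨p', _, hp'R, hp'res, -⟩ := exists_point_pushout (A := R₀) (B := A) (D := R) pj p pR hR.2
  haveI := hp'R
  haveI : Algebra.Etale A A' := etale_pushout
  have hA' : FlatCA.IsEtaleNhd A A' p p' := ⟨inferInstance, hp'res⟩
  haveI := hA'.2.1
  obtain ⟨B', _, _, _, _, _, _, _, _⟩ : ∃ (B' : Type u) (_ : CommRing B') (_ : Algebra A' B') (_ : Algebra B₀ B')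
      (_ : Algebra R B') (_ : IsScalarTower R A' B') (_ : IsScalarTower R B₀ B') (_ : Algebra.IsPushout R B₀ A' B'),
      True := by
    letI : Algebra B₀ (A' ⊗[R] B₀) := Algebra.TensorProduct.rightAlgebra
    haveI : IsScalarTower R B₀ (A' ⊗[R] B₀) := Algebra.TensorProduct.right_isScalarTower
    exact ⟨A' ⊗[R] B₀, inferInstance, inferInstance, inferInstance, inferInstance, inferInstance, inferInstance,
      Algebra.IsPushout.symm inferInstance, trivial⟩
  letI : Algebra R₀ B' := ((algebraMap R B').comp (algebraMap R₀ R)).toAlgebra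
  haveI : IsScalarTower R₀ R B' := IsScalarTower.of_algebraMap_eq' rfl
  haveI : IsScalarTower R₀ A' B' := IsScalarTower.of_algebraMap_eq fun r => by
    rw [IsScalarTower.algebraMap_apply R₀ R B', IsScalarTower.algebraMap_apply R A' B',
      ← IsScalarTower.algebraMap_apply R₀ R A']
  haveI : IsScalarTower R₀ B₀ B' := IsScalarTower.of_algebraMap_eq fun r => by
    rw [IsScalarTower.algebraMap_apply R₀ R B', IsScalarTower.algebraMap_apply R B₀ B',
      ← IsScalarTower.algebraMap_apply R₀ R B₀]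
  letI : Algebra Bj B' := ((algebraMap B₀ B').comp (algebraMap Bj B₀)).toAlgebra
  haveI : IsScalarTower Bj B₀ B' := IsScalarTower.of_algebraMap_eq' rfl
  haveI : IsScalarTower R₀ Bj B' := IsScalarTower.of_algebraMap_eq fun r => by
    rw [IsScalarTower.algebraMap_apply Bj B₀ B', ← IsScalarTower.algebraMap_apply R₀ Bj B₀,
      ← IsScalarTower.algebraMap_apply R₀ B₀ B']
  letI : Algebra A B' := ((algebraMap A' B').comp (algebraMap A A')).toAlgebra
  haveI : IsScalarTower A A' B' := IsScalarTower.of_algebraMap_eq' rfl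
  haveI : IsScalarTower R₀ A B' := IsScalarTower.of_algebraMap_eq fun r => by
    rw [IsScalarTower.algebraMap_apply A A' B', ← IsScalarTower.algebraMap_apply R₀ A A',
      ← IsScalarTower.algebraMap_apply R₀ A' B']
  let φB : B →ₐ[R₀] B' := Algebra.pushoutDesc B (IsScalarTower.toAlgHom R₀ Bj B') (IsScalarTower.toAlgHom R₀ A B')
    fun _ _ => Commute.all _ _
  letI : Algebra B B' := φB.toRingHom.toAlgebra
  haveI : IsScalarTower Bj B B' := IsScalarTower.of_algebraMap_eq fun b =>
    (Algebra.pushoutDesc_left B (IsScalarTower.toAlgHom R₀ Bj B') (IsScalarTower.toAlgHom R₀ A B') (fun _ _ => Commute.all _ _) b).symm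
  haveI : IsScalarTower A B B' := IsScalarTower.of_algebraMap_eq fun a =>
    (Algebra.pushoutDesc_right B (IsScalarTower.toAlgHom R₀ Bj B') (IsScalarTower.toAlgHom R₀ A B') (fun _ _ => Commute.all _ _) a).symm
  haveI : IsScalarTower R₀ B B' := IsScalarTower.of_algebraMap_eq fun r => by
    rw [IsScalarTower.algebraMap_apply R₀ A B, ← IsScalarTower.algebraMap_apply A B B',
      ← IsScalarTower.algebraMap_apply R₀ A B']
  haveI : Algebra.IsPushout R₀ A' Bj B' := by
    haveI : Algebra.IsPushout R A' B₀ B' := Algebra.IsPushout.symm inferInstance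
    exact (Algebra.IsPushout.comp_iff R₀ R (T := A') (R' := Bj) (S' := B₀) (T' := B')).mpr inferInstance
  haveI : Algebra.IsPushout R₀ A Bj B := Algebra.IsPushout.symm inferInstance
  haveI : Algebra.IsPushout A A' B B' :=
    (Algebra.IsPushout.comp_iff R₀ A (T := A') (R' := Bj) (S' := B) (T' := B')).mp inferInstance
  haveI : Algebra.IsPushout A B A' B' := Algebra.IsPushout.symm inferInstance
  obtain ⟨N', _, _, _, _, _, _, h', hh'⟩ : ∃ (N' : Type u) (_ : AddCommGroup N') (_ : Module B' N')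
      (_ : Module B₀ N') (_ : IsScalarTower B₀ B' N') (_ : Module A' N') (_ : IsScalarTower A' B' N')
      (h' : N₀ →ₗ[B₀] N'), IsBaseChange B' h' := by
    haveI : SMulCommClass B₀ A' B' := ⟨fun s a c => by rw [Algebra.smul_def a, Algebra.smul_def a, mul_smul_comm]⟩
    haveI : IsScalarTower A' B' (B' ⊗[B₀] N₀) := TensorProduct.isScalarTower_left
    exact ⟨B' ⊗[B₀] N₀, inferInstance, inferInstance, inferInstance, inferInstance, inferInstance, inferInstance,
      TensorProduct.mk B₀ B' N₀ 1, TensorProduct.isBaseChange B₀ N₀ B'⟩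
  letI : Module Bj N' := Module.compHom N' (algebraMap Bj B')
  haveI : IsScalarTower Bj B' N' := IsScalarTower.of_algebraMap_smul fun _ _ => rfl
  haveI : IsScalarTower Bj B₀ N' := IsScalarTower.of_algebraMap_smul fun b x => by
    rw [← algebraMap_smul B' (algebraMap Bj B₀ b) x, ← IsScalarTower.algebraMap_apply, algebraMap_smul]
  letI : Module B N' := Module.compHom N' (algebraMap B B')
  haveI : IsScalarTower B B' N' := IsScalarTower.of_algebraMap_smul fun _ _ => rfl
  haveI : IsScalarTower Bj B N' := IsScalarTower.of_algebraMap_smul fun b x => by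
    rw [← algebraMap_smul B' (algebraMap Bj B b) x, ← IsScalarTower.algebraMap_apply, algebraMap_smul]
  have hcomp : IsBaseChange B' ((h'.restrictScalars Bj) ∘ₗ h₀) := hh₀.comp hh'
  let fN : N →ₗ[B] N' := hfj.lift ((h'.restrictScalars Bj) ∘ₗ h₀)
  have hfN : IsBaseChange B' fN := IsBaseChange.of_comp hfj (by rw [hfj.lift_comp]; exact hcomp)
  have hG : ∀ (P : Ideal B') [P.IsPrime] (t : Ideal A') [t.IsPrime] [P.LiesOver t], t ≤ p' →
      P ∈ FlatCA.weakAss B' (N' ⊗[A'] t.ResidueField) → ∃ b ∈ Gs, algebraMap B₀ B' b ∉ P := by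
    intro P _ t _ _ ht hP
    haveI : Algebra.FiniteType A' B' := by
      haveI : Algebra.IsPushout R A' B₀ B' := Algebra.IsPushout.symm inferInstance
      exact Algebra.FiniteType.equiv inferInstance (Algebra.IsPushout.equiv R A' B₀ B')
    haveI : Module.FinitePresentation B' N' := FinitePresentation.of_isBaseChange h' hh'
    obtain ⟨P', hP', hle, hover⟩ : ∃ P' : Ideal B', P'.IsPrime ∧ P ≤ P' ∧ P'.LiesOver p' := by
      by_contra! hno
      exact hpure A' B' N' fN t p' P hA' ⟨inferInstance, hfN, ht, hA'.2.1, inferInstance,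
        (fiberIdeal_mem_ass_iff_weakAss t N' P).mpr hP, fun P' hP' hle hover => hno P' hP' hle hover⟩
    haveI := hP'
    haveI : (P'.comap (algebraMap B₀ B')).LiesOver pR := ⟨by
      rw [Ideal.under_def, Ideal.comap_comap, ← IsScalarTower.algebraMap_eq, IsScalarTower.algebraMap_eq R A' B',
        ← Ideal.comap_comap, ← show p' = P'.comap (algebraMap A' B') from hover.over]
      exact hp'R.over⟩
    obtain ⟨b, hb, hbP⟩ := hcov (P'.comap (algebraMap B₀ B')) inferInstance
    exact ⟨b, hb, fun hh => hbP (hle hh)⟩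
  obtain ⟨hflatAp, hkillAp⟩ := flat_noKilled_atPrime (R := R) (B₀ := B₀) N₀ C Gs p' N' h' hh' hC hG
  -- the systems
  let S := fun i => R ⊗[R₀] G i
  letI algS : ∀ i, Algebra (R ⊗[R₀] G i) A' := fun i =>
    (Groth.L20.Stage.tmap R (Groth.L20.Stage.toLim (R := R₀) (R' := A) i)).toRingHom.toAlgebra
  have hS := Groth.L20.Stage.colim_tensor g hgR hcolim R fun i x => rfl
  obtain ⟨instP, hL, hLle, hLeq, hLcolim⟩ := Groth.L20.Stage.exists_colim_atPrime _ hS p'
  letI := instP
  let Idx := Groth.L20.Stage.LocIdx (G := fun i => R ⊗[R₀] G i) p'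
  let L := fun x : Idx => Groth.L20.Stage.LocRing x
  letI algL : ∀ x : Idx, Algebra (L x) (Localization.AtPrime p') := fun x => (Groth.L20.Stage.locLim x).toAlgebra
  haveI : ∀ x : Idx, IsScalarTower R (L x) (Localization.AtPrime p') := fun x =>
    IsScalarTower.of_algebraMap_eq fun r => by
      show _ = Groth.L20.Stage.locLim x (algebraMap R (L x) r)
      rw [IsScalarTower.algebraMap_apply R (R ⊗[R₀] G x.i) (L x), Groth.L20.Stage.locLim_algebraMap,
        IsScalarTower.algebraMap_apply R A' (Localization.AtPrime p')]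
      congr 1
      show _ = Groth.L20.Stage.tmap R (Groth.L20.Stage.toLim (R := R₀) (R' := A) x.i) (algebraMap R (R ⊗[R₀] G x.i) r)
      rw [AlgHom.commutes]
  haveI := hflatAp
  obtain ⟨x, hxflat, hxkill⟩ := exists_noKilled_stage (R := R) (B₀ := B₀) N₀ Gs (G := L) hL
    (fun a b hab => RingHom.ext fun r => by
      show hL a b hab (algebraMap R (L a) r) = algebraMap R (L b) r
      rw [IsScalarTower.algebraMap_apply R (R ⊗[R₀] G a.i) (L a), hLeq,
        IsScalarTower.algebraMap_apply R (R ⊗[R₀] G b.i) (L b)]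
      congr 1
      exact (Groth.L20.Stage.tmap R _).commutes r)
    hLcolim hkillAp
  let T := Groth.L20.Stage.LocRing x
  haveI := hxflat
  haveI : Module.Projective T (T ⊗[R] N₀) :=
    projective_of_noKilled N₀ Gs C hC (C ⊗[B₀] N₀) (TensorProduct.mk B₀ C N₀ 1) (TensorProduct.isBaseChange B₀ N₀ C)
      T hxkill
  -- the stage
  let m := x.i
  let Bm := Bj ⊗[R₀] G m
  let Nm := Bm ⊗[Bj] Nj
  haveI : SMulCommClass Bj (G m) Bm := ⟨fun s a c => by rw [Algebra.smul_def a, Algebra.smul_def a, mul_smul_comm]⟩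
  haveI hst : IsScalarTower (G m) Bm Nm := TensorProduct.isScalarTower_left
  haveI : IsScalarTower R₀ (G m) Nm := TensorProduct.isScalarTower_left
  haveI : Algebra.IsPushout R₀ Bj (G m) Bm := inferInstance
  have hbm : IsBaseChange (G m) ((TensorProduct.mk Bj Bm Nj 1).restrictScalars R₀) :=
    Groth.L20.isBaseChange_restrictScalars (R := R₀) (S := Bj) (R' := G m) (S' := Bm) (TensorProduct.isBaseChange Bj Nj Bm)
  refine ⟨m, hst, ?_, fun q _ hq => ?_⟩
  · haveI : Algebra.Etale (G m) (R ⊗[R₀] G m) := etale_pushout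
    haveI : Algebra.Etale (R ⊗[R₀] G m) T := Algebra.Etale.of_isLocalizationAway x.f
    haveI : Algebra.Etale (G m) T := Algebra.Etale.comp (G m) (R ⊗[R₀] G m) T
    let P := (IsLocalRing.maximalIdeal (Localization.AtPrime p')).comap (Groth.L20.Stage.locLim x)
    haveI : P.IsPrime := Ideal.IsPrime.comap _
    haveI : P.LiesOver (p.comap (algebraMap (G m) A)) := ⟨by
      ext a
      show algebraMap (G m) A a ∈ p ↔ Groth.L20.Stage.locLim x (algebraMap (G m) T a) ∈ IsLocalRing.maximalIdeal _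
      rw [IsScalarTower.algebraMap_apply (G m) (R ⊗[R₀] G m) T, Groth.L20.Stage.locLim_algebraMap,
        IsLocalization.AtPrime.to_map_mem_maximal_iff (Localization.AtPrime p') p']
      rw [Ideal.mem_of_liesOver p' p]
      rfl⟩
    obtain ⟨BT, _, _, _, _, _, _, _, _⟩ : ∃ (BT : Type u) (_ : CommRing BT) (_ : Algebra T BT) (_ : Algebra Bm BT)
        (_ : Algebra (G m) BT) (_ : IsScalarTower (G m) T BT) (_ : IsScalarTower (G m) Bm BT)
        (_ : Algebra.IsPushout (G m) Bm T BT), True := by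
      letI : Algebra Bm (T ⊗[G m] Bm) := Algebra.TensorProduct.rightAlgebra
      haveI : IsScalarTower (G m) Bm (T ⊗[G m] Bm) := Algebra.TensorProduct.right_isScalarTower
      exact ⟨T ⊗[G m] Bm, inferInstance, inferInstance, inferInstance, inferInstance, inferInstance, inferInstance,
        Algebra.IsPushout.symm inferInstance, trivial⟩
    haveI : SMulCommClass Bm T BT := ⟨fun s a c => by rw [Algebra.smul_def a, Algebra.smul_def a, mul_smul_comm]⟩
    haveI : IsScalarTower T BT (BT ⊗[Bm] Nm) := TensorProduct.isScalarTower_left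
    haveI : IsScalarTower (G m) T (BT ⊗[Bm] Nm) := TensorProduct.isScalarTower_left
    have hbT : IsBaseChange T ((TensorProduct.mk Bm BT Nm 1).restrictScalars (G m)) :=
      Groth.L20.isBaseChange_restrictScalars (R := G m) (S := Bm) (R' := T) (S' := BT)
        (TensorProduct.isBaseChange Bm Nm BT)
    -- the projective module
    haveI : IsScalarTower R₀ R T := IsScalarTower.of_algebraMap_eq fun r => by
      rw [IsScalarTower.algebraMap_apply R₀ (R ⊗[R₀] G m) T, IsScalarTower.algebraMap_apply R (R ⊗[R₀] G m) T,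
        ← IsScalarTower.algebraMap_apply R₀ R (R ⊗[R₀] G m)]
    haveI : IsScalarTower R₀ (G m) T := IsScalarTower.of_algebraMap_eq fun r => by
      rw [IsScalarTower.algebraMap_apply R₀ R T, IsScalarTower.algebraMap_apply R (R ⊗[R₀] G m) T,
        ← IsScalarTower.algebraMap_apply R₀ R (R ⊗[R₀] G m), IsScalarTower.algebraMap_apply R₀ (G m) (R ⊗[R₀] G m),
        ← IsScalarTower.algebraMap_apply (G m) (R ⊗[R₀] G m) T]
    haveI : Module.Projective T (BT ⊗[Bm] Nm) := by
      let e₁ : T ⊗[R] N₀ ≃ₗ[T] T ⊗[R₀] Nj :=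
        (AlgebraTensorModule.congr (LinearEquiv.refl T T) hbc₀.equiv.symm).trans
          (AlgebraTensorModule.cancelBaseChange R₀ R T T Nj)
      let e₂ : T ⊗[R₀] Nj ≃ₗ[T] T ⊗[G m] Nm :=
        (AlgebraTensorModule.cancelBaseChange R₀ (G m) T T Nj).symm.trans
          (AlgebraTensorModule.congr (LinearEquiv.refl T T) hbm.equiv)
      exact Module.Projective.of_equiv (e₁.trans (e₂.trans hbT.equiv))
    haveI : Algebra.FiniteType T BT := by
      haveI : Algebra.FiniteType (G m) Bm :=
        Algebra.FiniteType.equiv inferInstance (Algebra.IsPushout.equiv R₀ (G m) Bj Bm)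
      haveI : Algebra.IsPushout (G m) T Bm BT := Algebra.IsPushout.symm inferInstance
      exact Algebra.FiniteType.equiv inferInstance (Algebra.IsPushout.equiv (G m) T Bm BT)
    haveI : Algebra.FiniteType (G m) Bm := by
      haveI : Algebra.IsPushout R₀ (G m) Bj Bm := Algebra.IsPushout.symm inferInstance
      exact Algebra.FiniteType.equiv inferInstance (Algebra.IsPushout.equiv R₀ (G m) Bj Bm)
    haveI : Module.Flat (G m) T := inferInstance
    haveI : Module.Flat (G m) (Localization.AtPrime P) := Module.Flat.trans (G m) T _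
    have hpureP : FlatCA.IsPureAlong T BT (BT ⊗[Bm] Nm) P := fun A'' B'' N'' => by
      intro _ _ _ _ _ _ _ _ _ _ _ _ _ _ f'' t' t _ _ P'' _ _
      exact isUnivPure_of_projective (BT ⊗[Bm] Nm) P A'' B'' N'' f'' t' t P''
    exact isPureAlong_descent (A := G m) (B := Bm) (A' := T) (B' := BT) Nm (BT ⊗[Bm] Nm) (TensorProduct.mk Bm BT Nm 1)
      (p.comap (algebraMap (G m) A)) P (TensorProduct.isBaseChange Bm Nm BT) hpureP
  · haveI := hq
    let q₀ := q.comap (algebraMap Bj Bm)
    haveI : q₀.LiesOver pj := ⟨by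
      rw [Ideal.under_def, show q₀ = q.comap (algebraMap Bj Bm) from rfl, Ideal.comap_comap,
        ← IsScalarTower.algebraMap_eq, IsScalarTower.algebraMap_eq R₀ (G m) Bm, ← Ideal.comap_comap,
        ← show p.comap (algebraMap (G m) A) = q.comap (algebraMap (G m) Bm) from hq.over, Ideal.comap_comap,
        ← IsScalarTower.algebraMap_eq]⟩
    haveI : Module.Flat R₀ (LocalizedModule q₀.primeCompl Nj) := hflat q₀ inferInstance
    exact Groth.L20.flat_localizedModule_of_isBaseChange (R := R₀) (S := Bj) (R' := G m) (S' := Bm)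
      (TensorProduct.mk Bj Bm Nj 1) hbm q₀.primeCompl q.primeCompl fun a ha => ha

end Groth.L20.RG
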