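import Groth.Prelude.Def_FlatCA
import Groth.Agent.L20.RG.Nbhd
import Mathlib.FieldTheory.IntermediateField.Adjoin.Basic
import Mathlib.RingTheory.TensorProduct.MvPolynomial
import Mathlib.RingTheory.AlgebraicIndependent.TranscendenceBasis
import Mathlib.RingTheory.Ideal.GoingUp

/-!
# Purely transcendental residue field extensions
-/

set_option autoImplicit false
set_option linter.style.haveILetI false
universe u

open TensorProduct

noncomputable section

namespace Groth.L20.RG

attribute [local instance] MvPolynomial.algebraMvPolynomial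

/-- An integral extension tensor a purely transcendental one has a single prime. -/
theorem subsingleton_spec_tensor {k k' L : Type u} [Field k] [Field k'] [Algebra k k'] [Algebra.IsIntegral k k']
    [Field L] [Algebra k L] {ι : Type u} (x : ι → L) (hx : AlgebraicIndependent k x)
    (hadj : IntermediateField.adjoin k (Set.range x) = ⊤) :
    Subsingleton (PrimeSpectrum (k' ⊗[k] L)) := by
  classical
  let φ : k' ⊗[k] MvPolynomial ι k →ₐ[k'] k' ⊗[k] L :=
    Algebra.TensorProduct.map (AlgHom.id k' k') (MvPolynomial.aeval x)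
  have hden : ∀ z : k' ⊗[k] L, ∃ (d : MvPolynomial ι k) (w : k' ⊗[k] MvPolynomial ι k),
      IsUnit (φ (1 ⊗ₜ d)) ∧ φ w = φ (1 ⊗ₜ d) * z := by
    intro z
    induction z using TensorProduct.induction_on with
    | zero => exact ⟨1, 0, by simp [φ, ← Algebra.TensorProduct.one_def], by simp⟩
    | add a b ha hb =>
      obtain ⟨d, w, hd, hw⟩ := ha
      obtain ⟨e, v, he, hv⟩ := hb
      refine ⟨d * e, (1 ⊗ₜ e) * w + (1 ⊗ₜ d) * v, ?_, ?_⟩
      · rw [show (1 : k') ⊗ₜ[k] (d * e) = (1 ⊗ₜ d) * (1 ⊗ₜ e) by simp, map_mul]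
        exact hd.mul he
      · rw [show (1 : k') ⊗ₜ[k] (d * e) = (1 ⊗ₜ d) * (1 ⊗ₜ e) by simp, map_add, map_mul, map_mul, map_mul, hw, hv]
        ring
    | tmul a l =>
      obtain ⟨r, s, hrs⟩ := (IntermediateField.mem_adjoin_range_iff k x l).mp (hadj ▸ IntermediateField.mem_top)
      by_cases hs : MvPolynomial.aeval x s = 0
      · refine ⟨1, 0, by simp [φ, ← Algebra.TensorProduct.one_def], ?_⟩
        simp [hrs, hs]
      refine ⟨s, a ⊗ₜ r, ?_, ?_⟩
      · show IsUnit ((1 : k') ⊗ₜ[k] MvPolynomial.aeval x s)
        exact (IsUnit.mk0 _ hs).map (Algebra.TensorProduct.includeRight : L →ₐ[k] k' ⊗[k] L)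
      · show a ⊗ₜ[k] MvPolynomial.aeval x r = ((1 : k') ⊗ₜ[k] MvPolynomial.aeval x s) * a ⊗ₜ[k] l
        rw [Algebra.TensorProduct.tmul_mul_tmul, one_mul, hrs, mul_div_cancel₀ _ hs]
  let e : k' ⊗[k] MvPolynomial ι k ≃ₐ[k'] MvPolynomial ι k' := MvPolynomial.algebraTensorAlgEquiv k k'
  refine ⟨fun P Q => ?_⟩
  have key : ∀ P : PrimeSpectrum (k' ⊗[k] L), (P.asIdeal.comap φ).comap e.symm = ⊥ := by
    intro P
    haveI : Algebra.IsIntegral (MvPolynomial ι k) (MvPolynomial ι k') := ⟨fun G => by
      induction G using MvPolynomial.induction_on with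
      | C a =>
        exact (Algebra.IsIntegral.isIntegral (R := k) a).map_of_comp_eq
          (MvPolynomial.C : k →+* MvPolynomial ι k) (MvPolynomial.C : k' →+* MvPolynomial ι k') (RingHom.ext fun c => MvPolynomial.map_C _ c)
      | add G H hG hH => exact hG.add hH
      | mul_X G i hG =>
        refine hG.mul ?_
        have : (MvPolynomial.X i : MvPolynomial ι k') = algebraMap (MvPolynomial ι k) _ (MvPolynomial.X i) :=
          (MvPolynomial.map_X _ i).symm
        rw [this]
        exact isIntegral_algebraMap⟩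
    refine Ideal.eq_bot_of_comap_eq_bot (R := MvPolynomial ι k) ?_
    refine eq_bot_iff.mpr fun d hd => ?_
    rw [Ideal.mem_comap, Ideal.mem_comap, Ideal.mem_comap] at hd
    have hed : e.symm (algebraMap (MvPolynomial ι k) (MvPolynomial ι k') d) = 1 ⊗ₜ d := by
      apply e.injective
      rw [e.apply_symm_apply, MvPolynomial.algebraTensorAlgEquiv_tmul, one_smul]
      rfl
    rw [hed] at hd
    by_contra hd0
    refine P.isPrime.ne_top (Ideal.eq_top_of_isUnit_mem _ hd ?_)
    have hne : MvPolynomial.aeval x d ≠ 0 := fun h => hd0 (hx (by rw [map_zero]; exact h))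
    show IsUnit ((1 : k') ⊗ₜ[k] MvPolynomial.aeval x d)
    exact (IsUnit.mk0 _ hne).map (Algebra.TensorProduct.includeRight : L →ₐ[k] k' ⊗[k] L)
  have hle : ∀ P Q : PrimeSpectrum (k' ⊗[k] L), P.asIdeal ≤ Q.asIdeal := by
    intro P Q z hz
    obtain ⟨d, w, hd, hw⟩ := hden z
    have h0 : φ w ∈ P.asIdeal := hw ▸ Ideal.mul_mem_left _ _ hz
    have : e.symm (e w) ∈ P.asIdeal.comap φ := by rw [e.symm_apply_apply]; exact h0
    rw [← Ideal.mem_comap (f := e.symm), key, ← key Q, Ideal.mem_comap, e.symm_apply_apply, Ideal.mem_comap, hw,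
      Ideal.unit_mul_mem_iff_mem _ hd] at this
    exact this
  exact PrimeSpectrum.ext (le_antisymm (hle P Q) (hle Q P))

/-- Transport along trivial residue field extensions. -/
theorem purelyTranscendental_transport {R R' B D : Type u} [CommRing R] [CommRing R'] [CommRing B] [CommRing D]
    [Algebra R R'] [Algebra R B] [Algebra R' D] [Algebra B D] [Algebra R D] [IsScalarTower R R' D] [IsScalarTower R B D]
    {p : Ideal R} {p' : Ideal R'} {b : Ideal B} {d : Ideal D} [p.IsPrime] [p'.IsPrime] [b.IsPrime] [d.IsPrime]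
    [hb : b.LiesOver p] [hd : d.LiesOver p'] (hp : TrivRes R p p') (hbd : TrivRes B b d)
    (h : FlatCA.PurelyTranscendental p b) : FlatCA.PurelyTranscendental p' d := by
  obtain ⟨hp', hj⟩ := hp
  obtain ⟨hd', hi⟩ := hbd
  letI a1 : Algebra p.ResidueField b.ResidueField :=
    (Ideal.ResidueField.mapₐ p b (Algebra.ofId R B) hb.over).toRingHom.toAlgebra
  letI a2 : Algebra p'.ResidueField d.ResidueField :=
    (Ideal.ResidueField.mapₐ p' d (Algebra.ofId R' D) hd.over).toRingHom.toAlgebra
  let j : p.ResidueField →ₐ[R] p'.ResidueField := Ideal.ResidueField.mapₐ p p' (Algebra.ofId R R') hp'.over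
  let i : b.ResidueField →ₐ[B] d.ResidueField := Ideal.ResidueField.mapₐ b d (Algebra.ofId B D) hd'.over
  letI a3 : Algebra p.ResidueField d.ResidueField := ((algebraMap p'.ResidueField d.ResidueField).comp j).toAlgebra
  have hcomm : ∀ c, i (algebraMap p.ResidueField b.ResidueField c) = algebraMap p'.ResidueField d.ResidueField (j c) := by
    have : i.toRingHom.comp (algebraMap p.ResidueField b.ResidueField) =
        (algebraMap p'.ResidueField d.ResidueField).comp j.toRingHom := by
      refine Ideal.ResidueField.ringHom_ext ?_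
      ext c
      show i (Ideal.ResidueField.mapₐ p b (Algebra.ofId R B) hb.over (algebraMap R _ c)) =
        Ideal.ResidueField.mapₐ p' d (Algebra.ofId R' D) hd.over (j (algebraMap R _ c))
      rw [AlgHom.commutes, AlgHom.commutes, IsScalarTower.algebraMap_apply R B b.ResidueField, AlgHom.commutes,
        IsScalarTower.algebraMap_apply R R' p'.ResidueField, AlgHom.commutes,
        IsScalarTower.algebraMap_apply B D d.ResidueField, IsScalarTower.algebraMap_apply R' D d.ResidueField,
        ← IsScalarTower.algebraMap_apply R B D, ← IsScalarTower.algebraMap_apply R R' D]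
    exact fun c => congrFun (congrArg DFunLike.coe this) c
  let iₐ : b.ResidueField →ₐ[p.ResidueField] d.ResidueField := { i.toRingHom with commutes' := hcomm }
  let je : p.ResidueField ≃+* p'.ResidueField := RingEquiv.ofBijective j hj
  obtain ⟨ι, x, hx, hadj⟩ := h
  have hcomp : (algebraMap p'.ResidueField d.ResidueField).comp je.toRingHom =
      (RingHom.id d.ResidueField).comp (algebraMap p.ResidueField d.ResidueField) := RingHom.ext fun _ => rfl
  have hadj' : IntermediateField.adjoin p'.ResidueField (Set.range (iₐ ∘ x)) = ⊤ := by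
    refine top_le_iff.mp fun z _ => ?_
    obtain ⟨w, rfl⟩ := hi.2 z
    obtain ⟨r, s, hrs⟩ := (IntermediateField.mem_adjoin_range_iff p.ResidueField x w).mp (hadj ▸ IntermediateField.mem_top)
    show iₐ w ∈ _
    rw [hrs, map_div₀]
    have key : ∀ G : MvPolynomial ι p.ResidueField,
        iₐ (MvPolynomial.aeval x G) ∈ IntermediateField.adjoin p'.ResidueField (Set.range (iₐ ∘ x)) := fun G => by
      induction G using MvPolynomial.induction_on with
      | C c =>
        rw [MvPolynomial.aeval_C, AlgHom.commutes]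
        exact IntermediateField.algebraMap_mem _ (j c)
      | add G H hG hH => rw [map_add, map_add]; exact add_mem hG hH
      | mul_X G i hG =>
        rw [map_mul, map_mul, MvPolynomial.aeval_X]
        exact mul_mem hG (IntermediateField.subset_adjoin _ _ ⟨i, rfl⟩)
    exact div_mem (key r) (key s)
  refine ⟨ι, iₐ ∘ x, ⟨?_, fun t ht hle => ?_⟩, hadj'⟩
  · have h1 : AlgebraicIndependent p.ResidueField (iₐ ∘ x) := hx.1.map' iₐ.toRingHom.injective
    exact h1.ringHom_of_comp_eq je.toRingHom (RingHom.id d.ResidueField) je.surjective Function.injective_id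
      hcomp
  · have h1 : AlgebraicIndependent p.ResidueField (iₐ ∘ x) := hx.1.map' iₐ.toRingHom.injective
    have h2 : IsTranscendenceBasis p.ResidueField (iₐ ∘ x) :=
      (AlgEquiv.ofBijective iₐ hi).isTranscendenceBasis hx
    refine h2.2 _ ?_ hle
    exact ht.of_ringHom_of_comp_eq je.toRingHom (RingHom.id d.ResidueField) je.injective
      hcomp

/-- A point of a tensor product over two points whose residue fields tensor to a ring with one prime is
unique. -/
theorem eq_of_liesOver_of_subsingleton {R' A T : Type u} [CommRing R'] [CommRing A] [CommRing T] [Algebra R' A]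
    [Algebra R' T] (p' : Ideal R') [p'.IsPrime] (y : Ideal A) [y.IsPrime] [hy : y.LiesOver p'] (τ : Ideal T)
    [τ.IsPrime] [hτ : τ.LiesOver p']
    (hs : letI : Algebra p'.ResidueField τ.ResidueField :=
        (Ideal.ResidueField.mapₐ p' τ (Algebra.ofId R' T) hτ.over).toRingHom.toAlgebra
      letI : Algebra p'.ResidueField y.ResidueField :=
        (Ideal.ResidueField.mapₐ p' y (Algebra.ofId R' A) hy.over).toRingHom.toAlgebra
      Subsingleton (PrimeSpectrum (τ.ResidueField ⊗[p'.ResidueField] y.ResidueField)))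
    (Q₁ Q₂ : Ideal (A ⊗[R'] T)) [Q₁.IsPrime] [Q₂.IsPrime]
    (h1 : Q₁.comap Algebra.TensorProduct.includeLeftRingHom = y)
    (h1' : Q₁.comap Algebra.TensorProduct.includeRight.toRingHom = τ)
    (h2 : Q₂.comap Algebra.TensorProduct.includeLeftRingHom = y)
    (h2' : Q₂.comap Algebra.TensorProduct.includeRight.toRingHom = τ) : Q₁ = Q₂ := by
  letI a1 : Algebra p'.ResidueField τ.ResidueField :=
    (Ideal.ResidueField.mapₐ p' τ (Algebra.ofId R' T) hτ.over).toRingHom.toAlgebra
  letI a2 : Algebra p'.ResidueField y.ResidueField :=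
    (Ideal.ResidueField.mapₐ p' y (Algebra.ofId R' A) hy.over).toRingHom.toAlgebra
  haveI : Subsingleton (PrimeSpectrum (τ.ResidueField ⊗[p'.ResidueField] y.ResidueField)) := hs
  let M := τ.ResidueField ⊗[p'.ResidueField] y.ResidueField
  let inR : y.ResidueField →ₐ[p'.ResidueField] M := Algebra.TensorProduct.includeRight
  have hb : ∀ c : R', inR (algebraMap R' y.ResidueField c) =
      algebraMap τ.ResidueField M (algebraMap R' τ.ResidueField c) := by
    intro c
    have e1 : algebraMap p'.ResidueField τ.ResidueField (algebraMap R' _ c) = algebraMap R' τ.ResidueField c :=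
      (Ideal.ResidueField.mapₐ p' τ (Algebra.ofId R' T) hτ.over).commutes c
    have e2 : algebraMap p'.ResidueField y.ResidueField (algebraMap R' _ c) = algebraMap R' y.ResidueField c :=
      (Ideal.ResidueField.mapₐ p' y (Algebra.ofId R' A) hy.over).commutes c
    rw [← e1, ← e2, inR.commutes]
    exact IsScalarTower.algebraMap_apply p'.ResidueField τ.ResidueField M _
  have main : ∀ (Q : Ideal (A ⊗[R'] T)) [Q.IsPrime], Q.comap Algebra.TensorProduct.includeLeftRingHom = y →
      Q.comap Algebra.TensorProduct.includeRight.toRingHom = τ →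
      ∃ P : Ideal M, P.IsPrime ∧ ∃ χ : A ⊗[R'] T →+* M,
        (∀ a t, χ (a ⊗ₜ t) = algebraMap τ.ResidueField M (algebraMap T _ t) *
          (1 ⊗ₜ algebraMap A y.ResidueField a)) ∧ P.comap χ = Q := by
    intro Q _ hl hr
    let gy : y.ResidueField →+* Q.ResidueField :=
      Ideal.ResidueField.map y Q Algebra.TensorProduct.includeLeftRingHom hl.symm
    let gt : τ.ResidueField →+* Q.ResidueField :=
      Ideal.ResidueField.map τ Q Algebra.TensorProduct.includeRight.toRingHom hr.symm
    have hg : gy.comp (algebraMap p'.ResidueField y.ResidueField) = gt.comp (algebraMap p'.ResidueField τ.ResidueField) := by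
      refine Ideal.ResidueField.ringHom_ext ?_
      ext c
      show gy (Ideal.ResidueField.mapₐ p' y (Algebra.ofId R' A) hy.over (algebraMap R' _ c)) =
        gt (Ideal.ResidueField.mapₐ p' τ (Algebra.ofId R' T) hτ.over (algebraMap R' _ c))
      rw [AlgHom.commutes, AlgHom.commutes, IsScalarTower.algebraMap_apply R' A y.ResidueField,
        IsScalarTower.algebraMap_apply R' T τ.ResidueField, Ideal.ResidueField.map_algebraMap,
        Ideal.ResidueField.map_algebraMap]
      congr 1
      show algebraMap R' A c ⊗ₜ[R'] (1 : T) = (1 : A) ⊗ₜ[R'] algebraMap R' T c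
      rw [Algebra.algebraMap_eq_smul_one, Algebra.algebraMap_eq_smul_one, TensorProduct.smul_tmul]
    letI : Algebra p'.ResidueField Q.ResidueField := (gt.comp (algebraMap p'.ResidueField τ.ResidueField)).toAlgebra
    let gtₐ : τ.ResidueField →ₐ[p'.ResidueField] Q.ResidueField := { gt with commutes' := fun _ => rfl }
    let gyₐ : y.ResidueField →ₐ[p'.ResidueField] Q.ResidueField :=
      { gy with commutes' := fun c => congrFun (congrArg DFunLike.coe hg) c }
    let Ψ : M →ₐ[p'.ResidueField] Q.ResidueField :=
      Algebra.TensorProduct.lift gtₐ gyₐ fun _ _ => Commute.all _ _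
    let χA : A →ₐ[R'] M :=
      { (Algebra.TensorProduct.includeRight (R := p'.ResidueField) (A := τ.ResidueField)
            (B := y.ResidueField)).toRingHom.comp (algebraMap A y.ResidueField) with
        commutes' := fun c => by
          show inR (algebraMap A y.ResidueField (algebraMap R' A c)) = algebraMap R' M c
          rw [← IsScalarTower.algebraMap_apply, hb]
          rfl }
    let χT : T →ₐ[R'] M :=
      { (algebraMap τ.ResidueField M).comp (algebraMap T τ.ResidueField) with
        commutes' := fun c => by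
          show algebraMap τ.ResidueField M (algebraMap T τ.ResidueField (algebraMap R' T c)) = algebraMap R' M c
          rw [← IsScalarTower.algebraMap_apply]
          rfl }
    let χ : A ⊗[R'] T →ₐ[R'] M := Algebra.TensorProduct.lift χA χT fun _ _ => Commute.all _ _
    refine ⟨RingHom.ker Ψ, RingHom.ker_isPrime Ψ, χ.toRingHom, fun a t => mul_comm _ _, ?_⟩
    have : Ψ.toRingHom.comp χ.toRingHom = algebraMap (A ⊗[R'] T) Q.ResidueField := by
      refine RingHom.ext fun z => ?_
      show Ψ (χ z) = _
      induction z using TensorProduct.induction_on with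
      | zero => simp
      | add a b ha hb => simp only [map_add, ha, hb]
      | tmul a t =>
        show Ψ (χA a * χT t) = _
        rw [map_mul, show Ψ (χA a) = gt 1 * gy (algebraMap A _ a) from Algebra.TensorProduct.lift_tmul _ _ _ _ _,
          show Ψ (χT t) = gt (algebraMap T _ t) * gy 1 from Algebra.TensorProduct.lift_tmul _ _ _ _ _,
          map_one, map_one, one_mul, mul_one, Ideal.ResidueField.map_algebraMap, Ideal.ResidueField.map_algebraMap,
          ← map_mul]
        congr 1
        show (a ⊗ₜ[R'] (1 : T)) * ((1 : A) ⊗ₜ[R'] t) = a ⊗ₜ t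
        simp
    show (RingHom.ker Ψ.toRingHom).comap χ.toRingHom = Q
    rw [RingHom.comap_ker, this, Ideal.ker_algebraMap_residueField]
  obtain ⟨P₁, hP₁, χ₁, hχ₁, he₁⟩ := main Q₁ h1 h1'
  obtain ⟨P₂, hP₂, χ₂, hχ₂, he₂⟩ := main Q₂ h2 h2'
  have hχ : χ₁ = χ₂ := by
    refine RingHom.ext fun z => ?_
    induction z using TensorProduct.induction_on with
    | zero => simp
    | add a b ha hb => simp only [map_add, ha, hb]
    | tmul a t => rw [hχ₁, hχ₂]
  rw [← he₁, ← he₂, hχ,
    show P₁ = P₂ from congrArg PrimeSpectrum.asIdeal (Subsingleton.elim (⟨P₁, hP₁⟩ : PrimeSpectrum M) ⟨P₂, hP₂⟩)]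

end Groth.L20.RG
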