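import Groth.Agent.L20.RG.DescMono
import Mathlib.RingTheory.Etale.Pi

/-!
# Representability over finite products and along finite families of étale charts
-/

set_option autoImplicit false
set_option linter.style.haveILetI false
set_option backward.isDefEq.respectTransparency.types false
universe u

open CategoryTheory CategoryTheory.Limits AlgebraicGeometry

noncomputable section

namespace Groth.L20.RG

/-- The condition may be checked étale locally, prime by prime. -/
def IsEtPointwise {A : Type u} [CommRing A] (Φ : Cond A) : Prop :=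
  ∀ (T : Type u) [CommRing T] (φ : A →+* T),
    (∀ t : PrimeSpectrum T, ∃ (T' : Type u) (_ : CommRing T') (ψ : T →+* T'),
      ψ.Etale ∧ t ∈ Set.range (PrimeSpectrum.comap ψ) ∧ Φ T' (ψ.comp φ)) → Φ T φ

theorem IsEtPointwise.isEtLocal {A : Type u} [CommRing A] {Φ : Cond A} (h : IsEtPointwise Φ)
    (hc : ∀ (T T' : Type u) [CommRing T] [CommRing T'] (φ : A →+* T) (ψ : T →+* T'), Φ T φ → Φ T' (ψ.comp φ)) :
    IsEtLocal Φ :=
  ⟨hc, fun T T' _ _ φ ψ hψ hs h' => h T φ fun t => ⟨T', inferInstance, ψ, hψ, hs t, h'⟩⟩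

set_option maxHeartbeats 1000000 in
/-- Representability over a finite product is checked on the factors. -/
theorem rep_pi {m : ℕ} {R : Fin m → Type u} [∀ x, CommRing (R x)] {Φ : Cond (∀ x, R x)}
    (hc : ∀ (T T' : Type u) [CommRing T] [CommRing T'] (φ : (∀ x, R x) →+* T) (ψ : T →+* T'),
      Φ T φ → Φ T' (ψ.comp φ))
    (hloc : IsEtPointwise Φ) (h : ∀ x, Rep (Φ.pull (Pi.evalRingHom R x))) : Rep Φ := by
  classical
  choose Z i hi using h
  haveI : ∀ x, Mono (i x) := fun x => (hi x).mono
  haveI : ∀ x, LocallyOfFinitePresentation (i x) := fun x => (hi x).lfp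
  haveI : ∀ x, QuasiCompact (i x) := fun x => (hi x).qc
  let c : ∀ x, Spec (CommRingCat.of (R x)) ⟶ Spec (CommRingCat.of (∀ x, R x)) := fun x =>
    Spec.map (CommRingCat.ofHom (Pi.evalRingHom R x))
  haveI hco : ∀ x, IsOpenImmersion (c x) := fun x =>
    inferInstanceAs (IsOpenImmersion (Spec.map (CommRingCat.ofHom (Pi.evalRingHom (R ·) x))))
  let e : Fin m → ∀ x, R x := fun x => Pi.single x 1
  -- the factors have disjoint images
  have hdisj : ∀ x y (p : Spec (CommRingCat.of (R x))) (q : Spec (CommRingCat.of (R y))), c x p = c y q → x = y := by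
    intro x y p q hpq
    by_contra hne
    have hx : e x ∉ (c x p).asIdeal := fun hm => p.2.ne_top ((Ideal.eq_top_iff_one _).2 (by
      have : (e x) x ∈ p.asIdeal := hm
      simpa [e] using this))
    have hy : e x ∈ (c y q).asIdeal := by
      show (e x) y ∈ q.asIdeal
      simp [e, Ne.symm hne]
    exact hx (hpq ▸ hy)
  let W := ∐ Z
  let w : W ⟶ Spec (CommRingCat.of (∀ x, R x)) := Sigma.desc fun x => i x ≫ c x
  have hrange : ∀ (x : Fin m) (z : W), w z ∈ Set.range (c x) → z ∈ Set.range (Sigma.ι Z x) := by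
    intro x z hz
    obtain ⟨y, z, rfl⟩ := (sigmaOpenCover Z).exists_eq z
    change w (Sigma.ι Z y z) ∈ Set.range (c x) at hz
    show Sigma.ι Z y z ∈ Set.range (Sigma.ι Z x)
    obtain ⟨p, hp⟩ := hz
    rw [← Scheme.Hom.comp_apply, show Sigma.ι Z y ≫ w = i y ≫ c y from Sigma.ι_desc _ _, Scheme.Hom.comp_apply] at hp
    obtain rfl := hdisj x y p (i y z) hp
    exact ⟨z, rfl⟩
  haveI : Mono w := by
    refine ⟨fun {T} a b hab => ?_⟩
    let 𝒰 := (sigmaOpenCover Z).pullback₁ a
    refine Scheme.Cover.hom_ext 𝒰 _ _ fun x => ?_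
    change pullback.fst a (Sigma.ι Z x) ≫ a = pullback.fst a (Sigma.ι Z x) ≫ b
    let v := pullback.fst a (Sigma.ι Z x) ≫ b
    have hsub : Set.range v ⊆ Set.range (Sigma.ι Z x) := by
      rintro _ ⟨z, rfl⟩
      refine hrange x _ ⟨i x (pullback.snd a (Sigma.ι Z x) z), ?_⟩
      rw [← Scheme.Hom.comp_apply, ← Scheme.Hom.comp_apply, ← Scheme.Hom.comp_apply]
      have ee : pullback.snd a (Sigma.ι Z x) ≫ i x ≫ c x = v ≫ w := by
        rw [← show Sigma.ι Z x ≫ w = i x ≫ c x from Sigma.ι_desc _ _, ← pullback.condition_assoc, hab, Category.assoc]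
      rw [ee]
    let b' := IsOpenImmersion.lift (Sigma.ι Z x) v hsub
    have hb' : b' ≫ Sigma.ι Z x = v := IsOpenImmersion.lift_fac _ _ _
    have : pullback.snd a (Sigma.ι Z x) = b' := by
      refine (cancel_mono (i x ≫ c x)).1 ?_
      rw [← show Sigma.ι Z x ≫ w = i x ≫ c x from Sigma.ι_desc _ _, ← pullback.condition_assoc, hab,
        reassoc_of% hb', Category.assoc]
    rw [pullback.condition, this, hb']
  haveI : LocallyOfFinitePresentation w := IsZariskiLocalAtSource.sigmaDesc fun _ => inferInstance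
  haveI : ∀ x, CompactSpace (Z x) := fun x => QuasiCompact.compactSpace_of_compactSpace (i x)
  haveI : CompactSpace W := by
    haveI : ∀ x, CompactSpace ↥((sigmaOpenCover Z).X x) := fun x => inferInstanceAs (CompactSpace ↥(Z x))
    haveI : Finite (sigmaOpenCover Z).I₀ := inferInstanceAs (Finite (Fin m))
    exact Scheme.OpenCover.compactSpace (sigmaOpenCover Z)
  haveI : QuasiCompact w := by
    rw [quasiCompact_iff_compactSpace]
    infer_instance
  refine ⟨W, w, inferInstance, inferInstance, inferInstance, inferInstance, fun T _ φ => ?_⟩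
  let s : Fin m → T := fun x => φ (e x)
  let T' : Fin m → Type u := fun x => Localization.Away (s x)
  let ψ : ∀ x, T →+* T' x := fun x => algebraMap T (T' x)
  have hunit : ∀ x, IsUnit (ψ x (s x)) := fun x => IsLocalization.Away.algebraMap_isUnit (s x)
  have hone : ∀ x, ψ x (s x) = 1 := fun x => (hunit x).mul_left_cancel (by
    rw [mul_one, ← map_mul]
    show ψ x (φ (e x) * φ (e x)) = _
    rw [← map_mul, ← Pi.single_mul, one_mul])
  let φx : ∀ x, R x →+* T' x := fun x =>
    { toFun := fun r => ψ x (φ (Pi.single x r))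
      map_one' := hone x
      map_mul' := fun a b => by rw [← map_mul, ← map_mul, ← Pi.single_mul]
      map_zero' := by simp
      map_add' := fun a b => by rw [← map_add, ← map_add, ← Pi.single_add] }
  have hφx : ∀ x, (φx x).comp (Pi.evalRingHom R x) = (ψ x).comp φ := fun x => RingHom.ext fun r => by
    show ψ x (φ (Pi.single x (r x))) = ψ x (φ r)
    rw [show (Pi.single x (r x) : ∀ y, R y) = e x * r by
      funext y
      by_cases hy : y = x
      · subst hy; simp [e]
      · simp [e, hy], map_mul, map_mul, hone, one_mul]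
  have hspan : Ideal.span (Set.range s) = ⊤ := (Ideal.eq_top_iff_one _).2 (by
    have : (1 : ∀ x, R x) = ∑ x, e x := (Finset.univ_sum_single (1 : ∀ x, R x)).symm
    rw [← map_one φ, this, map_sum]
    exact Ideal.sum_mem _ fun x _ => Ideal.subset_span ⟨x, rfl⟩)
  let 𝒱 := Scheme.affineOpenCoverOfSpanRangeEqTop (R := CommRingCat.of T) s hspan
  have hcond : ∀ x, Spec.map (CommRingCat.ofHom (φx x)) ≫ c x =
      Spec.map (CommRingCat.ofHom (ψ x)) ≫ Spec.map (CommRingCat.ofHom φ) := fun x => by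
    rw [← Spec.map_comp, ← Spec.map_comp, ← CommRingCat.ofHom_comp, ← CommRingCat.ofHom_comp, hφx]
  constructor
  · intro hφ
    have hj : ∀ x, ∃ j : Spec (CommRingCat.of (T' x)) ⟶ Z x, j ≫ i x = Spec.map (CommRingCat.ofHom (φx x)) :=
      fun x => ((hi x).iff (T' x) (φx x)).1 (by
        show Φ (T' x) ((φx x).comp (Pi.evalRingHom R x))
        rw [hφx]; exact hc T (T' x) φ (ψ x) hφ)
    choose j hj using hj
    have hcomp : ∀ x, (j x ≫ Sigma.ι Z x) ≫ w = 𝒱.openCover.f x ≫ Spec.map (CommRingCat.ofHom φ) := fun x => by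
      rw [Category.assoc, show Sigma.ι Z x ≫ w = i x ≫ c x from Sigma.ι_desc _ _, reassoc_of% (hj x), hcond]
      rfl
    refine ⟨𝒱.openCover.glueMorphisms (fun x => j x ≫ Sigma.ι Z x) fun a b => ?_, ?_⟩
    · refine (cancel_mono w).1 ?_
      refine (Category.assoc _ _ _).trans (Eq.trans ?_ (Category.assoc _ _ _).symm)
      exact (congrArg (_ ≫ ·) (hcomp a)).trans
        ((pullback.condition_assoc _).trans (congrArg (_ ≫ ·) (hcomp b)).symm)
    · refine Scheme.Cover.hom_ext 𝒱.openCover _ _ fun a => ?_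
      rw [Scheme.Cover.ι_glueMorphisms_assoc]
      exact hcomp a
  · rintro ⟨j, hj⟩
    refine hloc T φ fun t => ?_
    obtain ⟨x, hx⟩ : ∃ x, s x ∉ t.asIdeal := by
      by_contra! hall
      exact t.2.ne_top (top_le_iff.1 (hspan ▸ Ideal.span_le.2 (Set.range_subset_iff.2 hall)))
    refine ⟨T' x, inferInstance, ψ x, RingHom.etale_algebraMap.2 (Algebra.Etale.of_isLocalizationAway (s x)),
      ?_, ?_⟩
    · rw [PrimeSpectrum.localization_away_comap_range (T' x) (s x)]
      exact hx
    · let u := Spec.map (CommRingCat.ofHom (ψ x)) ≫ j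
      have hu : u ≫ w = Spec.map (CommRingCat.ofHom (φx x)) ≫ c x := by rw [Category.assoc, hj, hcond]
      have hsub : Set.range u ⊆ Set.range (Sigma.ι Z x) := by
        rintro _ ⟨z, rfl⟩
        refine hrange x _ ⟨Spec.map (CommRingCat.ofHom (φx x)) z, ?_⟩
        rw [← Scheme.Hom.comp_apply, ← Scheme.Hom.comp_apply, hu]
      let k := IsOpenImmersion.lift (Sigma.ι Z x) u hsub
      have hk : k ≫ i x = Spec.map (CommRingCat.ofHom (φx x)) := by
        refine (cancel_mono (c x)).1 ?_
        rw [Category.assoc, ← show Sigma.ι Z x ≫ w = i x ≫ c x from Sigma.ι_desc _ _,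
          IsOpenImmersion.lift_fac_assoc, hu]
      have := ((hi x).iff (T' x) (φx x)).2 ⟨k, hk⟩
      show Φ (T' x) ((ψ x).comp φ)
      rw [← hφx]; exact this

set_option maxHeartbeats 1000000 in
/-- Representability descends along finitely many étale charts covering the base. -/
theorem rep_of_etale_family {A : Type u} [CommRing A] {Φ : Cond A}
    (hc : ∀ (T T' : Type u) [CommRing T] [CommRing T'] (φ : A →+* T) (ψ : T →+* T'), Φ T φ → Φ T' (ψ.comp φ))
    (hloc : IsEtPointwise Φ) {m : ℕ} (R : Fin m → Type u) [∀ x, CommRing (R x)] [∀ x, Algebra A (R x)]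
    [∀ x, Algebra.Etale A (R x)]
    (hcov : ∀ p : PrimeSpectrum A, ∃ x, p ∈ Set.range (PrimeSpectrum.comap (algebraMap A (R x))))
    (h : ∀ x, Rep (Φ.pull (algebraMap A (R x)))) : Rep Φ := by
  let ρ := algebraMap A (∀ x, R x)
  have hR : Rep (Φ.pull ρ) := by
    refine rep_pi (fun T T' _ _ φ ψ hh => ?_) (fun T _ φ hh => ?_) fun x => ?_
    · show Φ T' ((ψ.comp φ).comp ρ)
      rw [RingHom.comp_assoc]
      exact hc T T' _ ψ hh
    · refine hloc T (φ.comp ρ) fun t => ?_
      obtain ⟨T', _, ψ, h1, h2, h3⟩ := hh t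
      exact ⟨T', inferInstance, ψ, h1, h2, by rw [← RingHom.comp_assoc]; exact h3⟩
    · exact (h x).congr fun T _ φ => Iff.rfl
  let π := Spec.map (CommRingCat.ofHom ρ)
  haveI : Etale π := by
    rw [HasRingHomProperty.Spec_iff (P := @Etale), CommRingCat.hom_ofHom, RingHom.etale_algebraMap]
    infer_instance
  haveI : Surjective π := ⟨fun p => by
    obtain ⟨x, q, hq⟩ := hcov p
    exact ⟨PrimeSpectrum.comap (Pi.evalRingHom R x) q, hq⟩⟩
  refine rep_of_chart (hloc.isEtLocal hc) (Φ₁ := fun _ _ _ => True)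
    (Z₁ := Spec (CommRingCat.of A)) (i₁ := 𝟙 _)
    ⟨inferInstance, inferInstance, inferInstance, inferInstance, fun _ _ _ =>
      ⟨fun _ => ⟨_, Category.comp_id _⟩, fun _ => trivial⟩⟩ (fun _ _ _ _ => trivial) _ π ?_
  rw [Category.comp_id, Spec.preimage_map]
  exact hR

end Groth.L20.RG
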