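import Groth.Agent.L20.RG.DevChain
import Groth.Agent.L20.RG.DimStrata
import Groth.Agent.L20.RG.DimStrataScheme
import Groth.Agent.L20.RG.DescMono

/-!
# Flatness in dimensions at least `d` is representable near a point with a complete dévissage
-/

set_option autoImplicit false
set_option linter.style.haveILetI false
set_option backward.isDefEq.respectTransparency.types false
universe u

open TensorProduct AlgebraicGeometry CategoryTheory CategoryTheory.Limits

noncomputable section

namespace Groth.L20.RG

attribute [local instance] Algebra.TensorProduct.rightAlgebra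

/-- Represented conditions stay represented after a change of the base. -/
theorem Rep.pull {A : Type u} [CommRing A] {Φ : Cond A} (h : Rep Φ) {R : Type u} [CommRing R] (ρ : A →+* R) :
    Rep (Φ.pull ρ) := by
  obtain ⟨Z, i, hi⟩ := h
  haveI := hi.mono; haveI := hi.lfp; haveI := hi.qc; haveI := hi.qs
  let r := Spec.map (CommRingCat.ofHom ρ)
  refine ⟨pullback i r, pullback.snd i r, inferInstance, inferInstance, inferInstance, inferInstance, fun T _ φ => ?_⟩
  show Φ T (φ.comp ρ) ↔ _
  rw [hi.iff, CommRingCat.ofHom_comp, Spec.map_comp]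
  exact ⟨fun ⟨j, hj⟩ => ⟨pullback.lift j _ hj, pullback.lift_snd _ _ _⟩,
    fun ⟨k, hk⟩ => ⟨k ≫ pullback.fst i r, by rw [Category.assoc, pullback.condition, reassoc_of% hk]⟩⟩

/-- Near a point with a complete dévissage, flatness in dimensions at least `d` is representable, given flatness in
dimensions above `d`. -/
theorem exists_repr_near {A B : Type u} [CommRing A] [CommRing B] [Algebra A B] [Algebra.FinitePresentation A B]
    (N : Type u) [AddCommGroup N] [Module B N] [Module A N] [IsScalarTower A B N] [Module.FinitePresentation B N]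
    (s : Ideal A) [s.IsPrime] (D : FlatCA.CompleteDevissage A B N s)
    (hdim : ∀ i, i < D.n → ∃ e : ℕ, letI := D.cB; letI := D.aRB; FlatCA.SmoothRelDim e A (D.B i))
    (d : ℕ) (hflat : FlatCA.FlatInDimGE (d + 1) A B N) :
    ∃ g : A, g ∉ s ∧ ∃ Ψ : Cond A, Rep Ψ ∧ ∀ (T : Type u) [CommRing T] (φ : A →+* T), IsUnit (φ g) →
      (Ψ T φ ↔ (letI := φ.toAlgebra; FlatBC A d T B N)) := by
  classical
  letI := D.cB; letI := D.aRB; letI := D.gM; letI := D.mBM; letI := D.mRM; letI := D.tRBM
  choose e he using hdim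
  let e' : ℕ → ℕ := fun i => if h : i < D.n then e i h else 0
  have he' : ∀ i, i < D.n → FlatCA.SmoothRelDim (e' i) A (D.B i) := fun i hi => by
    simp only [e', dif_pos hi]; exact he i hi
  have triv : ∀ g : A, g ∉ s → (∀ (T : Type u) [CommRing T] [Algebra A T], IsUnit (algebraMap A T g) →
      FlatBC A d T B N) →
      ∃ g : A, g ∉ s ∧ ∃ Ψ : Cond A, Rep Ψ ∧ ∀ (T : Type u) [CommRing T] (φ : A →+* T), IsUnit (φ g) →
      (Ψ T φ ↔ (letI := φ.toAlgebra; FlatBC A d T B N)) :=
    fun g hg hflatT => ⟨g, hg, _, rep_true, fun T _ φ hu => iff_of_true trivial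
      (letI := φ.toAlgebra; hflatT T hu)⟩
  by_cases hex : ∃ j, j < D.n ∧ e' j ≤ d
  · obtain ⟨hj, hej⟩ := Nat.find_spec hex
    have hbelow : ∀ k, k < Nat.find hex → d + 1 ≤ e' k := fun k hk => by
      have := Nat.find_min hex hk
      have hk' : k < D.n := lt_trans hk hj
      simp only [hk', true_and, not_le] at this
      omega
    obtain ⟨hfp, g, hg, hiff⟩ := exists_chain_nhd D e' he' hflat (Nat.find hex) hj hbelow
    haveI := hfp
    haveI := D.smooth (Nat.find hex) hj
    have hdom : DomFib A (D.B (Nat.find hex)) :=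
      DomFib.of_smooth_geomIrredFibres (D.geomIrred (Nat.find hex) hj)
    rcases eq_or_lt_of_le hej with heq | hlt
    · obtain ⟨m, c', c, hc', hc, hord, hstr⟩ := exists_dim_strata hdom (he' _ hj) (D.M (Nat.find hex))
      obtain ⟨Z, i, h1, h2, h3, h4, h5⟩ := exists_strata_scheme c' c hc' hc hord
      refine ⟨g, hg, fun T _ φ => ∃ j : Spec (CommRingCat.of T) ⟶ Z, j ≫ i = Spec.map (CommRingCat.ofHom φ),
        ⟨Z, i, h1, h2, h3, h4, fun T _ φ => Iff.rfl⟩, fun T _ φ hu => ?_⟩
      letI := φ.toAlgebra
      rw [hiff T hu d]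
      show (∃ j : Spec (CommRingCat.of T) ⟶ Z, j ≫ i = Spec.map (CommRingCat.ofHom (algebraMap A T))) ↔ _
      rw [h5, ← hstr, heq]
    · refine triv g hg fun T _ _ hu => (hiff T hu d).2 ?_
      exact flatInDimGE_of_lt
        (haveI : Algebra.IsPushout A T (D.B (Nat.find hex)) (T ⊗[A] D.B (Nat.find hex)) :=
          Algebra.IsPushout.symm inferInstance
        smoothRelDim_baseChange (R := A) (R' := T) (B := D.B (Nat.find hex)) (he' _ hj))
        (hdom.baseChange T) hlt _
  · push Not at hex
    obtain ⟨g, hg, hT⟩ := exists_nhd_of_all_gt D e' he' hflat fun k hk => hex k hk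
    exact triv g hg hT

end Groth.L20.RG
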