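import Groth.Agent.L20.RG.RepPi
import Groth.Agent.L20.RG.ReprNear
import Groth.Agent.L20.RG.DimCover
import Groth.Agent.L20.RG.FlatBCCharts
import Groth.Agent.S1226

/-!
# Flatness in dimensions at least `n` is representable for pure modules flat in dimensions above `n`
-/

set_option autoImplicit false
set_option linter.style.haveILetI false
set_option backward.isDefEq.respectTransparency.types false
universe u

open TensorProduct

noncomputable section

namespace Groth.L20.RG

attribute [local instance] Algebra.TensorProduct.rightAlgebra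

/-- The condition that a module be flat in dimensions at least `n` after the change of base. -/
def FCond (A : Type u) [CommRing A] (B N : Type u) [CommRing B] [Algebra A B] [AddCommGroup N] [Module B N] (n : ℕ) :
    Cond A := fun T _ φ => letI := φ.toAlgebra; FlatBC A n T B N

variable {A B : Type u} [CommRing A] [CommRing B] [Algebra A B] (N : Type u) [AddCommGroup N] [Module B N]

theorem fcond_algebraMap (n : ℕ) (T : Type u) [CommRing T] [inst : Algebra A T] :
    FCond A B N n T (algebraMap A T) ↔ FlatBC A n T B N := by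
  have h : (algebraMap A T).toAlgebra = inst := Algebra.algebra_ext _ _ fun _ => rfl
  unfold FCond
  rw [h]

theorem fcond_comp (n : ℕ) (T T' : Type u) [CommRing T] [CommRing T'] (φ : A →+* T) (ψ : T →+* T')
    (h : FCond A B N n T φ) : FCond A B N n T' (ψ.comp φ) := by
  letI := φ.toAlgebra
  letI := (ψ.comp φ).toAlgebra
  letI := ψ.toAlgebra
  haveI : IsScalarTower A T T' := IsScalarTower.of_algebraMap_eq' rfl
  exact flatBC_comp N T T' h

theorem fcond_pointwise (n : ℕ) : IsEtPointwise (FCond A B N n) := by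
  intro T _ φ h
  letI := φ.toAlgebra
  refine flatBC_of_local N T fun t _ => ?_
  obtain ⟨T', _, ψ, h1, ⟨t', ht'⟩, h3⟩ := h ⟨t, inferInstance⟩
  letI := ψ.toAlgebra
  letI := (ψ.comp φ).toAlgebra
  exact ⟨T', inferInstance, inferInstance, inferInstance, IsScalarTower.of_algebraMap_eq' rfl, t'.asIdeal,
    RingHom.etale_algebraMap.1 h1, t'.2, congrArg PrimeSpectrum.asIdeal ht', h3⟩

/-- The condition after a change of the base. -/
theorem fcond_pull (n : ℕ) (A' : Type u) [CommRing A'] [Algebra A A'] (T : Type u) [CommRing T] (φ : A' →+* T) :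
    (FCond A B N n).pull (algebraMap A A') T φ ↔
      FCond A' (A' ⊗[A] B) ((A' ⊗[A] B) ⊗[B] N) n T φ := by
  letI := φ.toAlgebra
  letI := (φ.comp (algebraMap A A')).toAlgebra
  haveI : IsScalarTower A A' T := IsScalarTower.of_algebraMap_eq' rfl
  exact flatBC_tower (A := A) N A' (TensorProduct.mk B (A' ⊗[A] B) N 1)
    (TensorProduct.isBaseChange B N (A' ⊗[A] B)) T n

set_option maxHeartbeats 1000000 in
/-- Near every prime there is an étale chart over which the condition is representable. -/
theorem exists_rep_chart [Algebra.FinitePresentation A B] [Module A N] [IsScalarTower A B N]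
    [Module.FinitePresentation B N] (hpure : FlatCA.IsPure A B N) (n : ℕ)
    (hflat : FlatCA.FlatInDimGE (n + 1) A B N) (p : Ideal A) [p.IsPrime] :
    ∃ (R : Type u) (_ : CommRing R) (_ : Algebra A R), Algebra.Etale A R ∧
      (⟨p, inferInstance⟩ : PrimeSpectrum A) ∈ Set.range (PrimeSpectrum.comap (algebraMap A R)) ∧
      Rep ((FCond A B N n).pull (algebraMap A R)) := by
  classical
  obtain ⟨A', _, _, p', _, hA', H⟩ := exists_dim_cover (A := A) (B := B) N p
  haveI := hA'.1
  haveI := hA'.2.1
  let BA := A' ⊗[A] B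
  let NA := BA ⊗[B] N
  haveI : Algebra.IsPushout A B A' BA := Algebra.IsPushout.symm inferInstance
  let fA : N →ₗ[B] NA := TensorProduct.mk B BA N 1
  have hfA : IsBaseChange BA fA := TensorProduct.isBaseChange B N BA
  obtain ⟨k, C, cC, aBC, aAC, tABC, Nc, gNc, mCN, mBN, tBCN, g, hg, hcov⟩ := H BA NA fA hfA
  haveI : ∀ i, Algebra.Etale BA (C i) := fun i => (hg i).1
  haveI : Module.FinitePresentation BA NA := inferInstance
  have hbc : ∀ i, IsBaseChange (C i) (g i) := fun i => (hg i).2.1
  -- an open with finitely many basic pieces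
  let U : Set (PrimeSpectrum BA) := ⋃ i, Set.range (PrimeSpectrum.comap (algebraMap BA (C i)))
  obtain ⟨G, hGU⟩ : ∃ G : Finset BA, U = (PrimeSpectrum.zeroLocus (G : Set BA))ᶜ := by
    refine PrimeSpectrum.isCompact_isOpen_iff.1 ⟨isCompact_iUnion fun i =>
      isCompact_range (PrimeSpectrum.continuous_comap _), isOpen_iUnion fun i => ?_⟩ |>.imp fun G hG => hG.symm
    exact (PrimeSpectrum.isOpenMap_comap_of_hasGoingDown_of_finitePresentation (R := BA) (S := C i)).isOpen_range
  have hmem : ∀ (Q : Ideal BA) [Q.IsPrime], (∃ x ∈ G, x ∉ Q) ↔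
      ∃ (i : Fin k) (Q' : Ideal (C i)), Q'.IsPrime ∧ Q'.comap (algebraMap BA (C i)) = Q := by
    intro Q _
    have h := Set.ext_iff.1 hGU ⟨Q, inferInstance⟩
    simp only [U, Set.mem_iUnion, Set.mem_compl_iff, PrimeSpectrum.mem_zeroLocus, Set.not_subset,
      Finset.mem_coe, SetLike.mem_coe] at h
    refine h.symm.trans ⟨fun ⟨i, Q', e⟩ => ⟨i, Q'.asIdeal, Q'.2, congrArg PrimeSpectrum.asIdeal e⟩,
      fun ⟨i, Q', hQ', e⟩ => ⟨i, ⟨Q', hQ'⟩, PrimeSpectrum.ext e⟩⟩
  -- purity spreads the covering of the fibre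
  have hpA' : FlatCA.IsPureAlong A' BA NA p' := Groth.Agent.S1226.result N p A' BA NA fA hfA p' (hpure p)
  obtain ⟨r, hr, hinj⟩ := exists_nhd_injFib (A := A') (B := BA) NA p' hpA' G
    fun Q _ hQ => (hmem Q).2 (hcov Q hQ)
  -- the charts
  have hflatA : FlatCA.FlatInDimGE (n + 1) A' BA NA := flatInDimGE_baseChange N fA hfA hflat
  letI : ∀ i, Module A' (Nc i) := fun i => Module.compHom (Nc i) (algebraMap A' (C i))
  haveI : ∀ i, IsScalarTower A' (C i) (Nc i) := fun i => IsScalarTower.of_algebraMap_smul fun _ _ => rfl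
  haveI : ∀ i, Algebra.FinitePresentation A' (C i) := fun i => Algebra.FinitePresentation.trans A' BA (C i)
  have hnear : ∀ i, ∃ x : A', x ∉ p' ∧ ∃ Ψ : Cond A', Rep Ψ ∧ ∀ (T : Type u) [CommRing T] (φ : A' →+* T),
      IsUnit (φ x) → (Ψ T φ ↔ FCond A' (C i) (Nc i) n T φ) := fun i => by
    haveI : Module.FinitePresentation (C i) (Nc i) :=
      Module.FinitePresentation.of_equiv (hbc i).equiv
    obtain ⟨D, hD⟩ := (hg i).2.2
    exact exists_repr_near (Nc i) p' D hD n (flatInDimGE_of_chart (A := A') NA (g i) (hbc i) hflatA)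
  choose x hx Ψ hΨ hiff using hnear
  let G₀ := r * ∏ i, x i
  have hG₀ : G₀ ∉ p' := fun h => (‹p'.IsPrime›.mem_or_mem h).elim hr fun h => by
    obtain ⟨i, -, hi⟩ := (Ideal.IsPrime.prod_mem_iff).mp h
    exact hx i hi
  let R := Localization.Away G₀
  haveI : Algebra.Etale A' R := Algebra.Etale.of_isLocalizationAway G₀
  refine ⟨R, inferInstance, inferInstance, Algebra.Etale.comp A A' R, ?_, ?_⟩
  · obtain ⟨q, hq⟩ : (⟨p', inferInstance⟩ : PrimeSpectrum A') ∈ Set.range (PrimeSpectrum.comap (algebraMap A' R)) := by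
      rw [PrimeSpectrum.localization_away_comap_range R G₀]
      exact hG₀
    refine ⟨q, PrimeSpectrum.ext ?_⟩
    show q.asIdeal.comap (algebraMap A R) = p
    rw [IsScalarTower.algebraMap_eq A A' R, ← Ideal.comap_comap,
      show q.asIdeal.comap (algebraMap A' R) = p' from congrArg PrimeSpectrum.asIdeal hq]
    exact hA'.2.1.over.symm
  · refine ((rep_forall (fun i => (Ψ i).pull (algebraMap A' R)) fun i => (hΨ i).pull _)).congr fun T _ φ => ?_
    have hu : IsUnit (φ (algebraMap A' R G₀)) := (IsLocalization.Away.algebraMap_isUnit G₀).map φ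
    let φ' := φ.comp (algebraMap A' R)
    have hi : ∀ i, Ψ i T φ' ↔ FCond A' (C i) (Nc i) n T φ' := fun i =>
      hiff i T φ' (isUnit_of_dvd_unit (map_dvd φ' (dvd_mul_of_dvd_right (Finset.dvd_prod_of_mem x (Finset.mem_univ i)) r)) hu)
    refine (forall_congr' hi).trans ?_
    show _ ↔ FCond A B N n T (φ.comp (algebraMap A R))
    rw [IsScalarTower.algebraMap_eq A A' R, ← RingHom.comp_assoc]
    refine Iff.trans ?_ (fcond_pull N n A' T φ').symm
    letI := φ'.toAlgebra
    refine (flatBC_iff_charts (A := A') (BA := BA) NA C Nc g hbc G (fun Q _ h => (hmem Q).1 h) T ?_ n).symm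
    rintro s _ ⟨t, ht, rfl⟩
    haveI := ht
    refine hinj _ fun hm => ?_
    have hur : IsUnit (algebraMap A' T r) := isUnit_of_dvd_unit (map_dvd φ' (dvd_mul_right r _)) hu
    exact ht.ne_top (Ideal.eq_top_of_isUnit_mem _ hm hur)

/-- **The step**: for a pure module flat in dimensions above `n`, flatness in dimensions at least `n` is
representable. -/
theorem rep_step [Algebra.FinitePresentation A B] [Module A N] [IsScalarTower A B N]
    [Module.FinitePresentation B N] (hpure : FlatCA.IsPure A B N) (n : ℕ)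
    (hflat : FlatCA.FlatInDimGE (n + 1) A B N) : Rep (FCond A B N n) := by
  choose R cR aR het hp hrep using fun p : PrimeSpectrum A => exists_rep_chart N hpure n hflat p.asIdeal
  obtain ⟨s, hs⟩ := CompactSpace.elim_nhds_subcover (X := PrimeSpectrum A)
    (fun p => Set.range (PrimeSpectrum.comap (algebraMap A (R p)))) fun p => by
      haveI := het p
      exact (PrimeSpectrum.isOpenMap_comap_of_hasGoingDown_of_finitePresentation (R := A) (S := R p)).isOpen_range.mem_nhds (hp p)
  let e := s.equivFin.symm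
  refine rep_of_etale_family (fcond_comp N n) (fcond_pointwise N n) (fun j => R (e j).1) (fun q => ?_)
    fun j => hrep (e j).1
  obtain ⟨p, hps, hq⟩ := Set.mem_iUnion₂.1 (hs.ge (Set.mem_univ q))
  obtain ⟨j, hj⟩ : ∃ j, e j = ⟨p, hps⟩ := ⟨e.symm ⟨p, hps⟩, e.apply_symm_apply _⟩
  exact ⟨j, by rw [hj]; exact hq⟩

end Groth.L20.RG
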