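import Groth.Prelude.Def_FlatCA
import Groth.Agent.L20.RG.Coord
import Groth.Agent.L20.RG.Nbhd
import Groth.Agent.L20.FibreSupport
import Groth.Agent.L03.FibreLocalDim
import Mathlib.RingTheory.Etale.QuasiFinite
import Mathlib.LinearAlgebra.TensorProduct.RightExactness
import Mathlib.RingTheory.Ideal.Quotient.Operations

/-!
# Making a quasi-finite point finite after an etale localisation
-/

set_option autoImplicit false
set_option linter.style.haveILetI false
set_option backward.isDefEq.respectTransparency.types false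
universe u

open TensorProduct

noncomputable section

namespace Groth.L20.RG

variable {R S : Type u} [CommRing R] [CommRing S] [Algebra R S] [Algebra.FiniteType R S]

theorem map_id_surjective {R A C D : Type u} [CommRing R] [CommRing A] [CommRing C] [CommRing D] [Algebra R A]
    [Algebra R C] [Algebra R D] (g : C →ₐ[R] D) (hg : Function.Surjective g) :
    Function.Surjective (Algebra.TensorProduct.map (AlgHom.id A A) g) := fun x => by
  obtain ⟨y, hy⟩ := LinearMap.lTensor_surjective A (g := g.toLinearMap) hg x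
  refine ⟨y, hy ▸ ?_⟩
  induction y using TensorProduct.induction_on generalizing x with
  | zero => simp
  | add a b ha hb => rw [map_add, map_add, ha _ rfl, hb _ rfl]
  | tmul a c => rfl

/-- The kernel, stated with the left algebra structure. -/
theorem ker_map_id {R A C D : Type u} [CommRing R] [CommRing A] [CommRing C] [CommRing D] [Algebra R A]
    [Algebra R C] [Algebra R D] (g : C →ₐ[R] D) (hg : Function.Surjective g) :
    RingHom.ker (Algebra.TensorProduct.map (AlgHom.id A A) g).toRingHom =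
      (RingHom.ker g).map (Algebra.TensorProduct.includeRight : C →ₐ[R] A ⊗[R] C).toRingHom := by
  have h := Algebra.TensorProduct.lTensor_ker (R := R) (A := A) g hg
  refine Ideal.ext fun y => ?_
  refine Iff.trans ?_ (SetLike.ext_iff.mp h y)
  simp only [RingHom.mem_ker]
  suffices heq : ∀ z, Algebra.TensorProduct.map (AlgHom.id A A) g z = Algebra.TensorProduct.map (AlgHom.id R A) g z by
    exact ⟨fun h => (heq y).symm.trans h, fun h => (heq y).trans h⟩
  intro z
  induction z using TensorProduct.induction_on with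
  | zero => simp
  | add a b ha hb => rw [map_add, map_add, ha, hb]
  | tmul a c => rfl

/-- A finitely presented cut of `S` with the same fibre support as `N`, with coordinates at the point. -/
theorem exists_cut_coords (N : Type u) [AddCommGroup N] [Module S N] [Module R N] [IsScalarTower R S N]
    [Module.Finite S N] (p : Ideal R) [p.IsPrime] (q : Ideal S) [q.IsPrime] [q.LiesOver p] (n : ℕ)
    (x : PrimeSpectrum (p.Fiber S)) (hxq : x.asIdeal = FlatCA.fiberIdeal p q)
    (hx : x ∈ Module.support (p.Fiber S) (FlatCA.fiberMod p S N))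
    (hn : FlatMor.localDim (Module.support (p.Fiber S) (FlatCA.fiberMod p S N)) ⟨x, hx⟩ = n) :
    ∃ (a : Ideal S), a.FG ∧ a ≤ Module.annihilator S N ∧
    ∃ (r : Ideal (S ⧸ a)) (_ : r.IsPrime), r.comap (Ideal.Quotient.mk a) = q ∧
    ∃ φ : MvPolynomial (Fin n) R →ₐ[R] S,
      (∃ h : (q.comap φ).LiesOver p, FlatCA.PurelyTranscendental p (q.comap φ) (h := h)) ∧
      (letI := φ.toRingHom.toAlgebra; Algebra.QuasiFiniteAt (MvPolynomial (Fin n) R) r) := by
  classical
  obtain ⟨a, hafg, haann, ha⟩ := Groth.L20.FibreSupport.exists_fg_cut (A := R) (B := S) N p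
  let g : p.Fiber S →ₐ[p.ResidueField] p.Fiber (S ⧸ a) :=
    Algebra.TensorProduct.map (AlgHom.id p.ResidueField p.ResidueField) (Ideal.Quotient.mkₐ R a)
  have hgs : Function.Surjective g := map_id_surjective _ Ideal.Quotient.mk_surjective
  have hker : RingHom.ker g.toRingHom = FlatCA.fiberIdeal p a := by
    rw [ker_map_id _ Ideal.Quotient.mk_surjective, show RingHom.ker (Ideal.Quotient.mkₐ R a) = a from Ideal.mk_ker]
    rfl
  have hrange : Set.range (PrimeSpectrum.comap g.toRingHom) =
      Module.support (p.Fiber S) (FlatCA.fiberMod p S N) := by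
    rw [range_comap_of_surjective _ _ hgs, hker]
    exact Set.ext fun y => ha y
  let e : PrimeSpectrum (p.Fiber (S ⧸ a)) ≃ₜ Module.support (p.Fiber S) (FlatCA.fiberMod p S N) :=
    (PrimeSpectrum.isClosedEmbedding_comap_of_surjective _ g.toRingHom hgs).isEmbedding.toHomeomorph.trans
      (Homeomorph.setCongr hrange)
  let Q := e.symm ⟨x, hx⟩
  have hQn : FlatMor.localDim (PrimeSpectrum (p.Fiber (S ⧸ a))) Q = n := by
    rw [← hn, ← Groth.L03.FibreLocalDim.localDim_homeomorph e Q, e.apply_symm_apply]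
  have hQx : Q.asIdeal.comap g.toRingHom = x.asIdeal :=
    congrArg (fun y : Module.support (p.Fiber S) (FlatCA.fiberMod p S N) => y.1.asIdeal) (e.apply_symm_apply ⟨x, hx⟩)
  let r : Ideal (S ⧸ a) := Q.asIdeal.comap Algebra.TensorProduct.includeRight.toRingHom
  have hrq : r.comap (Ideal.Quotient.mk a) = q := by
    have h1 : x.asIdeal.comap Algebra.TensorProduct.includeRight.toRingHom = q := by
      have : q ≤ x.asIdeal.comap Algebra.TensorProduct.includeRight.toRingHom := by
        rw [hxq]; exact Ideal.le_comap_map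
      refine le_antisymm (fun t ht => ?_) this
      obtain ⟨Q₀, hQ₀⟩ : ∃ Q₀ : PrimeSpectrum (p.Fiber S),
          Q₀.asIdeal.comap Algebra.TensorProduct.includeRight.toRingHom = q :=
        ⟨PrimeSpectrum.preimageEquivFiber R S ⟨p, inferInstance⟩ ⟨⟨q, inferInstance⟩,
          PrimeSpectrum.ext (Ideal.over_def q p).symm⟩, congrArg (fun z => z.1.asIdeal)
          ((PrimeSpectrum.preimageEquivFiber R S ⟨p, inferInstance⟩).symm_apply_apply _)⟩
      have hle : x.asIdeal ≤ Q₀.asIdeal := by
        rw [hxq]; exact Ideal.map_le_iff_le_comap.mpr hQ₀.ge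
      rw [← hQ₀]
      exact hle ht
    rw [← h1, ← hQx, Ideal.comap_comap, Ideal.comap_comap]
    congr 1
  obtain ⟨φ₀, ⟨hy, hpt⟩, hqf⟩ := exists_coords p Q r rfl n hQn
  choose f hf using fun i : Fin n => Ideal.Quotient.mk_surjective (φ₀ (MvPolynomial.X i))
  let φ : MvPolynomial (Fin n) R →ₐ[R] S := MvPolynomial.aeval f
  have hφ : φ₀ = (Ideal.Quotient.mkₐ R a).comp φ := MvPolynomial.algHom_ext fun i => by simp [φ, hf]
  subst hφ
  refine ⟨a, hafg, haann, r, inferInstance, hrq, φ, ?_, hqf⟩
  subst hrq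
  exact ⟨hy, hpt⟩

/-- Splitting off a finite part at a quasi-finite point of a closed subscheme. -/
theorem exists_split {P : Type u} [CommRing P] [Algebra P S] [Algebra.FiniteType P S] (a : Ideal S)
    (r : Ideal (S ⧸ a)) [r.IsPrime] (q : Ideal S) [q.IsPrime] (hr : r.comap (Ideal.Quotient.mk a) = q)
    (y₀ : Ideal P) [y₀.IsPrime] [q.LiesOver y₀] [Algebra.QuasiFiniteAt P r] :
    ∃ (P' : Type u) (_ : CommRing P') (_ : Algebra P P') (y₁ : Ideal P') (_ : y₁.IsPrime),
      FlatCA.IsEtaleNhd P P' y₀ y₁ ∧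
    ∃ (S' : Type u) (_ : CommRing S') (_ : Algebra S S') (_ : Algebra P' S') (_ : Algebra P S')
      (_ : IsScalarTower P P' S') (_ : IsScalarTower P S S') (q' : Ideal S') (_ : q'.IsPrime),
      FlatCA.IsEtaleNhd S S' q q' ∧ q'.LiesOver y₁ ∧ a.map (algebraMap S S') ≤ q' ∧
      Module.Finite P' (S' ⧸ a.map (algebraMap S S')) ∧
      ∀ (z : Ideal S') [z.IsPrime], a.map (algebraMap S S') ≤ z → z.LiesOver y₁ → z = q' := by
  subst hr
  haveI : r.LiesOver y₀ := ⟨by
    rw [Ideal.over_def (r.comap (Ideal.Quotient.mk a)) y₀]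
    exact (Ideal.comap_comap (algebraMap P S) (Ideal.Quotient.mk a)).trans rfl⟩
  haveI : Algebra.FiniteType P (S ⧸ a) := inferInstance
  obtain ⟨P', _, _, hP'e, y₁, _, hy₁, e, -, P'₀, hP'₀, hP'₀y, hP'₀r, heP, hbij, hfin, huniq⟩ :=
    Algebra.exists_etale_isIdempotentElem_forall_liesOver_eq y₀ r
  letI : Algebra S (P' ⊗[P] S) := Algebra.TensorProduct.rightAlgebra
  let π : P' ⊗[P] S →ₐ[P'] P' ⊗[P] (S ⧸ a) :=
    Algebra.TensorProduct.map (AlgHom.id P' P') (Ideal.Quotient.mkₐ P a)
  have hπs : Function.Surjective π := map_id_surjective _ Ideal.Quotient.mk_surjective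
  have hN1 : FlatCA.IsEtaleNhd P P' y₀ y₁ := ⟨hP'e, hy₁, hbij⟩
  obtain ⟨Q, _, hQy, hQn, hQu⟩ := exists_nbhd_pushout y₀ (r.comap (Ideal.Quotient.mk a)) y₁ hN1
  have hπy : ∀ (z : Ideal (P' ⊗[P] (S ⧸ a))), z.LiesOver y₁ → (z.comap π).LiesOver y₁ := fun z hz => ⟨by
    rw [hz.over]
    exact Ideal.ext fun d => by
      rw [Ideal.mem_comap, Ideal.mem_comap, Ideal.mem_comap, AlgHom.commutes]⟩
  have hQ : P'₀.comap π = Q := by
    refine hQu _ (hπy _ hP'₀y) ⟨Ideal.ext fun t => ?_⟩
    rw [Ideal.mem_comap, Ideal.mem_comap, Ideal.mem_comap, Algebra.TensorProduct.right_algebraMap_apply,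
      ← hP'₀r, Ideal.mem_comap]
    rfl
  obtain ⟨e', rfl⟩ := hπs e
  have he' : e' ∉ Q := by rw [← hQ]; exact heP
  obtain ⟨q', hq', hq'Q⟩ := exists_prime_away Q he'
  let S' := Localization.Away e'
  let a' := a.map (algebraMap S S')
  -- the map from the split ring
  have hcomm : ∀ s : S, algebraMap S S' s = algebraMap (P' ⊗[P] S) S' (1 ⊗ₜ s) := fun s => by
    rw [IsScalarTower.algebraMap_apply S (P' ⊗[P] S) S', Algebra.TensorProduct.right_algebraMap_apply]
  let ι : S ⧸ a →ₐ[P] S' ⧸ a' :=
    { Ideal.quotientMap a' (algebraMap S S') Ideal.le_comap_map with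
      commutes' := fun c => by
        show Ideal.Quotient.mk a' (algebraMap S S' (algebraMap P S c)) = _
        rw [← IsScalarTower.algebraMap_apply P S S']
        rfl }
  let ψ : P' ⊗[P] (S ⧸ a) →ₐ[P'] S' ⧸ a' :=
    Algebra.TensorProduct.lift (Algebra.ofId P' (S' ⧸ a')) ι fun _ _ => Commute.all _ _
  have hψ : ∀ t : P' ⊗[P] S, ψ (π t) = Ideal.Quotient.mk a' (algebraMap _ S' t) := fun t => by
    induction t using TensorProduct.induction_on with
    | zero => simp
    | add t t' ht ht' => simp only [map_add, ht, ht']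
    | tmul d s =>
      rw [show (d ⊗ₜ[P] s : P' ⊗[P] S) = algebraMap P' _ d * (1 ⊗ₜ s) by simp, map_mul, map_mul, map_mul, map_mul,
        AlgHom.commutes, AlgHom.commutes, ← IsScalarTower.algebraMap_apply P' (P' ⊗[P] S) S', ← hcomm]
      congr 1
      simp [π, ψ, ι]
  have hunit : IsUnit (ψ.toRingHom (π e')) := by
    rw [show ψ.toRingHom (π e') = _ from hψ e']
    exact (IsLocalization.Away.algebraMap_isUnit e').map _
  let Ψ : Localization.Away (π e') →ₐ[P'] S' ⧸ a' :=
    { IsLocalization.Away.lift (π e') hunit with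
      commutes' := fun d => by
        show IsLocalization.Away.lift (π e') hunit (algebraMap P' _ d) = _
        rw [IsScalarTower.algebraMap_apply P' (P' ⊗[P] (S ⧸ a)), IsLocalization.Away.lift_eq]
        exact ψ.commutes d }
  have hΨ : Function.Surjective Ψ := by
    intro z
    obtain ⟨z, rfl⟩ := Ideal.Quotient.mk_surjective z
    obtain ⟨t, ⟨_, k, rfl⟩, rfl⟩ := IsLocalization.exists_mk'_eq (Submonoid.powers e') z
    refine ⟨IsLocalization.mk' _ (π t) (⟨π e' ^ k, k, rfl⟩ : Submonoid.powers (π e')), ?_⟩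
    refine (IsUnit.mul_left_inj ((IsLocalization.map_units S' (⟨e' ^ k, k, rfl⟩ : Submonoid.powers e')).map
      (Ideal.Quotient.mk a'))).mp ?_
    show Ψ _ * Ideal.Quotient.mk a' (algebraMap _ S' (e' ^ k)) = _
    rw [← map_mul, IsLocalization.mk'_spec, ← hψ (e' ^ k), ← hψ t, map_pow π]
    show IsLocalization.Away.lift (π e') hunit _ * _ = _
    rw [show ψ (π e' ^ k) = IsLocalization.Away.lift (π e') hunit
      (algebraMap _ (Localization.Away (π e')) (π e' ^ k)) from
      (IsLocalization.Away.lift_eq _ hunit _).symm, ← map_mul, IsLocalization.mk'_spec,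
      IsLocalization.Away.lift_eq]
    rfl
  have hfin' : Module.Finite P' (S' ⧸ a') := Module.Finite.of_surjective Ψ.toLinearMap hΨ
  haveI : q'.LiesOver (r.comap (Ideal.Quotient.mk a)) := by
    haveI := hQn.2.1
    exact Ideal.LiesOver.trans q' Q _
  refine ⟨P', inferInstance, inferInstance, y₁, inferInstance, hN1,
    S', inferInstance, inferInstance, inferInstance, inferInstance, inferInstance, inferInstance, q', hq',
    isEtaleNhd_trans hQn (isEtaleNhd_away Q he' q'), Ideal.LiesOver.trans q' Q y₁, ?_, hfin', fun z _ haz hzy => ?_⟩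
  · rw [Ideal.map_le_iff_le_comap, ← Ideal.under_def, ← Ideal.over_def q' (r.comap (Ideal.Quotient.mk a))]
    intro t ht
    rw [Ideal.mem_comap, Ideal.Quotient.eq_zero_iff_mem.mpr ht]
    exact zero_mem r
  · let zb : Ideal (S' ⧸ a') := z.map (Ideal.Quotient.mk a')
    have hzb : zb.comap (Ideal.Quotient.mk a') = z := by
      rw [Ideal.comap_map_of_surjective _ Ideal.Quotient.mk_surjective, ← RingHom.ker_eq_comap_bot, Ideal.mk_ker,
        sup_eq_left]
      exact haz
    haveI : zb.IsPrime := Ideal.map_isPrime_of_surjective Ideal.Quotient.mk_surjective (by rwa [Ideal.mk_ker])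
    have hzψ : ∀ t, π t ∈ zb.comap ψ ↔ algebraMap (P' ⊗[P] S) S' t ∈ z := fun t => by
      rw [Ideal.mem_comap, hψ, ← Ideal.mem_comap, hzb]
    have h1 : zb.comap ψ = P'₀ := by
      refine huniq _ inferInstance ⟨Ideal.ext fun d => ?_⟩ ?_
      · rw [hzy.over, Ideal.mem_comap, Ideal.mem_comap, IsScalarTower.algebraMap_apply P' (P' ⊗[P] S) S',
          ← hzψ, AlgHom.commutes]
      · rw [hzψ]
        exact fun hmem => ‹z.IsPrime›.ne_top (Ideal.eq_top_of_isUnit_mem _ hmem
          (IsLocalization.Away.algebraMap_isUnit e'))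
    have hd : ∀ (w : Ideal S') [w.IsPrime], Ideal.map (algebraMap (P' ⊗[P] S) S')
        (w.comap (algebraMap (P' ⊗[P] S) S')) = w := fun w _ => IsLocalization.map_comap (Submonoid.powers e') S' w
    rw [← hd z, ← hd q', ← Ideal.under_def, ← Ideal.under_def, ← Ideal.over_def q' Q, ← hQ, ← h1]
    congr 1
    exact Ideal.ext fun t => (hzψ t).symm

end Groth.L20.RG
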