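import Groth.Agent.L20.RG.DimFlat
import Mathlib.RingTheory.QuasiFinite.Basic
import Mathlib.RingTheory.Unramified.LocalStructure
import Mathlib.FieldTheory.IntermediateField.Algebraic

/-!
# Residual transcendence degrees under change of the base
-/

set_option autoImplicit false
set_option linter.style.haveILetI false
set_option backward.isDefEq.respectTransparency.types false
universe u

open TensorProduct
open scoped IntermediateField.algebraAdjoinAdjoin

noncomputable section

namespace Groth.L20.RG

/-- Residue field extensions of quasi-finite algebras are algebraic. -/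
theorem isAlgebraic_residueField_of_quasiFinite {B C : Type u} [CommRing B] [CommRing C] [Algebra B C]
    [Algebra.QuasiFinite B C] (y : Ideal B) (Q : Ideal C) [y.IsPrime] [Q.IsPrime] [hQy : Q.LiesOver y] :
    letI : Algebra y.ResidueField Q.ResidueField :=
      (Ideal.ResidueField.mapₐ y Q (Algebra.ofId B C) hQy.over).toRingHom.toAlgebra
    Algebra.IsAlgebraic y.ResidueField Q.ResidueField := by
  letI : Algebra y.ResidueField Q.ResidueField :=
    (Ideal.ResidueField.mapₐ y Q (Algebra.ofId B C) hQy.over).toRingHom.toAlgebra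
  haveI : IsScalarTower B y.ResidueField Q.ResidueField :=
    IsScalarTower.of_algebraMap_eq fun b => ((Ideal.ResidueField.mapₐ y Q (Algebra.ofId B C) hQy.over).commutes b).symm
  let φ : y.Fiber C →ₐ[y.ResidueField] Q.ResidueField :=
    Algebra.TensorProduct.lift (Algebra.ofId y.ResidueField Q.ResidueField)
      (IsScalarTower.toAlgHom B C Q.ResidueField) fun _ _ => Commute.all _ _
  haveI : Module.Finite y.ResidueField (y.Fiber C) := Algebra.QuasiFinite.finite_fiber y
  refine ⟨fun x => ?_⟩
  obtain ⟨a, b, hb, rfl⟩ := IsFractionRing.div_surjective (C ⧸ Q) x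
  obtain ⟨a, rfl⟩ := Ideal.Quotient.mk_surjective a
  obtain ⟨b, rfl⟩ := Ideal.Quotient.mk_surjective b
  have hint : ∀ c : C, IsIntegral y.ResidueField (algebraMap C Q.ResidueField c) := fun c => by
    have := (Algebra.IsIntegral.isIntegral (R := y.ResidueField) ((1 : y.ResidueField) ⊗ₜ[B] c : y.Fiber C)).map φ
    simpa [φ] using this
  have e : ∀ c : C, algebraMap (C ⧸ Q) Q.ResidueField (Ideal.Quotient.mk Q c) = algebraMap C Q.ResidueField c :=
    fun c => Ideal.algebraMap_quotient_residueField_mk Q c
  rw [e, e, div_eq_mul_inv]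
  exact ((hint a).isAlgebraic).mul ((hint b).isAlgebraic).inv

section Eq

variable {A B C : Type u} [CommRing A] [CommRing B] [CommRing C] [Algebra A B] [Algebra A C] [Algebra B C]
  [IsScalarTower A B C] [Algebra.QuasiFinite B C]

/-- The residual transcendence degree does not change along a quasi-finite algebra. -/
theorem relTrdeg_eq_of_quasiFinite (t : Ideal A) (y : Ideal B) (Q : Ideal C)
    [t.IsPrime] [y.IsPrime] [Q.IsPrime] [hy : y.LiesOver t] [hQy : Q.LiesOver y] [hQ : Q.LiesOver t] :
    relTrdeg t Q = relTrdeg t y := by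
  letI : Algebra t.ResidueField y.ResidueField :=
    (Ideal.ResidueField.mapₐ t y (Algebra.ofId A B) hy.over).toRingHom.toAlgebra
  letI : Algebra y.ResidueField Q.ResidueField :=
    (Ideal.ResidueField.mapₐ y Q (Algebra.ofId B C) hQy.over).toRingHom.toAlgebra
  letI : Algebra t.ResidueField Q.ResidueField :=
    (Ideal.ResidueField.mapₐ t Q (Algebra.ofId A C) hQ.over).toRingHom.toAlgebra
  show Algebra.trdeg t.ResidueField Q.ResidueField = Algebra.trdeg t.ResidueField y.ResidueField
  haveI : IsScalarTower t.ResidueField y.ResidueField Q.ResidueField := IsScalarTower.of_algebraMap_eq' (by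
    refine Ideal.ResidueField.ringHom_ext ?_
    ext a
    show Ideal.ResidueField.mapₐ t Q (Algebra.ofId A C) hQ.over (algebraMap A t.ResidueField a) =
      Ideal.ResidueField.mapₐ y Q (Algebra.ofId B C) hQy.over
        (Ideal.ResidueField.mapₐ t y (Algebra.ofId A B) hy.over (algebraMap A t.ResidueField a))
    rw [AlgHom.commutes, AlgHom.commutes, IsScalarTower.algebraMap_apply A B y.ResidueField, AlgHom.commutes,
      ← IsScalarTower.algebraMap_apply])
  haveI : Algebra.IsAlgebraic y.ResidueField Q.ResidueField := isAlgebraic_residueField_of_quasiFinite y Q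
  rw [← trdeg_add_eq t.ResidueField y.ResidueField (A := Q.ResidueField),
    trdeg_eq_zero (R := y.ResidueField) (A := Q.ResidueField), add_zero]

end Eq

section Square

variable {A T C C' : Type u} [CommRing A] [CommRing T] [CommRing C] [CommRing C'] [Algebra A T] [Algebra A C]
  [Algebra T C'] [Algebra C C'] [Algebra A C'] [IsScalarTower A T C'] [IsScalarTower A C C']
  (t : Ideal A) (t' : Ideal T) (Q : Ideal C) (Q' : Ideal C') [t.IsPrime] [t'.IsPrime] [Q.IsPrime] [Q'.IsPrime]
  [ht : t'.LiesOver t] [hQ : Q.LiesOver t] [hQ' : Q'.LiesOver t'] [hQQ : Q'.LiesOver Q]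

include hQ' hQQ in
/-- Residual transcendence degrees do not increase under a change of the base. -/
theorem relTrdeg_le_baseChange (hgen : ∀ c : C', c ∈ Algebra.adjoin T (Set.range (algebraMap C C'))) :
    relTrdeg t' Q' ≤ relTrdeg t Q := by
  let K := t.ResidueField
  let L := Q.ResidueField
  let K' := t'.ResidueField
  let L' := Q'.ResidueField
  let α : K →+* L := (Ideal.ResidueField.mapₐ t Q (Algebra.ofId A C) hQ.over).toRingHom
  let α' : K' →+* L' := (Ideal.ResidueField.mapₐ t' Q' (Algebra.ofId T C') hQ'.over).toRingHom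
  let β : K →+* K' := (Ideal.ResidueField.mapₐ t t' (Algebra.ofId A T) ht.over).toRingHom
  let i : L →+* L' := (Ideal.ResidueField.mapₐ Q Q' (Algebra.ofId C C') hQQ.over).toRingHom
  letI : Algebra K L := α.toAlgebra
  letI : Algebra K' L' := α'.toAlgebra
  show Algebra.trdeg K' L' ≤ Algebra.trdeg K L
  obtain ⟨s, hs⟩ := exists_isTranscendenceBasis K L
  rw [← hs.cardinalMk_eq_trdeg]
  let X : Set L' := i '' s
  let F : IntermediateField K' L' := IntermediateField.adjoin K' X
  have hX : Cardinal.mk X ≤ Cardinal.mk s := Cardinal.mk_image_le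
  -- the image of `L` is algebraic over `F`
  have hcomm : i.comp α = α'.comp β := Ideal.ResidueField.ringHom_ext (by
    ext a
    show Ideal.ResidueField.mapₐ Q Q' (Algebra.ofId C C') hQQ.over
        (Ideal.ResidueField.mapₐ t Q (Algebra.ofId A C) hQ.over (algebraMap A K a)) =
      Ideal.ResidueField.mapₐ t' Q' (Algebra.ofId T C') hQ'.over
        (Ideal.ResidueField.mapₐ t t' (Algebra.ofId A T) ht.over (algebraMap A K a))
    rw [AlgHom.commutes, AlgHom.commutes, IsScalarTower.algebraMap_apply A C L, AlgHom.commutes,
      IsScalarTower.algebraMap_apply A T K', AlgHom.commutes, ← IsScalarTower.algebraMap_apply,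
      ← IsScalarTower.algebraMap_apply])
  have hF₀ : ∀ y ∈ IntermediateField.adjoin K (Set.range ((↑) : s → L)), i y ∈ F := by
    intro y hy
    induction hy using IntermediateField.adjoin_induction with
    | mem z hz =>
      obtain ⟨z, rfl⟩ := hz
      exact IntermediateField.subset_adjoin K' X ⟨z, z.2, rfl⟩
    | algebraMap k =>
      show i (α k) ∈ F
      rw [← RingHom.comp_apply, hcomm]
      exact F.algebraMap_mem (β k)
    | add a b _ _ ha hb => rw [map_add]; exact add_mem ha hb
    | inv a _ ha => rw [map_inv₀]; exact inv_mem ha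
    | mul a b _ _ ha hb => rw [map_mul]; exact mul_mem ha hb
  let F₀ := IntermediateField.adjoin K (Set.range ((↑) : s → L))
  let j : F₀ →+* F := RingHom.codRestrict (i.comp F₀.val.toRingHom) F fun y => hF₀ y y.2
  haveI : Algebra.IsAlgebraic F₀ L := hs.isAlgebraic_field
  have halg : ∀ y : L, IsAlgebraic F (i y) := fun y => by
    obtain ⟨p, hp0, hp⟩ := (Algebra.IsAlgebraic.isAlgebraic (R := F₀) y)
    refine ⟨p.map j, fun h0 => hp0 (Polynomial.map_injective j j.injective (h0.trans (Polynomial.map_zero j).symm)), ?_⟩
    have h1 := congrArg i hp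
    rw [Polynomial.aeval_def, Polynomial.hom_eval₂, map_zero] at h1
    rw [Polynomial.aeval_def, Polynomial.eval₂_map]
    exact h1
  let E : IntermediateField F L' := algebraicClosure F L'
  have hE : ∀ c : C', algebraMap C' L' c ∈ E := by
    intro c
    induction hgen c using Algebra.adjoin_induction with
    | mem z hz =>
      obtain ⟨z, rfl⟩ := hz
      rw [mem_algebraicClosure_iff, show algebraMap C' L' (algebraMap C C' z) = i (algebraMap C L z) by
        show _ = Ideal.ResidueField.mapₐ Q Q' (Algebra.ofId C C') hQQ.over (algebraMap C L z)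
        rw [AlgHom.commutes, ← IsScalarTower.algebraMap_apply]]
      exact halg _
    | algebraMap r =>
      rw [mem_algebraicClosure_iff, show algebraMap C' L' (algebraMap T C' r) = α' (algebraMap T K' r) by
        show _ = Ideal.ResidueField.mapₐ t' Q' (Algebra.ofId T C') hQ'.over (algebraMap T K' r)
        rw [AlgHom.commutes, ← IsScalarTower.algebraMap_apply]]
      exact isAlgebraic_algebraMap (⟨_, F.algebraMap_mem (algebraMap T K' r)⟩ : F)
    | add a b _ _ ha hb => rw [map_add]; exact add_mem ha hb
    | mul a b _ _ ha hb => rw [map_mul]; exact mul_mem ha hb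
  haveI : Algebra.IsAlgebraic F L' := ⟨fun x => by
    obtain ⟨a, b, hb, rfl⟩ := IsFractionRing.div_surjective (C' ⧸ Q') x
    obtain ⟨a, rfl⟩ := Ideal.Quotient.mk_surjective a
    obtain ⟨b, rfl⟩ := Ideal.Quotient.mk_surjective b
    rw [Ideal.algebraMap_quotient_residueField_mk, Ideal.algebraMap_quotient_residueField_mk]
    exact mem_algebraicClosure_iff.1 (div_mem (hE a) (hE b))⟩
  haveI : Algebra.IsAlgebraic (Algebra.adjoin K' X) L' := by
    haveI : Algebra.IsAlgebraic (Algebra.adjoin K' X) F := inferInstance
    exact Algebra.IsAlgebraic.trans (Algebra.adjoin K' X) F L'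
  exact (Algebra.IsAlgebraic.trdeg_le_cardinalMk K' X).trans hX

include hQ' hQQ in
/-- Residual transcendence degrees do not decrease under a quasi-finite change of the base. -/
theorem le_relTrdeg_baseChange [Algebra.QuasiFinite A T] : relTrdeg t Q ≤ relTrdeg t' Q' := by
  haveI hQ't : Q'.LiesOver t := Ideal.LiesOver.trans Q' t' t
  letI : Algebra t.ResidueField t'.ResidueField :=
    (Ideal.ResidueField.mapₐ t t' (Algebra.ofId A T) ht.over).toRingHom.toAlgebra
  letI : Algebra t'.ResidueField Q'.ResidueField :=
    (Ideal.ResidueField.mapₐ t' Q' (Algebra.ofId T C') hQ'.over).toRingHom.toAlgebra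
  letI : Algebra t.ResidueField Q'.ResidueField :=
    (Ideal.ResidueField.mapₐ t Q' (Algebra.ofId A C') hQ't.over).toRingHom.toAlgebra
  letI : Algebra t.ResidueField Q.ResidueField :=
    (Ideal.ResidueField.mapₐ t Q (Algebra.ofId A C) hQ.over).toRingHom.toAlgebra
  haveI : IsScalarTower t.ResidueField t'.ResidueField Q'.ResidueField := IsScalarTower.of_algebraMap_eq' (by
    refine Ideal.ResidueField.ringHom_ext ?_
    ext a
    show Ideal.ResidueField.mapₐ t Q' (Algebra.ofId A C') hQ't.over (algebraMap A t.ResidueField a) =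
      Ideal.ResidueField.mapₐ t' Q' (Algebra.ofId T C') hQ'.over
        (Ideal.ResidueField.mapₐ t t' (Algebra.ofId A T) ht.over (algebraMap A t.ResidueField a))
    rw [AlgHom.commutes, AlgHom.commutes, IsScalarTower.algebraMap_apply A T t'.ResidueField, AlgHom.commutes,
      ← IsScalarTower.algebraMap_apply])
  haveI : Algebra.IsAlgebraic t.ResidueField t'.ResidueField := isAlgebraic_residueField_of_quasiFinite t t'
  show Algebra.trdeg t.ResidueField Q.ResidueField ≤ Algebra.trdeg t'.ResidueField Q'.ResidueField
  have hadd := trdeg_add_eq t.ResidueField t'.ResidueField (A := Q'.ResidueField)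
  rw [trdeg_eq_zero (R := t.ResidueField) (A := t'.ResidueField), zero_add] at hadd
  rw [hadd]
  let i : Q.ResidueField →+* Q'.ResidueField := (Ideal.ResidueField.mapₐ Q Q' (Algebra.ofId C C') hQQ.over).toRingHom
  have hi : i.comp (algebraMap t.ResidueField Q.ResidueField) = algebraMap t.ResidueField Q'.ResidueField := by
    refine Ideal.ResidueField.ringHom_ext ?_
    ext a
    show Ideal.ResidueField.mapₐ Q Q' (Algebra.ofId C C') hQQ.over
        (Ideal.ResidueField.mapₐ t Q (Algebra.ofId A C) hQ.over (algebraMap A t.ResidueField a)) =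
      Ideal.ResidueField.mapₐ t Q' (Algebra.ofId A C') hQ't.over (algebraMap A t.ResidueField a)
    rw [AlgHom.commutes, AlgHom.commutes, IsScalarTower.algebraMap_apply A C Q.ResidueField, AlgHom.commutes,
      ← IsScalarTower.algebraMap_apply]
  exact trdeg_le_of_injective ({ i with commutes' := fun k => RingHom.congr_fun hi k } :
    Q.ResidueField →ₐ[t.ResidueField] Q'.ResidueField) i.injective

end Square

end Groth.L20.RG
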