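import Groth.Agent.L20.RG.UnivInjModel
import Groth.Agent.L20.RG.FlatOpenFp

/-!
# A projective chart through the associated points of a fibre
-/

set_option autoImplicit false
set_option linter.style.haveILetI false
set_option backward.isDefEq.respectTransparency.types false
universe u

open TensorProduct IsLocalRing

noncomputable section

namespace Groth.L20.RG

open Groth.L03.WeakAss

variable {A B : Type u} [CommRing A] [CommRing B] [Algebra A B] (T : Submonoid B)
  (N₀ : Type u) [AddCommGroup N₀] [Module B N₀] [Module A N₀] [IsScalarTower A B N₀]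

/-- Vanishing for a vector space over the residue field follows from the fibre. -/
theorem pow_smul_eq_zero_of_vector (t : Ideal A) [t.IsPrime] (Y : Type u) [AddCommGroup Y] [Module A Y]
    [Module t.ResidueField Y] [IsScalarTower A t.ResidueField Y] (s g : B)
    (h : ∀ w : N₀ ⊗[A] t.ResidueField, s • w = 0 → ∃ k : ℕ, g ^ k • w = 0) (z : N₀ ⊗[A] Y) (hz : s • z = 0) :
    ∃ k : ℕ, g ^ k • z = 0 := by
  classical
  let b := Module.Free.chooseBasis t.ResidueField Y
  let e : N₀ ⊗[A] Y ≃ₗ[B] (Module.Free.ChooseBasisIndex t.ResidueField Y →₀ N₀ ⊗[A] t.ResidueField) :=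
    (AlgebraTensorModule.congr (LinearEquiv.refl B N₀) (b.repr.restrictScalars A)).trans
      (TensorProduct.finsuppRight A B N₀ t.ResidueField _)
  have hes : ∀ (x : B) (w : N₀ ⊗[A] Y) (i), e (x • w) i = x • e w i := fun x w i => by rw [map_smul, Finsupp.smul_apply]
  choose k hk using fun i => h (e z i) (by rw [← hes, hz, map_zero, Finsupp.zero_apply])
  let K := (e z).support.sup k
  refine ⟨K, e.injective (Finsupp.ext fun i => ?_)⟩
  rw [hes, map_zero, Finsupp.zero_apply]
  by_cases hi : i ∈ (e z).support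
  · obtain ⟨d, hd⟩ := Nat.exists_eq_add_of_le (Finset.le_sup (f := k) hi)
    rw [show K = k i + d from hd, add_comm, pow_add, mul_smul, hk, smul_zero]
  · rw [Finsupp.notMem_support_iff.mp hi, smul_zero]

/-- An associated point of the fibre of a base change along a trivial residue extension comes from one. -/
theorem mem_weakAss_fibre_descend {R' B' : Type u} [CommRing R'] [CommRing B'] [Algebra A R'] [Algebra B B'] [Algebra R' B']
    [Algebra A B'] [IsScalarTower A B B'] [IsScalarTower A R' B'] [Algebra.IsPushout A B R' B']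
    (t : Ideal A) [t.IsPrime] (p' : Ideal R') [p'.IsPrime]
    (N' : Type u) [AddCommGroup N'] [Module B' N'] [Module B N'] [IsScalarTower B B' N'] [Module R' N']
    [IsScalarTower R' B' N'] [Module A N'] [IsScalarTower A R' N'] [IsScalarTower A B N']
    (f : N₀ →ₗ[B] N') (hbc : IsBaseChange R' (f.restrictScalars A)) (hres : TrivRes A t p')
    (P₁ : Ideal B') [P₁.IsPrime] (h : P₁ ∈ FlatCA.weakAss B' (N' ⊗[R'] p'.ResidueField)) :
    P₁.comap (algebraMap B B') ∈ FlatCA.weakAss B (N₀ ⊗[A] t.ResidueField) := by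
  classical
  obtain ⟨hover, hbij⟩ := hres
  haveI := hover
  haveI : P₁.LiesOver p' := liesOver_of_mem_weakAss_fibre p' N' h
  let e : t.ResidueField ≃ₐ[A] p'.ResidueField :=
    AlgEquiv.ofBijective (Ideal.ResidueField.mapₐ t p' (Algebra.ofId A R') hover.over) hbij
  let E : N' ⊗[R'] p'.ResidueField ≃ₗ[A] N₀ ⊗[A] t.ResidueField :=
    (((((TensorProduct.comm R' N' p'.ResidueField).trans
      (AlgebraTensorModule.congr (LinearEquiv.refl R' p'.ResidueField) hbc.equiv.symm)).trans
      (AlgebraTensorModule.cancelBaseChange A R' R' p'.ResidueField N₀)).restrictScalars A).trans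
      (TensorProduct.comm A p'.ResidueField N₀)).trans (e.symm.toLinearEquiv.lTensor N₀)
  have hE : ∀ n x, E.symm (n ⊗ₜ x) = f n ⊗ₜ[R'] e x := fun n x => E.injective (by
    have hfn : hbc.equiv.symm (f n) = 1 ⊗ₜ[A] n := hbc.equiv_symm_apply n
    simp [E, hfn])
  have hEsmul : ∀ (b : B) (w : N₀ ⊗[A] t.ResidueField), E.symm (b • w) = algebraMap B B' b • E.symm w := fun b w => by
    induction w using TensorProduct.induction_on with
    | zero => simp
    | add c d hc hd => simp only [smul_add, map_add, hc, hd]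
    | tmul n x => rw [TensorProduct.smul_tmul', hE, hE, TensorProduct.smul_tmul', map_smul, algebraMap_smul]
  haveI : Algebra.IsPushout A R' B B' := Algebra.IsPushout.symm inferInstance
  have happrox : ∀ b' : B', ∃ c ∉ t, ∃ b : B,
      algebraMap A B' c * b' - algebraMap B B' b ∈ p'.map (algebraMap R' B') := by
    intro b'
    obtain ⟨w, rfl⟩ := (Algebra.IsPushout.equiv A R' B B').surjective b'
    induction w using TensorProduct.induction_on with
    | zero => exact ⟨1, fun h1 => (inferInstance : t.IsPrime).ne_top ((Ideal.eq_top_iff_one t).mpr h1), 0, by simp⟩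
    | add x y hx hy =>
      obtain ⟨c, hc, b, hb⟩ := hx
      obtain ⟨c', hc', b', hb'⟩ := hy
      refine ⟨c * c', fun h' => (Ideal.IsPrime.mem_or_mem inferInstance h').elim hc hc',
        algebraMap A B c' * b + algebraMap A B c * b', ?_⟩
      convert add_mem (Ideal.mul_mem_left _ (algebraMap A B' c') hb) (Ideal.mul_mem_left _ (algebraMap A B' c) hb') using 1
      simp only [map_add, map_mul, ← IsScalarTower.algebraMap_apply A B B']
      ring
    | tmul r b =>
      obtain ⟨⟨a, c, hc⟩, hac⟩ : ∃ ac : A × {c : A // c ∉ t}, algebraMap R' p'.ResidueField r * algebraMap A p'.ResidueField ac.2.1 =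
          algebraMap A p'.ResidueField ac.1 := by
        obtain ⟨⟨abar, cbar⟩, hx⟩ := IsLocalization.surj (nonZeroDivisors (A ⧸ t)) (e.symm (algebraMap R' p'.ResidueField r))
        obtain ⟨a, rfl⟩ := Ideal.Quotient.mk_surjective abar
        obtain ⟨c, hc⟩ := Ideal.Quotient.mk_surjective (cbar : A ⧸ t)
        refine ⟨⟨a, c, fun h' => nonZeroDivisors.ne_zero cbar.2 (hc.symm.trans (Ideal.Quotient.eq_zero_iff_mem.mpr h'))⟩, ?_⟩
        rw [← hc] at hx
        have := congrArg e hx
        rw [map_mul, e.apply_symm_apply, ← Ideal.Quotient.algebraMap_eq, ← IsScalarTower.algebraMap_apply,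
          ← IsScalarTower.algebraMap_apply, e.commutes, e.commutes] at this
        exact this
      refine ⟨c, hc, algebraMap A B a * b, ?_⟩
      have hmem : algebraMap A R' c * r - algebraMap A R' a ∈ p' := by
        rw [← Ideal.algebraMap_residueField_eq_zero (I := p'), map_sub, map_mul, ← IsScalarTower.algebraMap_apply,
          ← IsScalarTower.algebraMap_apply, mul_comm, hac, sub_self]
      rw [Algebra.IsPushout.equiv_tmul]
      convert Ideal.mul_mem_right (algebraMap B B' b) _ (Ideal.mem_map_of_mem (algebraMap R' B') hmem) using 1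
      simp only [map_sub, map_mul, ← IsScalarTower.algebraMap_apply A R' B', ← IsScalarTower.algebraMap_apply A B B']
      ring
  obtain ⟨w₁, hw1, hw2⟩ := mem_weakAss_iff_exists.1 h
  refine mem_weakAss_iff_exists.2 ⟨E w₁, fun b hb h0 => hw1 _ hb (E.injective ?_), fun b hb => ?_⟩
  · rw [map_zero]
    apply E.symm.injective
    rw [map_zero, E.symm_apply_apply]
    have := congrArg E.symm h0
    rwa [hEsmul, E.symm_apply_apply, map_zero] at this
  · obtain ⟨b', hb', k, hk⟩ := hw2 _ hb
    obtain ⟨c, hc, b₀, hb₀⟩ := happrox b'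
    have hp'w : ∀ x ∈ p'.map (algebraMap R' B'), x • w₁ = 0 := fun x hx => by
      induction hx using Submodule.span_induction with
      | mem x hx =>
        obtain ⟨r, hr, rfl⟩ := hx
        exact smul_fibre_eq_zero p' N' hr w₁
      | zero => exact zero_smul _ _
      | add u v _ _ hu hv => rw [add_smul, hu, hv, add_zero]
      | smul u v _ hv => rw [smul_eq_mul, mul_smul, hv, smul_zero]
    refine ⟨b₀, fun h' => hb' ?_, k, E.symm.injective ?_⟩
    · have hle : p'.map (algebraMap R' B') ≤ P₁ :=
        Ideal.map_le_iff_le_comap.mpr fun r hr => (Ideal.mem_of_liesOver P₁ p' r).mp hr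
      have hmem : algebraMap A B' c * b' ∈ P₁ := by
        have h2 := add_mem (hle hb₀) (show algebraMap B B' b₀ ∈ P₁ from h')
        rwa [sub_add_cancel] at h2
      refine (Ideal.IsPrime.mem_or_mem inferInstance hmem).resolve_left fun h2 => hc ?_
      rw [IsScalarTower.algebraMap_apply A R' B'] at h2
      exact (Ideal.mem_of_liesOver p' t c).mpr ((Ideal.mem_of_liesOver P₁ p' _).mpr h2)
    · rw [hEsmul, map_zero, E.symm_apply_apply, map_mul, map_pow]
      have h2 := hp'w _ hb₀
      rw [sub_smul, sub_eq_zero] at h2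
      rw [mul_comm, mul_smul, ← h2, smul_smul, show algebraMap B B' b ^ k * (algebraMap A B' c * b') =
        algebraMap A B' c * (b' * algebraMap B B' b ^ k) by ring, mul_smul, hk, smul_zero]

/-- Elements killed by `s` over the closed point die at `g`. -/
theorem kernel_dies {R' B' A₁ : Type u} [CommRing R'] [CommRing B'] [CommRing A₁] [IsLocalRing A₁] [Algebra A R'] [Algebra B B']
    [Algebra R' B'] [Algebra A B'] [IsScalarTower A B B'] [IsScalarTower A R' B'] [Algebra A A₁] [Algebra R' A₁]
    [IsScalarTower A R' A₁] (t : Ideal A) [t.IsPrime] (p' : Ideal R') [p'.IsPrime]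
    (N' : Type u) [AddCommGroup N'] [Module B' N'] [Module B N'] [IsScalarTower B B' N'] [Module R' N']
    [IsScalarTower R' B' N'] [Module A N'] [IsScalarTower A R' N'] [IsScalarTower A B N']
    (f : N₀ →ₗ[B] N') (hbc : IsBaseChange R' (f.restrictScalars A)) (hmA : t.map (algebraMap A A₁) = maximalIdeal A₁)
    (hunit : ∀ r ∉ t, IsUnit (algebraMap A A₁ r))
    {X : Type u} [AddCommGroup X] [Module A₁ X] [Module R' X] [IsScalarTower R' A₁ X] [Module A X] [IsScalarTower A R' X]
    [IsScalarTower A A₁ X] (Kr : Submodule R' X) (hstab : ∀ (a : A₁), ∀ x ∈ Kr, a • x ∈ Kr) (hK : ∀ a ∈ maximalIdeal A₁, ∀ x ∈ Kr, a • x = 0) (s g : B)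
    (h : ∀ w : N₀ ⊗[A] t.ResidueField, s • w = 0 → ∃ k : ℕ, g ^ k • w = 0) (v : N' ⊗[R'] Kr)
    (hv : algebraMap B B' s • v = 0) : ∃ k : ℕ, algebraMap B B' g ^ k • v = 0 := by
  classical
  let E : N' ⊗[R'] Kr ≃ₗ[A] N₀ ⊗[A] Kr :=
    (((TensorProduct.comm R' N' Kr).trans
      (AlgebraTensorModule.congr (LinearEquiv.refl R' Kr) hbc.equiv.symm)).trans
      (AlgebraTensorModule.cancelBaseChange A R' R' Kr N₀)).restrictScalars A |>.trans (TensorProduct.comm A Kr N₀)
  have hE : ∀ n x, E.symm (n ⊗ₜ x) = f n ⊗ₜ[R'] x := fun n x => E.injective (by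
    have hfn : hbc.equiv.symm (f n) = 1 ⊗ₜ[A] n := hbc.equiv_symm_apply n
    simp [E, hfn])
  have hEsmul : ∀ (b : B) (w : N₀ ⊗[A] Kr), E.symm (b • w) = algebraMap B B' b • E.symm w := fun b w => by
    induction w using TensorProduct.induction_on with
    | zero => simp
    | add c d hc hd => simp only [smul_add, map_add, hc, hd]
    | tmul n x => rw [TensorProduct.smul_tmul', hE, hE, TensorProduct.smul_tmul', map_smul, algebraMap_smul]
  -- the vector space structure
  have hle : t ≤ RingHom.ker ((Ideal.Quotient.mk (maximalIdeal A₁)).comp (algebraMap A A₁)) := fun a ha =>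
    Ideal.Quotient.eq_zero_iff_mem.mpr (hmA ▸ Ideal.mem_map_of_mem _ ha)
  let ρ : t.ResidueField →+* A₁ ⧸ maximalIdeal A₁ :=
    Ideal.ResidueField.lift t ((Ideal.Quotient.mk (maximalIdeal A₁)).comp (algebraMap A A₁)) hle
      fun a ha => (hunit a ha).map (Ideal.Quotient.mk (maximalIdeal A₁))
  have hρ : ∀ a, ρ (algebraMap A t.ResidueField a) = Ideal.Quotient.mk _ (algebraMap A A₁ a) := fun a =>
    Ideal.ResidueField.lift_algebraMap _ _ _ _ _
  -- the submodule over the residue field of `A₁`
  let act : t.ResidueField → Kr → Kr := fun c x =>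
    ⟨Classical.choose (Ideal.Quotient.mk_surjective (ρ c)) • (x : X), hstab _ _ x.2⟩
  have hact : ∀ (c : t.ResidueField) (a : A₁) (x : Kr), Ideal.Quotient.mk _ a = ρ c → (act c x : X) = a • (x : X) := by
    intro c a x ha
    show Classical.choose (Ideal.Quotient.mk_surjective (ρ c)) • (x : X) = a • (x : X)
    rw [← sub_eq_zero, ← sub_smul]
    refine hK _ ?_ x x.2
    rw [← Ideal.Quotient.eq, Classical.choose_spec (Ideal.Quotient.mk_surjective (ρ c)), ha]
  have hmem : ∀ c, ∃ a : A₁, Ideal.Quotient.mk _ a = ρ c := fun c => Ideal.Quotient.mk_surjective _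
  letI : Module t.ResidueField Kr :=
    { smul := act
      one_smul := fun x => Subtype.ext ((hact 1 1 x (by rw [map_one, map_one])).trans (one_smul _ _))
      mul_smul := fun c d x => Subtype.ext (by
        obtain ⟨a, ha⟩ := hmem c
        obtain ⟨b, hb⟩ := hmem d
        show (act (c * d) x : X) = (act c (act d x) : X)
        rw [hact _ (a * b) x (by rw [map_mul, map_mul, ha, hb]), hact c a (act d x) ha, hact d b x hb, mul_smul])
      smul_zero := fun c => Subtype.ext (by
        obtain ⟨a, ha⟩ := hmem c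
        show (act c 0 : X) = 0
        rw [hact c a 0 ha, Submodule.coe_zero, smul_zero])
      smul_add := fun c x y => Subtype.ext (by
        obtain ⟨a, ha⟩ := hmem c
        show (act c (x + y) : X) = (act c x : X) + (act c y : X)
        rw [hact c a _ ha, hact c a _ ha, hact c a _ ha, Submodule.coe_add, smul_add])
      add_smul := fun c d x => Subtype.ext (by
        obtain ⟨a, ha⟩ := hmem c
        obtain ⟨b, hb⟩ := hmem d
        show (act (c + d) x : X) = (act c x : X) + (act d x : X)
        rw [hact _ (a + b) x (by rw [map_add, map_add, ha, hb]), hact c a x ha, hact d b x hb, add_smul])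
      zero_smul := fun x => Subtype.ext ((hact 0 0 x (by rw [map_zero, map_zero])).trans (zero_smul _ _)) }
  haveI : IsScalarTower A t.ResidueField Kr := IsScalarTower.of_algebraMap_smul fun a x => Subtype.ext
    ((hact _ (algebraMap A A₁ a) x (hρ a).symm).trans (algebraMap_smul A₁ a (x : X)))
  obtain ⟨k, hk⟩ := pow_smul_eq_zero_of_vector N₀ t Kr s g h (E v) (E.symm.injective (by
    rw [hEsmul, E.symm_apply_apply, hv, map_zero]))
  exact ⟨k, by rw [← map_pow, ← E.symm_apply_apply v, ← hEsmul, hk, map_zero]⟩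

set_option maxHeartbeats 1000000 in
/-- **The chart.** A local étale neighbourhood `A₁` of `t` and a map from `N₀` to a free `A₁`-module which detects the
elements supported over the closed point, up to `T`, and on which `T` is regular over the closed point. -/
theorem exists_chart_fibre [Algebra.FinitePresentation A B] [Module.FinitePresentation B N₀]
    (hflat : ∀ (Q : Ideal B) [Q.IsPrime], Disjoint (T : Set B) (Q : Set B) → FlatCA.FlatAt A Q N₀)
    (t : Ideal A) [t.IsPrime] :
    ∃ (A₁ : Type u) (_ : CommRing A₁) (_ : IsLocalRing A₁) (_ : Algebra A A₁) (F : Type u) (_ : AddCommGroup F)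
      (_ : Module A₁ F) (_ : Module A F) (_ : IsScalarTower A A₁ F) (Ψ : N₀ →ₗ[A] F),
      Module.Flat A A₁ ∧ t.map (algebraMap A A₁) = maximalIdeal A₁ ∧ (∀ r ∉ t, IsUnit (algebraMap A A₁ r)) ∧
      Module.Free A₁ F ∧
      ∀ (X : Type u) [AddCommGroup X] [Module A₁ X] [Module A X] [IsScalarTower A A₁ X]
        (ΨX : N₀ ⊗[A] X →ₗ[A] F ⊗[A₁] X), (∀ n x, ΨX (n ⊗ₜ x) = Ψ n ⊗ₜ x) →
        (∀ z : N₀ ⊗[A] X, (∀ a ∈ t, ∃ k : ℕ, ∃ s ∈ T, s • (a ^ k • z) = 0) → ΨX z = 0 → ∃ s ∈ T, s • z = 0) ∧
        (∀ K : Submodule A₁ X, (∀ a ∈ maximalIdeal A₁, ∀ x ∈ K, a • x = 0) → ∀ z : N₀ ⊗[A] X,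
          K.mkQ.lTensor F (ΨX z) = 0 → (∃ s ∈ T, s • z = 0) → ΨX z = 0) := by
  classical
  -- the points of the fibre
  have hWfin := finite_weakAss_fibre (S := B) t N₀
  let W := hWfin.toFinset
  let I : Ideal B := sInf {Q | ∃ h : Q.IsPrime, haveI := h; ¬ FlatCA.FlatAt A Q N₀}
  have hI : ∀ (P : Ideal B) [P.IsPrime], Disjoint (T : Set B) (P : Set B) → ¬ I ≤ P := by
    intro P _ hP hle
    haveI : Module.Flat A (LocalizedModule P.primeCompl N₀) := hflat P hP
    obtain ⟨a, ha, hflata⟩ := Groth.L20.exists_flat_away P.primeCompl (R := A) (M := N₀)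
    refine ha (hle (Submodule.mem_sInf.2 ?_))
    rintro Q ⟨hQ, hQflat⟩
    by_contra haQ
    exact hQflat ((flat_away_iff a).mp hflata Q haQ)
  obtain ⟨a, haI, haW⟩ : ∃ a ∈ I, ∀ P ∈ W, Disjoint (T : Set B) (P : Set B) → a ∉ P := by
    by_contra! hcov
    let J := W.filter fun P : Ideal B => Disjoint (T : Set B) (P : Set B)
    have hsub : (I : Set B) ⊆ ⋃ P ∈ (↑J : Set (Ideal B)), P := by
      intro b hb
      obtain ⟨P, hP, hd, hbP⟩ := hcov b hb
      simp only [Set.mem_iUnion]
      exact ⟨P, Finset.mem_coe.2 (Finset.mem_filter.2 ⟨hP, hd⟩), hbP⟩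
    obtain ⟨P, hP, hle⟩ := (Ideal.subset_union_prime (f := id) ⊥ ⊥ (fun P hP _ _ =>
      isPrime_of_mem_weakAss (hWfin.mem_toFinset.1 (Finset.mem_filter.1 hP).1))).1 hsub
    haveI := isPrime_of_mem_weakAss (hWfin.mem_toFinset.1 (Finset.mem_filter.1 hP).1)
    exact hI P (Finset.mem_filter.1 hP).2 hle
  have hmeet : ∀ P : Ideal B, ∃ s ∈ T, ¬ Disjoint (T : Set B) (P : Set B) → s ∈ P := fun P => by
    by_cases h : Disjoint (T : Set B) (P : Set B)
    · exact ⟨1, T.one_mem, fun h' => absurd h h'⟩
    · obtain ⟨s, hsT, hsP⟩ := Set.not_disjoint_iff.mp h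
      exact ⟨s, hsT, fun _ => hsP⟩
  choose σ hσT hσ using hmeet
  let g := a * ∏ P ∈ W, σ P
  have hgW : ∀ P ∈ W, Disjoint (T : Set B) (P : Set B) → g ∉ P := by
    intro P hP hd hg
    haveI := isPrime_of_mem_weakAss (hWfin.mem_toFinset.1 hP)
    rcases Ideal.IsPrime.mem_or_mem inferInstance hg with h | h
    · exact haW P hP hd h
    · exact Set.disjoint_left.1 hd (T.prod_mem fun Q _ => hσT Q) h
  have hgW' : ∀ P ∈ W, ∀ s ∈ T, s ∈ P → g ∈ P := by
    intro P hP s hs hsP
    refine P.mul_mem_left _ ?_
    rw [← Finset.prod_erase_mul _ _ hP]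
    exact P.mul_mem_left _ (hσ P (Set.not_disjoint_iff.2 ⟨s, hs, hsP⟩))
  -- a projective covering of the fibre inside `D(g)`
  let Bg := Localization.Away g
  let Ng := LocalizedModule (Submonoid.powers g) N₀
  haveI : Module.Flat A Ng := (flat_away_iff g).mpr fun Q hQ hgQ => by
    by_contra hno
    exact hgQ (Q.mul_mem_right _ (Submodule.mem_sInf.1 haI Q ⟨hQ, hno⟩))
  haveI : Algebra.FinitePresentation A Bg := Algebra.FinitePresentation.trans A B (Localization.Away g)
  obtain ⟨R', C, _, _, _, _, _, _, _, _, p', _, hR', hC, hpts, hproj⟩ := exists_projective_cover_over Ng t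
    fun (q : Ideal Bg) (_ : q.IsPrime) _ => Groth.L20.FibreCrit.flat_localizedModule_of_flat q.primeCompl
  haveI := hR'.1
  haveI := hR'.2.1
  haveI := hC
  letI : Algebra B C := ((algebraMap Bg C).comp (algebraMap B Bg)).toAlgebra
  haveI : IsScalarTower B Bg C := IsScalarTower.of_algebraMap_eq' rfl
  haveI : IsScalarTower A B C := IsScalarTower.of_algebraMap_eq fun r => by
    rw [IsScalarTower.algebraMap_apply B Bg C, ← IsScalarTower.algebraMap_apply A B Bg, ← IsScalarTower.algebraMap_apply]
  -- the base change to `R'`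
  obtain ⟨B', _, _, _, _, _, _, _, _⟩ : ∃ (B' : Type u) (_ : CommRing B') (_ : Algebra B B') (_ : Algebra R' B')
      (_ : Algebra A B') (_ : IsScalarTower A B B') (_ : IsScalarTower A R' B') (_ : Algebra.IsPushout A B R' B'),
      True := by
    letI : Algebra B (R' ⊗[A] B) := Algebra.TensorProduct.rightAlgebra
    haveI : IsScalarTower A B (R' ⊗[A] B) := Algebra.TensorProduct.right_isScalarTower
    exact ⟨R' ⊗[A] B, inferInstance, inferInstance, inferInstance, inferInstance, inferInstance, inferInstance,
      Algebra.IsPushout.symm inferInstance, trivial⟩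
  haveI : Algebra.IsPushout A R' B B' := Algebra.IsPushout.symm inferInstance
  haveI : Algebra.Etale B B' := Algebra.Etale.of_equiv (Algebra.IsPushout.equiv A B R' B')
  haveI : Algebra.FinitePresentation R' B' :=
    Algebra.FinitePresentation.equiv (Algebra.IsPushout.equiv A R' B B')
  let φ : B' →ₐ[A] C := Algebra.pushoutDesc B' (IsScalarTower.toAlgHom A B C) (IsScalarTower.toAlgHom A R' C)
    fun _ _ => Commute.all _ _
  letI : Algebra B' C := φ.toRingHom.toAlgebra
  haveI : IsScalarTower B B' C := IsScalarTower.of_algebraMap_eq fun b =>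
    (Algebra.pushoutDesc_left B' (IsScalarTower.toAlgHom A B C) (IsScalarTower.toAlgHom A R' C) (fun _ _ => Commute.all _ _) b).symm
  haveI : IsScalarTower R' B' C := IsScalarTower.of_algebraMap_eq fun a =>
    (Algebra.pushoutDesc_right B' (IsScalarTower.toAlgHom A B C) (IsScalarTower.toAlgHom A R' C) (fun _ _ => Commute.all _ _) a).symm
  haveI : Algebra.Etale B C := Algebra.Etale.comp B Bg C
  haveI : Algebra.Etale B' C := Algebra.Etale.of_restrictScalars B B' C
  haveI : Module.Flat B' C := Algebra.Smooth.flat B' C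
  obtain ⟨N', _, _, _, _, _, _, _, f, hf⟩ : ∃ (N' : Type u) (_ : AddCommGroup N') (_ : Module B' N') (_ : Module B N')
      (_ : IsScalarTower B B' N') (_ : Module R' N') (_ : IsScalarTower R' B' N') (_ : Module A N')
      (f : N₀ →ₗ[B] N'), IsBaseChange B' f ∧ IsScalarTower A R' N' ∧ IsScalarTower A B N' := by
    haveI : SMulCommClass B R' B' := ⟨fun s a c => by simp only [Algebra.smul_def]; ring⟩
    haveI : SMulCommClass B A B' := ⟨fun s a c => by simp only [Algebra.smul_def]; ring⟩
    haveI : IsScalarTower R' B' (B' ⊗[B] N₀) := TensorProduct.isScalarTower_left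
    exact ⟨B' ⊗[B] N₀, inferInstance, inferInstance, inferInstance, inferInstance, inferInstance, inferInstance,
      inferInstance, TensorProduct.mk B B' N₀ 1, TensorProduct.isBaseChange B N₀ B', TensorProduct.isScalarTower_left,
      inferInstance⟩
  obtain ⟨hf, _, _⟩ := hf
  have hbc : IsBaseChange R' (f.restrictScalars A) :=
    Groth.L20.isBaseChange_restrictScalars (R := A) (S := B) (R' := R') (S' := B') hf
  haveI : Module.FinitePresentation B' N' := FinitePresentation.of_isBaseChange f hf
  -- the projective module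
  haveI : SMulCommClass B' R' C := ⟨fun s a c => by simp only [Algebra.smul_def]; ring⟩
  haveI : IsScalarTower R' C (C ⊗[B'] N') := TensorProduct.isScalarTower_left
  haveI : Module.Projective R' (C ⊗[B'] N') := by
    haveI : SMulCommClass Bg R' C := ⟨fun s a c => by simp only [Algebra.smul_def]; ring⟩
    haveI : SMulCommClass B R' C := ⟨fun s a c => by simp only [Algebra.smul_def]; ring⟩
    haveI : IsScalarTower R' C (C ⊗[Bg] Ng) := TensorProduct.isScalarTower_left
    haveI : IsScalarTower R' C (C ⊗[B] N₀) := TensorProduct.isScalarTower_left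
    haveI := hproj
    haveI : Module.Projective R' (C ⊗[Bg] Ng) := Module.Projective.of_equiv
      ({ RestrictScalars.addEquiv R' C (C ⊗[Bg] Ng) with
          map_smul' := fun r x => by
            show RestrictScalars.addEquiv R' C _ (r • x) = r • RestrictScalars.addEquiv R' C _ x
            rw [RestrictScalars.addEquiv_map_smul, algebraMap_smul] } : RestrictScalars R' C (C ⊗[Bg] Ng) ≃ₗ[R'] C ⊗[Bg] Ng)
    exact Module.Projective.of_equiv
      ((((AlgebraTensorModule.congr (LinearEquiv.refl C C)
          (IsLocalizedModule.isBaseChange (Submonoid.powers g) Bg (LocalizedModule.mkLinearMap (Submonoid.powers g) N₀)).equiv.symm).trans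
          (AlgebraTensorModule.cancelBaseChange B Bg C C N₀)).trans
        ((AlgebraTensorModule.cancelBaseChange B B' C C N₀).symm.trans
          (AlgebraTensorModule.congr (LinearEquiv.refl C C) hf.equiv))).restrictScalars R')
  let A₁ := Localization.AtPrime p'
  haveI : Algebra.IsUnramifiedAt A p' := inferInstance
  letI := Localization.AtPrime.algebraOfLiesOver t p'
  have hmA : t.map (algebraMap A A₁) = maximalIdeal A₁ := ((Algebra.isUnramifiedAt_iff_map_eq A t p').mp inferInstance).2
  have hunit : ∀ r ∉ t, IsUnit (algebraMap A A₁ r) := fun r hr => by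
    rw [IsScalarTower.algebraMap_apply A R' A₁]
    exact IsLocalization.map_units _ (⟨algebraMap A R' r, fun h => hr ((Ideal.mem_of_liesOver p' t r).mpr h)⟩ : p'.primeCompl)
  haveI : Module.Flat A A₁ := Module.Flat.trans A R' A₁
  let F₁ := A₁ ⊗[R'] (C ⊗[B'] N')
  haveI : Module.Free A₁ F₁ := Groth.L01.free_of_projective F₁
  haveI : IsScalarTower A A₁ F₁ := TensorProduct.isScalarTower_left
  haveI : SMulCommClass B' A C := ⟨fun s a c => by simp only [Algebra.smul_def]; ring⟩
  haveI : IsScalarTower A R' (C ⊗[B'] N') := TensorProduct.isScalarTower_left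
  let ψ : N' →ₗ[R'] C ⊗[B'] N' :=
    { toFun := fun n => (1 : C) ⊗ₜ[B'] n
      map_add' := fun x y => TensorProduct.tmul_add _ _ _
      map_smul' := fun r n => by
        rw [RingHom.id_apply, ← algebraMap_smul B' r n, TensorProduct.tmul_smul,
          ← algebraMap_smul C (algebraMap R' B' r) ((1 : C) ⊗ₜ[B'] n), ← IsScalarTower.algebraMap_apply, algebraMap_smul] }
  let Ψ : N₀ →ₗ[A] F₁ :=
    ((TensorProduct.mk R' A₁ (C ⊗[B'] N') 1).restrictScalars A) ∘ₗ (ψ.restrictScalars A) ∘ₗ (f.restrictScalars A)
  refine ⟨A₁, inferInstance, inferInstance, inferInstance, F₁, inferInstance, inferInstance, inferInstance,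
    inferInstance, Ψ, inferInstance, hmA, hunit, inferInstance, fun X _ _ _ _ ΨX hΨX => ?_⟩
  letI : Module R' X := Module.compHom X (algebraMap R' A₁)
  haveI : IsScalarTower R' A₁ X := IsScalarTower.of_algebraMap_smul fun _ _ => rfl
  haveI : IsScalarTower A R' X := IsScalarTower.of_algebraMap_smul fun r x => by
    show algebraMap R' A₁ (algebraMap A R' r) • x = r • x
    rw [← IsScalarTower.algebraMap_apply, algebraMap_smul]
  -- translation to the covering
  let eN : N' ⊗[R'] X ≃ₗ[A] N₀ ⊗[A] X :=
    ((((TensorProduct.comm R' N' X).trans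
      (AlgebraTensorModule.congr (LinearEquiv.refl R' X) hbc.equiv.symm)).trans
      (AlgebraTensorModule.cancelBaseChange A R' R' X N₀)).restrictScalars A).trans (TensorProduct.comm A X N₀)
  have heN : ∀ n x, eN.symm (n ⊗ₜ x) = f n ⊗ₜ[R'] x := fun n x => eN.injective (by
    have hfn : hbc.equiv.symm (f n) = 1 ⊗ₜ[A] n := hbc.equiv_symm_apply n
    simp [eN, hfn])
  have heNsmul : ∀ (b : B) (z : N₀ ⊗[A] X), eN.symm (b • z) = algebraMap B B' b • eN.symm z := fun b z => by
    induction z using TensorProduct.induction_on with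
    | zero => simp
    | add c d hc hd => simp only [smul_add, map_add, hc, hd]
    | tmul n x => rw [TensorProduct.smul_tmul', heN, heN, TensorProduct.smul_tmul', map_smul, algebraMap_smul]
  let eF : F₁ ⊗[A₁] X ≃ₗ[A] C ⊗[B'] (N' ⊗[R'] X) :=
    (((TensorProduct.comm A₁ F₁ X).trans
      (AlgebraTensorModule.cancelBaseChange R' A₁ A₁ X (C ⊗[B'] N'))).restrictScalars A).trans
      (((TensorProduct.comm R' X (C ⊗[B'] N')).restrictScalars A).trans
        ((AlgebraTensorModule.assoc R' B' B' C N' X).restrictScalars A))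
  have heF : ∀ z, eF (ΨX z) = (1 : C) ⊗ₜ[B'] eN.symm z := fun z => by
    induction z using TensorProduct.induction_on with
    | zero => simp
    | add c d hc hd => simp only [map_add, TensorProduct.tmul_add, hc, hd]
    | tmul n x =>
      rw [hΨX, heN]
      simp only [eF, Ψ, ψ, LinearEquiv.trans_apply, LinearEquiv.restrictScalars_apply]
      show (AlgebraTensorModule.assoc R' B' B' C N' X)
        (TensorProduct.comm R' X _ ((AlgebraTensorModule.cancelBaseChange R' A₁ A₁ X (C ⊗[B'] N'))
          (x ⊗ₜ[A₁] ((1 : A₁) ⊗ₜ[R'] ((1 : C) ⊗ₜ[B'] f n))))) = _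
      rw [AlgebraTensorModule.cancelBaseChange_tmul, one_smul]
      rfl
  refine ⟨fun z hz h0 => ?_, fun K hK z hzK hs => ?_⟩
  · -- elements supported over the closed point are detected
    have hz' : (1 : C) ⊗ₜ[B'] eN.symm z = 0 := by rw [← heF, h0, map_zero]
    by_contra! hne
    let J : Ideal B' :=
      { carrier := {b' | ∃ s ∈ T, (algebraMap B B' s * b') • eN.symm z = 0}
        zero_mem' := ⟨1, T.one_mem, by rw [mul_zero, zero_smul]⟩
        add_mem' := by
          rintro x y ⟨s, hs, hx⟩ ⟨s', hs', hy⟩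
          refine ⟨s * s', T.mul_mem hs hs', ?_⟩
          rw [map_mul, show algebraMap B B' s * algebraMap B B' s' * (x + y) =
            algebraMap B B' s' * (algebraMap B B' s * x) + algebraMap B B' s * (algebraMap B B' s' * y) by ring,
            add_smul, mul_smul, hx, smul_zero, mul_smul, hy, smul_zero, add_zero]
        smul_mem' := by
          rintro c x ⟨s, hs, hx⟩
          refine ⟨s, hs, ?_⟩
          rw [smul_eq_mul, show algebraMap B B' s * (c * x) = c * (algebraMap B B' s * x) by ring, mul_smul, hx, smul_zero] }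
    have hJ : J ≠ ⊤ := fun h => by
      obtain ⟨s, hs, h1⟩ := (Ideal.eq_top_iff_one J).mp h
      rw [mul_one, ← heNsmul, map_eq_zero_iff _ eN.symm.injective] at h1
      exact hne s hs h1
    obtain ⟨m, hm, hJm⟩ := Ideal.exists_le_maximal J hJ
    haveI := hm.isPrime
    obtain ⟨P₁, hP₁, -⟩ := Ideal.exists_minimalPrimes_le hJm
    haveI := hP₁.isPrime
    have hdisj : ∀ s ∈ T, algebraMap B B' s ∉ P₁ := by
      intro s hs hsP
      obtain ⟨-, -, hmin⟩ := minimalPrimes_iff.1 hP₁
      obtain ⟨e, he, k, s', hs', hk⟩ := hmin _ hsP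
      refine he (hP₁.le ⟨s' * s ^ k, T.mul_mem hs' (T.pow_mem hs k), ?_⟩)
      rw [map_mul, map_pow, show algebraMap B B' s' * algebraMap B B' s ^ k * e =
        algebraMap B B' s' * (e * algebraMap B B' s ^ k) by ring]
      exact hk
    have hP₁ass : P₁ ∈ FlatCA.weakAss B' (N' ⊗[R'] X) := by
      refine mem_weakAss_iff_exists.2 ⟨eN.symm z, fun e he h => he (hP₁.le ⟨1, T.one_mem, by rw [map_one, one_mul]; exact h⟩),
        fun b hb => ?_⟩
      obtain ⟨-, -, hmin⟩ := minimalPrimes_iff.1 hP₁
      obtain ⟨e, he, k, s, hs, hk⟩ := hmin b hb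
      exact ⟨algebraMap B B' s * e, fun h => (Ideal.IsPrime.mem_or_mem inferInstance h).elim (hdisj s hs) he, k,
        by rw [mul_assoc]; exact hk⟩
    let t₁ := P₁.comap (algebraMap R' B')
    haveI : P₁.LiesOver t₁ := ⟨rfl⟩
    have hpP : ∀ e ∉ p', algebraMap R' B' e ∉ P₁ := by
      intro e he heP
      obtain ⟨-, -, hmin⟩ := minimalPrimes_iff.1 hP₁
      obtain ⟨c, hc, k, s, hs, hk⟩ := hmin _ heP
      refine hc (hP₁.le ⟨s, hs, ?_⟩)
      obtain ⟨v, hv⟩ := ((IsLocalization.map_units A₁ (⟨e, he⟩ : p'.primeCompl)).pow k).exists_left_inv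
      rw [show algebraMap B B' s * (c * algebraMap R' B' e ^ k) = algebraMap R' B' (e ^ k) * (algebraMap B B' s * c) by
        rw [map_pow]; ring, mul_smul, algebraMap_smul] at hk
      have hinv : ∀ w : N' ⊗[R'] X,
          ((DistribSMul.toLinearMap R' X v).lTensor N') (e ^ k • w) = w := fun w => by
        induction w using TensorProduct.induction_on with
        | zero => simp
        | add c d hc hd => rw [smul_add, map_add, hc, hd]
        | tmul n x =>
          rw [← TensorProduct.tmul_smul, LinearMap.lTensor_tmul]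
          show n ⊗ₜ[R'] (v • (e ^ k • x)) = n ⊗ₜ[R'] x
          rw [← algebraMap_smul A₁ (e ^ k) x, smul_smul, map_pow, hv, one_smul]
      have := hinv ((algebraMap B B' s * c) • eN.symm z)
      rw [hk, map_zero] at this
      exact this.symm
    have hta : t.map (algebraMap A R') ≤ t₁ := Ideal.map_le_iff_le_comap.mpr fun a ha => by
      obtain ⟨k, s, hs, hk⟩ := hz a ha
      have hJa : algebraMap A B' a ^ k ∈ J := ⟨s, hs, by
        have := congrArg eN.symm hk
        rw [heNsmul, map_zero, ← algebraMap_smul B (a ^ k) z, heNsmul, smul_smul, map_pow, map_pow,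
          ← IsScalarTower.algebraMap_apply A B B'] at this
        exact this⟩
      show algebraMap R' B' (algebraMap A R' a) ∈ P₁
      rw [← IsScalarTower.algebraMap_apply]
      exact Ideal.IsPrime.mem_of_pow_mem inferInstance k (hP₁.le hJa)
    have ht₁ : t₁ = p' := by
      refine le_antisymm (fun e he => by_contra fun hep => hpP e hep he) fun e he => ?_
      have h1 : algebraMap R' A₁ e ∈ (t.map (algebraMap A R')).map (algebraMap R' A₁) := by
        rw [Ideal.map_map, ← IsScalarTower.algebraMap_eq, hmA]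
        exact (IsLocalization.AtPrime.to_map_mem_maximal_iff A₁ p' e).mpr he
      obtain ⟨⟨⟨i, hi⟩, c⟩, hic⟩ := (IsLocalization.mem_map_algebraMap_iff p'.primeCompl A₁).mp h1
      rw [← map_mul] at hic
      obtain ⟨d, hd⟩ := IsLocalization.exists_of_eq (M := p'.primeCompl) hic
      have hmem : (d : R') * (e * c) ∈ t₁ := by
        rw [hd]; exact t₁.mul_mem_left _ (hta hi)
      rcases Ideal.IsPrime.mem_or_mem inferInstance hmem with h | h
      · exact absurd h (hpP d d.2)
      · exact (Ideal.IsPrime.mem_or_mem inferInstance h).resolve_right (hpP c c.2)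
    haveI : P₁.LiesOver p' := ⟨ht₁.symm⟩
    let P := P₁.comap (algebraMap B B')
    have hPT : Disjoint (T : Set B) (P : Set B) := Set.disjoint_left.2 fun s hs h => hdisj s hs h
    haveI : Module.Flat A (LocalizedModule P.primeCompl N₀) := hflat P hPT
    have hflat' : FlatCA.FlatAt R' P₁ N' :=
      Groth.L20.flat_localizedModule_of_isBaseChange (R := A) (S := B) (R' := R') (S' := B') f hbc P.primeCompl
        P₁.primeCompl fun b hb h => hb h
    have hfib := (of_mem_weakAss_tensor N' X p' P₁ hflat' hP₁ass).2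
    -- the associated point below
    haveI : P.LiesOver t := ⟨by
      rw [Ideal.under_def, show P = P₁.comap (algebraMap B B') from rfl, Ideal.comap_comap,
        ← IsScalarTower.algebraMap_eq, IsScalarTower.algebraMap_eq A R' B', ← Ideal.comap_comap]
      exact (hR'.2.1.over).trans (congrArg (Ideal.comap (algebraMap A R')) ht₁.symm)⟩
    have hPW : P ∈ W := hWfin.mem_toFinset.2 (mem_weakAss_fibre_descend N₀ t p' N' f hbc hR'.2 P₁ hfib)
    have hgP : g ∉ P := hgW P hPW hPT
    let q := P.map (algebraMap B Bg)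
    have hdg : Disjoint (Submonoid.powers g : Set B) (P : Set B) := by
      rw [Set.disjoint_left]
      rintro _ ⟨k, rfl⟩ h
      exact hgP (Ideal.IsPrime.mem_of_pow_mem inferInstance k h)
    haveI : q.IsPrime := IsLocalization.isPrime_of_isPrime_disjoint (Submonoid.powers g) Bg P inferInstance hdg
    have hqP : q.comap (algebraMap B Bg) = P :=
      IsLocalization.under_map_of_isPrime_disjoint (Submonoid.powers g) Bg inferInstance hdg
    haveI : q.LiesOver t := ⟨by
      rw [Ideal.under_def, IsScalarTower.algebraMap_eq A B Bg, ← Ideal.comap_comap, hqP]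
      exact Ideal.LiesOver.over (P := P) (p := t)⟩
    obtain ⟨x, hx, hxq, hxp⟩ := hpts q inferInstance
    obtain ⟨Q₀, _, -, -, huniq⟩ := exists_point_of_isPushout (B := A) (A := B) (B' := R') (A' := B') t P p' hR'.2
    have hxP : x.comap (algebraMap B' C) = P₁ := by
      rw [huniq P₁ inferInstance ⟨rfl⟩]
      refine huniq _ ⟨?_⟩ ⟨?_⟩
      · rw [Ideal.under_def, Ideal.comap_comap, ← IsScalarTower.algebraMap_eq, hxp]
      · rw [Ideal.under_def, Ideal.comap_comap, ← IsScalarTower.algebraMap_eq, IsScalarTower.algebraMap_eq B Bg C,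
          ← Ideal.comap_comap, hxq, hqP]
    refine one_tmul_ne_zero_of_le x (fun e he => ?_) hz'
    rw [hxP]
    exact hP₁.le ⟨1, T.one_mem, by rw [map_one, one_mul]; exact mem_annE.1 he⟩
  · -- `T` is regular over the closed point
    obtain ⟨s, hs, hsz⟩ := hs
    let κ := t.ResidueField
    let Kr : Submodule R' X := K.restrictScalars R'
    let ι : N' ⊗[R'] Kr →ₗ[B'] N' ⊗[R'] X := TensorProduct.AlgebraTensorModule.lTensor B' N' Kr.subtype
    -- the preimage
    have hexK : Function.Exact (ι.lTensor C) ((TensorProduct.AlgebraTensorModule.lTensor B' N' Kr.mkQ).lTensor C) :=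
      lTensor_exact C (_root_.lTensor_exact N' (LinearMap.exact_subtype_mkQ Kr) Kr.mkQ_surjective : Function.Exact _ _)
        (LinearMap.lTensor_surjective N' Kr.mkQ_surjective)
    have hq0 : (TensorProduct.AlgebraTensorModule.lTensor B' N' Kr.mkQ).lTensor C ((1 : C) ⊗ₜ[B'] eN.symm z) = 0 := by
      rw [← heF]
      let eK : F₁ ⊗[A₁] (X ⧸ K) →ₗ[A] C ⊗[B'] (N' ⊗[R'] (X ⧸ Kr)) :=
        ((((TensorProduct.comm A₁ F₁ (X ⧸ K)).trans
          (AlgebraTensorModule.cancelBaseChange R' A₁ A₁ (X ⧸ K) (C ⊗[B'] N'))).restrictScalars A).trans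
          (((TensorProduct.comm R' (X ⧸ K) (C ⊗[B'] N')).restrictScalars A).trans
            ((AlgebraTensorModule.assoc R' B' B' C N' (X ⧸ K)).restrictScalars A))).toLinearMap
      have hnat : ∀ y : F₁ ⊗[A₁] X, (TensorProduct.AlgebraTensorModule.lTensor B' N' Kr.mkQ).lTensor C (eF y) =
          eK (K.mkQ.lTensor F₁ y) := fun y => by
        induction y using TensorProduct.induction_on with
        | zero => simp
        | add c d hc hd => simp only [map_add, hc, hd]
        | tmul m x =>
          induction m using TensorProduct.induction_on with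
          | zero => simp
          | add c d hc hd => simp only [TensorProduct.add_tmul, map_add, hc, hd]
          | tmul a m =>
            induction m using TensorProduct.induction_on with
            | zero => simp
            | add c d hc hd => simp only [TensorProduct.tmul_add, TensorProduct.add_tmul, map_add, hc, hd]
            | tmul c n => simp [eF, eK]; rfl
      rw [hnat, hzK, map_zero]
    obtain ⟨η, hη⟩ := (hexK _).1 hq0
    have hιinj : Function.Injective (ι.lTensor C) := by
      have h := Module.Flat.lTensor_preserves_injective_linearMap (R := R') (M := C ⊗[B'] N') Kr.subtype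
        Subtype.val_injective
      intro c d hcd
      refine (AlgebraTensorModule.assoc R' B' B' C N' Kr).symm.injective (h ?_)
      have hnat : ∀ c, Kr.subtype.lTensor (C ⊗[B'] N') ((AlgebraTensorModule.assoc R' B' B' C N' Kr).symm c) =
          (AlgebraTensorModule.assoc R' B' B' C N' X).symm (ι.lTensor C c) := fun c => by
        induction c using TensorProduct.induction_on with
        | zero => simp
        | add c d hc hd => simp only [map_add, hc, hd]
        | tmul c w =>
          induction w using TensorProduct.induction_on with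
          | zero => simp
          | add c d hc hd => simp only [TensorProduct.tmul_add, map_add, hc, hd]
          | tmul n x => simp [ι]
      rw [hnat, hnat, hcd]
    have hsη : algebraMap B B' s • η = 0 := hιinj (by
      rw [map_smul, hη, ← TensorProduct.tmul_smul, ← heNsmul, hsz, map_zero, TensorProduct.tmul_zero, map_zero])
    -- the kernel of `s` dies in the covering
    let μ : N' ⊗[R'] Kr →ₗ[B'] N' ⊗[R'] Kr := LinearMap.lsmul B' _ (algebraMap B B' s)
    have hμ : μ.lTensor C η = 0 := by
      rw [← hsη]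
      clear hη hsη
      induction η using TensorProduct.induction_on with
      | zero => simp
      | add c d hc hd => rw [map_add, hc, hd, smul_add]
      | tmul c w => rw [LinearMap.lTensor_tmul, LinearMap.lsmul_apply, TensorProduct.tmul_smul]
    obtain ⟨ω, rfl⟩ := (Module.Flat.lTensor_exact C (LinearMap.exact_subtype_ker_map μ) η).1 hμ
    have hgu : IsUnit (algebraMap B C g) := by
      rw [IsScalarTower.algebraMap_apply B Bg C]
      exact (IsLocalization.Away.algebraMap_isUnit g).map (algebraMap Bg C)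
    have hω0 : (LinearMap.ker μ).subtype.lTensor C ω = 0 := by
      clear hη hsη hμ
      induction ω using TensorProduct.induction_on with
      | zero => exact map_zero _
      | add c d hc hd => rw [map_add, hc, hd, add_zero]
      | tmul c w =>
        obtain ⟨k, hk⟩ := kernel_dies N₀ t p' N' f hbc hmA hunit Kr (fun a x hx => K.smul_mem a hx) (fun a ha x hx => hK a ha x hx) s g
          (fun v hv => exists_pow_smul_of_weakAss fun P hP hle =>
            hgW' P (hWfin.mem_toFinset.2 hP) s hs (hle (mem_annE.2 hv))) w.1 w.2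
        rw [LinearMap.lTensor_tmul]
        show c ⊗ₜ[B'] (w : N' ⊗[R'] Kr) = 0
        obtain ⟨v, hv⟩ := (hgu.pow k).exists_left_inv
        calc c ⊗ₜ[B'] (w : N' ⊗[R'] Kr) = ((v * c) * algebraMap B C g ^ k) ⊗ₜ[B'] (w : N' ⊗[R'] Kr) := by
              rw [show v * c * algebraMap B C g ^ k = c * (v * algebraMap B C g ^ k) by ring, hv, mul_one]
          _ = (v * c) ⊗ₜ[B'] (algebraMap B B' g ^ k • (w : N' ⊗[R'] Kr)) := by
              rw [← TensorProduct.smul_tmul, Algebra.smul_def, map_pow, ← IsScalarTower.algebraMap_apply, mul_comm]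
          _ = 0 := by rw [hk, TensorProduct.tmul_zero]
    refine eF.injective ?_
    rw [heF, map_zero, ← hη, hω0, map_zero]

end Groth.L20.RG
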