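import Groth.Agent.L20.RG.GeomIntNhd
import Groth.Agent.L20.RG.Smooth
import Mathlib.RingTheory.Localization.BaseChange
import Mathlib.RingTheory.IsTensorProduct

/-!
# Fibres without zero divisors
-/

set_option autoImplicit false
set_option linter.style.haveILetI false
universe u

open TensorProduct

noncomputable section

namespace Groth.L20.RG

/-- All base changes to fields have no zero divisors (empty fibres allowed). -/
def NZFib (A B : Type u) [CommRing A] [CommRing B] [Algebra A B] : Prop :=
  ∀ (K : Type u) [Field K] [Algebra A K], NoZeroDivisors (K ⊗[A] B)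

variable {A B : Type u} [CommRing A] [CommRing B] [Algebra A B]

theorem DomFib.nzFib (h : DomFib A B) : NZFib A B := fun K _ _ =>
  haveI := h K
  IsDomain.to_noZeroDivisors _

/-- A localisation of a ring without zero divisors has none. -/
theorem noZeroDivisors_of_isLocalization {X Y : Type u} [CommRing X] [CommRing Y] [Algebra X Y] (M : Submonoid X)
    [IsLocalization M Y] [NoZeroDivisors X] : NoZeroDivisors Y where
  eq_zero_or_eq_zero_of_mul_eq_zero {x y} h := by
    obtain ⟨a, s, rfl⟩ := IsLocalization.exists_mk'_eq M x
    obtain ⟨b, t, rfl⟩ := IsLocalization.exists_mk'_eq M y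
    rw [← IsLocalization.mk'_mul, IsLocalization.mk'_eq_zero_iff] at h
    obtain ⟨m, hm⟩ := h
    rcases mul_eq_zero.mp hm with hm | hab
    · exact Or.inl ((IsLocalization.mk'_eq_zero_iff a s).mpr ⟨m, by rw [hm, zero_mul]⟩)
    · rcases mul_eq_zero.mp hab with ha | hb
      · exact Or.inl (by rw [ha, IsLocalization.mk'_zero])
      · exact Or.inr (by rw [hb, IsLocalization.mk'_zero])

/-- Stability under change of the base. -/
theorem NZFib.baseChange (h : NZFib A B) (A' B' : Type u) [CommRing A'] [CommRing B'] [Algebra A A'] [Algebra A' B']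
    [Algebra B B'] [Algebra A B'] [IsScalarTower A A' B'] [IsScalarTower A B B'] [Algebra.IsPushout A A' B B'] :
    NZFib A' B' := by
  intro K _ _
  letI : Algebra A K := ((algebraMap A' K).comp (algebraMap A A')).toAlgebra
  haveI : IsScalarTower A A' K := IsScalarTower.of_algebraMap_eq' rfl
  haveI := h K
  let e : K ⊗[A'] B' ≃ₐ[A'] K ⊗[A] B :=
    (Algebra.TensorProduct.congr (AlgEquiv.refl (R := A') (A₁ := K)) (Algebra.IsPushout.equiv A A' B B').symm).trans
      ((Algebra.TensorProduct.cancelBaseChange A A' K K B).restrictScalars A')
  exact e.injective.noZeroDivisors e (map_zero e) (map_mul e)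

/-- Stability under localisation. -/
theorem NZFib.away (h : NZFib A B) (v : B) (B' : Type u) [CommRing B'] [Algebra B B'] [Algebra A B']
    [IsScalarTower A B B'] [IsLocalization.Away v B'] : NZFib A B' := by
  intro K _ _
  haveI := h K
  letI : Algebra (K ⊗[A] B) (K ⊗[A] B') :=
    (Algebra.TensorProduct.map (AlgHom.id K K) (IsScalarTower.toAlgHom A B B')).toRingHom.toAlgebra
  haveI : IsScalarTower K (K ⊗[A] B) (K ⊗[A] B') :=
    IsScalarTower.of_algebraMap_eq' (Algebra.TensorProduct.map (AlgHom.id K K)
      (IsScalarTower.toAlgHom A B B')).comp_algebraMap.symm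
  haveI := IsLocalization.tensorProduct_tensorProduct_right A K (Submonoid.powers v) B' (by
    ext x
    simp [RingHom.algebraMap_toAlgebra])
  exact noZeroDivisors_of_isLocalization
    ((Submonoid.powers v).map (Algebra.TensorProduct.includeRight (R := A) (A := K) (B := B)))

/-- Enough to check the field valued points on a basic open set containing the image. -/
theorem nzFib_of_away (f : A) (A' : Type u) [CommRing A'] [Algebra A A'] [IsLocalization.Away f A'] [Algebra A' B]
    [IsScalarTower A A' B] (h : NZFib A' B) : NZFib A B := by
  intro K _ _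
  by_cases hf : algebraMap A K f = 0
  · haveI : Subsingleton (K ⊗[A] B) := by
      have hu : IsUnit (algebraMap A B f) := by
        rw [IsScalarTower.algebraMap_apply A A' B]
        exact (IsLocalization.Away.algebraMap_isUnit f).map _
      refine subsingleton_of_zero_eq_one ?_
      have h0 : algebraMap A (K ⊗[A] B) f = 0 := by
        rw [IsScalarTower.algebraMap_apply A K (K ⊗[A] B), hf, map_zero]
      have h1 : IsUnit (algebraMap A (K ⊗[A] B) f) := by
        have := hu.map (Algebra.TensorProduct.includeRight : B →ₐ[A] K ⊗[A] B)
        rwa [AlgHom.commutes] at this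
      rw [h0, isUnit_zero_iff] at h1
      exact h1
    exact ⟨fun {x y} _ => Or.inl (Subsingleton.elim _ _)⟩
  · letI : Algebra A' K :=
      (IsLocalization.Away.lift f (g := algebraMap A K) (isUnit_iff_ne_zero.mpr hf)).toAlgebra
    haveI : IsScalarTower A A' K :=
      IsScalarTower.of_algebraMap_eq fun x => (IsLocalization.Away.lift_eq f _ x).symm
    haveI := h K
    let e := IsLocalization.algebraTensorEquiv (R := A) (Submonoid.powers f) A' K B
    exact e.symm.injective.noZeroDivisors e.symm (map_zero e.symm) (map_mul e.symm)

/-- Smoothness over an intermediate etale algebra. -/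
theorem smooth_over_etale (R R' D : Type u) [CommRing R] [CommRing R'] [CommRing D] [Algebra R R'] [Algebra R' D]
    [Algebra R D] [IsScalarTower R R' D] [Algebra.Etale R R'] [Algebra.Smooth R D] : Algebra.Smooth R' D where
  formallySmooth := Algebra.FormallySmooth.of_restrictScalars R R' D
  finitePresentation := Algebra.FinitePresentation.of_restrict_scalars_finitePresentation R R' D

theorem smooth_over_away {R : Type u} [CommRing R] (f : R) (R' D : Type u) [CommRing R'] [CommRing D] [Algebra R R']
    [IsLocalization.Away f R'] [Algebra R' D] [Algebra R D] [IsScalarTower R R' D] [Algebra.Smooth R D] :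
    Algebra.Smooth R' D :=
  haveI : Algebra.Etale R R' := Algebra.Etale.of_isLocalizationAway f
  smooth_over_etale R R' D

attribute [local instance] Algebra.TensorProduct.rightAlgebra

/-- After an elementary etale localisation of the base, a point with purely transcendental residue field has a
basic neighbourhood whose fibres have no zero divisors. -/
theorem exists_nzFib_nhd {R : Type u} [CommRing R] (p : Ideal R) [p.IsPrime] {n : ℕ} {P' : Type u} [CommRing P']
    [Algebra R P'] [Algebra (MvPolynomial (Fin n) R) P'] [IsScalarTower R (MvPolynomial (Fin n) R) P']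
    [Algebra.Etale (MvPolynomial (Fin n) R) P'] (y₁ : Ideal P') [y₁.IsPrime] [y₁.LiesOver p]
    (hpt : FlatCA.PurelyTranscendental p y₁) :
    ∃ (R' : Type u) (_ : CommRing R') (_ : Algebra R R') (p' : Ideal R') (_ : p'.IsPrime),
      FlatCA.IsEtaleNhd R R' p p' ∧
    ∃ (g : R' ⊗[R] P'), (∀ (y : Ideal (R' ⊗[R] P')) [y.IsPrime], y.LiesOver y₁ → y.LiesOver p' → g ∉ y) ∧
      NZFib R' (Localization.Away g) := by
  obtain ⟨R', _, _, p', _, hR', g, f, hf, hd, hirr⟩ := exists_data p (n := n) y₁ hpt
  haveI := hR'.1
  refine ⟨R', inferInstance, inferInstance, p', inferInstance, hR', g * algebraMap R' (R' ⊗[R] P') f, hd, ?_⟩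
  let d := g * algebraMap R' (R' ⊗[R] P') f
  have hfu : IsUnit (algebraMap R' (Localization.Away d) f) := by
    rw [IsScalarTower.algebraMap_apply R' (R' ⊗[R] P') (Localization.Away d)]
    exact isUnit_of_mul_isUnit_right (x := algebraMap (R' ⊗[R] P') (Localization.Away d) g)
      (by rw [← map_mul]; exact IsLocalization.Away.algebraMap_isUnit d)
  letI : Algebra (Localization.Away f) (Localization.Away d) := (IsLocalization.Away.lift f hfu).toAlgebra
  haveI : IsScalarTower R' (Localization.Away f) (Localization.Away d) :=
    IsScalarTower.of_algebraMap_eq fun x => (IsLocalization.Away.lift_eq f hfu x).symm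
  haveI : Algebra.Smooth R P' := smooth_of_relDim (smoothRelDim_of_etale (R := R) (P' := P') n)
  haveI : Algebra.Smooth R' (Localization.Away d) :=
    haveI : Algebra.Smooth (R' ⊗[R] P') (Localization.Away d) := inferInstance
    Algebra.Smooth.comp R' (R' ⊗[R] P') (Localization.Away d)
  haveI : Algebra.Smooth (Localization.Away f) (Localization.Away d) :=
    smooth_over_away f (Localization.Away f) (Localization.Away d)
  exact nzFib_of_away f (Localization.Away f)
    (DomFib.nzFib (DomFib.of_smooth_geomIrredFibres hirr))

end Groth.L20.RG
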